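import Groth.Agent.PerfGen7.RestrictAdj
import Groth.Agent.KFlatLib.Scheme.PCQCoh
import Groth.Agent.KFlatLib.Scheme.RpushUnbounded
import Groth.Agent.KFlatLib.Scheme.RpushTriangle
import Groth.Agent.KFlatLib.Scheme.Exact
import Groth.Agent.KFlatLib.Perfect.Corollaries
import Groth.Prelude.Def_CohB1

/-!
# Supports of objects of the derived category; open immersions
-/

set_option linter.style.haveILetI false

universe u

open CategoryTheory CategoryTheory.Limits AlgebraicGeometry Pretriangulated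

attribute [local instance] HasDerivedCategory.standard

namespace Groth.Agent.PerfGen7

open Groth.Agent.KFlatLib

variable {X U : Scheme.{u}}

/-- All cohomology sheaves are supported in `T`. -/
def Supp (E : DCoh.D X) (T : Set X) : Prop := ∀ i : ℤ, CohB1.support (DCoh.HD E i) ⊆ T

lemma supp_iff {E : DCoh.D X} {T : Set X} :
    Supp E T ↔ ∀ x ∉ T, ∀ i : ℤ, IsZero ((DerSch.stalkFunctor X x).obj (DCoh.HD E i)) := by
  constructor
  · intro h x hx i
    haveI : Subsingleton ((DerSch.stalkFunctor X x).obj (DCoh.HD E i) : Type u) :=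
      not_not.1 fun h' => hx (h i h')
    exact ModuleCat.isZero_of_subsingleton _
  · intro h i x hx
    by_contra hxT
    exact hx (ModuleCat.subsingleton_of_isZero (h x hxT i))

lemma Supp.mono {E : DCoh.D X} {S T : Set X} (h : Supp E S) (hST : S ⊆ T) : Supp E T :=
  fun i => (h i).trans hST

lemma Supp.of_iso {E F : DCoh.D X} (e : E ≅ F) {T : Set X} (h : Supp E T) : Supp F T :=
  supp_iff.2 fun x hx i => (supp_iff.1 h x hx i).of_iso
    ((DerSch.stalkFunctor X x).mapIso ((DerivedCategory.homologyFunctor X.Modules i).mapIso e.symm))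

lemma supp_univ (E : DCoh.D X) : Supp E Set.univ := fun _ => Set.subset_univ _

lemma supp_of_isZero {E : DCoh.D X} (h : IsZero E) (T : Set X) : Supp E T :=
  supp_iff.2 fun x _ i =>
    (DerSch.stalkFunctor X x).map_isZero ((DerivedCategory.homologyFunctor X.Modules i).map_isZero h)

lemma isZero_of_supp_empty {E : DCoh.D X} (h : Supp E ∅) : IsZero E := by
  have hH : ∀ i, IsZero (DCoh.HD E i) := fun i => isZero_of_stalk _ fun x =>
    supp_iff.1 h x (Set.notMem_empty x) i
  have : IsIso (0 : E ⟶ E) := (DerivedCategory.isIso_iff _ _).2 fun i =>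
    ⟨0, (hH i).eq_of_src _ _, (hH i).eq_of_src _ _⟩
  exact (IsZero.iff_id_eq_zero E).2 ((IsIso.hom_inv_id (0 : E ⟶ E)).symm.trans zero_comp)

lemma supp_obj₂ {T : Triangle (DCoh.D X)} (hT : T ∈ distTriang _) {S : Set X}
    (h₁ : Supp T.obj₁ S) (h₃ : Supp T.obj₃ S) : Supp T.obj₂ S :=
  supp_iff.2 fun x hx i =>
    ((DerivedCategory.HomologySequence.exact₂ T hT i).map (DerSch.stalkFunctor X x)).isZero_of_both_zeros
      ((supp_iff.1 h₁ x hx i).eq_of_src _ _) ((supp_iff.1 h₃ x hx i).eq_of_tgt _ _)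

lemma Supp.shift {E : DCoh.D X} {T : Set X} (h : Supp E T) (n : ℤ) : Supp (E⟦n⟧) T :=
  supp_iff.2 fun x hx i => (supp_iff.1 h x hx (n + i)).of_iso
    ((DerSch.stalkFunctor X x).mapIso
      (((DerivedCategory.homologyFunctor X.Modules 0).shiftIso n i (n + i) rfl).app E))

lemma supp_obj₃ {T : Triangle (DCoh.D X)} (hT : T ∈ distTriang _) {S : Set X}
    (h₁ : Supp T.obj₁ S) (h₂ : Supp T.obj₂ S) : Supp T.obj₃ S :=
  supp_obj₂ (rot_of_distTriang _ hT) h₂ (h₁.shift 1)

lemma supp_obj₁ {T : Triangle (DCoh.D X)} (hT : T ∈ distTriang _) {S : Set X}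
    (h₂ : Supp T.obj₂ S) (h₃ : Supp T.obj₃ S) : Supp T.obj₁ S :=
  supp_obj₂ (inv_rot_of_distTriang _ hT) (h₃.shift (-1)) h₂

lemma Supp.of_retract {E F : DCoh.D X} (i : E ⟶ F) (r : F ⟶ E) (h : i ≫ r = 𝟙 E) {T : Set X}
    (hF : Supp F T) : Supp E T :=
  supp_iff.2 fun x hx k => by
    let G := DerivedCategory.homologyFunctor X.Modules k ⋙ DerSch.stalkFunctor X x
    rw [IsZero.iff_id_eq_zero]
    have hz : IsZero (G.obj F) := supp_iff.1 hF x hx k
    show 𝟙 (G.obj E) = 0
    rw [← G.map_id, ← h, G.map_comp, hz.eq_of_tgt (G.map i) 0, zero_comp]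

/-- Supports of restrictions. -/
lemma isZero_stalk_rho_iff (j : U ⟶ X) [IsOpenImmersion j] (E : DCoh.D X) (u : U) (i : ℤ) :
    IsZero ((DerSch.stalkFunctor U u).obj (DCoh.HD ((rho j).obj E) i)) ↔
      IsZero ((DerSch.stalkFunctor X (j.base u)).obj (DCoh.HD E i)) := by
  let e₁ := (DerSch.stalkFunctor U u).mapIso (restrictHDIso j E i)
  let e₂ := ((Scheme.Modules.restrictStalkNatIso j u).app (DCoh.HD E i)).addCommGroupIsoToAddEquiv
  constructor
  · intro h
    have h' := ModuleCat.subsingleton_of_isZero (h.of_iso e₁.symm)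
    haveI : Subsingleton ((DerSch.stalkFunctor X (j.base u)).obj (DCoh.HD E i) : Type u) :=
      e₂.symm.toEquiv.injective.subsingleton
        (β := ((DerSch.stalkFunctor U u).obj ((DCoh.HD E i).restrict j) : Type u))
    exact ModuleCat.isZero_of_subsingleton _
  · intro h
    have h' := ModuleCat.subsingleton_of_isZero h
    haveI : Subsingleton ((DerSch.stalkFunctor U u).obj ((DCoh.HD E i).restrict j) : Type u) :=
      e₂.toEquiv.injective.subsingleton
        (β := ((DerSch.stalkFunctor X (j.base u)).obj (DCoh.HD E i) : Type u))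
    exact (ModuleCat.isZero_of_subsingleton ((DerSch.stalkFunctor U u).obj ((DCoh.HD E i).restrict j))).of_iso e₁

lemma supp_rho_iff (j : U ⟶ X) [IsOpenImmersion j] (E : DCoh.D X) (T : Set X) :
    Supp ((rho j).obj E) (j.base ⁻¹' T) ↔ Supp E (T ∪ (Set.range j.base)ᶜ) := by
  rw [supp_iff, supp_iff]
  constructor
  · intro h x hx i
    simp only [Set.mem_union, Set.mem_compl_iff, not_or, not_not] at hx
    obtain ⟨hxT, u, rfl⟩ := hx
    exact (isZero_stalk_rho_iff j E u i).1 (h u hxT i)
  · intro h u hu i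
    exact (isZero_stalk_rho_iff j E u i).2
      (h _ (fun hc => hc.elim hu fun hc => hc ⟨u, rfl⟩) i)

lemma Supp.rho (j : U ⟶ X) [IsOpenImmersion j] {E : DCoh.D X} {T : Set X} (h : Supp E T) :
    Supp ((KFlatLib.rho j).obj E) (j.base ⁻¹' T) :=
  (supp_rho_iff j E T).2 (h.mono Set.subset_union_left)

lemma isZero_rho_iff (j : U ⟶ X) [IsOpenImmersion j] (E : DCoh.D X) :
    IsZero ((KFlatLib.rho j).obj E) ↔ Supp E (Set.range j.base)ᶜ := by
  have h := supp_rho_iff j E ∅
  rw [Set.preimage_empty, Set.empty_union] at h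
  exact ⟨fun hz => h.1 (supp_of_isZero hz _), fun hs => isZero_of_supp_empty (h.2 hs)⟩

section Push

variable (j : U ⟶ X) [IsOpenImmersion j] [DCoh.HasRpush j]

/-- The adjunction. -/
noncomputable def adjR : KFlatLib.rho j ⊣ DCoh.Rpush j := (nonempty_restrictD_rpush_adj j).some

instance : (DCoh.Rpush j).Additive := (adjR j).right_adjoint_additive

instance isIso_adjR_counit : IsIso (adjR j).counit :=
  (adjR j).isIso_counit_of_iso (nonempty_rpush_restrictD_self j).some

instance isIso_rho_unit (E : DCoh.D X) : IsIso ((KFlatLib.rho j).map ((adjR j).unit.app E)) :=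
  @IsIso.of_isIso_fac_right _ _ _ _ _ _ _ _ inferInstance (IsIso.id _)
    ((adjR j).left_triangle_components E)

/-- The cone of the unit lives outside the open. -/
lemma exists_unit_triangle (E : DCoh.D X) :
    ∃ (C : DCoh.D X) (g : (DCoh.Rpush j).obj ((KFlatLib.rho j).obj E) ⟶ C) (d : C ⟶ E⟦(1 : ℤ)⟧),
      Triangle.mk ((adjR j).unit.app E) g d ∈ distTriang _ ∧ Supp C (Set.range j.base)ᶜ := by
  obtain ⟨C, g, d, hT⟩ := distinguished_cocone_triangle ((adjR j).unit.app E)
  refine ⟨C, g, d, hT, (isZero_rho_iff j C).1 ?_⟩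
  exact (Triangle.isZero₃_iff_isIso₁ _ ((KFlatLib.rho j).map_distinguished _ hT)).2
    (isIso_rho_unit j E)

/-- On the image of the open, the unit is invertible; so it is if the open is everything. -/
lemma isIso_unit_of_supp (E : DCoh.D X) {T : Set X} (hT : T ⊆ Set.range j.base)
    (hE : Supp E T) (hR : Supp ((DCoh.Rpush j).obj ((KFlatLib.rho j).obj E)) T) :
    IsIso ((adjR j).unit.app E) := by
  obtain ⟨C, g, d, hd, hC⟩ := exists_unit_triangle j E
  refine (Triangle.isZero₃_iff_isIso₁ _ hd).1 (isZero_of_supp_empty (supp_iff.2 fun x _ i => ?_))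
  by_cases hx : x ∈ Set.range j.base
  · exact supp_iff.1 hC x (fun h => h hx) i
  · exact supp_iff.1 (supp_obj₃ hd hE hR) x (fun h => hx (hT h)) i

lemma isIso_unit_of_surjective (hj : Function.Surjective j.base) (E : DCoh.D X) :
    IsIso ((adjR j).unit.app E) :=
  isIso_unit_of_supp j E (T := Set.univ) (by rw [hj.range_eq]) (supp_univ _) (supp_univ _)

end Push

end Groth.Agent.PerfGen7
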