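import Groth.Agent.PerfGen7.AffineKos
import Groth.Agent.PerfGen7.Supp
import Groth.Agent.KFlatLib.Scheme.TildeD

/-!
# Supported objects on an affine scheme
-/

set_option linter.style.haveILetI false

universe u

open CategoryTheory CategoryTheory.Limits AlgebraicGeometry Pretriangulated

attribute [local instance] HasDerivedCategory.standard

namespace Groth.Agent.PerfGen7

open Groth.Agent.KFlatLib

variable {R : CommRingCat.{u}}

lemma isQCohD_of_isPerfect {X : Scheme.{u}} {E : DCoh.D X} (h : DCoh.IsPerfect E) :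
    DCoh.IsQCohD E := fun i =>
  isQCoh_HD_of_pseudoCoherent
    ((isPseudoCoherentD_iff (i - 1) E).2 (((KFlatLib.isPerfect_iff E).1 h).locPC (i - 1))) i (by omega)

lemma isZero_stalk_tilde_iff (N : ModuleCat.{u} R) (x : Spec R) :
    IsZero ((DerSch.stalkFunctor (Spec R) x).obj ((tilde.functor R).obj N)) ↔
      ∀ n : N, ∃ s : R, s ∉ x.asIdeal ∧ s • n = 0 := by
  let F := (tilde.toStalk N x).hom
  constructor
  · intro h n
    haveI : Subsingleton ((tilde N).presheaf.stalk x) := ModuleCat.subsingleton_of_isZero h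
    obtain ⟨s, hs⟩ := (IsLocalizedModule.eq_zero_iff x.asIdeal.primeCompl F).1
      (Subsingleton.elim (α := (tilde N).presheaf.stalk x) (F n) 0)
    exact ⟨s.1, s.2, hs⟩
  · intro h
    haveI : Subsingleton ((DerSch.stalkFunctor (Spec R) x).obj ((tilde.functor R).obj N) : Type u) := by
      refine ⟨fun a b => ?_⟩
      have key : ∀ c : (tilde N).presheaf.stalk x, c = 0 := fun c => by
        obtain ⟨⟨n, t⟩, rfl⟩ := IsLocalizedModule.mk'_surjective x.asIdeal.primeCompl F c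
        obtain ⟨s, hs, hsn⟩ := h n
        exact (IsLocalizedModule.mk'_eq_zero' F t).2 ⟨⟨s, hs⟩, hsn⟩
      exact (key a).trans (key b).symm
    exact ModuleCat.isZero_of_subsingleton _

/-- Supports of quasi-coherent objects on an affine scheme and torsion. -/
theorem supp_tilde_iff (M : Dual.D R) (fs : Finset R) :
    Supp ((DCoh.tildeD R).obj M) (PrimeSpectrum.zeroLocus (fs : Set R)) ↔
      ∀ f ∈ fs, Tors f M := by
  have key : ∀ (x : Spec R) (i : ℤ),
      IsZero ((DerSch.stalkFunctor (Spec R) x).obj (DCoh.HD ((DCoh.tildeD R).obj M) i)) ↔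
        ∀ n : (Hn i).obj M, ∃ s : R, s ∉ x.asIdeal ∧ s • n = 0 := fun x i => by
    rw [← isZero_stalk_tilde_iff]
    exact Iso.isZero_iff ((DerSch.stalkFunctor (Spec R) x).mapIso
      ((mapDCHomologyIso (tilde.functor R) i).app M))
  rw [supp_iff]
  constructor
  · intro h f hf i n
    by_contra hN
    simp only [not_exists] at hN
    let J : Ideal R := (Submodule.span R {n}).annihilator
    have hJ : ∀ r : R, r ∈ J ↔ r • n = 0 := fun r => Submodule.mem_annihilator_span_singleton n r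
    have hrad : f ∉ J.radical := fun ⟨N, hN'⟩ => hN N ((hJ _).1 hN')
    rw [Ideal.radical_eq_sInf, Submodule.mem_sInf] at hrad
    push_neg at hrad
    obtain ⟨p, ⟨hJp, hp⟩, hfp⟩ := hrad
    obtain ⟨s, hs, hsn⟩ := (key ⟨p, hp⟩ i).1 (h ⟨p, hp⟩ (fun hx => hfp (hx hf)) i) n
    exact hs (hJp ((hJ s).2 hsn))
  · intro h x hx i
    refine (key x i).2 fun n => ?_
    obtain ⟨f, hf, hfx⟩ := Set.not_subset.1 hx
    obtain ⟨N, hN⟩ := h f hf i n
    exact ⟨f ^ N, fun hc => hfx (x.isPrime.mem_of_pow_mem N hc), hN⟩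

lemma exists_finset_zeroLocus {T : Set (Spec R)} (hT : IsClosed T) (hTc : IsCompact Tᶜ) :
    ∃ fs : Finset R, T = PrimeSpectrum.zeroLocus (fs : Set R) := by
  obtain ⟨fs, hfs⟩ := PrimeSpectrum.isCompact_isOpen_iff.1 ⟨hTc, hT.isOpen_compl⟩
  exact ⟨fs, (compl_inj_iff.1 hfs).symm⟩

lemma isPerfect_tilde_iff' (M : Dual.D R) :
    DCoh.IsPerfect ((DCoh.tildeD R).obj M) ↔ DRing.IsPerfect R M :=
  (KFlatLib.perfect_tildeD_iff (R := R) M).trans Iff.rfl

/-- A perfect object detecting the objects supported in a closed set. -/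
theorem exists_kos_spec {T : Set (Spec R)} (hT : IsClosed T) (hTc : IsCompact Tᶜ) :
    ∃ K : DCoh.D (Spec R), DCoh.IsPerfect K ∧ Supp K T ∧
      ∀ E : DCoh.D (Spec R), DCoh.IsQCohD E → Supp E T →
        (∀ (n : ℤ) (φ : K⟦n⟧ ⟶ E), φ = 0) → IsZero E := by
  obtain ⟨fs, rfl⟩ := exists_finset_zeroLocus hT hTc
  obtain ⟨K, hK, hKT, hdet⟩ := exists_kos (R := R) fs.toList
  refine ⟨(DCoh.tildeD R).obj K, (isPerfect_tilde_iff' K).2 hK,
    (supp_tilde_iff K fs).2 fun f hf => hKT f (Finset.mem_toList.2 hf), fun E hE hET h => ?_⟩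
  obtain ⟨M, ⟨e⟩⟩ := exists_tildeD_iso hE
  have hM := (supp_tilde_iff M fs).1 (hET.of_iso e.symm)
  refine ((DCoh.tildeD R).map_isZero
    (hdet M (fun f hf => hM f (Finset.mem_toList.1 hf)) fun n φ => ?_)).of_iso e.symm
  refine (tildeD_map_bijective (K⟦n⟧) M).1 ?_
  rw [Functor.map_zero, ← cancel_epi (((DCoh.tildeD R).commShiftIso n).app K).inv, ← cancel_mono e.hom]
  simpa [Category.assoc] using h n ((((DCoh.tildeD R).commShiftIso n).app K).inv ≫
    (DCoh.tildeD R).map φ ≫ e.hom)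

/-- A perfect object detecting, degree by degree, the objects supported in a closed set. -/
theorem exists_kos_spec_deg {T : Set (Spec R)} (hT : IsClosed T) (hTc : IsCompact Tᶜ) :
    ∃ K : DCoh.D (Spec R), DCoh.IsPerfect K ∧ Supp K T ∧
      ∀ E : DCoh.D (Spec R), DCoh.IsQCohD E → Supp E T → ∀ n : ℤ,
        (∀ φ : K⟦n⟧ ⟶ E, φ = 0) → IsZero (DCoh.HD E (-n)) := by
  obtain ⟨fs, rfl⟩ := exists_finset_zeroLocus hT hTc
  obtain ⟨K, hK, hKT, hdet⟩ := exists_kos_deg (R := R) fs.toList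
  refine ⟨(DCoh.tildeD R).obj K, (isPerfect_tilde_iff' K).2 hK,
    (supp_tilde_iff K fs).2 fun f hf => hKT f (Finset.mem_toList.2 hf), fun E hE hET n h => ?_⟩
  obtain ⟨M, ⟨e⟩⟩ := exists_tildeD_iso hE
  have hM := (supp_tilde_iff M fs).1 (hET.of_iso e.symm)
  refine IsZero.of_iso ((tilde.functor R).map_isZero
      (hdet M (fun f hf => hM f (Finset.mem_toList.1 hf)) n fun φ => ?_))
    ((DerivedCategory.homologyFunctor _ (-n)).mapIso e.symm ≪≫
      (mapDCHomologyIso (tilde.functor R) (-n)).app M)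
  refine (tildeD_map_bijective (K⟦n⟧) M).1 ?_
  rw [Functor.map_zero, ← cancel_epi (((DCoh.tildeD R).commShiftIso n).app K).inv, ← cancel_mono e.hom]
  simpa [Category.assoc] using h ((((DCoh.tildeD R).commShiftIso n).app K).inv ≫
    (DCoh.tildeD R).map φ ≫ e.hom)

/-- A map from a perfect object to a supported object factors through a supported perfect object. -/
theorem exists_factor_spec {T : Set (Spec R)} (hT : IsClosed T) (hTc : IsCompact Tᶜ)
    {G C : DCoh.D (Spec R)} (hG : DCoh.IsPerfect G) (hC : DCoh.IsQCohD C) (hCT : Supp C T)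
    (φ : G ⟶ C) :
    ∃ (G' : DCoh.D (Spec R)) (q : G ⟶ G') (φ' : G' ⟶ C), DCoh.IsPerfect G' ∧ Supp G' T ∧
      q ≫ φ' = φ ∧ ∀ S : Set (Spec R), IsClosed S → IsCompact Sᶜ → Supp G S → Supp G' S := by
  obtain ⟨fs, rfl⟩ := exists_finset_zeroLocus hT hTc
  obtain ⟨P, ⟨eP⟩⟩ := exists_tildeD_iso (isQCohD_of_isPerfect hG)
  obtain ⟨M, ⟨eM⟩⟩ := exists_tildeD_iso hC
  obtain ⟨ψ, hψ⟩ := (tildeD_map_bijective P M).2 (eP.hom ≫ φ ≫ eM.inv)
  have hP : DRing.IsPerfect R P := (isPerfect_tilde_iff' P).1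
    ((KFlatLib.isPerfect_iff _).2 (((KFlatLib.isPerfect_iff G).1 hG).of_iso eP.symm))
  obtain ⟨P', q, ψ', hP', hT', hq, hpres⟩ := exists_factor_tors (R := R) fs.toList
    (fun f hf => (supp_tilde_iff M fs).1 (hCT.of_iso eM.symm) f (Finset.mem_toList.1 hf)) hP ψ
  refine ⟨(DCoh.tildeD R).obj P', eP.inv ≫ (DCoh.tildeD R).map q,
    (DCoh.tildeD R).map ψ' ≫ eM.hom, (isPerfect_tilde_iff' P').2 hP',
    (supp_tilde_iff P' fs).2 fun f hf => hT' f (Finset.mem_toList.2 hf), ?_, fun S hS hSc hGS => ?_⟩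
  · rw [Category.assoc, ← Category.assoc ((DCoh.tildeD R).map q), ← Functor.map_comp, hq, hψ]
    simp
  · obtain ⟨gs, rfl⟩ := exists_finset_zeroLocus hS hSc
    exact (supp_tilde_iff P' gs).2 fun g hg =>
      hpres g ((supp_tilde_iff P gs).1 (hGS.of_iso eP.symm) g hg)

end Groth.Agent.PerfGen7
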