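import Groth.Agent.KFlatLib.Scheme.Amplitude
import Groth.Agent.KFlatLib.Scheme.PullTensorCx
import Groth.Agent.KFlatLib.Single
import Groth.Agent.KFlatLib.Scheme.ProjFormula

/-!
# `- ⊗^L F` for a module is `- ⊗^L` of the complex `F[0]`
-/

set_option linter.style.haveILetI false
set_option backward.isDefEq.respectTransparency false

universe u

open CategoryTheory CategoryTheory.Limits AlgebraicGeometry

attribute [local instance] HasDerivedCategory.standard

namespace Groth.Agent.PerfGen7

open Groth.Agent.KFlatLib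

variable {X : Scheme.{u}}

/-- The module `G` as a complex in degree `0`. -/
noncomputable abbrev degZero (G : X.Modules) : CochainComplex X.Modules ℤ :=
  (HomologicalComplex.single X.Modules (ComplexShape.up ℤ) 0).obj G

/-- `R ⊗ G[0] ≅ R ⊗ G`. -/
noncomputable def tensorCxSingleIso (G : X.Modules) (R : CochainComplex X.Modules ℤ) :
    (tensorModCx G).obj R ≅ (DCoh.tensorCx.obj R).obj (degZero G) :=
  HomologicalComplex.Hom.isoOfComponents
    (fun i => @asIso _ _ _ _ (singleSummand (T := DCoh.tensorBi) R G 0 i i (add_zero i))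
      (isIso_singleSummand R G 0 i i _))
    fun i j hij => singleSummand_d (T := DCoh.tensorBi) R G 0 i j i j (add_zero i) (add_zero j) hij

/-- `E ⊗^L F` is the derived tensor product with `F[0]`. -/
theorem nonempty_LTensorMod_iso (G : X.Modules) [DCoh.HasLTensorMod G]
    [DCoh.HasLTensorCx (degZero G)] (E : DCoh.D X) :
    Nonempty ((DCoh.LTensorMod G).obj E ≅ (DCoh.LTensorCx (degZero G)).obj E) := by
  let R := (kRes X).obj (DerivedCategory.Q.objPreimage E)
  have hR : DCoh.IsKFlat R := isKFlat_kRes _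
  let e : DCoh.toD X R ≅ E := (resQIso X).app _ ≪≫ DerivedCategory.Q.objObjPreimageIso E
  haveI := isIso_ltensorModComparison G hR
  exact ⟨(DCoh.LTensorMod G).mapIso e.symm ≪≫ asIso ((ltensorModComparison G).app R) ≪≫
    DerivedCategory.Q.mapIso (tensorCxSingleIso G R) ≪≫
    (ltensorCxIso (degZero G) hR).symm ≪≫ (DCoh.LTensorCx (degZero G)).mapIso e⟩

/-- The tensor product of complexes concentrated in `[a, b]` and in degree `0`. -/
lemma isZero_tensorCx_X {R S : CochainComplex X.Modules ℤ} {a b : ℤ}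
    (hR : DCoh.VanishesOutside R a b) (hS : DCoh.VanishesOutside S 0 0) (n : ℤ)
    (hn : n < a ∨ b < n) : IsZero (((DCoh.tensorCx.obj R).obj S).X n) := by
  rw [IsZero.iff_id_eq_zero]
  refine HomologicalComplex.mapBifunctor.hom_ext fun p q h => ?_
  change p + q = n at h
  by_cases hq : q = 0
  · exact ((((DCoh.tensorBi (X := X)).flip.obj (S.X q)).map_isZero (hR p (by omega))).eq_of_src _ _)
  · exact (((DCoh.tensorBi (X := X)).obj (R.X p)).map_isZero (hS q (by omega))).eq_of_src _ _

/-- Tensoring a flat-amplitude object with a complex in degree `0` keeps the amplitude. -/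
theorem isZero_hd_ltensorCx_of_amplitude {E : DCoh.D X} {a b : ℤ}
    (hE : DCoh.HasFlatAmplitudeIn a b E) {M S : CochainComplex X.Modules ℤ}
    (hS : DCoh.VanishesOutside S 0 0) (eMS : DCoh.toD X M ≅ DCoh.toD X S)
    [DCoh.HasLTensorCx M] (i : ℤ) (hi : i < a ∨ b < i) :
    IsZero (DCoh.HD ((DCoh.LTensorCx M).obj E) i) := by
  obtain ⟨R, hv, hflat, ⟨eR⟩⟩ := hE
  haveI := hasLTensorCx S
  obtain ⟨c⟩ := nonempty_LTensorCx_congr_D eMS
  refine IsZero.of_iso ?_ ((DerivedCategory.homologyFunctor X.Modules i).mapIso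
    (c.app E ≪≫ (DCoh.LTensorCx S).mapIso eR.symm ≪≫
      ltensorCxIso S (isKFlat_of_vanishesOutside hv hflat)) ≪≫
    (DerivedCategory.homologyFunctorFactors X.Modules i).app _)
  exact ShortComplex.isZero_homology_of_isZero_X₂ _ (isZero_tensorCx_X hv hS i hi)

end Groth.Agent.PerfGen7
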