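import Groth.Agent.PerfGen7.RpushCoh
import Groth.Agent.PerfGen7.TensorModCx
import Groth.Agent.KFlatLib.Scheme.QCohDerived
import Groth.Agent.KFlatLib.Scheme.TorQCoh
import Groth.Agent.KFlatLib.Scheme.FlatDescent
import Groth.Agent.KFlatLib.Perfect.Amplitude
import Groth.Agent.KFlatLib.Perfect.Corollaries
import Groth.Agent.KFlatLib.Scheme.RpushUnbounded
import Groth.Agent.PerfGen7.AffineOpen

/-!
# `Rf_*` preserves perfect objects for flat proper morphisms of Noetherian schemes
-/

set_option linter.style.haveILetI false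
set_option backward.isDefEq.respectTransparency false

universe u

open CategoryTheory CategoryTheory.Limits AlgebraicGeometry Pretriangulated

attribute [local instance] HasDerivedCategory.standard

namespace Groth.Agent.PerfGen7

open Groth.Agent.KFlatLib

variable {X S : Scheme.{u}}

/-- On a quasi-compact scheme a perfect object has finite flat amplitude. -/
theorem exists_flatAmplitude_of_perfect [CompactSpace X] {E : DCoh.D X} (hE : DCoh.IsPerfect E) :
    ∃ a b : ℤ, a ≤ b ∧ DCoh.HasFlatAmplitudeIn a b E := by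
  choose U j hj hx P hP e using (KFlatLib.isPerfect_iff E).1 hE
  choose a b hb using fun x => (hP x).1
  obtain ⟨t, ht⟩ := isCompact_univ.elim_finite_subcover (fun x : X => Set.range (j x).base)
    (fun x => haveI := hj x; (j x).isOpenEmbedding.isOpen_range) (fun x _ => Set.mem_iUnion.2 ⟨x, hx x⟩)
  let N : ℤ := ((∑ x ∈ t, ((a x).natAbs + (b x).natAbs) : ℕ) : ℤ)
  refine ⟨-N, N, by omega, flatAmplitude_of_torAmplitude hasLTensorMod (by omega)
    (torAmplitude_of_local E fun y => ?_)⟩
  obtain ⟨x, hxt, hy⟩ := Set.mem_iUnion₂.1 (ht (Set.mem_univ y))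
  have hbx : (a x).natAbs + (b x).natAbs ≤ ∑ x ∈ t, ((a x).natAbs + (b x).natAbs) :=
    Finset.single_le_sum (f := fun x => (a x).natAbs + (b x).natAbs) (fun _ _ => Nat.zero_le _) hxt
  exact ⟨U x, j x, hj x, hy, torAmplitude_of_flatAmplitude (flatAmplitude_mono
    ⟨P x, hb x, fun i => isFlat_of_isFinLocFree ((hP x).2 i), e x⟩ (by omega) (by omega))⟩

/-- `Lf^*` of a module along a flat morphism sits in degree `0`. -/
theorem nonempty_lpull_degZero (f : X ⟶ S) [Flat f] [DCoh.HasLpull f] (F : S.Modules) :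
    Nonempty ((DCoh.Lpull f).obj (DCoh.toD S (degZero F)) ≅
      DCoh.toD X ((pullCx f).obj (degZero F))) := by
  haveI := (flatCover S).quasiIso_ψ (degZero F)
  haveI := preservesHomology_pullback f
  haveI : QuasiIso ((pullCx f).map ((flatCover S).ψ.app (degZero F))) := inferInstance
  haveI := isIso_Q_map _ ((flatCover S).quasiIso_ψ (degZero F))
  haveI := isIso_Q_map ((pullCx f).map ((flatCover S).ψ.app (degZero F))) inferInstance
  exact ⟨(DCoh.Lpull f).mapIso (asIso (DerivedCategory.Q.map ((flatCover S).ψ.app (degZero F)))).symm ≪≫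
    lpullIso f (isKFlat_kRes _) ≪≫
    asIso (DerivedCategory.Q.map ((pullCx f).map ((flatCover S).ψ.app (degZero F))))⟩

/-- The flat base change of a module, as a complex in degree `0`. -/
lemma vanishesOutside_degZero (F : S.Modules) : DCoh.VanishesOutside (degZero F) 0 0 :=
  fun i hi => HomologicalComplex.isZero_single_obj_X _ _ _ _ (by omega)

/-- A flat morphism and a perfect object give a direct image of bounded tor amplitude. -/
theorem exists_torAmplitude_rpush (f : X ⟶ S) [QuasiCompact f] [QuasiSeparated f] [Flat f]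
    [CompactSpace X] [CompactSpace S] [QuasiSeparatedSpace S] [DCoh.HasRpush f]
    {E : DCoh.D X} (hE : DCoh.IsPerfect E) :
    ∃ a b : ℤ, a ≤ b ∧ DCoh.HasTorAmplitudeIn a b ((DCoh.Rpush f).obj E) := by
  haveI : HasInjectiveResolutions X.Modules := hasInjectiveResolutions_modules
  obtain ⟨a, b, hab, hamp⟩ := exists_flatAmplitude_of_perfect hE
  obtain ⟨N, hN⟩ := exists_Rpush_bound f
  refine ⟨a, b + N, by omega, torAmplitude_of_qcoh _ a _ fun F hF _ i hi => ?_⟩
  haveI := hasLpull f
  haveI := hasLTensorCx (degZero F)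
  let M := (pullCx f).obj (degZero F)
  haveI := hasLTensorCx M
  obtain ⟨eM⟩ := nonempty_lpull_degZero f F
  obtain ⟨eT⟩ := nonempty_LTensorMod_iso F ((DCoh.Rpush f).obj E)
  have hK : DCoh.IsQCohD (DCoh.toD S (degZero F)) := fun n => by
    refine isQCoh_of_iso ((DerivedCategory.homologyFunctorFactors S.Modules n).app (degZero F)).symm ?_
    by_cases hn : n = 0
    · subst hn
      exact isQCoh_of_iso (HomologicalComplex.singleObjHomologySelfIso (ComplexShape.up ℤ) 0 F).symm hF
    · exact isQCoh_of_isZero (ShortComplex.isZero_homology_of_isZero_X₂ _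
        (HomologicalComplex.isZero_single_obj_X (ComplexShape.up ℤ) _ _ _ hn))
  have hM : DCoh.IsQCohD (DCoh.toD X M) := isQCohD_of_iso eM (isQCohD_lpull f hK)
  obtain ⟨eP⟩ := nonempty_projection_DQCoh f E (isQCohD_of_isPerfect hE) (degZero F) hK M ⟨eM.symm⟩
  have hMv : DCoh.VanishesOutside M 0 0 := fun n hn =>
    (Scheme.Modules.pullback f).map_isZero (vanishesOutside_degZero F n hn)
  let T := (DCoh.LTensorCx M).obj E
  have hTz : ∀ n, (n < a ∨ b < n) → IsZero (DCoh.HD T n) := fun n hn =>
    isZero_hd_ltensorCx_of_amplitude hamp hMv (Iso.refl _) n hn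
  refine IsZero.of_iso ?_ ((DerivedCategory.homologyFunctor S.Modules i).mapIso (eT ≪≫ eP))
  rcases hi with hi | hi
  · haveI : T.IsGE a := by
      rw [DerivedCategory.isGE_iff]
      exact fun n hn => hTz n (Or.inl hn)
    exact isZero_hd_rpush_of_lt f T a i hi
  · haveI : T.IsLE b := by
      rw [DerivedCategory.isLE_iff]
      exact fun n hn => hTz n (Or.inr hn)
    refine isZero_of_isZero_restrict _ fun y => ⟨⊤, trivial, ?_⟩
    exact isZero_restrict_hd_rpush f (isQCohD_ltensor M hM (isQCohD_of_isPerfect hE)) b ⊤ N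
      (fun G hG p hp => Functor.map_isZero _ (hN G hG p hp)) i (by omega)

/-- `Rf_*` of a perfect object along a flat proper morphism of Noetherian schemes is perfect. -/
theorem isPerfect_rpush_of_flat_proper (f : X ⟶ S) [IsNoetherian X] [IsNoetherian S] [IsProper f]
    [Flat f] [DCoh.HasRpush f] {E : DCoh.D X} (hE : DCoh.IsPerfect E) :
    DCoh.IsPerfect ((DCoh.Rpush f).obj E) := by
  haveI : HasInjectiveResolutions X.Modules := hasInjectiveResolutions_modules
  have hsp := (KFlatLib.isPerfect_iff E).1 hE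
  have hq := isQCohD_of_isPerfect hE
  obtain ⟨a, ha⟩ := exists_lower_bound_of_locSP hsp
  obtain ⟨b, hb⟩ := exists_bound_of_locPC (hsp.locPC 0)
  haveI : E.IsGE a := by rw [DerivedCategory.isGE_iff]; exact ha
  haveI : E.IsLE b := by rw [DerivedCategory.isLE_iff]; exact hb
  have hgood : ∀ i, GoodMod f (DCoh.HD E i) := fun i => by
    have hc := isCoh_of_locPC hq (hsp.locPC i) i le_rfl
    refine ⟨hc, Or.inr ⟨QCoh.isClosed_support_of_isFT hc.1 hc.2, ?_⟩⟩
    infer_instance
  have hcoh := isCohD_rpush_of_isGE f E a hgood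
  obtain ⟨N, hN⟩ := exists_Rpush_bound f
  have hbd : ∀ i, b + N - 1 < i → IsZero (DCoh.HD ((DCoh.Rpush f).obj E) i) := fun i hi =>
    isZero_of_isZero_restrict _ fun y => ⟨⊤, trivial, isZero_restrict_hd_rpush f hq b ⊤ N
      (fun G hG p hp => Functor.map_isZero _ (hN G hG p hp)) i (by omega)⟩
  obtain ⟨a', b', hab, ht⟩ := exists_torAmplitude_rpush f hE
  exact (KFlatLib.isPerfect_iff _).2 (locSP_of_flat_pc hab
    (flatAmplitude_of_torAmplitude hasLTensorMod hab ht)
    (locPC_of_coh (isCohD_isQCohD hcoh) (fun i _ => hcoh i) _ hbd))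

end Groth.Agent.PerfGen7
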