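import Groth.Agent.PerfGen7.TensorModCx
import Groth.Agent.KFlatLib.Scheme.TensorAssoc
import Groth.Agent.KFlatLib.Scheme.PullCx
import Groth.Agent.PerfGen7.RpushPerfect
import Groth.Agent.PerfLocus7.RelFlatBasic

/-!
# Tensoring pullbacks with a module flat over the base
-/

set_option linter.style.haveILetI false
set_option backward.isDefEq.respectTransparency false

universe u

open CategoryTheory CategoryTheory.Limits AlgebraicGeometry MonoidalCategory TensorProduct

attribute [local instance] HasDerivedCategory.standard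

namespace Groth.Agent.PerfGen7

open Groth.Agent.KFlatLib

/-- Base change followed by tensoring with a module flat over the base is exact. -/
lemma exact_extendScalars_tensorRight {A B : Type u} [CommRing A] [CommRing B] (φ : A →+* B)
    (N : ModuleCat.{u} B) (hN : Module.Flat A ((ModuleCat.restrictScalars φ).obj N))
    (S : ShortComplex (ModuleCat.{u} A)) (hS : S.Exact) :
    (S.map (ModuleCat.extendScalars φ ⋙ tensorRight N)).Exact := by
  letI := φ.toAlgebra
  letI : Module A N := Module.compHom N φ
  haveI : IsScalarTower A B N := IsScalarTower.of_algebraMap_smul fun _ _ => rfl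
  haveI : Module.Flat A N := hN
  rw [ShortComplex.ShortExact.moduleCat_exact_iff_function_exact] at hS ⊢
  have h := Module.Flat.lTensor_exact N hS
  change Function.Exact
    (((S.f.hom.baseChange B).rTensor N : _ →ₗ[B] _))
    (((S.g.hom.baseChange B).rTensor N : _ →ₗ[B] _))
  let e : ∀ M : ModuleCat.{u} A, (B ⊗[A] M) ⊗[B] N ≃ₗ[B] (N : Type u) ⊗[A] M := fun M =>
    TensorProduct.comm B _ _ ≪≫ₗ AlgebraTensorModule.cancelBaseChange A B B N M
  have he : ∀ {M M' : ModuleCat.{u} A} (g : M →ₗ[A] M') (z : (B ⊗[A] M) ⊗[B] N),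
      e M' ((g.baseChange B).rTensor N z) = g.lTensor N (e M z) := fun {M M'} g z => by
    induction z using TensorProduct.induction_on with
    | zero => simp
    | add a b ha hb => simp only [map_add, ha, hb]
    | tmul w n =>
      induction w using TensorProduct.induction_on with
      | zero => simp
      | add a b ha hb => simp only [add_tmul, map_add, ha, hb]
      | tmul b m => simp [e]
  refine (Function.Exact.iff_of_ladder_addEquiv (e₁ := (e S.X₁).toAddEquiv)
    (e₂ := (e S.X₂).toAddEquiv) (e₃ := (e S.X₃).toAddEquiv)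
    (f₁₂ := ((S.f.hom.baseChange B).rTensor N).toAddMonoidHom)
    (f₂₃ := ((S.g.hom.baseChange B).rTensor N).toAddMonoidHom)
    (g₁₂ := (S.f.hom.lTensor N).toAddMonoidHom) (g₂₃ := (S.g.hom.lTensor N).toAddMonoidHom)
    ?_ ?_).1 h
  · exact AddMonoidHom.ext fun z => (he S.f.hom z).symm
  · exact AddMonoidHom.ext fun z => (he S.g.hom z).symm

variable {X S : Scheme.{u}} (f : X ⟶ S)

/-- `M ↦ f^*M ⊗ G`. -/
noncomputable abbrev pullTensor (G : X.Modules) : S.Modules ⥤ X.Modules :=
  Scheme.Modules.pullback f ⋙ DCoh.tensorRightMod G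

/-- Stalks of `- ⊗ G`. -/
noncomputable def stalkTensorRightModIso (G : X.Modules) (x : X) :
    DCoh.tensorRightMod G ⋙ DerSch.stalkFunctor X x ≅
      DerSch.stalkFunctor X x ⋙ tensorRight ((DerSch.stalkFunctor X x).obj G) :=
  stalkTensorRightIso G x

/-- `f^*(-) ⊗ G` is exact for `G` flat over the base. -/
theorem preservesHomology_pullTensor {G : X.Modules} (hG : FlatMod.IsFlatOver f G) :
    (pullTensor f G).PreservesHomology := by
  refine Functor.preservesHomology_of_map_exact _ fun T hT => (exact_iff_stalk _).2 fun x => ?_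
  let e : pullTensor f G ⋙ DerSch.stalkFunctor X x ≅
      DerSch.stalkFunctor S (f.base x) ⋙ (ModuleCat.extendScalars (f.stalkMap x).hom ⋙
        tensorRight ((DerSch.stalkFunctor X x).obj G)) :=
    Functor.associator _ _ _ ≪≫ Functor.isoWhiskerLeft _ (stalkTensorRightModIso G x) ≪≫
      (Functor.associator _ _ _).symm ≪≫ Functor.isoWhiskerRight (stalkPullbackIso f x) _ ≪≫
      Functor.associator _ _ _
  have h := exact_extendScalars_tensorRight (f.stalkMap x).hom ((DerSch.stalkFunctor X x).obj G)
    ((PerfLocus7.isFlatOverAt_iff' f G x).1 (hG x)) (T.map (DerSch.stalkFunctor S (f.base x)))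
    ((exact_iff_stalk T).1 hT (f.base x))
  have h' : (T.map (DerSch.stalkFunctor S (f.base x) ⋙ (ModuleCat.extendScalars (f.stalkMap x).hom ⋙
      tensorRight ((DerSch.stalkFunctor X x).obj G)))).Exact := h
  have h'' := (ShortComplex.exact_iff_of_iso (T.mapNatIso e)).2 h'
  exact h''

/-- `G ⊗^L Lf^*F` is `f^*F ⊗ G` in degree `0`, for `G` flat over the base. -/
theorem exists_tensor_lpull_degZero [DCoh.HasLpull f] {G : X.Modules}
    (hG : FlatMod.IsFlatOver f G) (F : S.Modules) :
    ∃ M : CochainComplex X.Modules ℤ, DCoh.IsKFlat M ∧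
      Nonempty (DCoh.toD X M ≅ (DCoh.Lpull f).obj (DCoh.toD S (degZero F))) ∧
      Nonempty (DCoh.toD X ((DCoh.tensorCx.obj (degZero G)).obj M) ≅
        DCoh.toD X (((pullTensor f G).mapHomologicalComplex (ComplexShape.up ℤ)).obj (degZero F))) := by
  let P := (kRes S).obj (degZero F)
  let ψ : P ⟶ degZero F := (flatCover S).ψ.app (degZero F)
  haveI : QuasiIso ψ := (flatCover S).quasiIso_ψ (degZero F)
  haveI := isIso_Q_map ψ inferInstance
  refine ⟨(pullCx f).obj P, isKFlat_pullback f (isKFlat_kRes _), ⟨(lpullIso f (isKFlat_kRes _)).symm ≪≫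
    (DCoh.Lpull f).mapIso (asIso (DerivedCategory.Q.map ψ))⟩, ?_⟩
  haveI := preservesHomology_pullTensor f hG
  haveI : QuasiIso (((pullTensor f G).mapHomologicalComplex (ComplexShape.up ℤ)).map ψ) := inferInstance
  haveI := isIso_Q_map (((pullTensor f G).mapHomologicalComplex (ComplexShape.up ℤ)).map ψ) inferInstance
  let e : (DCoh.tensorCx.obj (degZero G)).obj ((pullCx f).obj P) ≅
      ((pullTensor f G).mapHomologicalComplex (ComplexShape.up ℤ)).obj P :=
    ((symmIso (tensorBiFlipIso X) (degZero G)).app ((pullCx f).obj P)).symm ≪≫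
      (tensorCxSingleIso G ((pullCx f).obj P)).symm
  exact ⟨DerivedCategory.Q.mapIso e ≪≫
    asIso (DerivedCategory.Q.map (((pullTensor f G).mapHomologicalComplex (ComplexShape.up ℤ)).map ψ))⟩

end Groth.Agent.PerfGen7
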