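import Groth.Agent.HomShX.Basic
import Groth.Agent.H23.TensorDesc
import Groth.Agent.InvX.Tensor
import Groth.Agent.KFlatLib.Scheme.ProjFormula
import Groth.Agent.KFlatLib.Scheme.ProjLocFree
import Groth.Agent.KFlatLib.Scheme.AffinePush
import Groth.Agent.KFlatLib.Perfect.Tensor
import Groth.Agent.PerfGen7.FlatOverTensor
import Groth.Agent.QCoh.LocFree
import Groth.Agent.QCoh.Qcqs
import Groth.Agent.QCoh.OpenSub
import Groth.Agent.QCoh.RpushStalk
import Groth.Agent.QCoh.RpushGod
import Groth.Agent.PerfGen7.RpushFlatOver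
import Groth.Agent.KFlatLib.Scheme.TildeAmp
import Groth.Prelude.Def_Mor2

/-!
# Dual of a bundle, evaluation, and the projection formula along a finite locally free morphism
-/

set_option linter.style.haveILetI false
set_option backward.isDefEq.respectTransparency false
set_option backward.isDefEq.respectTransparency.types false

universe u

open CategoryTheory CategoryTheory.Limits AlgebraicGeometry TopologicalSpace Opposite MonoidalCategory
open scoped TensorProduct

attribute [local instance] HasDerivedCategory.standard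

noncomputable section

namespace Groth.Agent.PerfGen7.ResDescend

open Groth.Agent Groth.Agent.KFlatLib
open RefHull (homSh stalkMapₗ evalStalk)

variable {X Y : Scheme.{u}}

/-- The dual of a finite locally free module is finite locally free. -/
theorem isFinLocFree_dual {P : Y.Modules} (hP : FlatMod.IsFinLocFree P) :
    FlatMod.IsFinLocFree (homSh P (Coh.structureModule Y)) := by
  have hfp := QCoh.isFP_of_isFinLocFree hP
  have hq := QCoh.isQCoh_of_isFP hfp
  have hO : Coh.IsQCoh (Coh.structureModule Y) := QCoh.isQCoh_structureModule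
  have hH := RefX.isQCoh_homSh hfp hO
  have key : ∀ U : Y.affineOpens,
      Module.Flat Γ(Y, U.1) Γ(homSh P (Coh.structureModule Y), U.1) ∧
        Module.FinitePresentation Γ(Y, U.1) Γ(homSh P (Coh.structureModule Y), U.1) := fun U => by
    haveI : Module.Flat Γ(Y, U.1) Γ(P, U.1) :=
      (QCoh.isFlat_iff hq).1 (QCoh.isFlat_and_isFP_iff.2 hP).1 U
    haveI := QCoh.finitePresentation_of_isFP hfp U.2
    haveI : Module.Projective Γ(Y, U.1) Γ(P, U.1) := Module.Flat.projective_of_finitePresentation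
    let e₀ : Γ(Coh.structureModule Y, U.1) ≃ₗ[Γ(Y, U.1)] Γ(Y, U.1) :=
      { toFun := fun x => x
        invFun := fun x => x
        left_inv := fun _ => rfl
        right_inv := fun _ => rfl
        map_add' := fun _ _ => rfl
        map_smul' := fun _ _ => rfl }
    let t : Γ(homSh P (Coh.structureModule Y), U.1) →ₗ[Γ(Y, U.1)] Module.Dual Γ(Y, U.1) Γ(P, U.1) :=
      { toFun := fun g => e₀.toLinearMap.comp (RefX.toLin g)
        map_add' := fun g g' => LinearMap.ext fun m => by
          refine ZClosLib.section_ext (Coh.structureModule Y) _ _ fun y hy => ?_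
          show (Coh.structureModule Y).presheaf.germ U.1 y hy (RefX.app le_rfl (g + g') m) =
            (Coh.structureModule Y).presheaf.germ U.1 y hy (RefX.app le_rfl g m + RefX.app le_rfl g' m)
          rw [map_add, RefX.germ_app, RefX.germ_app, RefX.germ_app]
          rfl
        map_smul' := fun r g => LinearMap.ext fun m => by
          refine ZClosLib.section_ext (Coh.structureModule Y) _ _ fun y hy => ?_
          show (Coh.structureModule Y).presheaf.germ U.1 y hy (RefX.app le_rfl (r • g) m) =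
            (Coh.structureModule Y).presheaf.germ U.1 y hy (r • RefX.app le_rfl g m)
          rw [QCoh.germ_smul', RefX.germ_app, RefX.germ_app, RefX.smul_val]
          rfl }
    have ht : Function.Bijective t := by
      refine ⟨fun g g' h => RefX.toLin_injective hq U.2 g g' fun m => LinearMap.congr_fun h m, fun φ => ?_⟩
      let θ₀ : Γ(P, U.1) →ₗ[Γ(Y, U.1)] Γ(Coh.structureModule Y, U.1) := e₀.symm.toLinearMap.comp φ
      have hsm : ∀ (r : Γ(Y, U.1)) (m : Γ(P, U.1)), θ₀ (r • m) = AModX.resR (le_refl U.1) r • θ₀ m :=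
        fun r m => by rw [AModX.resR_self]; exact map_smul θ₀ r m
      let θ : letI := RefX.resModule (Coh.structureModule Y) (le_refl U.1)
          Γ(P, U.1) →ₗ[Γ(Y, U.1)] Γ(Coh.structureModule Y, U.1) :=
        letI := RefX.resModule (Coh.structureModule Y) (le_refl U.1)
        { toFun := θ₀, map_add' := map_add θ₀, map_smul' := hsm }
      refine ⟨RefX.ofLin hq U.2 le_rfl θ, LinearMap.ext fun m => ?_⟩
      refine ZClosLib.section_ext (Coh.structureModule Y) _ _ fun y hy => ?_
      exact (RefX.germ_app le_rfl _ m hy).trans (RefX.ofLin_germ hq U.2 le_rfl θ hy m)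
    let e := LinearEquiv.ofBijective t ht
    haveI : Module.Projective Γ(Y, U.1) (Module.Dual Γ(Y, U.1) Γ(P, U.1)) := inferInstance
    haveI : Module.FinitePresentation Γ(Y, U.1) (Module.Dual Γ(Y, U.1) Γ(P, U.1)) :=
      Module.finitePresentation_of_projective _ _
    exact ⟨Module.Flat.of_linearEquiv e, Module.FinitePresentation.of_equiv e.symm⟩
  exact QCoh.isFlat_and_isFP_iff.1
    ⟨(QCoh.isFlat_iff hH).2 fun U => (key U).1, (QCoh.isFP_iff hH).2 fun U => (key U).2⟩

/-- The evaluation pairing as a bilinear family. -/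
def evBilin (P : Y.Modules) :
    H23.TensorDesc.Bilin (homSh P (Coh.structureModule Y)) P (Coh.structureModule Y) where
  b U g m := RefX.app le_rfl g m
  add_left U g g' n := ZClosLib.section_ext _ _ _ fun y hy => by
    rw [map_add, RefX.germ_app, RefX.germ_app, RefX.germ_app]; rfl
  smul_left U r g n := ZClosLib.section_ext _ _ _ fun y hy => by
    rw [QCoh.germ_smul', RefX.germ_app, RefX.germ_app, RefX.smul_val]; rfl
  add_right U g n n' := RefX.app_add le_rfl g n n'
  smul_right U g r n := RefX.app_smul le_rfl r g n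
  res {U V} h g m := ZClosLib.section_ext _ _ _ fun y hy => by
    show (Coh.structureModule Y).presheaf.germ V y hy (AModX.res _ h (RefX.app le_rfl g m)) =
      (Coh.structureModule Y).presheaf.germ V y hy
        (RefX.app le_rfl (AModX.res _ h g) (AModX.res P h m))
    rw [RefX.res_app, RefX.germ_app, RefX.germ_app]
    rfl

/-- The evaluation `P^∨ ⊗ P ⟶ O`. -/
def ev (P : Y.Modules) :
    CohB1.tensorMod (homSh P (Coh.structureModule Y)) P ⟶ Coh.structureModule Y :=
  H23.TensorDesc.desc (evBilin P)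

/-- Evaluation is an epimorphism for a bundle of positive rank. -/
theorem epi_ev {P : Y.Modules} (hP : FlatMod.IsFinLocFree P)
    (hne : ∀ y : Y, Nontrivial (P.presheaf.stalk y)) : Epi (ev P) := by
  have hfp := QCoh.isFP_of_isFinLocFree hP
  refine HomShX.epi_of_stalk _ fun y z => ?_
  haveI := QCoh.free_stalk_of_isFinLocFree hP y
  haveI := hne y
  let b := Module.Free.chooseBasis (Y.presheaf.stalk y) (P.presheaf.stalk y)
  obtain ⟨i⟩ : Nonempty (Module.Free.ChooseBasisIndex (Y.presheaf.stalk y) (P.presheaf.stalk y)) :=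
    b.index_nonempty
  obtain ⟨θ, hθ⟩ := (RefX.evalStalk_bijective (G := Coh.structureModule Y) hfp y).2
    ((b.coord i).smulRight z)
  obtain ⟨U, hU, g, rfl⟩ := TopCat.Presheaf.exists_germ_eq (homSh P (Coh.structureModule Y)).presheaf θ
  obtain ⟨V, hV, m, hm⟩ := TopCat.Presheaf.exists_germ_eq P.presheaf (b i)
  refine ⟨(CohB1.tensorMod (homSh P (Coh.structureModule Y)) P).presheaf.germ (U ⊓ V) y (show y ∈ U ⊓ V from ⟨hU, hV⟩)
    (SecTwist.tmul _ _ (U ⊓ V) (AModX.res _ inf_le_left g) (AModX.res P inf_le_right m)), ?_⟩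
  rw [RefHull.stalkMapₗ_germ]
  refine (congrArg ((Coh.structureModule Y).presheaf.germ (U ⊓ V) y (show y ∈ U ⊓ V from ⟨hU, hV⟩))
    (H23.TensorDesc.desc_tmul (evBilin P) (U ⊓ V) _ _)).trans ?_
  refine (RefX.germ_app le_rfl _ _ (show y ∈ U ⊓ V from ⟨hU, hV⟩)).trans ?_
  rw [RefX.res_val, RefX.germ_res, hm]
  rw [RefHull.evalStalk_germ] at hθ
  rw [hθ, LinearMap.smulRight_apply]
  simp

/-- The direct image of a bundle along a finite locally free morphism is a bundle. -/
theorem isFinLocFree_pushforward (f : X ⟶ Y) (hf : Mor2.IsFinLocFree f) {E : X.Modules}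
    (hE : FlatMod.IsFinLocFree E) :
    FlatMod.IsFinLocFree ((Scheme.Modules.pushforward f).obj E) := by
  obtain ⟨hfin, hflat, hlfp⟩ := hf
  have hfp := QCoh.isFP_of_isFinLocFree hE
  have hq := QCoh.isQCoh_of_isFP hfp
  have hM := QCoh.isQCoh_pushforward f hq
  have key : ∀ U : Y.affineOpens,
      Module.Flat Γ(Y, U.1) Γ((Scheme.Modules.pushforward f).obj E, U.1) ∧
        Module.FinitePresentation Γ(Y, U.1) Γ((Scheme.Modules.pushforward f).obj E, U.1) := fun U => by
    letI := (f.app U.1).hom.toAlgebra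
    let V : X.affineOpens := ⟨f ⁻¹ᵁ U.1, U.2.preimage f⟩
    haveI : Module.Flat Γ(X, f ⁻¹ᵁ U.1) Γ(E, f ⁻¹ᵁ U.1) :=
      (QCoh.isFlat_iff hq).1 (QCoh.isFlat_and_isFP_iff.2 hE).1 V
    haveI : Module.FinitePresentation Γ(X, f ⁻¹ᵁ U.1) Γ(E, f ⁻¹ᵁ U.1) :=
      QCoh.finitePresentation_of_isFP hfp V.2
    haveI : Module.Finite Γ(Y, U.1) Γ(X, f ⁻¹ᵁ U.1) := hfin.finite_app U.1 U.2
    haveI : Module.Flat Γ(Y, U.1) Γ(X, f ⁻¹ᵁ U.1) := by
      have h := f.flat_appLE U.2 (U.2.preimage f) le_rfl
      rw [← Scheme.Hom.app_eq_appLE] at h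
      exact h
    haveI : Algebra.FinitePresentation Γ(Y, U.1) Γ(X, f ⁻¹ᵁ U.1) :=
      by
        have h := f.finitePresentation_appLE U.2 (U.2.preimage f) le_rfl
        rw [← Scheme.Hom.app_eq_appLE] at h
        exact h
    haveI : Module.FinitePresentation Γ(Y, U.1) Γ(X, f ⁻¹ᵁ U.1) :=
      Module.FinitePresentation.of_finite_of_finitePresentation _ _
    letI : Module Γ(Y, U.1) Γ(E, f ⁻¹ᵁ U.1) := Module.compHom _ (f.app U.1).hom
    haveI : IsScalarTower Γ(Y, U.1) Γ(X, f ⁻¹ᵁ U.1) Γ(E, f ⁻¹ᵁ U.1) :=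
      ⟨fun a b c => mul_smul ((f.app U.1).hom a) b c⟩
    haveI : Module.Flat Γ(Y, U.1) Γ(E, f ⁻¹ᵁ U.1) := Module.Flat.trans Γ(Y, U.1) Γ(X, f ⁻¹ᵁ U.1) _
    haveI : Module.FinitePresentation Γ(Y, U.1) Γ(E, f ⁻¹ᵁ U.1) :=
      Module.FinitePresentation.trans Γ(Y, U.1) Γ(E, f ⁻¹ᵁ U.1) Γ(X, f ⁻¹ᵁ U.1)
    let e : Γ(E, f ⁻¹ᵁ U.1) ≃ₗ[Γ(Y, U.1)] Γ((Scheme.Modules.pushforward f).obj E, U.1) :=
      { toFun := fun x => x
        invFun := fun x => x
        left_inv := fun _ => rfl
        right_inv := fun _ => rfl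
        map_add' := fun _ _ => rfl
        map_smul' := fun _ _ => rfl }
    exact ⟨Module.Flat.of_linearEquiv e.symm, Module.FinitePresentation.of_equiv e⟩
  exact QCoh.isFlat_and_isFP_iff.1
    ⟨(QCoh.isFlat_iff hM).2 fun U => (key U).1, (QCoh.isFP_iff hM).2 fun U => (key U).2⟩

theorem isFlatOver_structure (f : X ⟶ Y) [Flat f] :
    FlatMod.IsFlatOver f (Coh.structureModule X) := fun x => by
  letI := FlatMod.moduleStalkOver f (Coh.structureModule X) x
  letI := (f.stalkMap x).hom.toAlgebra
  haveI : Module.Flat (Y.presheaf.stalk (f x)) (X.presheaf.stalk x) := Flat.stalkMap f x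
  haveI : IsScalarTower (Y.presheaf.stalk (f x)) (X.presheaf.stalk x) ((Coh.structureModule X).presheaf.stalk x) :=
    IsScalarTower.of_algebraMap_smul fun _ _ => rfl
  let e : X.presheaf.stalk x ≃ₗ[X.presheaf.stalk x] (Coh.structureModule X).presheaf.stalk x :=
    KFlatLib.stalkUnitEquiv x
  exact Module.Flat.of_linearEquiv (e.symm.restrictScalars (Y.presheaf.stalk (f x)))

/-- Projection formula for a finite locally free morphism. -/
theorem nonempty_proj (f : X ⟶ Y) (hf : Mor2.IsFinLocFree f) (F : Y.Modules) (hF : Coh.IsQCoh F) :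
    Nonempty ((DCoh.tensorBi.obj ((Scheme.Modules.pushforward f).obj (Coh.structureModule X))).obj F ≅
      (Scheme.Modules.pushforward f).obj ((Scheme.Modules.pullback f).obj F)) := by
  haveI := hf.1
  haveI := hf.2.1
  haveI := hasRpush_scheme f
  haveI := hf.2.2
  haveI := hasLpull f
  let O := Coh.structureModule X
  let P := (Scheme.Modules.pushforward f).obj O
  have hO : Coh.IsQCoh O := QCoh.isQCoh_structureModule
  have hflatO : FlatMod.IsFlatOver f O := isFlatOver_structure f
  have hPflat : FlatMod.IsFlat P := (QCoh.isFlat_and_isFP_iff.2 (isFinLocFree_pushforward f hf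
    (H23.PullPush.isFinLocFree_of_isInvertible InvX.isInvertible_structureModule))).1
  haveI : CochainComplex.IsStrictlyLE (degZero P) 0 := (CochainComplex.isStrictlyLE_iff _ 0).2
    fun i hi => HomologicalComplex.isZero_single_obj_X (ComplexShape.up ℤ) 0 _ i (by omega)
  have hPK : DCoh.IsKFlat (degZero P) := by
    refine isKFlat_of_isStrictlyLE (degZero P) 0 fun n => ?_
    by_cases h : n = 0
    · exact isFlat_of_iso' (HomologicalComplex.singleObjXIsoOfEq (ComplexShape.up ℤ) 0 P n h).symm hPflat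
    · exact IsFlat.of_isZero (HomologicalComplex.isZero_single_obj_X _ _ _ _ h)
  haveI := hasLTensorCx (degZero F)
  obtain ⟨M, hMK, hM, ⟨eT⟩⟩ := exists_tensor_lpull_degZero f hflatO F
  haveI := hasLTensorCx M
  haveI : HasInjectiveResolutions X.Modules := hasInjectiveResolutions_modules
  let dX : DCoh.inD X O ≅ DCoh.toD X (degZero O) := (DerivedCategory.singleFunctorIsoCompQ X.Modules 0).app O
  obtain ⟨e⟩ := nonempty_projection_DQCoh f (DCoh.inD X O) (isQCohD_of_iso dX.symm (isQCohD_degZero hO))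
    (degZero F) (isQCohD_degZero hF) M hM
  let N := (pullTensor f O).obj F
  haveI := isIso_LTensorCx_counit_of_isKFlat_right M hMK (degZero O)
  let eR : (DCoh.LTensorCx M).obj (DCoh.inD X O) ≅ DCoh.inD X N :=
    (DCoh.LTensorCx M).mapIso dX ≪≫
    asIso (((DCoh.tensorCxQ M).totalLeftDerivedCounit DerivedCategory.Q (qisX X)).app (degZero O)) ≪≫
    eT ≪≫ DerivedCategory.Q.mapIso
      ((HomologicalComplex.singleMapHomologicalComplex (pullTensor f O) _ 0).app F) ≪≫
    ((DerivedCategory.singleFunctorIsoCompQ X.Modules 0).app N).symm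
  haveI := isIso_unit_of_isAffineHom f (degZero O) fun n => by
    by_cases h : n = 0
    · exact isQCoh_of_iso (HomologicalComplex.singleObjXIsoOfEq (ComplexShape.up ℤ) 0 O n h).symm hO
    · exact isQCoh_of_isZero (HomologicalComplex.isZero_single_obj_X _ _ _ _ h)
  let q := HomotopyCategory.quotient X.Modules (ComplexShape.up ℤ)
  let eU : (DCoh.Rpush f).obj (DCoh.inD X O) ≅ DCoh.toD Y (degZero P) :=
    (DCoh.Rpush f).mapIso (dX ≪≫ ((DerivedCategory.quotientCompQhIso X.Modules).app (degZero O)).symm) ≪≫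
    (asIso (((DCoh.pushKh f).totalRightDerivedUnit DerivedCategory.Qh
      (HomotopyCategory.quasiIso X.Modules (ComplexShape.up ℤ))).app (q.obj (degZero O)))).symm ≪≫
    ((Functor.associator _ _ _).symm ≪≫
      Functor.isoWhiskerRight ((Scheme.Modules.pushforward f).mapHomotopyCategoryFactors
        (ComplexShape.up ℤ)) _ ≪≫ Functor.associator _ _ _ ≪≫
      Functor.isoWhiskerLeft _ (DerivedCategory.quotientCompQhIso Y.Modules)).app (degZero O) ≪≫
    DerivedCategory.Q.mapIso
      ((HomologicalComplex.singleMapHomologicalComplex (Scheme.Modules.pushforward f) _ 0).app O)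
  let T := (DCoh.tensorBi.obj P).obj F
  haveI := isIso_LTensorCx_counit (degZero F) hPK
  let eL : (DCoh.LTensorCx (degZero F)).obj ((DCoh.Rpush f).obj (DCoh.inD X O)) ≅ DCoh.inD Y T :=
    (DCoh.LTensorCx (degZero F)).mapIso eU ≪≫
    asIso (((DCoh.tensorCxQ (degZero F)).totalLeftDerivedCounit DerivedCategory.Q (qisX Y)).app (degZero P)) ≪≫
    DerivedCategory.Q.mapIso
      ((singleIso DCoh.tensorBi F).app (degZero P) ≪≫
      (HomologicalComplex.singleMapHomologicalComplex (DCoh.tensorBi.flip.obj F) _ 0).app P) ≪≫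
    ((DerivedCategory.singleFunctorIsoCompQ Y.Modules 0).app T).symm
  obtain ⟨e₂⟩ := nonempty_hd_rpush_single f N 0
  haveI := QCoh.preservesFiniteLimits_push f
  let e' := eL.symm ≪≫ e ≪≫ (DCoh.Rpush f).mapIso eR
  let eN : N ≅ (Scheme.Modules.pullback f).obj F :=
    (tensorStructureIso X).app ((Scheme.Modules.pullback f).obj F)
  exact ⟨(HomologicalComplex.singleObjHomologySelfIso (ComplexShape.up ℤ) 0 T).symm ≪≫
    ((DerivedCategory.homologyFunctorFactors Y.Modules 0).app _).symm ≪≫
    (DerivedCategory.homologyFunctor Y.Modules 0).mapIso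
      (((DerivedCategory.singleFunctorIsoCompQ Y.Modules 0).app T).symm ≪≫ e') ≪≫
    e₂ ≪≫ (Scheme.Modules.pushforward f).rightDerivedZeroIsoSelf.app N ≪≫
    (Scheme.Modules.pushforward f).mapIso eN⟩

end Groth.Agent.PerfGen7.ResDescend
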