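import Groth.Agent.KFlatLib.Scheme.PCQCoh
import Groth.Agent.KFlatLib.Scheme.Exact
import Groth.Prelude.Def_DerSch

/-!
# Lower bounds of cohomology sheaves are local
-/

set_option linter.style.haveILetI false
set_option backward.isDefEq.respectTransparency false

universe u

open CategoryTheory CategoryTheory.Limits AlgebraicGeometry

attribute [local instance] HasDerivedCategory.standard

namespace Groth.Agent.PerfGen7.LowerBound

open Groth.Agent.KFlatLib

variable {X Y : Scheme.{u}}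

theorem isZero_of_stalks (M : X.Modules)
    (h : ∀ x, IsZero ((DerSch.stalkFunctor X x).obj M)) : IsZero M := by
  have hS : (ShortComplex.mk (0 : M ⟶ M) (0 : M ⟶ M) zero_comp).Exact :=
    (exact_iff_stalk _).2 fun x => ShortComplex.exact_of_isZero_X₂ _ (h x)
  haveI := hS.mono_g rfl
  exact IsZero.of_mono_eq_zero (0 : M ⟶ M) rfl

theorem subsingleton_stalk_of_isZero {M : X.Modules} (h : IsZero M) (x : X) :
    Subsingleton (M.presheaf.stalk x) :=
  ModuleCat.subsingleton_of_isZero ((DerSch.stalkFunctor X x).map_isZero h)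

/-- The stalk of a restriction along an open immersion. -/
theorem subsingleton_stalk_restrict_iff (j : Y ⟶ X) [IsOpenImmersion j] (M : X.Modules) (y : Y) :
    Subsingleton (((Scheme.Modules.restrictFunctor j).obj M).presheaf.stalk y) ↔
      Subsingleton (M.presheaf.stalk (j.base y)) :=
  let e := ((Scheme.Modules.restrictStalkNatIso j y).app M).addCommGroupIsoToAddEquiv.toEquiv
  ⟨fun h => @Equiv.subsingleton _ _ e.symm h, fun h => @Equiv.subsingleton _ _ e h⟩

/-- A cohomology sheaf restricted along an open immersion vanishes iff its stalks there do. -/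
theorem isZero_hd_rho_iff (j : Y ⟶ X) [IsOpenImmersion j] (E : DCoh.D X) (i : ℤ) :
    IsZero (DCoh.HD ((rho j).obj E) i) ↔
      ∀ y, Subsingleton ((DCoh.HD E i).presheaf.stalk (j.base y)) := by
  refine ⟨fun h y => (subsingleton_stalk_restrict_iff j _ y).1
    (subsingleton_stalk_of_isZero (h.of_iso (restrictHDIso j E i).symm) y), fun h => ?_⟩
  refine (isZero_of_stalks _ fun y => ?_).of_iso (restrictHDIso j E i)
  exact @ModuleCat.isZero_of_subsingleton _ _ _ ((subsingleton_stalk_restrict_iff j (DCoh.HD E i) y).2 (h y))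

theorem isZero_hd_rho_of_range_le {Z : Scheme.{u}} (j : Y ⟶ X) [IsOpenImmersion j] (k : Z ⟶ X)
    [IsOpenImmersion k] (hjk : Set.range k.base ⊆ Set.range j.base) (E : DCoh.D X) (i : ℤ)
    (h : IsZero (DCoh.HD ((rho j).obj E) i)) : IsZero (DCoh.HD ((rho k).obj E) i) := by
  refine (isZero_hd_rho_iff k E i).2 fun z => ?_
  obtain ⟨y, hy⟩ := hjk ⟨z, rfl⟩
  rw [← hy]
  exact (isZero_hd_rho_iff j E i).1 h y

/-- A lower bound on a quasi-compact open from local ones. -/
theorem exists_lowerBound (j : Y ⟶ X) [IsOpenImmersion j] [CompactSpace Y] (E : DCoh.D X)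
    (h : ∀ x ∈ Set.range j.base, ∃ (V : X.Opens) (a : ℤ), x ∈ V ∧ ((rho V.ι).obj E).IsGE a) :
    ∃ a : ℤ, ∀ i : ℤ, i < a → IsZero (DCoh.HD ((rho j).obj E) i) := by
  choose V a hV hge using fun y : Y => h (j.base y) ⟨y, rfl⟩
  obtain ⟨t, ht⟩ := isCompact_univ.elim_finite_subcover (fun y : Y => ((j ⁻¹ᵁ V y : Y.Opens) : Set Y))
    (fun y => (j ⁻¹ᵁ V y).2) (fun y _ => Set.mem_iUnion.2 ⟨y, hV y⟩)
  let N : ℤ := -((∑ y ∈ t, (a y).natAbs : ℕ) : ℤ)
  refine ⟨N, fun i hi => (isZero_hd_rho_iff j E i).2 fun z => ?_⟩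
  obtain ⟨y, hyt, hzy⟩ := Set.mem_iUnion₂.1 (ht (Set.mem_univ z))
  have hle : (a y).natAbs ≤ ∑ y ∈ t, (a y).natAbs :=
    Finset.single_le_sum (f := fun y => (a y).natAbs) (fun _ _ => Nat.zero_le _) hyt
  haveI := hge y
  exact (isZero_hd_rho_iff (V y).ι E i).1 (DerivedCategory.isZero_of_isGE _ (a y) i (by omega)) ⟨_, hzy⟩

/-- A lower bound on an open. -/
theorem isGE_rho_of_lowerBound (j : Y ⟶ X) [IsOpenImmersion j] (E : DCoh.D X) (a : ℤ) (V : X.Opens)
    (hV : (V : Set X) ⊆ Set.range j.base)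
    (h : ∀ i : ℤ, i < a → IsZero (DCoh.HD ((rho j).obj E) i)) : ((rho V.ι).obj E).IsGE a :=
  (DerivedCategory.isGE_iff _ a).2 fun i hi =>
    isZero_hd_rho_of_range_le j V.ι ((Scheme.Opens.range_ι V).trans_subset hV) E i (h i hi)

end Groth.Agent.PerfGen7.LowerBound
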