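import Groth.Agent.KFlatLib.Perfect.Betti
import Groth.Agent.KFlatLib.Perfect.BettiCor
import Groth.Agent.KFlatLib.Perfect.LocFreeLocus
import Groth.Agent.PerfLocus7.Locus

/-!
# Pseudo-coherent objects which are perfect

A pseudo-coherent object is perfect near a point as soon as its cohomology vanishes below some
degree `a` and the cokernel of `d^{a-1}` in an approximation by free modules is flat at the point.
-/

set_option linter.style.haveILetI false
set_option backward.isDefEq.respectTransparency false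

universe u

open CategoryTheory CategoryTheory.Limits AlgebraicGeometry

attribute [local instance] HasDerivedCategory.standard

namespace Groth.Agent.PerfGen7.PerfectCriterion

open Groth.Agent.KFlatLib

variable {X : Scheme.{u}}

/-- An approximation with free cokernel computes the object. -/
theorem exists_strictlyPerfect_of_approx {P : CochainComplex X.Modules ℤ} {n : ℤ → ℕ}
    (e : ∀ i, P.X i ≅ FlatMod.freeMod X (n i)) {b : ℤ} (hb : ∀ i, b < i → IsZero (P.X i))
    {K : DCoh.D X} (α : DerivedCategory.Q.obj P ⟶ K) {m a : ℤ} (hm : m < a) (hα : IsPcMap m α)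
    (hK : ∀ i, i < a → IsZero (DCoh.HD K i)) {r : ℕ}
    (ec : cokernel (P.d (a - 1) a) ≅ FlatMod.freeMod X r) :
    ∃ Q : CochainComplex X.Modules ℤ, DCoh.IsStrictlyPerfect Q ∧ Nonempty (DerivedCategory.Q.obj Q ≅ K) := by
  let R₀ := DerivedCategory.Q.objPreimage K
  let eR : DerivedCategory.Q.obj R₀ ≅ K := DerivedCategory.Q.objObjPreimageIso K
  obtain ⟨R', g, s, hs, hfac⟩ := DerivedCategory.left_fac (α ≫ eR.inv)
  haveI := hs
  let e' : DerivedCategory.Q.obj R' ≅ K := (asIso (DerivedCategory.Q.map s)).symm ≪≫ eR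
  have hg : IsPcMap m (DerivedCategory.Q.map g) := by
    have h : DerivedCategory.Q.map g = α ≫ e'.inv := by
      show _ = α ≫ eR.inv ≫ DerivedCategory.Q.map s
      rw [← Category.assoc, hfac, Category.assoc, IsIso.inv_hom_id, Category.comp_id]
    rw [h]
    exact hα.comp (isPcMap_of_isIso m _)
  haveI : R'.IsGE a := (CochainComplex.isGE_iff R' a).2 fun i hi => by
    rw [HomologicalComplex.exactAt_iff_isZero_homology]
    exact (hK i hi).of_iso (((DerivedCategory.homologyFunctorFactors _ i).app R').symm ≪≫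
      (DerivedCategory.homologyFunctor _ i).mapIso e')
  haveI : QuasiIso (CochainComplex.truncGEMap g a) :=
    (CochainComplex.quasiIso_truncGEMap_iff g a).2 fun i hi => by
      rw [quasiIsoAt_iff_isIso_homologyMap]
      exact (NatIso.isIso_map_iff (DerivedCategory.homologyFunctorFactors X.Modules i) g).1
        (hg.1 i (by omega))
  haveI : IsIso (DerivedCategory.Q.map (CochainComplex.truncGEMap g a)) :=
    (DerivedCategory.isIso_Q_map_iff_quasiIso _ _).2 inferInstance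
  haveI : IsIso (DerivedCategory.Q.map (R'.πTruncGE a)) :=
    (DerivedCategory.isIso_Q_map_iff_quasiIso _ _).2 inferInstance
  let emb := ComplexShape.embeddingUpIntGE a
  refine ⟨P.truncGE a, ⟨⟨a, max a b, fun i hi => ?_⟩, fun i => ?_⟩,
    ⟨asIso (DerivedCategory.Q.map (CochainComplex.truncGEMap g a)) ≪≫
      (asIso (DerivedCategory.Q.map (R'.πTruncGE a))).symm ≪≫ e'⟩⟩
  · rcases hi with hi | hi
    · exact CochainComplex.isZero_of_isStrictlyGE _ a i hi
    · obtain ⟨k, rfl⟩ : ∃ k : ℕ, a + k = i := ⟨(i - a).toNat, by omega⟩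
      exact (hb _ (by omega)).of_iso (HomologicalComplex.truncGEXIso P emb (i := k) rfl
        (fun hb => by have := (ComplexShape.boundaryGE_embeddingUpIntGE_iff a k).1 hb; omega))
  rcases lt_or_ge i a with hia | hia
  · exact isFinLocFree_of_isZero (CochainComplex.isZero_of_isStrictlyGE (P.truncGE a) a i hia)
  obtain ⟨k, rfl⟩ : ∃ k : ℕ, a + k = i := ⟨(i - a).toNat, by omega⟩
  rcases Nat.eq_zero_or_pos k with rfl | hk
  · refine H23.PullPush.isFinLocFree_of_iso (HomologicalComplex.truncGEXIsoOpcycles P emb (i := 0) rfl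
      ((ComplexShape.boundaryGE_embeddingUpIntGE_iff a 0).2 rfl)).symm ?_
    show FlatMod.IsFinLocFree (P.opcycles (a + (0 : ℕ)))
    rw [Nat.cast_zero, add_zero]
    exact H23.PullPush.isFinLocFree_of_iso (ec.symm ≪≫ (cokernelIsCokernel (P.d (a - 1) a)).coconePointUniqueUpToIso
      (P.opcyclesIsCokernel (a - 1) a (by simp))) fun z => isFinLocFree_freeMod _ z
  · exact H23.PullPush.isFinLocFree_of_iso ((e _).symm ≪≫ (HomologicalComplex.truncGEXIso P emb (i := k) rfl
      (fun hb => by have := (ComplexShape.boundaryGE_embeddingUpIntGE_iff a k).1 hb; omega)).symm)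
      fun z => isFinLocFree_freeMod _ z

/-- Pseudo-coherent, locally bounded below and with flat cokernels at the points: perfect. -/
theorem isPerfect_of_flat_cokernel {E : DCoh.D X} (hpc : ∀ m, LocPC m E)
    (h : ∀ x : X, ∃ (U : Scheme.{u}) (j : U ⟶ X) (_ : IsOpenImmersion j) (a : ℤ),
      x ∈ Set.range j.base ∧ (∀ i, i < a → IsZero (DCoh.HD ((rho j).obj E) i)) ∧
      ∀ (V : Scheme.{u}) (k : V ⟶ X) [IsOpenImmersion k] (z : V) (_ : k.base z = x)
        (P : CochainComplex V.Modules ℤ) (_ : DCoh.IsKFlat P) (n : ℤ → ℕ)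
        (_ : ∀ i, P.X i ≅ FlatMod.freeMod V (n i)) (α : DerivedCategory.Q.obj P ⟶ (rho k).obj E)
        (m : ℤ), m < a - 1 → IsPcMap m α →
        Module.Flat (V.presheaf.stalk z) ((DerSch.stalkFunctor V z).obj (cokernel (P.d (a - 1) a)) : Type u)) :
    DCoh.IsPerfect E := by
  refine (KFlatLib.isPerfect_iff E).2 fun x => ?_
  obtain ⟨U, j, _, a, ⟨u', hu'⟩, hz, hflat⟩ := h x
  obtain ⟨V, i, _, ⟨v, hv⟩, P₀, α₀, hP₀, hα₀⟩ := (hpc (a - 2)).restrict j u'
  obtain ⟨⟨c, b, hcb⟩, hP₀f⟩ := hP₀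
  obtain ⟨W, hvW, hfree⟩ := exists_free_nhd hcb hP₀f v
  let P := (rCx W.ι).obj P₀
  have hPb : DCoh.VanishesOutside P c b := fun l hl =>
    (Scheme.Modules.restrictFunctor W.ι).map_isZero (hcb l hl)
  obtain ⟨n, e, hK, -⟩ := exists_free_bounded hPb hfree
  let k : (W : Scheme.{u}) ⟶ X := (W.ι ≫ i) ≫ j
  let β : DerivedCategory.Q.obj P ⟶ (rho k).obj E :=
    ((rhoQ W.ι).app P₀).inv ≫ (rho W.ι).map α₀ ≫
      (rhoComp W.ι i (W.ι ≫ i) rfl ((rho j).obj E) ≪≫ rhoComp (W.ι ≫ i) j k rfl E).hom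
  have hβ : IsPcMap (a - 2) β := (hα₀.map_exact _).comp_iso _ _
  have hkz : k.base ⟨v, hvW⟩ = x := by
    rw [← hu', ← hv]
    rfl
  have hfl := hflat _ k ⟨v, hvW⟩ hkz P hK n e β (a - 2) (by omega) hβ
  let d' := (e (a - 1)).inv ≫ P.d (a - 1) a ≫ (e a).hom
  let ec : cokernel d' ≅ cokernel (P.d (a - 1) a) :=
    cokernel.mapIso d' (P.d (a - 1) a) (e (a - 1)).symm (e a).symm (by simp [d'])
  haveI := hfl
  obtain ⟨W', r, hvW', ⟨eW⟩⟩ := PerfLocus7.exists_free_near_of_flat_stalk d' ⟨v, hvW⟩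
    (Module.Flat.of_linearEquiv ((DerSch.stalkFunctor _ _).mapIso ec).toLinearEquiv)
  let R := Scheme.Modules.restrictFunctor W'.ι
  let P' := (rCx W'.ι).obj P
  let k' : (W' : Scheme.{u}) ⟶ X := W'.ι ≫ k
  let β' : DerivedCategory.Q.obj P' ⟶ (rho k').obj E :=
    ((rhoQ W'.ι).app P).inv ≫ (rho W'.ι).map β ≫ (rhoComp W'.ι k k' rfl E).hom
  have hβ' : IsPcMap (a - 2) β' := (hβ.map_exact _).comp_iso _ _
  have hz' : ∀ l, l < a → IsZero (DCoh.HD ((rho k').obj E) l) := fun l hl => by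
    let t : (W' : Scheme.{u}) ⟶ U := (W'.ι ≫ W.ι) ≫ i
    have ht : t ≫ j = k' := by simp [t, k', k]
    exact (((Scheme.Modules.restrictFunctor t).map_isZero (hz l hl)).of_iso
      (hdRhoIso t _ l)).of_iso ((DerivedCategory.homologyFunctor _ l).mapIso (rhoComp t j k' ht E).symm)
  obtain ⟨Q, hQ, ⟨eQ⟩⟩ := exists_strictlyPerfect_of_approx (P := P')
    (fun l => R.mapIso (e l) ≪≫ (Scheme.Modules.restrictFunctorIsoPullback W'.ι).app _ ≪≫ pullFreeIso _ _)
    (b := b) (fun l hl => R.map_isZero (hPb l (Or.inr hl))) β' (show a - 2 < a by omega) hβ' hz'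
    ((PreservesCokernel.iso R (P.d (a - 1) a)).symm ≪≫ R.mapIso ec.symm ≪≫ eW)
  exact ⟨W', k', inferInstance, ⟨⟨_, hvW'⟩, hkz⟩, Q, hQ, ⟨eQ⟩⟩

/-- Pseudo-coherent and locally bounded below, with one vanishing fibre dimension below: perfect. -/
theorem isPerfect_of_betti [∀ x : X, DCoh.HasLpull (X.fromSpecResidueField x)] {E : DCoh.D X}
    (hpc : ∀ m, LocPC m E)
    (h : ∀ x : X, ∃ (U : Scheme.{u}) (j : U ⟶ X) (_ : IsOpenImmersion j) (a : ℤ),
      x ∈ Set.range j.base ∧ (∀ i, i < a → IsZero (DCoh.HD ((rho j).obj E) i)) ∧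
      PerfD.betti E x (a - 1) = 0) :
    DCoh.IsPerfect E := by
  refine isPerfect_of_flat_cokernel hpc fun x => ?_
  obtain ⟨U, j, hj, a, hx, hz, hb⟩ := h x
  refine ⟨U, j, hj, a, hx, hz, fun V k _ z hz' P hP n e α m hm hα => ?_⟩
  have hf := betti_formula E x k z hz' hP e α hα (a - 2) (a - 1) a (by omega) (by omega) hm
  rw [hb] at hf
  obtain ⟨-, hfree, -⟩ := exact_free_stalk z e (a - 2) (a - 1) a (by omega)
  haveI := hfree
  exact Module.Flat.of_free

/-- Approximations by bounded complexes of free modules near a point. -/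
theorem exists_free_approx {E : DCoh.D X} {m : ℤ} (hpc : LocPC m E) (x : X) :
    ∃ (U : Scheme.{u}) (j : U ⟶ X) (_ : IsOpenImmersion j) (y : U) (_ : j.base y = x)
      (P : CochainComplex U.Modules ℤ) (_ : DCoh.IsKFlat P) (n : ℤ → ℕ)
      (_ : ∀ i, P.X i ≅ FlatMod.freeMod U (n i)) (α : DerivedCategory.Q.obj P ⟶ (rho j).obj E),
      IsPcMap m α := by
  obtain ⟨V, i, _, ⟨v, hv⟩, P₀, α₀, hP₀, hα₀⟩ := hpc x
  obtain ⟨⟨c, b, hcb⟩, hP₀f⟩ := hP₀
  obtain ⟨W, hvW, hfree⟩ := exists_free_nhd hcb hP₀f v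
  obtain ⟨n, e, hK, -⟩ := exists_free_bounded (P := (rCx W.ι).obj P₀)
    (fun l hl => (Scheme.Modules.restrictFunctor W.ι).map_isZero (hcb l hl)) hfree
  exact ⟨W, W.ι ≫ i, inferInstance, ⟨v, hvW⟩, hv, _, hK, n, e,
    ((rhoQ W.ι).app P₀).inv ≫ (rho W.ι).map α₀ ≫ (rhoComp W.ι i _ rfl E).hom,
    (hα₀.map_exact _).comp_iso _ _⟩

end Groth.Agent.PerfGen7.PerfectCriterion
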