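import Groth.Agent.PerfGen7.RelTorTensor

/-!
# Direct images of coherent objects of finite relative tor amplitude are perfect
-/

set_option linter.style.haveILetI false
set_option backward.isDefEq.respectTransparency false

universe u

open CategoryTheory CategoryTheory.Limits AlgebraicGeometry

attribute [local instance] HasDerivedCategory.standard

namespace Groth.Agent.PerfGen7

open Groth.Agent.KFlatLib

variable {X S : Scheme.{u}} (f : X ⟶ S)

/-- `Rf_*` keeps finite relative tor amplitude. -/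
theorem torAmplitude_rpush_of_relTorAmplitude [QuasiCompact f] [QuasiSeparated f]
    [CompactSpace S] [QuasiSeparatedSpace S] [DCoh.HasRpush f] :
    ∃ N : ℕ, ∀ {F : CochainComplex X.Modules ℤ}, DCoh.IsQCohD (DCoh.toD X F) → ∀ a b : ℤ,
      DerSch.HasTorAmplitude f a b F →
        DCoh.HasTorAmplitudeIn a (b + N) ((DCoh.Rpush f).obj (DCoh.toD X F)) := by
  haveI : HasInjectiveResolutions X.Modules := hasInjectiveResolutions_modules
  obtain ⟨N, hN⟩ := exists_Rpush_bound f
  refine ⟨N, fun {F} hq a b hF => torAmplitude_of_qcoh _ a _ fun F₀ hF₀ _ i hi => ?_⟩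
  haveI := hasLpull f
  haveI := hasLTensorCx (degZero F₀)
  obtain ⟨M, _, ⟨eM⟩, hTz⟩ := exists_tensor_lpull_of_torAmplitude f hF F₀
  obtain ⟨eT⟩ := nonempty_LTensorMod_iso F₀ ((DCoh.Rpush f).obj (DCoh.toD X F))
  have hK := isQCohD_degZero (X := S) hF₀
  have hM : DCoh.IsQCohD (DCoh.toD X M) := isQCohD_of_iso eM.symm (isQCohD_lpull f hK)
  obtain ⟨eP⟩ := nonempty_projection_DQCoh f (DCoh.toD X F) hq (degZero F₀) hK M ⟨eM⟩
  let T := (DCoh.LTensorCx M).obj (DCoh.toD X F)
  refine IsZero.of_iso ?_ ((DerivedCategory.homologyFunctor S.Modules i).mapIso (eT ≪≫ eP))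
  rcases hi with hi | hi
  · haveI : T.IsGE a := by
      rw [DerivedCategory.isGE_iff]
      exact fun n hn => hTz n (Or.inl hn)
    exact isZero_hd_rpush_of_lt f T a i hi
  · haveI : T.IsLE b := by
      rw [DerivedCategory.isLE_iff]
      exact fun n hn => hTz n (Or.inr hn)
    refine isZero_of_isZero_restrict _ fun y => ⟨⊤, trivial, ?_⟩
    exact isZero_restrict_hd_rpush f (isQCohD_ltensor M hM hq) b ⊤ N
      (fun G hG p hp => Functor.map_isZero _ (hN G hG p hp)) i (by omega)

/-- A compact set lies in a quasi-compact open. -/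
lemma exists_compact_open_superset {Z : Set X} (hZ : IsCompact Z) :
    ∃ W : X.Opens, IsCompact (W : Set X) ∧ Z ⊆ (W : Set X) := by
  have hx : ∀ x : X, ∃ V : X.affineOpens, x ∈ V.1 := fun x => by
    obtain ⟨V, hV, hxV, -⟩ := exists_isAffineOpen_mem_and_subset (x := x) (U := ⊤) trivial
    exact ⟨⟨V, hV⟩, hxV⟩
  choose V hV using hx
  obtain ⟨t, ht⟩ := hZ.elim_finite_subcover (fun x : X => ((V x).1 : Set X)) (fun x => (V x).1.2)
    (fun x _ => Set.mem_iUnion.2 ⟨x, hV x⟩)
  refine ⟨⨆ x ∈ t, (V x).1, ?_, ?_⟩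
  · simp only [TopologicalSpace.Opens.iSup_mk, TopologicalSpace.Opens.carrier_eq_coe]
    exact t.finite_toSet.isCompact_biUnion fun x _ => (V x).2.isCompact
  · simpa using ht

lemma torAmplitude_mono_rel {a b a' b' : ℤ} {F : CochainComplex X.Modules ℤ}
    (h : DerSch.HasTorAmplitude f a b F) (ha : a' ≤ a) (hb : b ≤ b') :
    DerSch.HasTorAmplitude f a' b' F := fun x => by
  obtain ⟨E, hz, hf, he⟩ := h x
  exact ⟨E, fun i hi => hz i (by omega), hf, he⟩

open Opposite in
lemma semilinear_restrictStalk {X Y : Scheme.{u}} (j : X ⟶ Y) [IsOpenImmersion j] (M : Y.Modules) (z : X)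
    (a : Y.presheaf.stalk (j.base z)) (m : (M.restrict j).presheaf.stalk z) :
    ((Scheme.Modules.restrictStalkNatIso j z).app M).hom ((j.stalkMap z).hom a • m) =
      (a • (show M.presheaf.stalk (j.base z) from ((Scheme.Modules.restrictStalkNatIso j z).app M).hom m) :
        M.presheaf.stalk (j.base z)) := by
  let η := (Scheme.Modules.restrictStalkNatIso j z).app M
  have hg : ∀ (V : X.Opens) (hV : z ∈ V) (s : Γ(M, j ''ᵁ V)),
      η.hom ((M.restrict j).presheaf.germ V z hV s) =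
        M.presheaf.germ (j ''ᵁ V) (j.base z) ⟨z, hV, rfl⟩ s := fun V hV s =>
    ConcreteCategory.congr_hom (Scheme.Modules.germ_restrictStalkNatIso_hom_app j z M hV) s
  obtain ⟨V, hV, s, rfl⟩ := (M.restrict j).presheaf.germ_exist m
  obtain ⟨W, hW, t, rfl⟩ := Y.presheaf.germ_exist a
  let V' : X.Opens := V ⊓ j ⁻¹ᵁ W
  have hV' : z ∈ V' := ⟨hV, hW⟩
  have hle : j ''ᵁ V' ≤ W := by rintro _ ⟨y, ⟨-, hy⟩, rfl⟩; exact hy
  have hz' : j.base z ∈ j ''ᵁ V' := ⟨z, hV', rfl⟩
  have hsm : (j.stalkMap z).hom (Y.presheaf.germ W (j.base z) hW t) =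
      X.presheaf.germ V' z hV'
        ((j.appIso V').hom (Y.presheaf.map (homOfLE hle).op t)) := by
    rw [← Y.presheaf.germ_res_apply (homOfLE hle) (j.base z) hz' t]
    erw [Scheme.Hom.germ_stalkMap_apply]
    rw [Scheme.Hom.appIso_hom']
    erw [← X.presheaf.germ_res_apply (homOfLE (show V' ≤ j ⁻¹ᵁ (j ''ᵁ V') from
      (j.preimage_image_eq V').ge)) z hV']
    rfl
  rw [hsm, ← (M.restrict j).presheaf.germ_res_apply (homOfLE (inf_le_left : V' ≤ V)) z hV' s,
    ← QCoh.germ_smul' (M.restrict j) hV']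
  change η.hom _ = (_ : Y.presheaf.stalk (j.base z)) • (show M.presheaf.stalk (j.base z) from η.hom _)
  rw [hg, hg, ← Y.presheaf.germ_res_apply (homOfLE hle) (j.base z) hz' t, ← QCoh.germ_smul' M hz']
  congr 1
  have := ConcreteCategory.congr_hom (Scheme.Modules.smul_restrictAppIso_hom j M V'
    ((j.appIso V').hom (Y.presheaf.map (homOfLE hle).op t)))
    ((M.restrict j).presheaf.map (homOfLE (inf_le_left : V' ≤ V)).op s)
  refine this.trans ?_
  simp only [Iso.hom_inv_id_apply]
  rfl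

/-- Stalks over the base of a restriction. -/
noncomputable def stalkOverRestrictIso {U : Scheme.{u}} (j : U ⟶ X) [IsOpenImmersion j] (z : U) :
    Scheme.Modules.restrictFunctor j ⋙ DerSch.stalkOver (j ≫ f) z ≅
      DerSch.stalkOver f (j.base z) :=
  NatIso.ofComponents (fun M => LinearEquiv.toModuleIso
      (R := S.presheaf.stalk (f.base (j.base z)))
      (m₁ := ((DerSch.stalkOver (j ≫ f) z).obj (M.restrict j)).isModule)
      (m₂ := ((DerSch.stalkOver f (j.base z)).obj M).isModule)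
      { ((Scheme.Modules.restrictStalkNatIso j z).app M).addCommGroupIsoToAddEquiv with
        map_smul' := fun a m => by
          have h1 := semilinear_restrictStalk j M z ((f.stalkMap (j.base z)).hom a) m
          refine Eq.trans ?_ h1
          show ((Scheme.Modules.restrictStalkNatIso j z).app M).hom
            (((j ≫ f).stalkMap z).hom a • (show (M.restrict j).presheaf.stalk z from m)) = _
          rw [Scheme.Hom.stalkMap_comp]
          rfl })
    fun {M N} g => by
      apply ModuleCat.hom_ext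
      refine LinearMap.ext fun m => ?_
      exact ConcreteCategory.congr_hom ((Scheme.Modules.restrictStalkNatIso j z).hom.naturality g) m

/-- Relative tor amplitude restricts to opens. -/
lemma torAmplitude_restrict {U : Scheme.{u}} (j : U ⟶ X) [IsOpenImmersion j] {a b : ℤ}
    {F : CochainComplex X.Modules ℤ} (hF : DerSch.HasTorAmplitude f a b F) :
    DerSch.HasTorAmplitude (j ≫ f) a b ((rCx j).obj F) := fun z => by
  obtain ⟨E, hz, hf, ⟨e⟩⟩ := hF (j.base z)
  exact ⟨E, hz, hf, ⟨e ≪≫ DerivedCategory.Q.mapIso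
    ((NatIso.mapHomologicalComplex (stalkOverRestrictIso f j z) (ComplexShape.up ℤ)).app F).symm ≪≫
    DerivedCategory.Q.mapIso (((Functor.mapHomologicalComplexCompIso (Iso.refl
      (Scheme.Modules.restrictFunctor j ⋙ DerSch.stalkOver (j ≫ f) z)) (ComplexShape.up ℤ)).app F).symm)⟩⟩

/-- Coherent bounded objects of finite relative tor amplitude with proper supports have perfect
direct image. -/
theorem isPerfect_rpush_of_relTorAmplitude [IsNoetherian S] [LocallyOfFiniteType f] [DCoh.HasRpush f]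
    {F : CochainComplex X.Modules ℤ} (hc : DCoh.IsCohD (DCoh.toD X F)) (a₀ b₀ : ℤ)
    (hbdd : ∀ i : ℤ, (i < a₀ ∨ b₀ < i) → IsZero (DCoh.HD (DCoh.toD X F) i))
    (hsupp : ∀ i : ℤ, ClSub.IsProperOver f (CohB1.support (DCoh.HD (DCoh.toD X F) i))) {a b : ℤ}
    (htor : DerSch.HasTorAmplitude f a b F) :
    DCoh.IsPerfect ((DCoh.Rpush f).obj (DCoh.toD X F)) := by
  haveI := LocallyOfFiniteType.isLocallyNoetherian f
  let T := DCoh.toD X F
  haveI : T.IsGE a₀ := by
    rw [DerivedCategory.isGE_iff]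
    exact fun i hi => hbdd i (Or.inl hi)
  haveI : T.IsLE b₀ := by
    rw [DerivedCategory.isLE_iff]
    exact fun i hi => hbdd i (Or.inr hi)
  let Z : Set X := ⋃ i ∈ Finset.Icc a₀ b₀, CohB1.support (DCoh.HD T i)
  have hZ : IsClosed Z := (Finset.Icc a₀ b₀).finite_toSet.isClosed_biUnion fun i _ => (hsupp i).1
  have hZc : IsCompact Z := (Finset.Icc a₀ b₀).finite_toSet.isCompact_biUnion fun i _ =>
    isCompact_of_isProperOver f (hsupp i)
  have hsZ : ∀ i, CohB1.support (DCoh.HD T i) ⊆ Z := fun i => by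
    by_cases hi : i ∈ Finset.Icc a₀ b₀
    · exact Set.subset_biUnion_of_mem (u := fun i => CohB1.support (DCoh.HD T i)) hi
    · intro x hx
      exact (hx (ModuleCat.subsingleton_of_isZero ((DerSch.stalkFunctor X x).map_isZero
        (hbdd i (by simp only [Finset.mem_Icc] at hi; omega))))).elim
  obtain ⟨W, hW, hZW⟩ : ∃ W : X.Opens, IsCompact (W : Set X) ∧ Z ⊆ (W : Set X) :=
    exists_compact_open_superset hZc
  haveI : CompactSpace (W : Scheme.{u}) := isCompact_iff_compactSpace.1 hW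
  haveI : IsLocallyNoetherian (W : Scheme.{u}) := isLocallyNoetherian_of_isOpenImmersion W.ι
  haveI : IsNoetherian (W : Scheme.{u}) := {}
  haveI := hasRpush_scheme W.ι
  haveI := hasRpush_scheme (W.ι ≫ f)
  haveI : HasInjectiveResolutions X.Modules := hasInjectiveResolutions_modules
  have hgood : ∀ i, GoodMod f (DCoh.HD T i) := fun i => ⟨hc i, Or.inr (hsupp i)⟩
  have hcoh := isCohD_rpush_of_isGE f T a₀ hgood
  obtain ⟨b₁, hb₁⟩ := exists_isLE_rpush_of_support f T (isCohD_isQCohD hc) b₀ Z hZ hZc hsZ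
  have hbd : ∀ i, b₁ < i → IsZero (DCoh.HD ((DCoh.Rpush f).obj T) i) := fun i hi =>
    haveI := hb₁
    DerivedCategory.isZero_of_isLE _ b₁ i hi
  obtain ⟨N, hN⟩ := torAmplitude_rpush_of_relTorAmplitude (W.ι ≫ f)
  let G := (rCx W.ι).obj F
  let eG : (rho W.ι).obj T ≅ DCoh.toD (W : Scheme.{u}) G := (rhoQ W.ι).app F
  obtain ⟨e⟩ := nonempty_iso_rpush_restrict W Z hZ hZW T hsZ
  obtain ⟨c⟩ := nonempty_rpush_comp W.ι f
  let eR : (DCoh.Rpush f).obj T ≅ (DCoh.Rpush (W.ι ≫ f)).obj (DCoh.toD (W : Scheme.{u}) G) :=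
    (DCoh.Rpush f).mapIso e ≪≫ c.app _ ≪≫ (DCoh.Rpush (W.ι ≫ f)).mapIso eG
  have ht : DCoh.HasTorAmplitudeIn (min a b) (max a b + N) ((DCoh.Rpush f).obj T) :=
    torAmplitude_of_retract eR.hom eR.inv eR.hom_inv_id
      (hN (isQCohD_of_iso eG (isQCohD_rho W.ι (isCohD_isQCohD hc))) (min a b) (max a b)
        (torAmplitude_mono_rel (W.ι ≫ f) (torAmplitude_restrict f W.ι htor) (min_le_left _ _) (le_max_right _ _)))
  exact (KFlatLib.isPerfect_iff _).2 (locSP_of_flat_pc (by omega)
    (flatAmplitude_of_torAmplitude hasLTensorMod (by omega) ht)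
    (locPC_of_coh (isCohD_isQCohD hcoh) (fun i _ => hcoh i) _ hbd))

end Groth.Agent.PerfGen7
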