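import Groth.Agent.PerfGen7.AffineX
import Groth.Agent.S0945

/-!
# Perfect generators with supports; extension of perfect objects
-/

set_option linter.style.haveILetI false
set_option backward.isDefEq.respectTransparency false

universe u

open CategoryTheory CategoryTheory.Limits AlgebraicGeometry Pretriangulated ZeroObject

attribute [local instance] HasDerivedCategory.standard

namespace Groth.Agent.PerfGen7

open Groth.Agent.KFlatLib

variable {X : Scheme.{u}}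

/-- Adding an affine open. -/
theorem exists_extend_step [QuasiSeparatedSpace X] (U V : X.Opens) (hUV : U ⊔ V = ⊤)
    (hU : IsCompact (U : Set X)) (hV : IsAffineOpen V) {T : Set X} (hT : IsClosed T)
    (hTc : IsCompact Tᶜ) {P : DCoh.D (U : Scheme.{u})} (hP : DCoh.IsPerfect P)
    (hPT : Supp P (U.ι.base ⁻¹' T)) :
    ∃ Q : DCoh.D X, DCoh.IsPerfect Q ∧ Supp Q T ∧ Nonempty (Retract P ((rho U.ι).obj Q)) := by
  haveI : IsAffine (V : Scheme.{u}) := hV
  let a := X.homOfLE (inf_le_left : U ⊓ V ≤ U)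
  let b := X.homOfLE (inf_le_right : U ⊓ V ≤ V)
  have hW : IsCompact ((U ⊓ V : X.Opens) : Set X) :=
    QuasiSeparatedSpace.inter_isCompact _ _ U.2 hU V.2 hV.isCompact
  haveI : CompactSpace ((U ⊓ V : X.Opens) : Scheme.{u}) := isCompact_iff_compactSpace.1 hW
  haveI : QuasiCompact b := (quasiCompact_iff_compactSpace b).2 inferInstance
  have hTV : IsCompact (V.ι.base ⁻¹' T)ᶜ := by
    rw [V.ι.isOpenEmbedding.isEmbedding.isCompact_iff, ← Set.preimage_compl,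
      Set.image_preimage_eq_inter_range, Scheme.Opens.range_ι]
    exact QuasiSeparatedSpace.inter_isCompact _ _ hT.isOpen_compl hTc V.2 hV.isCompact
  have hWT : b.base ⁻¹' (V.ι.base ⁻¹' T) = a.base ⁻¹' (U.ι.base ⁻¹' T) := by
    rw [← Set.preimage_comp, ← Set.preimage_comp, ← TopCat.coe_comp, ← TopCat.coe_comp,
      ← Scheme.Hom.comp_base, ← Scheme.Hom.comp_base, X.homOfLE_ι, X.homOfLE_ι]
  let P₂ := P ⊞ P⟦(1 : ℤ)⟧
  have hP₂ : DCoh.IsPerfect P₂ :=
    isPerfect_tri₂ (binaryBiproductTriangle_distinguished P (P⟦(1 : ℤ)⟧)) hP (isPerfect_shift' hP 1)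
  have hP₂T : Supp P₂ (U.ι.base ⁻¹' T) :=
    supp_obj₂ (binaryBiproductTriangle_distinguished P (P⟦(1 : ℤ)⟧)) hPT (hPT.shift 1)
  obtain ⟨G, hG, hGT, ⟨eG⟩⟩ := exists_extend_affine b (hT.preimage V.ι.continuous) hTV
    (isPerfect_rho' a hP) (hWT.symm ▸ hPT.rho a)
  haveI : PreservesBinaryBiproduct P (P⟦(1 : ℤ)⟧) (rho a) :=
    (preservesBinaryBiproducts_of_preservesBiproducts (rho a)).preserves
  let c : (rho a).obj P₂ ≅ (rho b).obj G :=
    (rho a).mapBiprod P (P⟦(1 : ℤ)⟧) ≪≫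
      biprod.mapIso (Iso.refl _) (((rho a).commShiftIso (1 : ℤ)).app P) ≪≫ eG.symm
  obtain ⟨Q, ⟨eU⟩, ⟨eV⟩⟩ := Groth.Agent.S0945.result U V hUV P₂ G c
  have hcov : ∀ x : X, x ∈ U ∨ x ∈ V := fun x => TopologicalSpace.Opens.mem_sup.1 (hUV ▸ trivial)
  refine ⟨Q, isPerfect_of_cover fun x => ?_, supp_of_cover fun x => ?_,
    ⟨{ i := biprod.inl ≫ eU.inv, r := eU.hom ≫ biprod.fst, retract := by simp [P₂] }⟩⟩
  · rcases hcov x with h | h
    · exact ⟨_, U.ι, inferInstance, by rwa [Scheme.Opens.range_ι], isPerfect_of_iso' eU.symm hP₂⟩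
    · exact ⟨_, V.ι, inferInstance, by rwa [Scheme.Opens.range_ι], isPerfect_of_iso' eV.symm hG⟩
  · rcases hcov x with h | h
    · exact ⟨_, U.ι, inferInstance, by rwa [Scheme.Opens.range_ι], hP₂T.of_iso eU.symm⟩
    · exact ⟨_, V.ι, inferInstance, by rwa [Scheme.Opens.range_ι], hGT.of_iso eV.symm⟩

/-- Perfect generators with supports exist. -/
def HasGen (Y : Scheme.{u}) : Prop :=
  ∀ T : Set Y, IsClosed T → IsCompact Tᶜ → ∃ P : DCoh.D Y, DCoh.IsPerfect P ∧ Supp P T ∧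
    ∀ E : DCoh.D Y, DCoh.IsQCohD E → Supp E T → (∀ (n : ℤ) (φ : P⟦n⟧ ⟶ E), φ = 0) → IsZero E

/-- Maps to `Rj_*` and maps on the open. -/
lemma eq_zero_of_rho_isZero {W : Scheme.{u}} (j : W ⟶ X) [IsOpenImmersion j] [DCoh.HasRpush j]
    {A : DCoh.D X} {M : DCoh.D W} (hA : IsZero ((rho j).obj A)) (φ : A ⟶ (DCoh.Rpush j).obj M) :
    φ = 0 :=
  ((adjR j).homEquiv _ _).symm.injective (hA.eq_of_src _ _)

lemma hasGen_step [QuasiSeparatedSpace X] (U V : X.Opens) (hUV : U ⊔ V = ⊤)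
    (hU : IsCompact (U : Set X)) (hV : IsAffineOpen V) (h : HasGen (U : Scheme.{u})) : HasGen X := by
  intro T hT hTc
  haveI : IsAffine (V : Scheme.{u}) := hV
  haveI : CompactSpace (U : Scheme.{u}) := isCompact_iff_compactSpace.1 hU
  have hpre : ∀ (W : X.Opens), IsCompact (W : Set X) → ∀ S : Set X, IsClosed S → IsCompact Sᶜ →
      IsCompact (W.ι.base ⁻¹' S)ᶜ := fun W hW S hS hSc => by
    rw [W.ι.isOpenEmbedding.isEmbedding.isCompact_iff, ← Set.preimage_compl,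
      Set.image_preimage_eq_inter_range, Scheme.Opens.range_ι]
    exact QuasiSeparatedSpace.inter_isCompact _ _ hS.isOpen_compl hSc W.2 hW
  obtain ⟨P, hP, hPT, hPdet⟩ := h _ (hT.preimage U.ι.continuous) (hpre U hU T hT hTc)
  obtain ⟨Q, hQ, hQT, ⟨r⟩⟩ := exists_extend_step U V hUV hU hV hT hTc hP hPT
  let Z : Set X := T ∩ (U : Set X)ᶜ
  have hZ : IsClosed Z := hT.inter U.2.isClosed_compl
  have hZc : IsCompact Zᶜ := by
    simp only [Z, Set.compl_inter, compl_compl]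
    exact hTc.union hU
  have hcov : ∀ x : X, x ∉ (U : Set X) → x ∈ (V : Set X) := fun x hx =>
    (TopologicalSpace.Opens.mem_sup.1 (hUV ▸ trivial : x ∈ U ⊔ V)).resolve_left hx
  have hZV : Z ⊆ Set.range V.ι.base := fun x hx => by
    rw [Scheme.Opens.range_ι]; exact hcov x hx.2
  obtain ⟨K, hK, hKZ, hKdet⟩ := exists_kos_affine (hZ.preimage V.ι.continuous)
    (hpre V hV.isCompact Z hZ hZc)
  haveI := hasRpush_scheme V.ι
  haveI := hasRpush_scheme U.ι
  haveI := rpush_additive V.ι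
  let K' := (DCoh.Rpush V.ι).obj K
  have hK' : DCoh.IsPerfect K' := isPerfect_rpush_of_support V K hK (V.ι.base ⁻¹' Z)
    (by rw [Set.image_preimage_eq_of_subset hZV]; exact hZ) hKZ
  have hK'Z : Supp K' Z := supp_rpush V.ι hZ hKZ
  refine ⟨Q ⊞ K', isPerfect_tri₂ (binaryBiproductTriangle_distinguished Q K') hQ hK',
    supp_obj₂ (binaryBiproductTriangle_distinguished Q K') hQT (hK'Z.mono Set.inter_subset_left),
    fun E hE hET h => ?_⟩
  have hQ0 : ∀ (n : ℤ) (φ : Q⟦n⟧ ⟶ E), φ = 0 := fun n φ => by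
    have h1 := h n ((biprod.fst : Q ⊞ K' ⟶ Q)⟦n⟧' ≫ φ)
    calc φ = (biprod.inl : Q ⟶ Q ⊞ K')⟦n⟧' ≫ (biprod.fst : Q ⊞ K' ⟶ Q)⟦n⟧' ≫ φ := by
          rw [← Functor.map_comp_assoc, biprod.inl_fst, CategoryTheory.Functor.map_id, Category.id_comp]
      _ = 0 := by rw [h1, comp_zero]
  have hK0 : ∀ (n : ℤ) (φ : K'⟦n⟧ ⟶ E), φ = 0 := fun n φ => by
    have h1 := h n ((biprod.snd : Q ⊞ K' ⟶ K')⟦n⟧' ≫ φ)
    calc φ = (biprod.inr : K' ⟶ Q ⊞ K')⟦n⟧' ≫ (biprod.snd : Q ⊞ K' ⟶ K')⟦n⟧' ≫ φ := by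
          rw [← Functor.map_comp_assoc, biprod.inr_snd, CategoryTheory.Functor.map_id, Category.id_comp]
      _ = 0 := by rw [h1, comp_zero]
  haveI : QuasiCompact U.ι := ⟨fun W _ hW => by
    rw [U.ι.isOpenEmbedding.isEmbedding.isCompact_iff, Set.image_preimage_eq_inter_range,
      Scheme.Opens.range_ι]
    exact QuasiSeparatedSpace.inter_isCompact _ _ ‹_› hW U.2 hU⟩
  haveI : HasInjectiveResolutions (U : Scheme.{u}).Modules := hasInjectiveResolutions_modules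
  obtain ⟨C, g, d, hd, hC⟩ := exists_unit_triangle U.ι E
  rw [Scheme.Opens.range_ι] at hC
  let RU := (DCoh.Rpush U.ι).obj ((rho U.ι).obj E)
  have hRUT : Supp RU T := supp_rpush U.ι hT (hET.rho U.ι)
  have hCT : Supp C Z := supp_iff.2 fun x hx i => by
    by_cases hxT : x ∈ T
    · exact supp_iff.1 hC x (fun hc => hx ⟨hxT, hc⟩) i
    · exact supp_iff.1 (supp_obj₃ hd hET hRUT) x hxT i
  have hCq : DCoh.IsQCohD C :=
    isQCohD_obj₃ hd hE (isQCohD_rpush U.ι (isQCohD_rho U.ι hE))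
  have hK'U : ∀ n : ℤ, IsZero ((rho U.ι).obj (K'⟦n⟧)) := fun n =>
    (isZero_rho_iff U.ι _).2 (by
      rw [Scheme.Opens.range_ι]; exact (hK'Z.shift n).mono Set.inter_subset_right)
  -- no maps from `K'` to the cone
  have hKC : ∀ (n : ℤ) (φ : K'⟦n⟧ ⟶ C), φ = 0 := fun n φ => by
    obtain ⟨ψ, hψ⟩ : ∃ ψ : K'⟦n⟧ ⟶ RU, φ = ψ ≫ g := by
      refine Triangle.coyoneda_exact₂ _ (rot_of_distTriang _ hd) φ ?_
      let ε : K'⟦n + -1⟧⟦(1 : ℤ)⟧ ≅ K'⟦n⟧ :=
        ((shiftFunctorAdd' (DCoh.D X) (n + -1) 1 n (by omega)).app K').symm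
      obtain ⟨ψ, hψ⟩ := (shiftFunctor (DCoh.D X) (1 : ℤ)).map_surjective (ε.hom ≫ φ ≫ d)
      rw [hK0 _ ψ, Functor.map_zero] at hψ
      exact (cancel_epi ε.hom).1 (by rw [comp_zero]; exact hψ.symm)
    rw [hψ, eq_zero_of_rho_isZero U.ι (hK'U n) ψ, zero_comp]
  -- so the cone vanishes
  have hC0 : IsZero C := by
    have hu := isIso_unit_of_supp V.ι C hZV hCT (supp_rpush V.ι hZ (hCT.rho V.ι))
    have hz : IsZero ((rho V.ι).obj C) := hKdet _ (isQCohD_rho V.ι hCq) (hCT.rho V.ι) fun n φ => by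
      let c := ((rho V.ι).commShiftIso n).app K' ≪≫
        (shiftFunctor _ n).mapIso (asIso ((adjR V.ι).counit.app K))
      have h1 := hKC n ((adjR V.ι).homEquiv _ _ (c.hom ≫ φ) ≫ inv ((adjR V.ι).unit.app C))
      have h2 : (adjR V.ι).homEquiv _ _ (c.hom ≫ φ) = 0 :=
        (Preadditive.IsIso.comp_right_eq_zero _ (inv ((adjR V.ι).unit.app C))).1 h1
      have h3 := congrArg (fun x => (rho V.ι).map x ≫ (adjR V.ι).counit.app _) h2
      simp only [Functor.map_zero, zero_comp] at h3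
      erw [homEquiv_back] at h3
      exact (Preadditive.IsIso.comp_left_eq_zero c.hom φ).1 h3
    exact (Functor.map_isZero (DCoh.Rpush V.ι) hz).of_iso (asIso ((adjR V.ι).unit.app C))
  haveI : IsIso ((adjR U.ι).unit.app E) := (Triangle.isZero₃_iff_isIso₁ _ hd).1 hC0
  have hU0 : IsZero ((rho U.ι).obj E) :=
    hPdet _ (isQCohD_rho U.ι hE) (hET.rho U.ι) fun n φ => by
      let e := asIso ((adjR U.ι).unit.app E)
      let c := ((rho U.ι).commShiftIso n).app Q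
      have h1 : (adjR U.ι).homEquiv (Q⟦n⟧) ((rho U.ι).obj E) (c.hom ≫ r.r⟦n⟧' ≫ φ) = 0 :=
        (cancel_mono e.inv).1 ((hQ0 n _).trans zero_comp.symm)
      have h2 : c.hom ≫ r.r⟦n⟧' ≫ φ = 0 :=
        ((adjR U.ι).homEquiv _ _).injective (h1.trans (by
          rw [(adjR U.ι).homEquiv_unit, Functor.map_zero, comp_zero]))
      calc φ = r.i⟦n⟧' ≫ c.inv ≫ c.hom ≫ r.r⟦n⟧' ≫ φ := by
            rw [Iso.inv_hom_id_assoc, ← Functor.map_comp_assoc, r.retract,
              CategoryTheory.Functor.map_id, Category.id_comp]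
        _ = 0 := by rw [h2, comp_zero, comp_zero]
  haveI := rpush_additive U.ι
  exact (Functor.map_isZero (DCoh.Rpush U.ι) hU0).of_iso (asIso ((adjR U.ι).unit.app E))

end Groth.Agent.PerfGen7
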