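import Groth.Agent.PerfGen7.KoszulDet
import Groth.Agent.PerfGen7.Generator
import Groth.Agent.H9Misc.TFactor

/-!
# Orthogonality to the Koszul object and the restriction to the punctured spectrum
-/

set_option linter.style.haveILetI false
set_option backward.isDefEq.respectTransparency false

universe u v w

open CategoryTheory CategoryTheory.Limits Pretriangulated AlgebraicGeometry

attribute [local instance] HasDerivedCategory.standard

namespace Groth.Agent.PerfGen7

open Groth.Agent.KFlatLib Groth.Agent.H9Misc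

section Trunc

variable {C : Type w} [Category.{v} C] [Abelian C] {X Y : DerivedCategory C} (f : X ⟶ Y)

local notation "tS" => (DerivedCategory.TStructure.t (C := C))
local notation "H" => DerivedCategory.homologyFunctor C

lemma isIso_truncLT_map (m : ℤ) (h : ∀ i < m, IsIso ((H i).map f)) :
    IsIso ((tS).truncLT m |>.map f) := by
  refine (DerivedCategory.isIso_iff _ _).2 fun i => ?_
  by_cases hi : i < m
  · haveI := isIso_map_truncLTι m i hi X
    haveI := isIso_map_truncLTι m i hi Y
    haveI := h i hi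
    have e : (H i).map ((tS).truncLT m |>.map f) ≫ (H i).map (((tS).truncLTι m).app Y) =
        (H i).map (((tS).truncLTι m).app X) ≫ (H i).map f := by
      rw [← Functor.map_comp, ← Functor.map_comp]
      exact congrArg _ (((tS).truncLTι m).naturality f)
    haveI : IsIso ((H i).map ((tS).truncLT m |>.map f) ≫ (H i).map (((tS).truncLTι m).app Y)) :=
      e ▸ inferInstance
    exact IsIso.of_isIso_comp_right _ ((H i).map (((tS).truncLTι m).app Y))
  · haveI : (((tS).truncLT m).obj X).IsLE (m - 1) := (tS).isLE_truncLT_obj ..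
    haveI : (((tS).truncLT m).obj Y).IsLE (m - 1) := (tS).isLE_truncLT_obj ..
    exact isIso_of_source_target_iso_zero _
      (DerivedCategory.isZero_of_isLE _ (m - 1) i (by omega)).isoZero
      (DerivedCategory.isZero_of_isLE _ (m - 1) i (by omega)).isoZero

lemma isIso_truncGE_map (m : ℤ) (h : ∀ i, m ≤ i → IsIso ((H i).map f)) :
    IsIso ((tS).truncGE m |>.map f) := by
  refine (DerivedCategory.isIso_iff _ _).2 fun i => ?_
  by_cases hi : m ≤ i
  · haveI := isIso_map_truncGEπ m i hi X
    haveI := isIso_map_truncGEπ m i hi Y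
    haveI := h i hi
    have e : (H i).map (((tS).truncGEπ m).app X) ≫ (H i).map ((tS).truncGE m |>.map f) =
        (H i).map f ≫ (H i).map (((tS).truncGEπ m).app Y) := by
      rw [← Functor.map_comp, ← Functor.map_comp]
      exact congrArg _ (((tS).truncGEπ m).naturality f).symm
    haveI : IsIso ((H i).map (((tS).truncGEπ m).app X) ≫ (H i).map ((tS).truncGE m |>.map f)) :=
      e ▸ inferInstance
    exact IsIso.of_isIso_comp_left ((H i).map (((tS).truncGEπ m).app X)) _
  · haveI : (((tS).truncGE m).obj X).IsGE m := (tS).isGE_truncGE_obj ..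
    haveI : (((tS).truncGE m).obj Y).IsGE m := (tS).isGE_truncGE_obj ..
    exact isIso_of_source_target_iso_zero _
      (DerivedCategory.isZero_of_isGE _ m i (by omega)).isoZero
      (DerivedCategory.isZero_of_isGE _ m i (by omega)).isoZero

end Trunc

section Ring

variable {R : CommRingCat.{u}}

lemma isZero_hn_kosz : ∀ (fs : List R) (i : ℤ), 0 < i → IsZero ((Hn i).obj (kosz fs))
  | [], i, hi => IsZero.of_iso (DerivedCategory.isZero_of_isLE ((DerivedCategory.singleFunctor (ModuleCat.{u} R) 0).obj (ModuleCat.of R R)) 0 i hi)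
      ((Hn i).mapIso koszNilIso)
  | f :: l, i, hi => by
    obtain ⟨q, d, hT⟩ := exists_kosz_triangle f l
    exact (DerivedCategory.HomologySequence.exact₃ _ hT i (i + 1) rfl).isZero_of_both_zeros
      ((isZero_hn_kosz l i hi).eq_of_src _ _) ((isZero_hn_kosz l (i + 1) (by omega)).eq_of_tgt _ _)

end Ring

section Affine

variable {A : Type u} [CommRing A] (fs : List A)

instance preservesFiniteLimits_tilde_of (B : Type u) [CommRing B] :
    PreservesFiniteLimits (tilde.functor (CommRingCat.of B)) :=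
  Groth.Agent.QCoh.tilde_preservesFiniteLimits

lemma additive_tilde (S : CommRingCat.{u}) : (tilde.functor S).Additive := inferInstance

lemma faithful_tilde (S : CommRingCat.{u}) : (tilde.functor S).Faithful := inferInstance

instance additive_tilde_of (B : Type u) [CommRing B] :
    (tilde.functor (CommRingCat.of B)).Additive := additive_tilde _

instance faithful_tilde_of (B : Type u) [CommRing B] :
    (tilde.functor (CommRingCat.of B)).Faithful := faithful_tilde _

lemma finiteColimits_tilde (S : CommRingCat.{u}) : PreservesFiniteColimits (tilde.functor S) :=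
  inferInstance

instance finiteColimits_tilde_of (B : Type u) [CommRing B] :
    PreservesFiniteColimits (tilde.functor (CommRingCat.of B)) := finiteColimits_tilde _

/-- The inclusion of the punctured spectrum. -/
noncomputable abbrev jPunct : (LocCoh.puncturedOpen A (Ideal.span {a | a ∈ fs}) : Scheme.{u}) ⟶
    Spec (CommRingCat.of A) :=
  (LocCoh.puncturedOpen A (Ideal.span {a | a ∈ fs})).ι

/-- The Koszul object on the spectrum. -/
noncomputable abbrev koszS : DCoh.D (Spec (CommRingCat.of A)) :=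
  (DCoh.tildeD (CommRingCat.of A)).obj (DerivedCategory.Q.obj (Koszul.koszul A fs))

lemma supp_kosz : Supp (koszS fs) (Set.range (jPunct fs).base)ᶜ := by
  classical
  have h : (Set.range (jPunct fs).base)ᶜ = PrimeSpectrum.zeroLocus (fs.toFinset : Set A) := by
    rw [Scheme.Opens.range_ι]
    change (PrimeSpectrum.zeroLocus (Ideal.span {a | a ∈ fs} : Set A))ᶜᶜ = _
    rw [compl_compl, PrimeSpectrum.zeroLocus_span, List.coe_toFinset]
  rw [h]
  exact (supp_tilde_iff (R := CommRingCat.of A) _ fs.toFinset).2 fun f hf =>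
    tors_kosz (R := CommRingCat.of A) fs f (List.mem_toFinset.1 hf)

/-- The Koszul object detects, degree by degree. -/
lemma kosz_spec_detects {E : DCoh.D (Spec (CommRingCat.of A))} (hE : DCoh.IsQCohD E) (hET : Supp E (Set.range (jPunct fs).base)ᶜ)
    (n : ℤ) (h : ∀ φ : (koszS fs)⟦n⟧ ⟶ E, φ = 0) : IsZero (DCoh.HD E (-n)) := by
  classical
  have hU : (Set.range (jPunct fs).base)ᶜ = PrimeSpectrum.zeroLocus (fs.toFinset : Set A) := by
    rw [Scheme.Opens.range_ι]
    change (PrimeSpectrum.zeroLocus (Ideal.span {a | a ∈ fs} : Set A))ᶜᶜ = _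
    rw [compl_compl, PrimeSpectrum.zeroLocus_span, List.coe_toFinset]
  obtain ⟨M, ⟨e⟩⟩ := exists_tildeD_iso hE
  have hM := (supp_tilde_iff (R := CommRingCat.of A) M fs.toFinset).1 (hU ▸ hET.of_iso e.symm)
  refine IsZero.of_iso ((tilde.functor (CommRingCat.of A)).map_isZero
      (kosz_detects (R := CommRingCat.of A) fs M (fun f hf => hM f (List.mem_toFinset.2 hf)) n
        fun φ => ?_))
    ((DerivedCategory.homologyFunctor _ (-n)).mapIso e.symm ≪≫
      (mapDCHomologyIso (tilde.functor (CommRingCat.of A)) (-n)).app M)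
  refine (tildeD_map_bijective ((kosz (R := CommRingCat.of A) fs)⟦n⟧) M).1 ?_
  rw [Functor.map_zero, ← cancel_epi (((DCoh.tildeD (CommRingCat.of A)).commShiftIso n).app _).inv,
    ← cancel_mono e.hom]
  simpa [Category.assoc] using h ((((DCoh.tildeD (CommRingCat.of A)).commShiftIso n).app _).inv ≫
    (DCoh.tildeD (CommRingCat.of A)).map φ ≫ e.hom)

/-- Maps out of the Koszul object only see finitely many degrees. -/
lemma kosz_spec_hom_zero {E : DCoh.D (Spec (CommRingCat.of A))} (hE : DCoh.IsQCohD E) (m : ℤ)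
    (h : ∀ i : ℤ, m - fs.length ≤ i → i ≤ m → IsZero (DCoh.HD E i)) (φ : (koszS fs)⟦-m⟧ ⟶ E) : φ = 0 := by
  obtain ⟨M, ⟨e⟩⟩ := exists_tildeD_iso hE
  let e' := ((DCoh.tildeD (CommRingCat.of A)).commShiftIso (-m)).app (kosz (R := CommRingCat.of A) fs)
  obtain ⟨ψ, hψ⟩ := (tildeD_map_bijective ((kosz (R := CommRingCat.of A) fs)⟦-m⟧) M).2
    (e'.hom ≫ φ ≫ e.inv)
  have hM : ∀ i : ℤ, m - fs.length ≤ i → i ≤ m → IsZero ((Hn i).obj M) := fun i h₁ h₂ => by
    have h' : IsZero ((tilde.functor (CommRingCat.of A)).obj ((Hn i).obj M)) :=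
      (h i h₁ h₂).of_iso (((mapDCHomologyIso (tilde.functor (CommRingCat.of A)) i).app M).symm ≪≫
        (DerivedCategory.homologyFunctor _ i).mapIso e)
    rw [IsZero.iff_id_eq_zero] at h' ⊢
    exact (tilde.functor (CommRingCat.of A)).map_injective (by rw [CategoryTheory.Functor.map_id,
      Functor.map_zero, h'])
  let ε := (shiftFunctorCompIsoId (Dual.D (CommRingCat.of A)) (-m) m (by omega)).app (kosz fs)
  have h0 : ε.inv ≫ ψ⟦m⟧' = 0 := kosz_hom_zero fs _ (fun i h₁ h₂ =>
    (hM (m + i) (by omega) (by omega)).of_iso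
      (((DerivedCategory.homologyFunctor (ModuleCat.{u} (CommRingCat.of A)) 0).shiftIso m i (m + i) rfl).app M)) _
  have hψ0 : ψ = 0 := (shiftFunctor (Dual.D (CommRingCat.of A)) m).map_injective (by
    rw [Functor.map_zero, ← cancel_epi ε.inv, comp_zero]; exact h0)
  rw [← cancel_mono e.inv, ← cancel_epi e'.hom, ← hψ, hψ0]
  simp

lemma quasiCompact_punctured : QuasiCompact (jPunct fs) := by
  classical
  have hc : IsCompact ((LocCoh.puncturedOpen A (Ideal.span {a | a ∈ fs}) : ((Spec (CommRingCat.of A))).Opens) : Set ((Spec (CommRingCat.of A)))) := by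
    refine (PrimeSpectrum.isCompact_isOpen_iff.2 ⟨fs.toFinset, ?_⟩).1
    change _ = (PrimeSpectrum.zeroLocus (Ideal.span {a | a ∈ fs} : Set A))ᶜ
    rw [PrimeSpectrum.zeroLocus_span, List.coe_toFinset]
  exact (HasAffineProperty.iff_of_isAffine (P := @QuasiCompact)).2 (isCompact_iff_compactSpace.1 hc)

variable [DCoh.HasRpush (jPunct fs)]

/-- No maps from the Koszul object to direct images from the punctured spectrum. -/
lemma kosz_hom_rpush {M : DCoh.D (LocCoh.puncturedOpen A (Ideal.span {a | a ∈ fs}) : Scheme.{u})}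
    (n k : ℤ) (φ : (koszS fs)⟦n⟧ ⟶ ((DCoh.Rpush (jPunct fs)).obj M)⟦k⟧) : φ = 0 := by
  let S := shiftFunctorCompIsoId (DCoh.D (Spec (CommRingCat.of A))) k (-k) (by omega)
  have h := eq_zero_of_rho_isZero (jPunct fs) (A := ((koszS fs)⟦n⟧)⟦-k⟧)
    ((isZero_rho_iff _ _).2 (((supp_kosz fs).shift n).shift (-k)))
    (φ⟦-k⟧' ≫ S.hom.app ((DCoh.Rpush (jPunct fs)).obj M))
  refine (shiftFunctor (DCoh.D (Spec (CommRingCat.of A))) (-k)).map_injective ?_
  rw [Functor.map_zero, ← cancel_mono (S.hom.app ((DCoh.Rpush (jPunct fs)).obj M)), zero_comp]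
  exact h

lemma kosz_hom_rpush₀ {M : DCoh.D (LocCoh.puncturedOpen A (Ideal.span {a | a ∈ fs}) : Scheme.{u})}
    (n : ℤ) (φ : (koszS fs)⟦n⟧ ⟶ (DCoh.Rpush (jPunct fs)).obj M) : φ = 0 := by
  let S := (shiftFunctorZero (DCoh.D (Spec (CommRingCat.of A))) ℤ).app ((DCoh.Rpush (jPunct fs)).obj M)
  rw [← cancel_mono S.inv, zero_comp]
  exact kosz_hom_rpush fs n 0 _

variable (adj : KFlatLib.rho (jPunct fs) ⊣ DCoh.Rpush (jPunct fs))

/-- Orthogonality in a degree kills the local cohomology in that degree. -/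
lemma exists_unit_fibre {E : DCoh.D (Spec (CommRingCat.of A))} (hE : DCoh.IsQCohD E) :
    ∃ (C : DCoh.D (Spec (CommRingCat.of A))) (i : C ⟶ E) (d : (DCoh.Rpush (jPunct fs)).obj ((KFlatLib.rho (jPunct fs)).obj E) ⟶ C⟦(1 : ℤ)⟧),
      Triangle.mk i (adj.unit.app E) d ∈ distTriang _ ∧
        ∀ n : ℤ, (∀ φ : (koszS fs)⟦-n⟧ ⟶ E, φ = 0) → IsZero (DCoh.HD C n) := by
  haveI : IsIso adj.counit := adj.isIso_counit_of_iso (nonempty_rpush_restrictD_self (jPunct fs)).some
  have hu : IsIso ((KFlatLib.rho (jPunct fs)).map (adj.unit.app E)) :=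
    @IsIso.of_isIso_fac_right _ _ _ _ _ _ _ _ inferInstance (IsIso.id _)
      (adj.left_triangle_components E)
  haveI := quasiCompact_punctured fs
  obtain ⟨C, i, d, hT⟩ := distinguished_cocone_triangle₁ (adj.unit.app E)
  have hS : Supp C (Set.range (jPunct fs).base)ᶜ := (isZero_rho_iff (jPunct fs) C).1
    ((Triangle.isZero₁_iff_isIso₂ _ ((KFlatLib.rho (jPunct fs)).map_distinguished _ hT)).2 hu)
  have hq : DCoh.IsQCohD C := isQCohD_obj₁ hT hE (isQCohD_rpush _ (isQCohD_rho _ hE))
  refine ⟨C, i, d, hT, fun n hn => ?_⟩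
  have := kosz_spec_detects fs hq hS (-n) fun φ => by
    obtain ⟨χ, hχ⟩ := Triangle.coyoneda_exact₂ _ (inv_rot_of_distTriang _ hT) φ (hn _)
    exact hχ.trans (by erw [kosz_hom_rpush fs (-n) (-1) χ, zero_comp])
  rwa [neg_neg] at this

end Affine

end Groth.Agent.PerfGen7
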