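import Mathlib

/-!
The total complex functor sends morphisms of bounded below double complexes which are
quasi-isomorphisms on every row to quasi-isomorphisms.
-/

set_option autoImplicit false
set_option backward.isDefEq.respectTransparency false
universe v u

open CategoryTheory Limits

namespace Groth.Agent.PerfGen7.DoubleQis

variable {A : Type u} [Category.{v} A] [Abelian A]

lemma cone_row {X Y : CochainComplex A ℤ} (f : X ⟶ Y) [QuasiIso f] (p₀ p₁ p₂ p₃ : ℤ)
    (h₁ : p₀ + 1 = p₁) (h₂ : p₁ + 1 = p₂) (h₃ : p₂ + 1 = p₃) {T : A} (z : T ⟶ X.X p₂)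
    (hz : z ≫ X.d p₂ p₃ = 0) (w : T ⟶ Y.X p₁) (hw : z ≫ f.f p₂ = w ≫ Y.d p₁ p₂) :
    ∃ (T' : A) (e : T' ⟶ T) (_ : Epi e) (u : T' ⟶ X.X p₁) (v : T' ⟶ Y.X p₀),
      e ≫ z = u ≫ X.d p₁ p₂ ∧ e ≫ w = u ≫ f.f p₁ + v ≫ Y.d p₀ p₁ := by
  have prev₁ : (ComplexShape.up ℤ).prev p₂ = p₁ := (ComplexShape.up ℤ).prev_eq' h₂
  have next₁ : (ComplexShape.up ℤ).next p₂ = p₃ := (ComplexShape.up ℤ).next_eq' h₃
  have prev₂ : (ComplexShape.up ℤ).prev p₁ = p₀ := (ComplexShape.up ℤ).prev_eq' h₁
  have next₂ : (ComplexShape.up ℤ).next p₁ = p₂ := (ComplexShape.up ℤ).next_eq' h₂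
  obtain ⟨T₁, e₁, _, u₀, hu₀⟩ :=
    (HomologicalComplex.mono_homologyMap_iff_up_to_refinements f p₁ p₂ p₃ prev₁ next₁).1
      inferInstance z hz w hw
  obtain ⟨T₂, e₂, _, c, hc, v, hv⟩ :=
    (HomologicalComplex.epi_homologyMap_iff_up_to_refinements f p₀ p₁ p₂ prev₂ next₂).1
      inferInstance (e₁ ≫ w - u₀ ≫ f.f p₁) (by
        rw [Preadditive.sub_comp, Category.assoc, Category.assoc, ← hw, f.comm, ← Category.assoc e₁,
          hu₀, Category.assoc, sub_self])
  refine ⟨T₂, e₂ ≫ e₁, epi_comp _ _, e₂ ≫ u₀ + c, v, ?_, ?_⟩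
  · rw [Category.assoc, hu₀, Preadditive.add_comp, hc, add_zero, Category.assoc]
  · rw [Preadditive.comp_sub, sub_eq_iff_eq_add] at hv
    rw [Category.assoc, hv, Preadditive.add_comp, Category.assoc]
    abel

variable (K : HomologicalComplex₂ A (ComplexShape.up ℤ) (ComplexShape.up ℤ)) [K.HasTotal (ComplexShape.up ℤ)]

noncomputable abbrev Tot : CochainComplex A ℤ := K.total (ComplexShape.up ℤ)

noncomputable abbrev ι (p q n : ℤ) (h : p + q = n) : (K.X p).X q ⟶ (Tot K).X n :=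
  K.ιTotal (ComplexShape.up ℤ) p q n h

/-- The projection to a component. -/
noncomputable def π (p q n : ℤ) : (Tot K).X n ⟶ (K.X p).X q :=
  K.totalDesc (c₁₂ := ComplexShape.up ℤ) fun i j _ =>
    if h : i = p ∧ j = q then (K.XXIsoOfEq _ _ _ h.1 h.2).hom else 0

lemma ι_π (p q n : ℤ) (h : p + q = n) : ι K p q n h ≫ π K p q n = 𝟙 _ := by
  simp [ι, π]

lemma ι_π_ne (i j p q n : ℤ) (h : i + j = n) (h' : ¬ (i = p ∧ j = q)) :
    ι K i j n h ≫ π K p q n = 0 := by
  simp only [ι, π, HomologicalComplex₂.ι_totalDesc, dif_neg h']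

/-- The row `p ↦ K^{p,q}`. -/
abbrev row (q : ℤ) : CochainComplex A ℤ :=
  ((HomologicalComplex.eval A (ComplexShape.up ℤ) q).mapHomologicalComplex (ComplexShape.up ℤ)).obj K

lemma ι_d (p q n : ℤ) (h : p + q = n) (n' : ℤ) (h' : n + 1 = n') :
    ι K p q n h ≫ (Tot K).d n n' = (K.d p (p + 1)).f q ≫ ι K (p + 1) q n' (by omega) +
      p.negOnePow • ((K.X p).d q (q + 1) ≫ ι K p (q + 1) n' (by omega)) := by
  show K.ιTotal (ComplexShape.up ℤ) p q n h ≫
    (K.D₁ (ComplexShape.up ℤ) n n' + K.D₂ (ComplexShape.up ℤ) n n') = _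
  rw [Preadditive.comp_add, HomologicalComplex₂.ι_D₁, HomologicalComplex₂.ι_D₂,
    K.d₁_eq (ComplexShape.up ℤ) (show (ComplexShape.up ℤ).Rel p (p + 1) from rfl) q n'
      (show p + 1 + q = n' by omega),
    K.d₂_eq (ComplexShape.up ℤ) p (show (ComplexShape.up ℤ).Rel q (q + 1) from rfl) n'
      (show p + (q + 1) = n' by omega)]
  simp only [ComplexShape.ε₁_def, one_smul]
  rfl

lemma d_π (p q n n' : ℤ) (h : n + 1 = n') (hpq : p + q = n') :
    (Tot K).d n n' ≫ π K p q n' = π K (p - 1) q n ≫ (K.d (p - 1) p).f q +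
      p.negOnePow • (π K p (q - 1) n ≫ (K.X p).d (q - 1) q) := by
  refine HomologicalComplex₂.total.hom_ext _ fun i j hij => ?_
  have hij' : i + j = n := hij
  change ι K i j n hij' ≫ _ = ι K i j n hij' ≫ _
  rw [← Category.assoc, ι_d K i j n hij' n' h, Preadditive.add_comp, Preadditive.comp_add,
    Linear.units_smul_comp, Linear.comp_units_smul]
  congr 1
  · by_cases h1 : i = p - 1 ∧ j = q
    · obtain ⟨h1i, h1j⟩ := h1
      subst h1j
      obtain rfl : p = i + 1 := by omega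
      rw [show i + 1 - 1 = i by omega, Category.assoc, reassoc_of% ι_π K, ι_π K, Category.comp_id]
    · rw [Category.assoc, ι_π_ne K (i + 1) j p q n' _ (by omega), comp_zero,
        ← Category.assoc, ι_π_ne K i j (p - 1) q n _ h1, zero_comp]
  · by_cases h2 : i = p ∧ j = q - 1
    · obtain ⟨h2i, h2j⟩ := h2
      subst h2i
      obtain rfl : q = j + 1 := by omega
      rw [show j + 1 - 1 = j by omega, Category.assoc, reassoc_of% ι_π K, ι_π K, Category.comp_id]
    · rw [Category.assoc, ι_π_ne K i (j + 1) p q n' _ (by omega), comp_zero,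
        ← Category.assoc, ι_π_ne K i j p (q - 1) n _ h2, zero_comp]
      simp

/-- An element is killed by the projections to the rows below `m`. -/
def Below {T : A} {n : ℤ} (x : T ⟶ (Tot K).X n) (m : ℤ) : Prop :=
  ∀ p q, p + q = n → q < m → x ≫ π K p q n = 0

variable {K}

lemma eq_zero_of_below (a b : ℤ) (hK : ∀ p q : ℤ, p < a ∨ q < b → IsZero ((K.X p).X q)) {T : A} {n : ℤ}
    (x : T ⟶ (Tot K).X n) (m : ℤ) (hx : Below K x m) (hm : n - a < m) : x = 0 := by
  classical
  have key : 𝟙 ((Tot K).X n) =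
      ∑ q ∈ Finset.Icc b (n - a), π K (n - q) q n ≫ ι K (n - q) q n (by omega) := by
    refine HomologicalComplex₂.total.hom_ext _ fun i j hij => ?_
    have hij' : i + j = n := hij
    by_cases hz : i < a ∨ j < b
    · exact (hK i j hz).eq_of_src _ _
    change ι K i j n hij' ≫ _ = ι K i j n hij' ≫ _
    rw [Category.comp_id, Preadditive.comp_sum, Finset.sum_eq_single j]
    · obtain rfl : i = n - j := by omega
      rw [reassoc_of% ι_π K]
    · intro q _ hq
      rw [← Category.assoc, ι_π_ne K i j (n - q) q n hij' (fun h => hq h.2.symm), zero_comp]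
    · intro hj
      exact absurd (Finset.mem_Icc.2 (by omega)) hj
  rw [← Category.comp_id x, key, Preadditive.comp_sum]
  refine Finset.sum_eq_zero fun q hq => ?_
  rw [← Category.assoc, hx (n - q) q (by omega) (by rw [Finset.mem_Icc] at hq; omega), zero_comp]

variable (L : HomologicalComplex₂ A (ComplexShape.up ℤ) (ComplexShape.up ℤ)) [L.HasTotal (ComplexShape.up ℤ)] (φ : K ⟶ L)

/-- The map of total complexes. -/
noncomputable abbrev mapT : Tot K ⟶ Tot L := HomologicalComplex₂.total.map φ (ComplexShape.up ℤ)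

lemma mapT_π (p q n : ℤ) (h : p + q = n) :
    (mapT L φ).f n ≫ π L p q n = π K p q n ≫ (φ.f p).f q := by
  refine HomologicalComplex₂.total.hom_ext _ fun i j hij => ?_
  have hij' : i + j = n := hij
  change ι K i j n hij' ≫ _ = ι K i j n hij' ≫ _
  rw [HomologicalComplex₂.ιTotal_map_assoc]
  by_cases h' : i = p ∧ j = q
  · obtain ⟨rfl, rfl⟩ := h'
    rw [reassoc_of% ι_π K]
    exact (congrArg (_ ≫ ·) (ι_π L i j n hij')).trans (Category.comp_id _)
  · rw [reassoc_of% ι_π_ne K i j p q n hij' h', zero_comp]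
    exact (congrArg (_ ≫ ·) (ι_π_ne L i j p q n hij' h')).trans comp_zero

/-- The row morphism. -/
abbrev rowMap (q : ℤ) : row K q ⟶ row L q :=
  ((HomologicalComplex.eval A (ComplexShape.up ℤ) q).mapHomologicalComplex (ComplexShape.up ℤ)).map φ

lemma cone_total (a b : ℤ) (hK : ∀ p q : ℤ, p < a ∨ q < b → IsZero ((K.X p).X q))
    (hL : ∀ p q : ℤ, p < a ∨ q < b → IsZero ((L.X p).X q))
    (hrow : ∀ q, QuasiIso (rowMap L φ q)) (n₀ n₁ n₂ n₃ : ℤ)
    (h₁ : n₀ + 1 = n₁) (h₂ : n₁ + 1 = n₂) (h₃ : n₂ + 1 = n₃) :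
    ∀ (k : ℕ) (m : ℤ), n₂ - a + 1 ≤ m + k → ∀ {T : A} (z : T ⟶ (Tot K).X n₂)
      (w : T ⟶ (Tot L).X n₁), z ≫ (Tot K).d n₂ n₃ = 0 →
      z ≫ (mapT L φ).f n₂ = w ≫ (Tot L).d n₁ n₂ → Below K z m → Below L w m →
      ∃ (T' : A) (e : T' ⟶ T) (_ : Epi e) (u : T' ⟶ (Tot K).X n₁) (v : T' ⟶ (Tot L).X n₀),
        e ≫ z = u ≫ (Tot K).d n₁ n₂ ∧ e ≫ w = u ≫ (mapT L φ).f n₁ + v ≫ (Tot L).d n₀ n₁ := by
  intro k
  induction k with
  | zero =>
    intro m hm T z w _ _ hz hw
    refine ⟨T, 𝟙 T, inferInstance, 0, 0, ?_, ?_⟩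
    · rw [eq_zero_of_below a b hK z m hz (by omega), comp_zero, zero_comp]
    · rw [eq_zero_of_below a b hL w m hw (by omega), comp_zero, zero_comp, zero_comp, add_zero]
  | succ k ih =>
    intro m hm T z w hdz hzw hz hw
    have cz : (z ≫ π K (n₂ - m) m n₂) ≫ (K.d (n₂ - m) (n₃ - m)).f m = 0 := by
      have := congrArg (· ≫ π K (n₃ - m) m n₃) hdz
      simp only [Category.assoc, zero_comp] at this
      rw [d_π K (n₃ - m) m n₂ n₃ h₃ (by omega), Preadditive.comp_add, Linear.comp_units_smul,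
        reassoc_of% hz (n₃ - m) (m - 1) (by omega) (by omega), zero_comp, smul_zero, add_zero,
        show n₃ - m - 1 = n₂ - m by omega] at this
      rwa [Category.assoc]
    have cw : (z ≫ π K (n₂ - m) m n₂) ≫ (rowMap L φ m).f (n₂ - m) =
        (w ≫ π L (n₁ - m) m n₁) ≫ (L.d (n₁ - m) (n₂ - m)).f m := by
      have := congrArg (· ≫ π L (n₂ - m) m n₂) hzw
      simp only [Category.assoc] at this
      rw [mapT_π L φ (n₂ - m) m n₂ (by omega), d_π L (n₂ - m) m n₁ n₂ h₂ (by omega),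
        Preadditive.comp_add, Linear.comp_units_smul,
        reassoc_of% hw (n₂ - m) (m - 1) (by omega) (by omega), zero_comp, smul_zero, add_zero,
        show n₂ - m - 1 = n₁ - m by omega] at this
      rw [Category.assoc, Category.assoc]
      exact this
    have := hrow m
    obtain ⟨T₁, e, _, u, v, hu, hv⟩ := cone_row (rowMap L φ m) (n₀ - m) (n₁ - m) (n₂ - m) (n₃ - m)
      (by omega) (by omega) (by omega) _ cz _ cw
    let U := u ≫ ι K (n₁ - m) m n₁ (by omega)
    let V := v ≫ ι L (n₀ - m) m n₀ (by omega)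
    obtain ⟨T₂, e₂, _, u', v', hu', hv'⟩ := ih (m + 1) (by omega)
      (e ≫ z - U ≫ (Tot K).d n₁ n₂) (e ≫ w - (U ≫ (mapT L φ).f n₁ + V ≫ (Tot L).d n₀ n₁))
      (by simp [hdz])
      (by
        simp only [Preadditive.sub_comp, Preadditive.add_comp, Category.assoc, hzw,
          HomologicalComplex.d_comp_d, comp_zero, add_zero, (mapT L φ).comm n₁ n₂])
      (by
        intro p q hpq hq
        have hd : U ≫ (Tot K).d n₁ n₂ ≫ π K p q n₂ =
            u ≫ (ι K (n₁ - m) m n₁ (by omega) ≫ π K (p - 1) q n₁) ≫ (K.d (p - 1) p).f q +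
            p.negOnePow • (u ≫ (ι K (n₁ - m) m n₁ (by omega) ≫ π K p (q - 1) n₁) ≫ (K.X p).d (q - 1) q) := by
          simp only [U, d_π K p q n₁ n₂ h₂ hpq, Preadditive.comp_add, Linear.comp_units_smul, Category.assoc]
        rw [Preadditive.sub_comp, Category.assoc, Category.assoc, hd,
          ι_π_ne K _ _ p (q - 1) n₁ _ (by omega)]
        rcases lt_or_eq_of_le (show q ≤ m by omega) with hq' | hq'
        · rw [hz p q hpq hq', ι_π_ne K _ _ (p - 1) q n₁ _ (by omega)]
          simp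
        · subst hq'
          obtain rfl : p = n₂ - q := by omega
          obtain rfl : n₂ = n₁ + 1 := h₂.symm
          rw [show n₁ + 1 - q - 1 = n₁ - q by omega, ι_π K]
          simp only [zero_comp, comp_zero, smul_zero, add_zero, Category.id_comp]
          rw [sub_eq_zero]
          exact hu.trans (congrArg (u ≫ ·) (Category.id_comp _).symm))
      (by
        intro p q hpq hq
        have hd : V ≫ (Tot L).d n₀ n₁ ≫ π L p q n₁ =
            v ≫ (ι L (n₀ - m) m n₀ (by omega) ≫ π L (p - 1) q n₀) ≫ (L.d (p - 1) p).f q +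
            p.negOnePow • (v ≫ (ι L (n₀ - m) m n₀ (by omega) ≫ π L p (q - 1) n₀) ≫ (L.X p).d (q - 1) q) := by
          simp only [V, d_π L p q n₀ n₁ h₁ hpq, Preadditive.comp_add, Linear.comp_units_smul, Category.assoc]
        have hm' : U ≫ (mapT L φ).f n₁ ≫ π L p q n₁ =
            u ≫ (ι K (n₁ - m) m n₁ (by omega) ≫ π K p q n₁) ≫ (φ.f p).f q := by
          simp only [U, mapT_π L φ p q n₁ hpq, Category.assoc]
        rw [Preadditive.sub_comp, Preadditive.add_comp, Category.assoc e, Category.assoc U,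
          Category.assoc V, hd, hm', ι_π_ne L _ _ p (q - 1) n₀ _ (by omega)]
        rcases lt_or_eq_of_le (show q ≤ m by omega) with hq' | hq'
        · rw [hw p q hpq hq', ι_π_ne L _ _ (p - 1) q n₀ _ (by omega),
            ι_π_ne K _ _ p q n₁ _ (by omega)]
          simp
        · subst hq'
          obtain rfl : p = n₁ - q := by omega
          obtain rfl : n₁ = n₀ + 1 := h₁.symm
          rw [show n₀ + 1 - q - 1 = n₀ - q by omega, ι_π L, ι_π K]
          simp only [zero_comp, comp_zero, smul_zero, add_zero, Category.id_comp]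
          rw [sub_eq_zero]
          exact hv.trans (congrArg₂ (· + ·) (congrArg (u ≫ ·) (Category.id_comp _).symm)
            (congrArg (v ≫ ·) (Category.id_comp _).symm)))
    refine ⟨T₂, e₂ ≫ e, epi_comp _ _, u' + e₂ ≫ U, v' + e₂ ≫ V, ?_, ?_⟩
    · rw [Preadditive.comp_sub, sub_eq_iff_eq_add] at hu'
      rw [Category.assoc, hu', Preadditive.add_comp]
      simp only [U, Category.assoc]
    · rw [Preadditive.comp_sub, sub_eq_iff_eq_add] at hv'
      simp only [U, V, Category.assoc, Preadditive.comp_add, Preadditive.add_comp] at hv' ⊢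
      rw [hv']
      abel

lemma below_bot (a b : ℤ) (hK : ∀ p q : ℤ, p < a ∨ q < b → IsZero ((K.X p).X q)) {T : A} {n : ℤ}
    (x : T ⟶ (Tot K).X n) : Below K x b :=
  fun p q _ hq => (hK p q (Or.inr hq)).eq_of_tgt _ _

/-- Row-wise quasi-isomorphisms of bounded below double complexes give a quasi-isomorphism of totals. -/
theorem quasiIso_total (a b : ℤ) (hK : ∀ p q : ℤ, p < a ∨ q < b → IsZero ((K.X p).X q))
    (hL : ∀ p q : ℤ, p < a ∨ q < b → IsZero ((L.X p).X q))
    (hrow : ∀ q, QuasiIso (rowMap L φ q)) : QuasiIso (mapT L φ) := by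
  rw [quasiIso_iff]
  intro n
  rw [quasiIsoAt_iff_isIso_homologyMap]
  have hk : ∀ n₂ : ℤ, ∃ k : ℕ, n₂ - a + 1 ≤ b + k := fun n₂ => ⟨(n₂ - a + 1 - b).toNat, by omega⟩
  have hm : Mono (HomologicalComplex.homologyMap (mapT L φ) n) := by
    rw [HomologicalComplex.mono_homologyMap_iff_up_to_refinements _ (n - 1) n (n + 1)
      ((ComplexShape.up ℤ).prev_eq' (show n - 1 + 1 = n by omega))
      ((ComplexShape.up ℤ).next_eq' (show n + 1 = n + 1 from rfl))]
    intro T z hz y hy
    obtain ⟨k, hk⟩ := hk n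
    obtain ⟨T', e, he, u, -, hu, -⟩ := cone_total L φ a b hK hL hrow (n - 2) (n - 1) n (n + 1)
      (by omega) (by omega) rfl k b hk z y hz hy (below_bot a b hK z) (below_bot a b hL y)
    exact ⟨T', e, he, u, hu⟩
  have hep : Epi (HomologicalComplex.homologyMap (mapT L φ) n) := by
    rw [HomologicalComplex.epi_homologyMap_iff_up_to_refinements _ (n - 1) n (n + 1)
      ((ComplexShape.up ℤ).prev_eq' (show n - 1 + 1 = n by omega))
      ((ComplexShape.up ℤ).next_eq' (show n + 1 = n + 1 from rfl))]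
    intro T w hw
    obtain ⟨k, hk⟩ := hk (n + 1)
    obtain ⟨T', e, he, u, v, hu, hv⟩ := cone_total L φ a b hK hL hrow (n - 1) n (n + 1) (n + 2)
      (by omega) rfl (by omega) k b hk (0 : T ⟶ _) w (by simp) (by simp [hw]) (below_bot a b hK _)
      (below_bot a b hL w)
    exact ⟨T', e, he, u, by simpa using hu.symm, v, hv⟩
  exact isIso_of_mono_of_epi _

end Groth.Agent.PerfGen7.DoubleQis
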