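import Groth.Agent.PerfGen7.Devissage
import Groth.Agent.KFlatLib.Scheme.RpushCoprodQCoh
import Groth.Agent.KFlatLib.Scheme.DQCohLimit
import Groth.Agent.KFlatLib.Scheme.LocalDevissage

/-!
# Perfect complexes are compact for families with quasi-coherent cohomology
-/

set_option linter.style.haveILetI false
set_option backward.isDefEq.respectTransparency false

universe u

open CategoryTheory CategoryTheory.Limits AlgebraicGeometry TopologicalSpace Pretriangulated

attribute [local instance] HasDerivedCategory.standard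

namespace Groth.Agent.PerfGen7

open Groth.Agent.KFlatLib

variable {X : Scheme.{u}}

/-- Finite supports may be tested after shifting the family. -/
lemma fixAt_shift {D : Type*} [Category D] [Preadditive D] [HasShift D ℤ]
    [∀ n : ℤ, (shiftFunctor D n).Additive] {J : Type u} (C : J → D) [HasCoproduct C] {A : D} (n : ℤ)
    [HasCoproduct fun j => (C j)⟦-n⟧]
    (h : FixAt (fun j => (C j)⟦-n⟧) A) : FixAt C (A⟦n⟧) := fun φ => by
  let G := shiftFunctor D (-n)
  haveI : IsIso (sigmaComparison G C) := inferInstance
  let d : A⟦n⟧⟦-n⟧ ≅ A := (shiftFunctorCompIsoId D n (-n) (by simp)).app A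
  obtain ⟨F, hF⟩ := h (d.inv ≫ G.map φ ≫ inv (sigmaComparison G C))
  refine ⟨F, G.map_injective ?_⟩
  rw [Functor.map_comp, ← IsIso.inv_hom_id_assoc (sigmaComparison G C) (G.map (partProj C F)),
    sigmaComparison_partProj C G F]
  have := congrArg (· ≫ sigmaComparison G C) hF
  simp only [Category.assoc, IsIso.inv_hom_id, Category.comp_id, cancel_epi] at this
  exact this

/-- Shifts of `j_! O_W`, `W` affine, only see finitely many summands. -/
lemma fix_secObj_affine {J : Type u} (C : J → DCoh.D X) [HasCoproduct C]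
    (hC : ∀ j, DCoh.IsQCohD (C j)) {W : X.Opens} (hW : IsAffineOpen W) :
    Fix C (DCoh.inD X (secObj W)) := fun n => by
  haveI : HasColimitsOfShape (Discrete J) (DCoh.D X) := TriCat.hasColimitsOfShape_derivedCategory
  refine fixAt_shift C n fun φ => ?_
  let C' := fun j => (C j)⟦-n⟧
  have hC' : ∀ j, DCoh.IsQCohD (C' j) := fun j => isQCohD_shift (hC j) (-n)
  let H := DerivedCategory.homologyFunctor X.Modules 0
  haveI := preservesColimit_homology C' 0
  haveI : IsIso (sigmaComparison H C') := inferInstance
  obtain ⟨F, hF⟩ := exists_fix_secObj (fun j => H.obj (C' j)) hW.isCompact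
    (psi W _ φ ≫ inv (sigmaComparison H C'))
  refine ⟨F, (bijH0_of_isQCohD (isQCohD_sigma C' hC') hW).1 ?_⟩
  rw [psi_comp]
  have := congrArg (· ≫ sigmaComparison H C') hF
  simp only [Category.assoc, ← sigmaComparison_partProj, IsIso.inv_hom_id, Category.comp_id] at this
  rw [IsIso.inv_hom_id_assoc] at this
  exact this

/-- Perfect complexes see only finitely many summands of families in `D_QCoh`. -/
theorem fix_of_isPerfect_qcoh [CompactSpace X] [QuasiSeparatedSpace X] {E : DCoh.D X}
    (hE : DCoh.IsPerfect E) {J : Type u} (C : J → DCoh.D X) [HasCoproduct C]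
    (hC : ∀ j, DCoh.IsQCohD (C j)) : Fix C E := by
  let Φ : ObjectProperty (DCoh.D X) := fun A => Fix C A
  haveI : Φ.IsClosedUnderIsomorphisms := ⟨fun e h => Fix.of_iso e h⟩
  haveI : Φ.IsTriangulated :=
    { exists_zero := (HasZeroObject.zero (C := DCoh.D X)).elim fun Z hZ => ⟨Z, hZ, fix_of_isZero hZ⟩
      isStableUnderShiftBy := fun a => ⟨fun A h => Fix.shift h a⟩
      ext₂' := fun T hT h₁ h₃ => ObjectProperty.le_isoClosure _ _ (fix_obj₂ hT h₁ h₃) }
  exact perfect_devissage Φ (fun V hV => fix_secObj_affine C hC hV) hE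

end Groth.Agent.PerfGen7
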