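import Groth.Agent.PerfGen7.GeneratorThm
import Groth.Agent.PerfGen7.CompactQCoh
import Groth.Agent.TriCat.DerivedCoproducts

/-!
# Compact objects of `D_QCoh` are perfect
-/

set_option linter.style.haveILetI false
set_option backward.isDefEq.respectTransparency false

universe u

open CategoryTheory CategoryTheory.Limits AlgebraicGeometry Pretriangulated ZeroObject

attribute [local instance] HasDerivedCategory.standard

namespace Groth.Agent.PerfGen7

open Groth.Agent.KFlatLib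

variable {X : Scheme.{u}}

/-- Morphisms in the derived category form small sets. -/
theorem small_hom (A B : DCoh.D X) : Small.{u} (A ⟶ B) := by
  have := Localization.essSurj (DerivedCategory.Qh (C := X.Modules))
    (HomotopyCategory.quasiIso X.Modules (ComplexShape.up ℤ))
  obtain ⟨K, ⟨eX⟩⟩ : ∃ K, Nonempty (DerivedCategory.Qh.obj K ≅ A) :=
    ⟨_, ⟨DerivedCategory.Qh.objObjPreimageIso A⟩⟩
  obtain ⟨L, ⟨eY⟩⟩ : ∃ L, Nonempty (DerivedCategory.Qh.obj L ≅ B) :=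
    ⟨_, ⟨DerivedCategory.Qh.objObjPreimageIso B⟩⟩
  obtain ⟨I, f, hI, hf⟩ := exists_kInjective_res (X := X) L.as
  have hw : IsIso (DerivedCategory.Qh.map ((HomotopyCategory.quotient X.Modules (.up ℤ)).map f)) :=
    (NatIso.isIso_map_iff (DerivedCategory.quotientCompQhIso X.Modules) f).2
      ((DerivedCategory.isIso_Q_map_iff_quasiIso (φ := f)).2 hf)
  have := hI
  have : Small.{u} (DerivedCategory.Qh.obj K ⟶
      DerivedCategory.Qh.obj ((HomotopyCategory.quotient X.Modules _).obj I)) :=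
    small_of_surjective (CochainComplex.IsKInjective.Qh_map_bijective K I).2
  obtain ⟨ew⟩ : Nonempty (DerivedCategory.Qh.obj L ≅
      DerivedCategory.Qh.obj ((HomotopyCategory.quotient X.Modules _).obj I)) := ⟨@asIso _ _ _ _ _ hw⟩
  exact small_of_surjective (f := fun g => eX.inv ≫ g ≫ ew.inv ≫ eY.hom)
    (fun g => ⟨eX.hom ≫ g ≫ eY.inv ≫ ew.hom, by simp⟩)

section Proj

variable {D : Type*} [Category D] [Preadditive D] {J : Type u} (M : J → D) [HasCoproduct M]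

/-- The projection onto a summand. -/
noncomputable def projAt (j : J) : ∐ M ⟶ M j :=
  haveI := Classical.decEq J
  Sigma.desc fun i => if h : i = j then eqToHom (congrArg M h) else 0

lemma ι_projAt_self (j : J) : Sigma.ι M j ≫ projAt M j = 𝟙 _ := by simp [projAt]

lemma ι_projAt_ne {i j : J} (h : i ≠ j) : Sigma.ι M i ≫ projAt M j = 0 := by simp [projAt, h]

lemma partProj_eq_sum (F : Finset J) : partProj M F = ∑ j ∈ F, projAt M j ≫ Sigma.ι M j := by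
  classical
  refine Sigma.hom_ext _ _ fun i => ?_
  rw [Preadditive.comp_sum]
  by_cases hi : i ∈ F
  · rw [ι_partProj_mem M hi, Finset.sum_eq_single i
      (fun b _ hb => by rw [← Category.assoc, ι_projAt_ne M (Ne.symm hb), zero_comp])
      (fun h => absurd hi h), ← Category.assoc, ι_projAt_self, Category.id_comp]
  · rw [ι_partProj_not_mem M hi]
    exact (Finset.sum_eq_zero fun b hb => by
      rw [← Category.assoc, ι_projAt_ne M (fun h : i = b => hi (h ▸ hb)), zero_comp]).symm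

lemma partProj_projAt {F : Finset J} {j : J} (h : j ∉ F) : partProj M F ≫ projAt M j = 0 := by
  rw [partProj_eq_sum, Preadditive.sum_comp]
  exact Finset.sum_eq_zero fun b hb => by
    rw [Category.assoc, ι_projAt_ne M (fun e : b = j => h (e ▸ hb)), comp_zero]

end Proj

/-- Partial sums stay inside a triangulated subcategory. -/
lemma exists_prop_partProj (Φ : ObjectProperty (DCoh.D X)) [Φ.IsTriangulated]
    [Φ.IsClosedUnderIsomorphisms] {J : Type u} (M : J → DCoh.D X) [HasCoproduct M]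
    (hM : ∀ j, Φ (M j)) (F : Finset J) :
    ∃ (A : DCoh.D X) (r : ∐ M ⟶ A) (i : A ⟶ ∐ M), Φ A ∧ r ≫ i = partProj M F := by
  classical
  induction F using Finset.induction with
  | empty => exact ⟨0, 0, 0, Φ.prop_of_isZero (isZero_zero _), by simp [partProj_eq_sum]⟩
  | @insert j F hj ih =>
    obtain ⟨A, r, i, hA, hri⟩ := ih
    refine ⟨M j ⊞ A, biprod.lift (projAt M j) r, biprod.desc (Sigma.ι M j) i,
      Φ.ext_of_isTriangulatedClosed₂ _ (binaryBiproductTriangle_distinguished _ _) (hM j) hA, ?_⟩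
    rw [biprod.lift_desc, hri, partProj_eq_sum, partProj_eq_sum, Finset.sum_insert hj]

/-- Perfect objects supported in `T`. -/
def PS (T : Set X) : ObjectProperty (DCoh.D X) := fun A => DCoh.IsPerfect A ∧ Supp A T

instance (T : Set X) : (PS T).IsClosedUnderIsomorphisms :=
  ⟨fun e h => ⟨isPerfect_of_iso' e h.1, h.2.of_iso e⟩⟩

instance (T : Set X) : (PS T).IsTriangulated where
  exists_zero := ⟨0, isZero_zero _, isPerfect_of_isZero' (isZero_zero _), supp_of_isZero (isZero_zero _) T⟩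
  isStableUnderShiftBy n := ⟨fun _ h => ⟨isPerfect_shift' h.1 n, h.2.shift n⟩⟩
  ext₂' _ hT h₁ h₃ := ObjectProperty.le_isoClosure _ _
    ⟨isPerfect_tri₂ hT h₁.1 h₃.1, supp_obj₂ hT h₁.2 h₃.2⟩

/-- Quasi-coherent cohomology supported in `T`. -/
def QT (T : Set X) (E : DCoh.D X) : Prop := DCoh.IsQCohD E ∧ Supp E T

lemma qT_tri₂ {T : Set X} {τ : Triangle (DCoh.D X)} (hτ : τ ∈ distTriang _) (h₁ : QT T τ.obj₁)
    (h₃ : QT T τ.obj₃) : QT T τ.obj₂ :=
  ⟨isQCohD_obj₂ hτ h₁.1 h₃.1, supp_obj₂ hτ h₁.2 h₃.2⟩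

lemma qT_tri₃ {T : Set X} {τ : Triangle (DCoh.D X)} (hτ : τ ∈ distTriang _) (h₁ : QT T τ.obj₁)
    (h₂ : QT T τ.obj₂) : QT T τ.obj₃ :=
  ⟨isQCohD_obj₃ hτ h₁.1 h₂.1, supp_obj₃ hτ h₁.2 h₂.2⟩

lemma qT_shift {T : Set X} {E : DCoh.D X} (h : QT T E) (n : ℤ) : QT T (E⟦n⟧) :=
  ⟨isQCohD_shift h.1 n, h.2.shift n⟩

lemma qT_sigma {T : Set X} (hT : IsClosed T) {J : Type u} (M : J → DCoh.D X) [HasCoproduct M]
    (h : ∀ j, QT T (M j)) : QT T (∐ M) := by
  refine ⟨isQCohD_sigma M fun j => (h j).1, ?_⟩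
  let W : X.Opens := ⟨Tᶜ, hT.isOpen_compl⟩
  haveI := hasRpush_scheme W.ι
  have hW : (Set.range W.ι.base)ᶜ = T := by rw [Scheme.Opens.range_ι]; exact compl_compl T
  rw [← hW, ← isZero_rho_iff, IsZero.iff_id_eq_zero]
  refine ((adjR W.ι).homEquiv _ _).injective (Sigma.hom_ext _ _ fun j => ?_)
  rw [eq_zero_of_rho_isZero W.ι ((isZero_rho_iff W.ι _).2 (hW ▸ (h j).2)) (Sigma.ι M j ≫ _)]
  exact (eq_zero_of_rho_isZero W.ι ((isZero_rho_iff W.ι _).2 (hW ▸ (h j).2)) _).symm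

/-- Compact relative to quasi-coherent objects supported in `T`. -/
def Cpt (T : Set X) (C : DCoh.D X) : Prop :=
  ∀ (J : Type u) (M : J → DCoh.D X) [HasCoproduct M], (∀ j, QT T (M j)) → Fix M C

lemma cpt_of_isPerfect [CompactSpace X] [QuasiSeparatedSpace X] (T : Set X) {C : DCoh.D X}
    (h : DCoh.IsPerfect C) : Cpt T C := fun _ M _ hM => fix_of_isPerfect_qcoh h M fun j => (hM j).1

lemma cpt_tri₁ {T : Set X} {τ : Triangle (DCoh.D X)} (hτ : τ ∈ distTriang _) (h₂ : Cpt T τ.obj₂)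
    (h₃ : Cpt T τ.obj₃) : Cpt T τ.obj₁ := fun J M _ hM =>
  fix_obj₂ (inv_rot_of_distTriang _ hτ) ((h₃ J M hM).shift (-1)) (h₂ J M hM)

/-- Maps from compact objects factor through the triangulated subcategory of a generator. -/
theorem exists_factor_gen [CompactSpace X] [QuasiSeparatedSpace X] {T : Set X} (hT : IsClosed T)
    (Φ : ObjectProperty (DCoh.D X)) [Φ.IsTriangulated] [Φ.IsClosedUnderIsomorphisms] (hΦ : Φ ≤ PS T)
    {P : DCoh.D X} (hPΦ : Φ P) (hPdet : ∀ E : DCoh.D X, DCoh.IsQCohD E → Supp E T →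
      (∀ (n : ℤ) (φ : P⟦n⟧ ⟶ E), φ = 0) → IsZero E)
    {Q K : DCoh.D X} (hK : QT T K) (hQc : Cpt T Q) (φ₀ : Q ⟶ K) :
    ∃ (A : DCoh.D X) (g : Q ⟶ A) (h : A ⟶ K), Φ A ∧ g ≫ h = φ₀ := by
  classical
  haveI : ∀ J : Type u, HasColimitsOfShape (Discrete J) (DCoh.D X) :=
    fun J => TriCat.hasColimitsOfShape_derivedCategory
  obtain ⟨hP, hPT⟩ := hΦ P hPΦ
  have hPQ : QT T P := ⟨isQCohD_of_isPerfect hP, hPT⟩
  haveI : ∀ A B : DCoh.D X, Small.{u} (A ⟶ B) := small_hom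
  have step : ∀ E : {E : DCoh.D X // QT T E}, ∃ (E' : {E : DCoh.D X // QT T E}) (f : E.1 ⟶ E'.1)
      (κ : Type u) (M : κ → DCoh.D X) (ρ : ∐ M ⟶ E.1) (δ : E'.1 ⟶ (∐ M)⟦(1 : ℤ)⟧),
      (∀ k, Φ (M k) ∧ QT T (M k)) ∧ Triangle.mk ρ f δ ∈ distTriang _ ∧
      ∀ (n : ℤ) (φ : P⟦n⟧ ⟶ E.1), φ ≫ f = 0 := fun E => by
    let κ := Shrink.{u} (Σ n : ℤ, (P⟦n⟧ ⟶ E.1))
    let M : κ → DCoh.D X := fun k => P⟦((equivShrink _).symm k).1⟧
    have hM : ∀ k, Φ (M k) ∧ QT T (M k) := fun k =>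
      ⟨Φ.le_shift _ _ hPΦ, qT_shift hPQ _⟩
    let ρ : ∐ M ⟶ E.1 := Sigma.desc fun k => ((equivShrink _).symm k).2
    obtain ⟨E', f, δ, h⟩ := distinguished_cocone_triangle ρ
    refine ⟨⟨E', qT_tri₃ h (qT_sigma hT M fun k => (hM k).2) E.2⟩, f, κ, M, ρ, δ, hM, h,
      fun n φ => ?_⟩
    have h0 : ρ ≫ f = 0 := comp_distTriang_mor_zero₁₂ _ h
    have key : ∀ a : Σ n : ℤ, (P⟦n⟧ ⟶ E.1), a.2 ≫ f = 0 := fun a => by
      have h1 : ((equivShrink _).symm ((equivShrink _) a)).2 ≫ f = 0 := by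
        have := congrArg (fun x => Sigma.ι M (equivShrink _ a) ≫ x) h0
        simpa [ρ] using this
      rwa [Equiv.symm_apply_apply] at h1
    exact key ⟨n, φ⟩
  choose nx fx κ Mx ρ δ hMx htri hkill using step
  let Es : ℕ → {E : DCoh.D X // QT T E} := fun m => Nat.rec ⟨K, hK⟩ (fun _ E => nx E) m
  let f : ∀ m, (Es m).1 ⟶ (Es (m + 1)).1 := fun m => fx (Es m)
  let c : ∀ m, K ⟶ (Es m).1 := fun m => Nat.rec (motive := fun m => K ⟶ (Es m).1) (𝟙 K)
    (fun m a => a ≫ f m) m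
  -- the telescope
  let N : ULift.{u} ℕ → DCoh.D X := fun i => (Es i.down).1
  have hN : ∀ i, QT T (N i) := fun i => (Es i.down).2
  let t : ∐ N ⟶ ∐ N := Sigma.desc fun i => Sigma.ι N i - f i.down ≫ Sigma.ι N ⟨i.down + 1⟩
  have ht : ∀ i : ULift.{u} ℕ, Sigma.ι N i ≫ t =
      Sigma.ι N i - f i.down ≫ Sigma.ι N ⟨i.down + 1⟩ := fun i => Sigma.ι_desc _ _
  have ht0 : t ≫ projAt N ⟨0⟩ = projAt N ⟨0⟩ := Sigma.hom_ext _ _ fun i => by
    rw [← Category.assoc, ht, Preadditive.sub_comp, Category.assoc,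
      ι_projAt_ne N (i := ⟨i.down + 1⟩) (by simp), comp_zero, sub_zero]
  have htS : ∀ j : ℕ, t ≫ projAt N ⟨j + 1⟩ = projAt N ⟨j + 1⟩ - projAt N ⟨j⟩ ≫ f j := fun j =>
    Sigma.hom_ext _ _ fun ⟨i⟩ => by
      rw [← Category.assoc, ht, Preadditive.sub_comp, Category.assoc, Preadditive.comp_sub]
      congr 1
      by_cases h : i = j
      · subst h
        rw [ι_projAt_self, Category.comp_id, ← Category.assoc, ι_projAt_self, Category.id_comp]
      · rw [ι_projAt_ne N (i := ⟨i + 1⟩) (by simpa using h), comp_zero, ← Category.assoc,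
          ι_projAt_ne N (by simpa using h), zero_comp]
  have hfix : ∀ n : ℤ, ∀ ψ : P⟦n⟧ ⟶ ∐ N, ∃ F : Finset (ULift.{u} ℕ),
      ψ = ∑ i ∈ F, (ψ ≫ projAt N i) ≫ Sigma.ι N i := fun n ψ => by
    obtain ⟨F, hF⟩ := cpt_of_isPerfect T hP _ N hN n ψ
    refine ⟨F, ?_⟩
    conv_lhs => rw [← hF, partProj_eq_sum, Preadditive.comp_sum]
    simp
  obtain ⟨L, g, d, hL⟩ := distinguished_cocone_triangle t
  have hLQ : QT T L := qT_tri₃ hL (qT_sigma hT N hN) (qT_sigma hT N hN)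
  have hL0 : IsZero L := by
    refine hPdet L hLQ.1 hLQ.2 fun n φ => ?_
    obtain ⟨ψ₁, hψ₁⟩ : ∃ ψ₁ : P⟦n⟧ ⟶ ∐ N, φ = ψ₁ ≫ g := by
      refine Triangle.coyoneda_exact₂ _ (rot_of_distTriang _ hL) φ ?_
      let ε : P⟦n + -1⟧⟦(1 : ℤ)⟧ ≅ P⟦n⟧ :=
        ((shiftFunctorAdd' (DCoh.D X) (n + -1) 1 n (by omega)).app P).symm
      obtain ⟨ψ, hψ⟩ := (shiftFunctor (DCoh.D X) (1 : ℤ)).map_surjective (ε.hom ≫ φ ≫ d)
      have h31 : d ≫ t⟦(1 : ℤ)⟧' = 0 := comp_distTriang_mor_zero₃₁ _ hL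
      have hψt : ψ ≫ t = 0 := (shiftFunctor (DCoh.D X) (1 : ℤ)).map_injective (by
        rw [Functor.map_comp, hψ, Functor.map_zero, Category.assoc, Category.assoc, h31, comp_zero,
          comp_zero])
      have ha : ∀ j : ℕ, ψ ≫ projAt N ⟨j⟩ = 0 := fun j => by
        induction j with
        | zero => rw [← ht0, ← Category.assoc, hψt, zero_comp]
        | succ j ih =>
          have := congrArg (ψ ≫ ·) (htS j)
          simp only [Preadditive.comp_sub, ← Category.assoc, hψt, ih, zero_comp, sub_zero] at this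
          exact this.symm
      obtain ⟨F, hF⟩ := hfix _ ψ
      have hψ0 : ψ = 0 := hF.trans (Finset.sum_eq_zero fun i _ => by rw [ha i.down, zero_comp])
      rw [hψ0, Functor.map_zero] at hψ
      exact (cancel_epi ε.hom).1 (by rw [comp_zero]; exact hψ.symm)
    obtain ⟨F, hF⟩ := hfix _ ψ₁
    have h12 : t ≫ g = 0 := comp_distTriang_mor_zero₁₂ _ hL
    rw [hψ₁, hF, Preadditive.sum_comp]
    refine Finset.sum_eq_zero fun i _ => ?_
    have h1 := congrArg (Sigma.ι N i ≫ ·) h12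
    simp only [← Category.assoc, ht, Preadditive.sub_comp, comp_zero, sub_eq_zero] at h1
    have hk : (ψ₁ ≫ projAt N i) ≫ f i.down = 0 := hkill _ _ _
    rw [Category.assoc, h1]
    simp only [← Category.assoc]
    rw [hk, zero_comp, zero_comp]
  haveI : IsIso t := (Triangle.isZero₃_iff_isIso₁ _ hL).1 hL0
  -- the identity of `K` dies at a finite stage
  obtain ⟨F, hF⟩ := (hQc _ N hN).at_zero (φ₀ ≫ Sigma.ι N ⟨0⟩ ≫ inv t)
  let b := fun j : ℕ => (Sigma.ι N ⟨0⟩ ≫ inv t) ≫ projAt N ⟨j⟩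
  have hb : ∀ j, b j = c j := fun j => by
    induction j with
    | zero =>
      show (Sigma.ι N ⟨0⟩ ≫ inv t) ≫ projAt N ⟨0⟩ = 𝟙 K
      rw [← ht0, Category.assoc, IsIso.inv_hom_id_assoc]
      exact ι_projAt_self N ⟨0⟩
    | succ j ih =>
      show _ = c j ≫ f j
      have h1 := congrArg ((Sigma.ι N ⟨0⟩ ≫ inv t) ≫ ·) (htS j)
      simp only [Preadditive.comp_sub, Category.assoc, IsIso.inv_hom_id_assoc,
        ι_projAt_ne N (i := ⟨0⟩) (j := ⟨j + 1⟩) (by simp)] at h1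
      rw [← ih]
      simp only [b, Category.assoc]
      exact sub_eq_zero.1 h1.symm
  obtain ⟨m, hm⟩ : ∃ m : ℕ, (⟨m⟩ : ULift.{u} ℕ) ∉ F :=
    ⟨_, fun h => Nat.lt_irrefl _ (Nat.lt_of_lt_of_le (Nat.lt_succ_self _)
      (Finset.le_sup (f := ULift.down) h))⟩
  have hcm : φ₀ ≫ c m = 0 := by
    rw [← hb m]
    show φ₀ ≫ (Sigma.ι N ⟨0⟩ ≫ inv t) ≫ projAt N ⟨m⟩ = 0
    rw [← Category.assoc, ← hF, Category.assoc, partProj_projAt N hm, comp_zero]
  -- maps killed at a finite stage factor through perfect objects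
  have key : ∀ (m : ℕ) (C : DCoh.D X), Cpt T C → ∀ y : C ⟶ K, y ≫ c m = 0 →
      ∃ (A : DCoh.D X) (g : C ⟶ A) (h : A ⟶ K), Φ A ∧ g ≫ h = y := by
    intro m
    induction m with
    | zero =>
      intro C _ y hy
      exact ⟨0, 0, 0, Φ.prop_of_isZero (isZero_zero _), by
        rw [zero_comp]; exact (hy.symm.trans (Category.comp_id y))⟩
    | succ m ih =>
      intro C hC y hy
      obtain ⟨β, hβ⟩ : ∃ β : C ⟶ ∐ Mx (Es m), y ≫ c m = β ≫ ρ (Es m) :=
        Triangle.coyoneda_exact₂ _ (htri (Es m)) (y ≫ c m)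
          ((Category.assoc _ _ _).trans hy)
      obtain ⟨F, hFβ⟩ := (hC _ (Mx (Es m)) fun k => (hMx (Es m) k).2).at_zero β
      obtain ⟨Q, r, i, hQ, hri⟩ := exists_prop_partProj Φ (Mx (Es m)) (fun k => (hMx (Es m) k).1) F
      obtain ⟨C', p, q, hC'⟩ := distinguished_cocone_triangle₁ (β ≫ r)
      have hp : p ≫ β ≫ r = 0 := comp_distTriang_mor_zero₁₂ _ hC'
      obtain ⟨A, g₂, h₂, hA, hgh⟩ := ih C' (cpt_tri₁ hC' hC (cpt_of_isPerfect T (hΦ _ hQ).1)) (p ≫ y) (by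
        rw [Category.assoc, hβ, ← hFβ, ← hri]
        simp only [Category.assoc, reassoc_of% hp, zero_comp])
      obtain ⟨W, w, v, hW⟩ := distinguished_cocone_triangle₂ (q ≫ g₂⟦(1 : ℤ)⟧')
      obtain ⟨k, hk₁, hk₂⟩ : ∃ k : C ⟶ W, p ≫ k = g₂ ≫ w ∧ (β ≫ r) ≫ 𝟙 _ = k ≫ v :=
        complete_distinguished_triangle_morphism₂ _ _ hC' hW g₂ (𝟙 _) (Category.id_comp _).symm
      obtain ⟨h, hh₁, -⟩ : ∃ h : W ⟶ K, w ≫ h = h₂ ≫ 𝟙 _ ∧ v ≫ 0 = h ≫ 0 :=
        complete_distinguished_triangle_morphism₂ _ _ hW (contractible_distinguished K) h₂ 0 (by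
          show (q ≫ g₂⟦(1 : ℤ)⟧') ≫ h₂⟦(1 : ℤ)⟧' = 0 ≫ 0
          rw [Category.assoc, ← Functor.map_comp, hgh, Functor.map_comp, ← Category.assoc,
            show q ≫ p⟦(1 : ℤ)⟧' = 0 from comp_distTriang_mor_zero₃₁ _ hC', zero_comp, zero_comp])
      rw [Category.comp_id] at hh₁
      obtain ⟨e, he⟩ : ∃ e : Q ⟶ K, y - k ≫ h = (β ≫ r) ≫ e := Triangle.yoneda_exact₂ _ hC' (y - k ≫ h) (by
        show p ≫ (y - k ≫ h) = 0
        rw [Preadditive.comp_sub, ← Category.assoc p k, hk₁, Category.assoc, hh₁, hgh, sub_self])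
      refine ⟨W ⊞ Q, biprod.lift k (β ≫ r), biprod.desc h e,
        Φ.ext_of_isTriangulatedClosed₂ _ (binaryBiproductTriangle_distinguished _ _)
          (Φ.ext_of_isTriangulatedClosed₂ _ hW hA hQ) hQ, ?_⟩
      rw [biprod.lift_desc, ← he, add_sub_cancel]
  exact key m Q hQc φ₀ hcm

/-- Maps from compact objects into supported objects factor through supported perfect objects. -/
theorem exists_factor_compact [CompactSpace X] [QuasiSeparatedSpace X] {T : Set X} (hT : IsClosed T)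
    (hTc : IsCompact Tᶜ) {Q K : DCoh.D X} (hK : QT T K) (hQc : Cpt T Q) (φ₀ : Q ⟶ K) :
    ∃ (A : DCoh.D X) (g : Q ⟶ A) (h : A ⟶ K), DCoh.IsPerfect A ∧ Supp A T ∧ g ≫ h = φ₀ := by
  obtain ⟨P, hP, hPT, hPdet⟩ := hasGen (X := X) T hT hTc
  obtain ⟨A, g, h, hA, e⟩ := exists_factor_gen hT (PS T) le_rfl ⟨hP, hPT⟩ hPdet hK hQc φ₀
  exact ⟨A, g, h, hA.1, hA.2, e⟩

/-- A compact object in `D_QCoh,T` is perfect. -/
theorem isPerfect_of_compact [CompactSpace X] [QuasiSeparatedSpace X] {T : Set X} (hT : IsClosed T)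
    (hTc : IsCompact Tᶜ) {K : DCoh.D X} (hK : QT T K)
    (hc : ∀ (J : Type u) (M : J → DCoh.D X) [HasCoproduct M], (∀ j, QT T (M j)) → FixAt M K) :
    DCoh.IsPerfect K := by
  haveI : ∀ J : Type u, HasColimitsOfShape (Discrete J) (DCoh.D X) :=
    fun J => TriCat.hasColimitsOfShape_derivedCategory
  obtain ⟨A, g', h', hA, -, hgh⟩ := exists_factor_compact hT hTc hK
    (fun J M _ hM n => fixAt_shift M n (hc J _ fun j => qT_shift (hM j) _)) (𝟙 K)
  obtain ⟨Z, z, dz, hZ⟩ := distinguished_cocone_triangle g'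
  haveI : Mono g' := SplitMono.mono ⟨h', hgh⟩
  obtain ⟨e, -, -⟩ := exists_iso_binaryBiproduct_of_distTriang _ hZ
    (Triangle.mor₃_eq_zero_of_mono₁ _ hZ ‹_›)
  exact (KFlatLib.isPerfect_iff K).2
    (locSP_summand K Z (((KFlatLib.isPerfect_iff A).1 hA).of_iso e)).1

end Groth.Agent.PerfGen7
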