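import Mathlib
import Groth.Agent.S2372

/-!
# Resolving bounded above complexes relative to a given subcomplex
-/

set_option linter.style.haveILetI false
set_option backward.isDefEq.respectTransparency false
set_option backward.defeqAttrib.useBackward true

universe v u

open CategoryTheory CategoryTheory.Limits HomologicalComplex

namespace Groth.Agent.PerfGen7.LeftRes

variable {A : Type u} [Category.{v} A] [Abelian A]

/-- `P` has a zero object, is closed under sums, and every object is a quotient of one in `P`. -/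
structure Enough (P : ObjectProperty A) : Prop where
  zero : ∃ Z : A, IsZero Z ∧ P Z
  sum : ∀ X Y : A, P X → P Y → P (X ⊞ Y)
  cover : ∀ X : A, ∃ (Y : A) (π : Y ⟶ X), P Y ∧ Epi π

lemma Enough.of_isZero {P : ObjectProperty A} [P.IsClosedUnderIsomorphisms] (hP : Enough P) {X : A}
    (h : IsZero X) : P X := by
  obtain ⟨Z, hZ, hPZ⟩ := hP.zero
  exact P.prop_of_iso (hZ.iso h) hPZ

lemma quasiIsoAt_restriction {ι ι' : Type*} {c : ComplexShape ι} {c' : ComplexShape ι'}
    (e : c.Embedding c') [e.IsRelIff] {K L : HomologicalComplex A c'} (φ : K ⟶ L) (i j k : ι)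
    (hi : c.prev j = i) (hk : c.next j = k) (hi' : c'.prev (e.f j) = e.f i)
    (hk' : c'.next (e.f j) = e.f k) (h : QuasiIsoAt φ (e.f j)) :
    QuasiIsoAt (HomologicalComplex.restrictionMap φ e) j := by
  rw [quasiIsoAt_iff' _ i j k hi hk]
  rw [quasiIsoAt_iff' _ (e.f i) (e.f j) (e.f k) hi' hk'] at h
  haveI := h
  refine ShortComplex.quasiIso_of_arrow_mk_iso
    ((shortComplexFunctor' A c' (e.f i) (e.f j) (e.f k)).map φ)
    ((shortComplexFunctor' A c i j k).map (HomologicalComplex.restrictionMap φ e))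
    (Arrow.isoMk (HomologicalComplex.restriction.sc'Iso K e i j k rfl rfl rfl hi' hk').symm
      (HomologicalComplex.restriction.sc'Iso L e i j k rfl rfl rfl hi' hk').symm ?_)
  ext <;> simp [HomologicalComplex.restriction.sc'Iso, HomologicalComplex.restrictionXIso, eqToHom_refl]

variable (P : ObjectProperty A) [P.IsClosedUnderIsomorphisms] (hP : Enough P)

include hP in
lemma exists_res (L : CochainComplex A ℤ) (b : ℤ) [L.IsLE b] :
    ∃ (C' : CochainComplex A ℤ) (v : C' ⟶ L),
      (∀ i, P (C'.X i)) ∧ C'.IsStrictlyLE b ∧ QuasiIso v := by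
  let e := ComplexShape.embeddingDownIntUpInt
  let E := ChainComplex.cochainComplexEquivalence A
  have hz : ∀ i : ℤ, i < -b → IsZero ((E.inverse.obj L).homology i) := fun i hi => by
    have : L.ExactAt (-i) := L.exactAt_of_isLE b (-i) (by omega)
    rw [← HomologicalComplex.exactAt_iff_isZero_homology,
      HomologicalComplex.exactAt_iff' _ (i + 1) i (i - 1) (by simp) (by simp)]
    rw [HomologicalComplex.exactAt_iff' _ (-(i + 1)) (-i) (-(i - 1)) (by simp; omega)
      (by simp; omega)] at this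
    exact (ShortComplex.exact_iff_of_iso (HomologicalComplex.restriction.sc'Iso L e (i + 1) i (i - 1)
      rfl rfl rfl (by simp [e]; omega) (by simp [e]; omega))).2 this
  obtain ⟨Qc, u, hQ, hQ0, hu⟩ := Groth.Agent.S2372.result (⊤ : ObjectProperty A) P le_top
    (fun X Y u _ _ => by
      obtain ⟨B, π, hB, _⟩ := hP.cover X
      exact ⟨B, π, hB, epi_comp _ _⟩)
    (fun _ _ _ _ _ _ => trivial)
    (fun B B' hB hB' => P.prop_of_iso (biprod.isoProd B B') (hP.sum B B' hB hB'))
    (E.inverse.obj L) (fun _ => trivial) (-b) hz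
  refine ⟨E.functor.obj Qc, E.functor.map u ≫ E.counitIso.hom.app L, fun i => ?_, ?_, ?_⟩
  · change P (Qc.X (-i))
    by_cases h : -b ≤ -i
    · exact hQ _ h
    · exact hP.of_isZero (hQ0 _ (by omega))
  · rw [CochainComplex.isStrictlyLE_iff]
    exact fun i hi => hQ0 (-i) (by omega)
  · have : QuasiIso (E.functor.map u) := ⟨fun j =>
      quasiIsoAt_restriction ComplexShape.embeddingUpIntDownInt u (j - 1) j (j + 1) (by simp)
        (by simp) (by simp; omega) (by simp; omega) (hu.quasiIsoAt _)⟩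
    infer_instance

section Ext

variable {Q L C' : CochainComplex A ℤ} (f : Q ⟶ L) (v : C' ⟶ CochainComplex.mappingCone f)

/-- The `Q`-component of `v`. -/
noncomputable def q1 (i j : ℤ) (h : i + 1 = j) : C'.X i ⟶ Q.X j :=
  v.f i ≫ (CochainComplex.mappingCone.fst f).1.v i j h

/-- The `L`-component of `v`. -/
noncomputable def l1 (i : ℤ) : C'.X i ⟶ L.X i :=
  v.f i ≫ (CochainComplex.mappingCone.snd f).v i i (add_zero i)

@[reassoc]
lemma d_q1 (i j k : ℤ) (h : i + 1 = j) (h' : j + 1 = k) :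
    C'.d i j ≫ q1 f v j k h' = -(q1 f v i j h ≫ Q.d j k) := by
  simp [q1, ← v.comm_assoc, CochainComplex.mappingCone.d_fst_v f i j k h h']

@[reassoc]
lemma d_l1 (i j : ℤ) (h : i + 1 = j) :
    C'.d i j ≫ l1 f v j = q1 f v i j h ≫ f.f j + l1 f v i ≫ L.d i j := by
  simp [q1, l1, ← v.comm_assoc, CochainComplex.mappingCone.d_snd_v f i j h]

/-- The extension of `C'` by `Q` classified by `v`. -/
noncomputable def R : CochainComplex A ℤ :=
  CochainComplex.of (fun i => Q.X i ⊞ C'.X i)
    (fun i => biprod.desc (Q.d i (i + 1) ≫ biprod.inl)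
      (-(q1 f v i (i + 1) rfl) ≫ biprod.inl + C'.d i (i + 1) ≫ biprod.inr))
    (fun i => by
      apply biprod.hom_ext' <;> apply biprod.hom_ext <;>
        simp [d_q1_assoc f v i (i + 1) (i + 1 + 1) rfl rfl, d_q1 f v i (i + 1) (i + 1 + 1) rfl rfl])

lemma R_d (i j : ℤ) (h : i + 1 = j) :
    (R f v).d i j = biprod.desc (Q.d i j ≫ biprod.inl)
      (-(q1 f v i j h) ≫ biprod.inl + C'.d i j ≫ biprod.inr) := by
  subst h
  simp [R]

/-- The inclusion of `Q`. -/
noncomputable def RInl : Q ⟶ R f v where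
  f i := biprod.inl
  comm' i j h := by
    rw [R_d f v i j h]
    exact biprod.inl_desc _ _

/-- The map to `L`. -/
noncomputable def Rπ : R f v ⟶ L where
  f i := biprod.desc (f.f i) (l1 f v i)
  comm' i j h := by
    change i + 1 = j at h
    rw [R_d f v i j h]
    apply biprod.hom_ext'
    · simp [R]
    · simp [R, d_l1 f v i j h]

lemma RInl_Rπ : RInl f v ≫ Rπ f v = f := by
  ext i
  exact biprod.inl_desc _ _

lemma lift_R_d {T : A} {i j : ℤ} (h : i + 1 = j) (q : T ⟶ Q.X i) (c : T ⟶ C'.X i) :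
    (biprod.lift q c : T ⟶ (R f v).X i) ≫ (R f v).d i j =
      (biprod.lift (q ≫ Q.d i j - c ≫ q1 f v i j h) (c ≫ C'.d i j) : T ⟶ Q.X j ⊞ C'.X j) := by
  rw [R_d f v i j h]
  refine biprod.lift_desc.trans ?_
  change (_ : T ⟶ Q.X j ⊞ C'.X j) = _
  apply biprod.hom_ext <;> simp [sub_eq_add_neg]

lemma lift_Rπ {T : A} (i : ℤ) (q : T ⟶ Q.X i) (c : T ⟶ C'.X i) :
    (biprod.lift q c : T ⟶ (R f v).X i) ≫ (Rπ f v).f i = q ≫ f.f i + c ≫ l1 f v i :=
  biprod.lift_desc

lemma lift_eq_zero_iff {T X Y : A} (a : T ⟶ X) (b : T ⟶ Y) :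
    biprod.lift a b = 0 ↔ a = 0 ∧ b = 0 :=
  ⟨fun h => ⟨by simpa using congrArg (· ≫ biprod.fst) h, by simpa using congrArg (· ≫ biprod.snd) h⟩,
    fun ⟨h, h'⟩ => by apply biprod.hom_ext <;> simp [h, h']⟩

variable [QuasiIso v]

lemma epi_homologyMap (i : ℤ) : Epi (homologyMap (Rπ f v) i) := by
  rw [epi_homologyMap_iff_up_to_refinements (Rπ f v) (i - 1) i (i + 1) (by simp) (by simp)]
  intro T y hy
  have hv : Epi (homologyMap v i) := inferInstance
  rw [epi_homologyMap_iff_up_to_refinements v (i - 1) i (i + 1) (by simp) (by simp)] at hv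
  obtain ⟨T', π, hπ, c, hc, e, he⟩ := hv (y ≫ (CochainComplex.mappingCone.inr f).f i)
    (by rw [Category.assoc, CochainComplex.mappingCone.inr_f_d, reassoc_of% hy, zero_comp])
  have he₁ := congrArg (· ≫ (CochainComplex.mappingCone.fst f).1.v i (i + 1) rfl) he
  have he₂ := congrArg (· ≫ (CochainComplex.mappingCone.snd f).v i i (add_zero i)) he
  simp only [Category.assoc, Preadditive.add_comp, CochainComplex.mappingCone.inr_f_fst_v,
    CochainComplex.mappingCone.inr_f_snd_v, comp_zero, Category.comp_id,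
    CochainComplex.mappingCone.d_fst_v f (i - 1) i (i + 1) (by omega) rfl,
    CochainComplex.mappingCone.d_snd_v f (i - 1) i (by omega),
    Preadditive.comp_add, Preadditive.comp_neg, Preadditive.neg_comp] at he₁ he₂
  set eq := e ≫ (CochainComplex.mappingCone.fst f).1.v (i - 1) i (by omega) with heq
  set el := e ≫ (CochainComplex.mappingCone.snd f).v (i - 1) (i - 1) (add_zero _) with hel
  refine ⟨T', π, hπ, (biprod.lift eq c : T' ⟶ Q.X i ⊞ C'.X i), ?_, el, ?_⟩
  · refine (lift_R_d f v rfl eq c).trans ((lift_eq_zero_iff _ _).2 ⟨?_, hc⟩)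
    simp only [q1, heq, Category.assoc] at he₁ ⊢
    linear_combination (norm := abel) he₁
  · refine Eq.trans ?_ (congrArg (· + el ≫ L.d (i - 1) i) (lift_Rπ f v i eq c)).symm
    simp only [l1, heq, hel, Category.assoc] at he₂ ⊢
    linear_combination (norm := abel) he₂

lemma mono_homologyMap (i : ℤ) : Mono (homologyMap (Rπ f v) i) := by
  rw [mono_homologyMap_iff_up_to_refinements (Rπ f v) (i - 1) i (i + 1) (by simp) (by simp)]
  intro T x hx m hm
  change T ⟶ Q.X i ⊞ C'.X i at x
  obtain ⟨q, c, rfl⟩ : ∃ q c, x = biprod.lift q c :=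
    ⟨x ≫ biprod.fst, x ≫ biprod.snd, by apply biprod.hom_ext <;> simp⟩
  obtain ⟨hq, hc⟩ := (lift_eq_zero_iff _ _).1 ((lift_R_d f v rfl q c).symm.trans hx)
  replace hm : q ≫ f.f i + c ≫ l1 f v i = m ≫ L.d (i - 1) i := (lift_Rπ f v i q c).symm.trans hm
  let z : T ⟶ (CochainComplex.mappingCone f).X (i - 1) :=
    -q ≫ (CochainComplex.mappingCone.inl f).v i (i - 1) (by omega) +
      m ≫ (CochainComplex.mappingCone.inr f).f (i - 1)
  have hz : c ≫ v.f i = z ≫ (CochainComplex.mappingCone f).d (i - 1) i := by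
    apply CochainComplex.mappingCone.ext_to f i (i + 1) rfl
    · simp [z, CochainComplex.mappingCone.d_fst_v f (i - 1) i (i + 1) (by omega) rfl]
      simp only [q1] at hq
      linear_combination (norm := abel) -hq
    · simp [z, CochainComplex.mappingCone.d_snd_v f (i - 1) i (by omega)]
      simp only [l1] at hm
      linear_combination (norm := abel) hm
  have hv : Mono (homologyMap v i) := inferInstance
  rw [mono_homologyMap_iff_up_to_refinements v (i - 1) i (i + 1) (by simp) (by simp)] at hv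
  obtain ⟨T₁, π, hπ, c', hc'⟩ := hv c hc z hz
  have hv' : Epi (homologyMap v (i - 1)) := inferInstance
  rw [epi_homologyMap_iff_up_to_refinements v (i - 2) (i - 1) i (by simp; omega) (by simp)] at hv'
  obtain ⟨T₂, π', hπ', c'', hc'', e, he⟩ := hv' (c' ≫ v.f (i - 1) - π ≫ z) (by
    rw [Preadditive.sub_comp, Category.assoc, v.comm, ← reassoc_of% hc', Category.assoc, ← hz,
      sub_self])
  let c₀ := π' ≫ c' - c''
  have hc₀ : c₀ ≫ C'.d (i - 1) i = π' ≫ π ≫ c := by simp [c₀, hc'', hc']
  have hq₀ : c₀ ≫ q1 f v (i - 1) i (by omega) = -(π' ≫ π ≫ q) -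
      (e ≫ (CochainComplex.mappingCone.fst f).1.v (i - 2) (i - 1) (by omega)) ≫ Q.d (i - 1) i := by
    have := congrArg (· ≫ (CochainComplex.mappingCone.fst f).1.v (i - 1) i (by omega)) he
    simp [z, CochainComplex.mappingCone.d_fst_v f (i - 2) (i - 1) i (by omega) (by omega)] at this
    simp [c₀, q1]
    linear_combination (norm := abel) this
  refine ⟨T₂, π' ≫ π, epi_comp _ _, (biprod.lift
    (-(e ≫ (CochainComplex.mappingCone.fst f).1.v (i - 2) (i - 1) (by omega))) c₀ :
      T₂ ⟶ Q.X (i - 1) ⊞ C'.X (i - 1)), ?_⟩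
  refine Eq.trans ?_ (lift_R_d f v (show i - 1 + 1 = i by omega) _ c₀).symm
  change (π' ≫ π) ≫ (biprod.lift q c : T ⟶ Q.X i ⊞ C'.X i) = _
  apply biprod.hom_ext
  · simp [hq₀]
    abel
  · simp [hc₀]

instance quasiIso_Rπ : QuasiIso (Rπ f v) := ⟨fun i => by
  have := epi_homologyMap f v i
  have := mono_homologyMap f v i
  rw [quasiIsoAt_iff_isIso_homologyMap]
  exact isIso_of_mono_of_epi _⟩

end Ext

/-- A contractible complex with prescribed terms. -/
noncomputable def disk (B : ℤ → A) : CochainComplex A ℤ where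
  X i := B i ⊞ B (i - 1)
  d i j := if h : i + 1 = j then biprod.fst ≫ eqToHom (by rw [← h, add_sub_cancel_right]) ≫ biprod.inr else 0
  shape i j h := dif_neg h
  d_comp_d' i j k h h' := by
    change i + 1 = j at h
    change j + 1 = k at h'
    simp [dif_pos h, dif_pos h']

lemma disk_d (B : ℤ → A) (i j : ℤ) (h : i + 1 = j) :
    (disk B).d i j = biprod.fst ≫ eqToHom (by rw [← h, add_sub_cancel_right]) ≫ biprod.inr :=
  dif_pos h

/-- The contraction of `disk B`. -/
noncomputable def diskHomotopy (B : ℤ → A) : Homotopy (𝟙 (disk B)) 0 where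
  hom i j := if h : j + 1 = i then
    biprod.snd ≫ eqToHom (by rw [← h, add_sub_cancel_right]) ≫ biprod.inl else 0
  zero i j h := dif_neg h
  comm i := by
    rw [dNext_eq _ (show (ComplexShape.up ℤ).Rel i (i + 1) from rfl),
      prevD_eq _ (show (ComplexShape.up ℤ).Rel (i - 1) i by simp), dif_pos rfl,
      dif_pos (show i - 1 + 1 = i by omega), disk_d B i (i + 1) rfl,
      disk_d B (i - 1) i (by omega)]
    change 𝟙 (B i ⊞ B (i - 1)) = _
    apply biprod.hom_ext' <;> apply biprod.hom_ext <;> simp [disk, Preadditive.add_comp, Preadditive.comp_add]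

include hP in
/-- Resolving a map from a complex with terms in `P`. -/
lemma exists_ext {Q L : CochainComplex A ℤ} (f : Q ⟶ L) (hQ : ∀ i, P (Q.X i)) (b : ℤ)
    [Q.IsStrictlyLE b] [L.IsStrictlyLE b] :
    ∃ (R : CochainComplex A ℤ) (ι : Q ⟶ R) (π : R ⟶ L),
      ι ≫ π = f ∧ QuasiIso π ∧ (∀ i, Epi (π.f i)) ∧ R.IsStrictlyLE (b + 1) ∧ (∀ i, P (R.X i)) ∧
      ∀ i, (∃ r : R.X i ⟶ Q.X i, ι.f i ≫ r = 𝟙 _) ∧ P (cokernel (ι.f i)) := by
  classical
  have : (CochainComplex.mappingCone f).IsStrictlyLE b := by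
    rw [CochainComplex.isStrictlyLE_iff]
    intro i hi
    rw [CochainComplex.mappingCone.isZero_X_iff]
    exact ⟨Q.isZero_of_isStrictlyLE b (i + 1) (by omega), L.isZero_of_isStrictlyLE b i hi⟩
  obtain ⟨C', v, hC, hC0, hv⟩ := exists_res P hP (CochainComplex.mappingCone f) b
  choose B p hB hp using fun i => hP.cover (L.X i)
  obtain ⟨Z, hZ, hPZ⟩ := hP.zero
  let B' : ℤ → A := fun i => if i ≤ b then B i else Z
  have hB' : ∀ i, P (B' i) := fun i => by
    simp only [B']; split_ifs
    · exact hB i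
    · exact hPZ
  let p' : ∀ i, B' i ⟶ L.X i := fun i =>
    if h : i ≤ b then eqToHom (if_pos h) ≫ p i else 0
  have hp' : ∀ i, Epi (p' i) := fun i => by
    by_cases h : i ≤ b
    · simp only [p', dif_pos h]
      exact epi_comp' inferInstance (hp i)
    · exact ⟨fun _ _ _ => (L.isZero_of_isStrictlyLE b i (by omega)).eq_of_src _ _⟩
  let φ : disk B' ⟶ L :=
    { f := fun i => biprod.desc (p' i) (p' (i - 1) ≫ L.d (i - 1) i)
      comm' := fun i j h => by
        change i + 1 = j at h
        subst h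
        apply biprod.hom_ext'
        · rw [disk_d B' i (i + 1) rfl]
          have : ∀ (k : ℤ) (hk : k = i), eqToHom (congrArg B' hk) ≫ p' i ≫ L.d i (i + 1) =
              p' k ≫ L.d k (i + 1) := by rintro k rfl; simp
          simp [disk, ← this (i + 1 - 1) (by omega)]
        · simp [disk, disk_d B' i (i + 1) rfl] }
  let ι : Q ⟶ R f v ⊞ disk B' := RInl f v ≫ biprod.inl
  let π : R f v ⊞ disk B' ⟶ L := biprod.desc (Rπ f v) φ
  let bc : ∀ i, (R f v ⊞ disk B').X i ≅ (Q.X i ⊞ C'.X i) ⊞ (B' i ⊞ B' (i - 1)) :=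
    fun i => HomologicalComplex.biprodXIso (R f v) (disk B') i
  refine ⟨R f v ⊞ disk B', ι, π, ?_, ?_, fun i => ?_, ?_, fun i => ?_, fun i => ?_⟩
  · simp [ι, π, RInl_Rπ]
  · have hinl : QuasiIso (biprod.inl : R f v ⟶ R f v ⊞ disk B') := by
      let e : HomotopyEquiv (R f v) (R f v ⊞ disk B') :=
        { hom := biprod.inl
          inv := biprod.fst
          homotopyHomInvId := Homotopy.ofEq (by simp)
          homotopyInvHomId := by
            refine Homotopy.trans ?_ (Homotopy.ofEq biprod.total)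
            refine Homotopy.trans (Homotopy.ofEq (add_zero _).symm) (Homotopy.add (Homotopy.refl _) ?_)
            exact (Homotopy.ofEq (by simp)).trans
              ((((diskHomotopy B').symm.compRight biprod.inr).compLeft biprod.snd).trans
                (Homotopy.ofEq (by simp))) }
      exact e.quasiIso_hom
    have : QuasiIso (biprod.inl ≫ π) := by simp only [π, biprod.inl_desc]; exact quasiIso_Rπ f v
    exact quasiIso_of_comp_left biprod.inl π
  · have := hp' i
    have : Epi (φ.f i) := epi_of_epi_fac (biprod.inl_desc (p' i) (p' (i - 1) ≫ L.d (i - 1) i))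
    exact epi_of_epi_fac (f := (biprod.inr : disk B' ⟶ R f v ⊞ disk B').f i) (h := φ.f i)
      (by rw [← HomologicalComplex.comp_f]; simp [π])
  · rw [CochainComplex.isStrictlyLE_iff]
    intro i hi
    refine IsZero.of_iso ?_ (bc i)
    have h0 : ∀ k, b < k → IsZero (B' k) := fun k hk => by
      simp only [B', if_neg (not_le.2 hk)]; exact hZ
    have := C'.isZero_of_isStrictlyLE b i (by omega)
    have := Q.isZero_of_isStrictlyLE b i (by omega)
    simp [biprod_isZero_iff, *, h0 i (by omega), h0 (i - 1) (by omega)]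
  · exact P.prop_of_iso (bc i).symm (hP.sum _ _ (hP.sum _ _ (hQ i) (hC i)) (hP.sum _ _ (hB' i) (hB' _)))
  · let r : (R f v ⊞ disk B').X i ⟶ Q.X i := (bc i).hom ≫ biprod.fst ≫ biprod.fst
    have hι : ι.f i = biprod.inl ≫ biprod.inl ≫ (bc i).inv := by
      simp [ι, RInl, bc]
      exact congrArg (biprod.inl ≫ ·) (HomologicalComplex.inl_biprodXIso_inv _ _ _).symm
    refine ⟨⟨r, by simp [r, hι]⟩, ?_⟩
    let S := ShortComplex.mk (ι.f i)
      ((bc i).hom ≫ biprod.desc (biprod.snd ≫ biprod.inl) biprod.inr :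
        _ ⟶ C'.X i ⊞ (B' i ⊞ B' (i - 1))) (by simp [hι])
    let σ : S.Splitting :=
      { r := r
        s := biprod.desc (biprod.inr ≫ biprod.inl) biprod.inr ≫ (bc i).inv
        f_r := by simp [S, r, hι]
        s_g := by
          dsimp [S]
          apply biprod.hom_ext' <;> apply biprod.hom_ext <;> simp
        id := by
          dsimp [S, r]
          rw [hι, ← cancel_epi (bc i).inv, ← cancel_mono (bc i).hom]
          apply biprod.hom_ext' <;> apply biprod.hom_ext <;> simp }
    have := σ.shortExact.epi_g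
    exact P.prop_of_iso (IsColimit.coconePointUniqueUpToIso σ.shortExact.gIsCokernel
      (colimit.isColimit _)) (hP.sum _ _ (hC i) (hP.sum _ _ (hB' i) (hB' _)))

end Groth.Agent.PerfGen7.LeftRes
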