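import Groth.Agent.PerfGen7.Bounded

/-!
# Truncations and maps from perfect objects
-/

set_option linter.style.haveILetI false
set_option backward.isDefEq.respectTransparency false

universe u

open CategoryTheory CategoryTheory.Limits AlgebraicGeometry Pretriangulated ZeroObject

attribute [local instance] HasDerivedCategory.standard

namespace Groth.Agent.PerfGen7

open Groth.Agent.KFlatLib

variable {X : Scheme.{u}}

local notation "τ" => (DerivedCategory.TStructure.t : Triangulated.TStructure (DCoh.D X))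

lemma isQCohD_truncGE' {E : DCoh.D X} (hE : DCoh.IsQCohD E) (a : ℤ) :
    DCoh.IsQCohD (((τ).truncGE a).obj E) := fun i => by
  by_cases hi : a ≤ i
  · let T := ((τ).triangleLTGE a).obj E
    have hT : T ∈ distTriang _ := (τ).triangleLTGE_distinguished _ E
    haveI : T.obj₁.IsLE (a - 1) := (τ).isLE_truncLT_obj E _ _ (by omega)
    haveI : Mono ((DerivedCategory.homologyFunctor X.Modules i).map T.mor₂) :=
      (DerivedCategory.HomologySequence.exact₂ T hT i).mono_g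
        ((DerivedCategory.isZero_of_isLE T.obj₁ (a - 1) i (by omega)).eq_of_src _ _)
    haveI : Epi ((DerivedCategory.homologyFunctor X.Modules i).map T.mor₂) :=
      (DerivedCategory.HomologySequence.exact₃ T hT i (i + 1) rfl).epi_f
        ((DerivedCategory.isZero_of_isLE T.obj₁ (a - 1) (i + 1) (by omega)).eq_of_tgt _ _)
    haveI := isIso_of_mono_of_epi ((DerivedCategory.homologyFunctor X.Modules i).map T.mor₂)
    exact isQCoh_of_iso (asIso ((DerivedCategory.homologyFunctor X.Modules i).map T.mor₂)) (hE i)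
  · haveI : (((τ).truncGE a).obj E).IsGE a := (τ).isGE_truncGE_obj E _ _ le_rfl
    exact isQCoh_of_isZero (DerivedCategory.isZero_of_isGE _ a i (by omega))

lemma isQCohD_truncLT' {E : DCoh.D X} (hE : DCoh.IsQCohD E) (a : ℤ) :
    DCoh.IsQCohD (((τ).truncLT a).obj E) :=
  isQCohD_obj₁ ((τ).triangleLTGE_distinguished a E) hE (isQCohD_truncGE' hE a)

lemma eventually_truncLT (E : DCoh.D X) (a : ℤ) :
    ∀ᶠ i in Filter.atTop, IsZero (DCoh.HD (((τ).truncLT a).obj E) i) := by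
  haveI : (((τ).truncLT a).obj E).IsLE (a - 1) := (τ).isLE_truncLT_obj E _ _ (by omega)
  exact Filter.eventually_atTop.2 ⟨a, fun i hi => DerivedCategory.isZero_of_isLE _ (a - 1) i (by omega)⟩

lemma eventually_truncGE (E : DCoh.D X) (a : ℤ) :
    ∀ᶠ i in Filter.atBot, IsZero (DCoh.HD (((τ).truncGE a).obj E) i) := by
  haveI : (((τ).truncGE a).obj E).IsGE a := (τ).isGE_truncGE_obj E _ _ le_rfl
  exact Filter.eventually_atBot.2 ⟨a - 1, fun i hi => DerivedCategory.isZero_of_isGE _ a i (by omega)⟩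

variable {l : Filter ℤ} (hl : ∀ k : ℤ, Filter.Tendsto (fun i => i + k) l l)
include hl

/-- In a triangle, eventual vanishing for two terms gives it for the middle. -/
lemma eventually_hom_obj₂ {P : DCoh.D X} {T : Triangle (DCoh.D X)} (hT : T ∈ distTriang _)
    (h₁ : ∀ᶠ i in l, ∀ φ : P⟦-i⟧ ⟶ T.obj₁, φ = 0) (h₃ : ∀ᶠ i in l, ∀ φ : P⟦-i⟧ ⟶ T.obj₃, φ = 0) :
    ∀ᶠ i in l, ∀ φ : P⟦-i⟧ ⟶ T.obj₂, φ = 0 := by
  refine (h₁.and h₃).mono fun i ⟨k₁, k₃⟩ φ => ?_
  obtain ⟨χ, hχ⟩ := Triangle.coyoneda_exact₂ _ hT φ (k₃ _)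
  rw [hχ, k₁ χ, zero_comp]

/-- Eventual vanishing of maps passes to shifts. -/
lemma eventually_hom_shift {P E : DCoh.D X} (n : ℤ) (h : ∀ᶠ i in l, ∀ φ : P⟦-i⟧ ⟶ E, φ = 0) :
    ∀ᶠ i in l, ∀ φ : P⟦-i⟧ ⟶ E⟦n⟧, φ = 0 := by
  refine ((hl n).eventually h).mono fun i hi φ => ?_
  let ε : P⟦-(i + n)⟧⟦n⟧ ≅ P⟦-i⟧ :=
    ((shiftFunctorAdd' (DCoh.D X) (-(i + n)) n (-i) (by omega)).app P).symm
  obtain ⟨ψ, hψ⟩ := (shiftFunctor (DCoh.D X) n).map_surjective (ε.hom ≫ φ)
  rw [hi ψ, Functor.map_zero] at hψ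
  exact (cancel_epi ε.hom).1 (by rw [comp_zero]; exact hψ.symm)

end Groth.Agent.PerfGen7
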