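import Groth.Agent.PerfGen7.CompactPerfect
import Groth.Agent.KFlatLib.Scheme.CompactGlobal
import Groth.Prelude.Def_PerfAux

/-!
# Consequences
-/

set_option linter.style.haveILetI false
set_option backward.isDefEq.respectTransparency false

universe u

open CategoryTheory CategoryTheory.Limits AlgebraicGeometry Pretriangulated ZeroObject

attribute [local instance] HasDerivedCategory.standard

namespace Groth.Agent.PerfGen7

open Groth.Agent.KFlatLib

variable {X : Scheme.{u}}

lemma quasiCompact_ι_of_isAffine [IsAffine X] (U : X.Opens) (hU : IsCompact (U : Set X)) :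
    QuasiCompact U.ι :=
  haveI : CompactSpace (U : Scheme.{u}) := isCompact_iff_compactSpace.1 hU
  (quasiCompact_iff_compactSpace U.ι).2 inferInstance

/-- A complex representing a given object, with its restriction. -/
lemma exists_rep (U : X.Opens) (G : DCoh.D X) {A : DCoh.D (U : Scheme.{u})}
    (e : (rho U.ι).obj G ≅ A) :
    ∃ C : CochainComplex X.Modules ℤ, Nonempty (DCoh.toD X C ≅ G) ∧
      Nonempty (DerivedCategory.Q.obj ((DCoh.restrictCx U).obj C) ≅ A) :=
  ⟨DerivedCategory.Q.objPreimage G, ⟨repIso G⟩,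
    ⟨((rhoQ U.ι).app _).symm ≪≫ (rho U.ι).mapIso (repIso G) ≪≫ e⟩⟩

/-- Extension of a perfect object added to its shift, as a complex. -/
theorem exists_extend_cx [IsAffine X] (U : X.Opens) (hU : IsCompact (U : Set X)) {T : Set X}
    (hT : IsClosed T) (hTc : IsCompact Tᶜ) (F : DCoh.D (U : Scheme.{u})) (hF : DCoh.IsPerfect F)
    (hFT : Supp F (U.ι.base ⁻¹' T)) :
    ∃ G : CochainComplex X.Modules ℤ, DCoh.IsPerfect (DCoh.toD X G) ∧ Supp (DCoh.toD X G) T ∧
      Nonempty (DerivedCategory.Q.obj ((DCoh.restrictCx U).obj G) ≅ F ⊞ F⟦(1 : ℤ)⟧) := by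
  haveI := quasiCompact_ι_of_isAffine U hU
  obtain ⟨G, hG, hGT, ⟨e⟩⟩ := exists_extend_affine U.ι hT hTc hF hFT
  obtain ⟨C, ⟨eC⟩, h⟩ := exists_rep U G e
  exact ⟨C, isPerfect_of_iso' eC.symm hG, hGT.of_iso eC.symm, h⟩

/-- Lifting maps over a quasi-compact open of an affine scheme. -/
theorem exists_lift_affine [IsAffine X] {U : Scheme.{u}} (j : U ⟶ X) [IsOpenImmersion j]
    [QuasiCompact j] {T : Set X} (hT : IsClosed T) (hTc : IsCompact Tᶜ) {G E' : DCoh.D X}
    (hG : DCoh.IsPerfect G) (hGT : Supp G T) (hE : DCoh.IsQCohD E')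
    (α : (rho j).obj G ⟶ (rho j).obj E') :
    ∃ (G₁ : DCoh.D X) (β : G₁ ⟶ G) (γ : G₁ ⟶ E'), DCoh.IsPerfect G₁ ∧ Supp G₁ T ∧
      IsIso ((rho j).map β) ∧ (rho j).map β ≫ α = (rho j).map γ := by
  haveI := hasRpush_scheme j
  haveI : HasInjectiveResolutions U.Modules := hasInjectiveResolutions_modules
  obtain ⟨C, g, d, hd, hC⟩ := exists_unit_triangle j E'
  let a : G ⟶ (DCoh.Rpush j).obj ((rho j).obj E') := (adjR j).homEquiv _ _ α
  haveI : CompactSpace U := QuasiCompact.compactSpace_of_compactSpace j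
  have hR : IsOpen (Set.range j.base) := j.isOpenEmbedding.isOpen_range
  have hCq : DCoh.IsQCohD C := isQCohD_obj₃ hd hE (isQCohD_rpush j (isQCohD_rho j hE))
  obtain ⟨G', q, φ', hG', hG'R, hq, hpres⟩ := exists_factor_affine hR.isClosed_compl
    (by rw [compl_compl]; exact isCompact_range j.continuous) hG hCq hC (a ≫ g)
  obtain ⟨G₁, β, δ, hβ⟩ := distinguished_cocone_triangle₁ q
  have h0 : β ≫ q = 0 := comp_distTriang_mor_zero₁₂ _ hβ
  obtain ⟨γ, hγ⟩ := Triangle.coyoneda_exact₂ _ hd (β ≫ a)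
    (show (β ≫ a) ≫ g = 0 by rw [Category.assoc, ← hq, reassoc_of% h0, zero_comp])
  refine ⟨G₁, β, γ, isPerfect_tri₁ hβ hG hG', supp_obj₁ hβ hGT (hpres T hT hTc hGT), ?_, ?_⟩
  · exact (Triangle.isZero₃_iff_isIso₁ _ ((rho j).map_distinguished _ hβ)).1
      ((isZero_rho_iff j G').2 hG'R)
  · have h1 := congrArg (fun x => (rho j).map x ≫ (adjR j).counit.app ((rho j).obj E')) hγ
    simp only [Functor.map_comp, Category.assoc] at h1
    erw [homEquiv_back] at h1
    change (rho j).map β ≫ α = (rho j).map γ ≫ (rho j).map ((adjR j).unit.app E') ≫ _ at h1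
    rw [h1]
    erw [(adjR j).left_triangle_components E', Category.comp_id]

/-- Generators in the form of the statements. -/
theorem exists_generator [CompactSpace X] [QuasiSeparatedSpace X] {T : Set X} (hT : IsClosed T)
    (hTc : IsCompact Tᶜ) :
    ∃ P : DCoh.D X, DCoh.IsPerfect P ∧ DCoh.IsQCohD P ∧ Supp P T ∧
      ∀ E : DCoh.D X, DCoh.IsQCohD E → Supp E T →
        (IsZero E ↔ ∀ (n : ℤ) (φ : P⟦n⟧ ⟶ E), φ = 0) := by
  obtain ⟨P, hP, hPT, h⟩ := hasGen (X := X) T hT hTc
  exact ⟨P, hP, isQCohD_of_isPerfect hP, hPT, fun E hE hET =>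
    ⟨fun hz n φ => hz.eq_of_tgt φ 0, h E hE hET⟩⟩

/-- Finite supports give the bijection defining compactness. -/
lemma bijective_perfAux {D : Type*} [Category D] [Preadditive D] {K : D} {ι : Type u} (N : ι → D) [HasCoproduct N]
    (h : FixAt N K) : Function.Bijective (PerfAux.homSumToHomCoprod K N) := by
  classical
  let p : ∀ j, ∐ N ⟶ N j := fun j =>
    Sigma.desc fun i => if h : i = j then eqToHom (congrArg N h) else 0
  have hp : ∀ j, Sigma.ι N j ≫ p j = 𝟙 _ := fun j => by simp [p]
  have hp' : ∀ i j, i ≠ j → Sigma.ι N i ≫ p j = 0 := fun i j hij => by simp [p, hij]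
  have hof : ∀ i (g : K ⟶ N i),
      PerfAux.homSumToHomCoprod K N (DirectSum.of _ i g) = g ≫ Sigma.ι N i := fun i g => by
    simp [PerfAux.homSumToHomCoprod, Preadditive.rightComp]
  refine ⟨(injective_iff_map_eq_zero _).2 fun x hx => ?_, fun φ => ?_⟩
  · ext j
    have key : ∀ y, PerfAux.homSumToHomCoprod K N y ≫ p j = y j := fun y => by
      induction y using DirectSum.induction_on with
      | zero => simp
      | of i g =>
        rw [hof, Category.assoc]
        by_cases hij : i = j
        · subst hij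
          simp [hp]
        · rw [hp' i j hij, comp_zero, DirectSum.of_eq_of_ne _ _ _ (Ne.symm hij)]
      | add a b ha hb => rw [map_add, Preadditive.add_comp, ha, hb]; rfl
    rw [← key x, hx, zero_comp]
    rfl
  · obtain ⟨F, hF⟩ := h φ
    refine ⟨∑ i ∈ F, DirectSum.of _ i (φ ≫ p i), ?_⟩
    rw [map_sum]
    simp only [hof, Category.assoc]
    rw [← Preadditive.comp_sum]
    refine (congrArg (φ ≫ ·) ?_).trans hF
    refine Sigma.hom_ext _ _ fun i => ?_
    rw [Preadditive.comp_sum]
    by_cases hi : i ∈ F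
    · rw [ι_partProj_mem N hi, Finset.sum_eq_single i (fun b _ hb => by
        rw [← Category.assoc, hp' i b (Ne.symm hb), zero_comp]) (fun h => absurd hi h),
        ← Category.assoc, hp, Category.id_comp]
    · rw [ι_partProj_not_mem N hi]
      exact Finset.sum_eq_zero fun b hb => by
        rw [← Category.assoc, hp' i b (fun h => hi (h ▸ hb)), zero_comp]

/-- Compact is the same as perfect. -/
theorem compactRel_iff [CompactSpace X] [QuasiSeparatedSpace X] {T : Set X} (hT : IsClosed T)
    (hTc : IsCompact Tᶜ) (K : DCoh.D X) (hK : QT T K) (Pr : DCoh.D X → Prop)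
    (hPr : ∀ E, Pr E ↔ QT T E) :
    PerfAux.IsCompactObjRel.{u} Pr K ↔ DCoh.IsPerfect K := by
  classical
  constructor
  · intro h
    refine isPerfect_of_compact hT hTc hK fun J M _ hM φ => ?_
    obtain ⟨x, hx⟩ := (h J M fun j => (hPr _).2 (hM j)).2 φ
    refine ⟨DFinsupp.support x, ?_⟩
    have key : ∀ (y : DirectSum J fun i => K ⟶ M i) (F : Finset J), DFinsupp.support y ⊆ F →
        PerfAux.homSumToHomCoprod K M y ≫ partProj M F = PerfAux.homSumToHomCoprod K M y := by
      intro y F hF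
      conv_lhs => rw [← DirectSum.sum_support_of y]
      conv_rhs => rw [← DirectSum.sum_support_of y]
      simp only [map_sum, Preadditive.sum_comp]
      refine Finset.sum_congr rfl fun i hi => ?_
      simp only [PerfAux.homSumToHomCoprod, DirectSum.toAddMonoid_of]
      show (y i ≫ Sigma.ι M i) ≫ partProj M F = y i ≫ Sigma.ι M i
      rw [Category.assoc, ι_partProj_mem M (hF hi)]
    rw [← hx]
    exact key x _ subset_rfl
  · intro h J M _ hM
    exact bijective_perfAux M
      (fix_of_isPerfect_qcoh h M fun j => ((hPr _).1 (hM j)).1).at_zero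

end Groth.Agent.PerfGen7
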