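import Groth.Agent.PerfGen7.BrownGen
import Groth.Agent.KFlatLib.Scheme.RpushTriangle

/-!
# Right adjoints on `D_QCoh`
-/

set_option linter.style.haveILetI false
set_option backward.isDefEq.respectTransparency false

universe u

open CategoryTheory CategoryTheory.Limits AlgebraicGeometry Pretriangulated

attribute [local instance] HasDerivedCategory.standard

namespace Groth.Agent.PerfGen7

open Groth.Agent.KFlatLib

variable {X Y : Scheme.{u}}

instance isQCohD_closedUnderIso : (DCoh.IsQCohD (X := X)).IsClosedUnderIsomorphisms :=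
  ⟨fun e h => isQCohD_of_iso e h⟩

instance isQCohD_isTriangulated : (DCoh.IsQCohD (X := X)).IsTriangulated where
  exists_zero := ⟨_, isZero_zero _, isQCohD_of_isPerfect (isPerfect_of_isZero' (isZero_zero _))⟩
  isStableUnderShiftBy n := ⟨fun _ h => isQCohD_shift h n⟩
  ext₂' _ hT h₁ h₃ := ObjectProperty.le_isoClosure _ _ (isQCohD_obj₂ hT h₁ h₃)

/-- Morphisms out of `Rf_*` on quasi-coherent objects are represented. -/
theorem exists_rep_rpush [CompactSpace X] [QuasiSeparatedSpace X] (f : X ⟶ Y) [QuasiCompact f]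
    [QuasiSeparated f] [DCoh.HasRpush f] (N : DCoh.D Y) :
    ∃ (L : DCoh.D X) (x : (DCoh.Rpush f).obj L ⟶ N), DCoh.IsQCohD L ∧
      ∀ A : DCoh.D X, DCoh.IsQCohD A →
        Function.Bijective fun g : A ⟶ L => (DCoh.Rpush f).map g ≫ x := by
  haveI : ∀ J : Type u, HasColimitsOfShape (Discrete J) (DCoh.D X) :=
    fun J => TriCat.hasColimitsOfShape_derivedCategory
  haveI : ∀ J : Type u, HasColimitsOfShape (Discrete J) (DCoh.D Y) :=
    fun J => TriCat.hasColimitsOfShape_derivedCategory
  haveI := rpush_additive f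
  obtain ⟨P, hP, -, hdet⟩ := hasGen (X := X) Set.univ isClosed_univ (by simp)
  refine Brown.exists_rep (Pr := DCoh.IsQCohD) (P := P)
    ⟨fun J M hM => isQCohD_sigma M hM, isQCohD_of_isPerfect hP,
      fun A hA => hdet A hA (supp_univ A), fun J M hM => fix_of_isPerfect_qcoh hP M hM,
      fun J M hM => ?_, fun T hT _ _ x hx => ?_, small_hom, fun A => small_hom _ _⟩
  · haveI := isIso_sigmaDesc_rpush f M hM
    let c := asIso (Sigma.desc fun i => (DCoh.Rpush f).map (Sigma.ι M i))
    refine ⟨fun x x' hxx => (cancel_epi c.hom).1 (Sigma.hom_ext _ _ fun j => ?_),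
      fun z => ⟨c.inv ≫ Sigma.desc z, funext fun j => ?_⟩⟩
    · simpa [c] using congrFun hxx j
    · have : (DCoh.Rpush f).map (Sigma.ι M j) = Sigma.ι _ j ≫ c.hom := by simp [c]
      show (DCoh.Rpush f).map (Sigma.ι M j) ≫ c.inv ≫ Sigma.desc z = z j
      rw [this, Category.assoc, c.hom_inv_id_assoc, Sigma.ι_desc]
  · obtain ⟨c, hc⟩ := exists_rpush_triangle f T hT
    exact Triangle.yoneda_exact₂ _ hc x hx

/-- `D_QCoh` has a compact detecting perfect object. -/
theorem exists_ctx_id [CompactSpace X] [QuasiSeparatedSpace X]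
    [∀ J : Type u, HasColimitsOfShape (Discrete J) (DCoh.D X)] :
    ∃ P : DCoh.D X, DCoh.IsPerfect P ∧
      ∀ N : DCoh.D X, Brown.Ctx (DCoh.IsQCohD (X := X)) P (𝟭 (DCoh.D X)) N := by
  obtain ⟨P, hP, -, hdet⟩ := hasGen (X := X) Set.univ isClosed_univ (by simp)
  exact ⟨P, hP, fun N =>
    ⟨fun J M hM => isQCohD_sigma M hM, isQCohD_of_isPerfect hP,
      fun A hA => hdet A hA (supp_univ A), fun J M hM => fix_of_isPerfect_qcoh hP M hM,
      fun J M _ => ⟨fun x x' hxx => Sigma.hom_ext _ _ fun j => congrFun hxx j,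
        fun z => ⟨Sigma.desc z, funext fun j => Sigma.ι_desc _ _⟩⟩,
      fun T hT _ _ x hx => Triangle.yoneda_exact₂ _ hT x hx, small_hom, fun A => small_hom _ _⟩⟩

/-- Morphisms into any object, on quasi-coherent objects, are represented. -/
theorem exists_rep_id [CompactSpace X] [QuasiSeparatedSpace X] (N : DCoh.D X) :
    ∃ (L : DCoh.D X) (x : L ⟶ N), DCoh.IsQCohD L ∧
      ∀ A : DCoh.D X, DCoh.IsQCohD A → Function.Bijective fun g : A ⟶ L => g ≫ x := by
  haveI : ∀ J : Type u, HasColimitsOfShape (Discrete J) (DCoh.D X) :=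
    fun J => TriCat.hasColimitsOfShape_derivedCategory
  obtain ⟨P, -, hctx⟩ := exists_ctx_id (X := X)
  exact Brown.exists_rep (hctx N)

end Groth.Agent.PerfGen7
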