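import Groth.Agent.PerfGen7.TensorModCx
import Groth.Agent.PerfGen7.BrownDQCoh
import Groth.Agent.KFlatLib.Scheme.Adjoint
import Groth.Agent.KFlatLib.Scheme.RGammaPush
import Groth.Agent.KFlatLib.InnerUnit

/-!
# `Rf_* RHom(E, -)` on perfect `E` detects isomorphisms in `D_QCoh`
-/

set_option linter.style.haveILetI false
set_option backward.isDefEq.respectTransparency false

universe u

open CategoryTheory CategoryTheory.Limits AlgebraicGeometry Pretriangulated

attribute [local instance] HasDerivedCategory.standard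

namespace Groth.Agent.PerfGen7

open Groth.Agent.KFlatLib

variable {X Y : Scheme.{u}}

lemma isKFlat_degZero_structure : DCoh.IsKFlat (degZero (Coh.structureModule X)) :=
  isKFlat_of_isStrictlyLE _ 0 (isFlat_single 0 isFlat_structureModule)

/-- `O[0] ⊗ E ≅ E`. -/
noncomputable def tensorCxUnitIso (E : CochainComplex X.Modules ℤ) :
    (DCoh.tensorCx.obj (degZero (Coh.structureModule X))).obj E ≅ E :=
  (symmIso (tensorBiFlipIso X) E).app (degZero (Coh.structureModule X)) ≪≫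
    (Inner.tensorUnitShiftIso (DCoh.tensorBi (X := X)) (Coh.structureModule X)
      (tensorStructureIso X) 0).app E ≪≫
    (shiftFunctorZero' (CochainComplex X.Modules ℤ) (-0) (by simp)).app E

/-- `O ⊗^L E ≅ E`. -/
theorem nonempty_ltensor_unit (E : CochainComplex X.Modules ℤ) [DCoh.HasLTensorCx E] :
    Nonempty ((DCoh.LTensorCx E).obj (DCoh.toD X (degZero (Coh.structureModule X))) ≅
      DCoh.toD X E) :=
  ⟨ltensorCxIso E isKFlat_degZero_structure ≪≫ DerivedCategory.Q.mapIso (tensorCxUnitIso E)⟩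

/-- `Lf^* O ≅ O`. -/
theorem nonempty_lpull_unit (f : X ⟶ Y) [DCoh.HasLpull f] :
    Nonempty ((DCoh.Lpull f).obj (DCoh.toD Y (degZero (Coh.structureModule Y))) ≅
      DCoh.toD X (degZero (Coh.structureModule X))) := by
  haveI : IsIso (SheafOfModules.pullbackObjUnitToUnit f.toRingCatSheafHom) := inferInstance
  let e : (Scheme.Modules.pullback f).obj (Coh.structureModule Y) ≅ Coh.structureModule X :=
    asIso (SheafOfModules.pullbackObjUnitToUnit f.toRingCatSheafHom)
  exact ⟨lpullIso f isKFlat_degZero_structure ≪≫ DerivedCategory.Q.mapIso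
    ((HomologicalComplex.singleMapHomologicalComplex (Scheme.Modules.pullback f) _ 0).app _ ≪≫
      (HomologicalComplex.single _ _ 0).mapIso e)⟩

/-- Maps out of `Q E` are maps from the unit to `Rf_* RHom(E, -)`. -/
theorem bijective_comp_of_isIso_rpush (f : X ⟶ Y) [DCoh.HasRpush f]
    (E : CochainComplex X.Modules ℤ) [DCoh.HasLTensorCx E] [DCoh.HasRSheafHom E] {F G : DCoh.D X}
    (φ : F ⟶ G) (h : IsIso ((DCoh.Rpush f).map ((DCoh.RSheafHom E).map φ))) :
    Function.Bijective fun g : DCoh.toD X E ⟶ F => g ≫ φ := by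
  haveI := hasLpull f
  obtain ⟨adj₁⟩ := nonempty_lpull_rpush_adj f
  let adj := adj₁.comp (DCoh.RSheafHomAdj E)
  let U := DCoh.toD Y (degZero (Coh.structureModule Y))
  obtain ⟨e₁⟩ := nonempty_lpull_unit f
  obtain ⟨e₂⟩ := nonempty_ltensor_unit E
  let e : (DCoh.Lpull f ⋙ DCoh.LTensorCx E).obj U ≅ DCoh.toD X E :=
    (DCoh.LTensorCx E).mapIso e₁ ≪≫ e₂
  let h' : ∀ B, (DCoh.toD X E ⟶ B) ≃ (U ⟶ (DCoh.RSheafHom E ⋙ DCoh.Rpush f).obj B) := fun B =>
    (e.symm.homCongr (Iso.refl B)).trans (adj.homEquiv U B)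
  have hn : ∀ g, h' G (g ≫ φ) = h' F g ≫ (DCoh.RSheafHom E ⋙ DCoh.Rpush f).map φ := fun g => by
    simp only [h', Equiv.trans_apply, Iso.homCongr_apply, Iso.symm_inv, Iso.refl_hom,
      Category.comp_id]
    rw [← Category.assoc, adj.homEquiv_naturality_right]
  haveI : IsIso ((DCoh.RSheafHom E ⋙ DCoh.Rpush f).map φ) := h
  refine ⟨fun g g' hg => (h' F).injective ((cancel_mono ((DCoh.RSheafHom E ⋙ DCoh.Rpush f).map φ)).1 ?_),
    fun k => ⟨(h' F).symm (h' G k ≫ inv ((DCoh.RSheafHom E ⋙ DCoh.Rpush f).map φ)), ?_⟩⟩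
  · rw [← hn, ← hn]; exact congrArg (h' G) hg
  · refine (h' G).injective ?_
    show h' G (_ ≫ φ) = h' G k
    rw [hn, Equiv.apply_symm_apply, Category.assoc, IsIso.inv_hom_id, Category.comp_id]

/-- A map in `D_QCoh` is an isomorphism when perfect objects see it as one. -/
theorem isIso_of_perfect_bijective [CompactSpace X] [QuasiSeparatedSpace X] {F G : DCoh.D X} (hF : DCoh.IsQCohD F) (hG : DCoh.IsQCohD G) (φ : F ⟶ G)
    (h : ∀ (E : CochainComplex X.Modules ℤ), DCoh.IsPerfect (DCoh.toD X E) →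
      Function.Bijective fun g : DCoh.toD X E ⟶ F => g ≫ φ) : IsIso φ := by
  haveI : ∀ J : Type u, HasColimitsOfShape (Discrete J) (DCoh.D X) :=
    fun J => TriCat.hasColimitsOfShape_derivedCategory
  obtain ⟨P, hP, hctx⟩ := exists_ctx_id (X := X)
  refine Brown.isIso_of_good (hctx G) hF hG (x := φ) (x' := 𝟙 _) (fun n => ?_)
    (fun n => ⟨fun g g' h => by simpa using h, fun g => ⟨g, by simp⟩⟩) φ (Category.comp_id φ)
  let E := DerivedCategory.Q.objPreimage (P⟦n⟧)
  let eE : DCoh.toD X E ≅ P⟦n⟧ := DerivedCategory.Q.objObjPreimageIso (P⟦n⟧)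
  have hb := h E (isPerfect_of_iso' eE.symm (isPerfect_shift' hP n))
  refine ⟨fun g g' hg => (cancel_epi eE.hom).1 (hb.1 ?_), fun k => ?_⟩
  · simp only [Category.assoc]; exact congrArg (eE.hom ≫ ·) hg
  · obtain ⟨g, hg⟩ := hb.2 (eE.hom ≫ k)
    refine ⟨eE.inv ≫ g, ?_⟩
    show (eE.inv ≫ g) ≫ φ = k
    rw [Category.assoc, show g ≫ φ = eE.hom ≫ k from hg, eE.inv_hom_id_assoc]

end Groth.Agent.PerfGen7
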