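import Groth.Agent.PerfGen7.LiftGlobal
import Groth.Agent.KFlatLib.Scheme.RpushBound

/-!
# Boundedness and maps from perfect objects
-/

set_option linter.style.haveILetI false
set_option backward.isDefEq.respectTransparency false

universe u

open CategoryTheory CategoryTheory.Limits AlgebraicGeometry Pretriangulated ZeroObject

attribute [local instance] HasDerivedCategory.standard

namespace Groth.Agent.PerfGen7

open Groth.Agent.KFlatLib

variable {X : Scheme.{u}}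

/-- Cohomology of a shift. -/
noncomputable def hdShift (L : DCoh.D X) (n i j : ℤ) (h : n + i = j) :
    DCoh.HD (L⟦n⟧) i ≅ DCoh.HD L j :=
  ((DerivedCategory.homologyFunctor X.Modules 0).shiftIso n i j h).app L

/-- Vanishing of maps may be shifted. -/
lemma hom_zero_shift {A B : DCoh.D X} (n m : ℤ) (hnm : n + m = 0)
    (h : ∀ φ : A ⟶ B⟦m⟧, φ = 0) (φ : A⟦n⟧ ⟶ B) : φ = 0 := by
  refine (shiftFunctor (DCoh.D X) m).map_injective ?_
  rw [Functor.map_zero, ← cancel_epi ((shiftFunctorCompIsoId (DCoh.D X) n m hnm).inv.app A), comp_zero]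
  exact h _

/-- Maps from a perfect object into `D_QCoh` only see finitely many degrees. -/
theorem exists_vanishing_range [CompactSpace X] [QuasiSeparatedSpace X] {K : DCoh.D X}
    (hK : DCoh.IsPerfect K) :
    ∃ a b : ℤ, a ≤ b ∧ ∀ L : DCoh.D X, DCoh.IsQCohD L →
      (∀ i : ℤ, a ≤ i → i ≤ b → IsZero (DCoh.HD L i)) → ∀ φ : K ⟶ L, φ = 0 := by
  let Φ : ObjectProperty (DCoh.D X) := fun K => ∃ a b : ℤ, a ≤ b ∧ ∀ L : DCoh.D X, DCoh.IsQCohD L →
    (∀ i : ℤ, a ≤ i → i ≤ b → IsZero (DCoh.HD L i)) → ∀ φ : K ⟶ L, φ = 0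
  haveI : Φ.IsClosedUnderIsomorphisms := ⟨fun e ⟨a, b, hab, h⟩ => ⟨a, b, hab, fun L hL hz φ =>
    (cancel_epi e.hom).1 (by rw [h L hL hz (e.hom ≫ φ), comp_zero])⟩⟩
  haveI : Φ.IsTriangulated :=
    { exists_zero := ⟨0, isZero_zero _, 0, 0, le_rfl, fun L _ _ φ => (isZero_zero _).eq_of_src φ 0⟩
      isStableUnderShiftBy := fun n => ⟨fun A ⟨a, b, hab, h⟩ => ⟨a - n, b - n, by omega,
        fun L hL hz => hom_zero_shift n (-n) (by omega) fun φ => h _ (isQCohD_shift hL _)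
          (fun i ha hb => (hz (-n + i) (by omega) (by omega)).of_iso (hdShift L (-n) i _ rfl)) φ⟩⟩
      ext₂' := fun τ hτ ⟨a₁, b₁, h₁, k₁⟩ ⟨a₃, b₃, h₃, k₃⟩ => ObjectProperty.le_isoClosure _ _
        ⟨min a₁ a₃, max b₁ b₃, by omega, fun L hL hz φ => by
          obtain ⟨χ, hχ⟩ := Triangle.yoneda_exact₂ _ hτ φ
            (k₁ L hL (fun i ha hb => hz i (by omega) (by omega)) _)
          rw [hχ, k₃ L hL (fun i ha hb => hz i (by omega) (by omega)) χ, comp_zero]⟩ }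
  refine perfect_devissage Φ (fun V hV => ⟨0, 0, le_rfl, fun L hL hz φ => ?_⟩) hK
  refine (bijH0_of_isQCohD hL hV).1 ?_
  rw [psi_zero]
  exact (hz 0 le_rfl le_rfl).eq_of_tgt _ _

/-- Both parts of the vanishing statement. -/
theorem finite_nonzero_shifts [CompactSpace X] [QuasiSeparatedSpace X] {K : DCoh.D X}
    (hK : DCoh.IsPerfect K) (L : DCoh.D X) (a' b' : ℤ) (hL : DCoh.IsQCohD L) (hge : L.IsGE a')
    (hle : L.IsLE b') : {n : ℤ | ∃ φ : K ⟶ L⟦n⟧, φ ≠ 0}.Finite := by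
  obtain ⟨a, b, -, h⟩ := exists_vanishing_range hK
  refine (Set.finite_Icc (a' - b) (b' - a)).subset fun n ⟨φ, hφ⟩ => ?_
  by_contra hn
  simp only [Set.mem_Icc, not_and_or, not_le] at hn
  refine hφ (h _ (isQCohD_shift hL n) (fun i hai hib => ?_) φ)
  refine IsZero.of_iso ?_ (hdShift L n i _ rfl)
  rcases hn with hn | hn
  · haveI := hge
    exact DerivedCategory.isZero_of_isGE L a' _ (by omega)
  · haveI := hle
    exact DerivedCategory.isZero_of_isLE L b' _ (by omega)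

section Filter

variable {l : Filter ℤ} (hl : ∀ k : ℤ, Filter.Tendsto (fun i => i + k) l l)
include hl

/-- Eventual vanishing of cohomology gives eventual vanishing of maps. -/
lemma eventually_hom_zero [CompactSpace X] [QuasiSeparatedSpace X] {Q : DCoh.D X}
    (hQ : DCoh.IsPerfect Q) {L : DCoh.D X} (hL : DCoh.IsQCohD L)
    (h : ∀ᶠ i in l, IsZero (DCoh.HD L i)) :
    ∀ᶠ i in l, ∀ φ : Q⟦-i⟧ ⟶ L, φ = 0 := by
  obtain ⟨a, b, -, hab⟩ := exists_vanishing_range hQ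
  have : ∀ᶠ i in l, ∀ k ∈ Finset.Icc a b, IsZero (DCoh.HD L (i + k)) :=
    (Filter.eventually_all_finset _).2 fun k _ => (hl k).eventually h
  refine this.mono fun i hi => hom_zero_shift (-i) i (by omega) fun φ => ?_
  exact hab _ (isQCohD_shift hL i)
    (fun k hak hkb => (hi k (Finset.mem_Icc.2 ⟨hak, hkb⟩)).of_iso (hdShift L i k _ rfl)) φ

/-- Boundedness in the direction of `l` may be tested on perfect objects. -/
def Detects (l : Filter ℤ) (Y : Scheme.{u}) : Prop :=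
  ∀ E : DCoh.D Y, DCoh.IsQCohD E →
    (∀ Q : DCoh.D Y, DCoh.IsPerfect Q → ∀ᶠ i in l, ∀ φ : Q⟦-i⟧ ⟶ E, φ = 0) →
    ∀ᶠ i in l, IsZero (DCoh.HD E i)

lemma detects_step [CompactSpace X] [QuasiSeparatedSpace X] (U V : X.Opens) (hUV : U ⊔ V = ⊤)
    (hU : IsCompact (U : Set X)) (hV : IsAffineOpen V)
    (hpush : ∀ (M : DCoh.D (U : Scheme.{u})) [DCoh.HasRpush U.ι], DCoh.IsQCohD M →
      (∀ᶠ i in l, IsZero (DCoh.HD M i)) → ∀ᶠ i in l, IsZero (DCoh.HD ((DCoh.Rpush U.ι).obj M) i))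
    (ih : Detects l (U : Scheme.{u})) : Detects l X := by
  intro E hE h
  haveI : IsAffine (V : Scheme.{u}) := hV
  haveI := hasRpush_scheme V.ι
  haveI := hasRpush_scheme U.ι
  haveI := rpush_additive V.ι
  haveI := quasiCompact_ι U hU
  haveI : HasInjectiveResolutions (U : Scheme.{u}).Modules := hasInjectiveResolutions_modules
  let Z : Set X := (U : Set X)ᶜ
  have hZ : IsClosed Z := U.2.isClosed_compl
  have hZV : Z ⊆ Set.range V.ι.base := fun x hx => by
    rw [Scheme.Opens.range_ι]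
    exact (TopologicalSpace.Opens.mem_sup.1 (hUV ▸ trivial : x ∈ U ⊔ V)).resolve_left hx
  have hZc : IsCompact (V.ι.base ⁻¹' Z)ᶜ := by
    rw [V.ι.isOpenEmbedding.isEmbedding.isCompact_iff, ← Set.preimage_compl,
      Set.image_preimage_eq_inter_range, Scheme.Opens.range_ι, compl_compl]
    exact QuasiSeparatedSpace.inter_isCompact _ _ U.2 hU V.2 hV.isCompact
  obtain ⟨K, hK, hKZ, hKdet⟩ := exists_kos_affine_deg (hZ.preimage V.ι.continuous) hZc
  let K' := (DCoh.Rpush V.ι).obj K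
  have hK' : DCoh.IsPerfect K' := isPerfect_rpush_of_support V K hK (V.ι.base ⁻¹' Z)
    (by rw [Set.image_preimage_eq_of_subset hZV]; exact hZ) hKZ
  have hK'Z : Supp K' Z := supp_rpush V.ι hZ hKZ
  obtain ⟨C, g, d, hd, hC⟩ := exists_unit_triangle U.ι E
  rw [Scheme.Opens.range_ι] at hC
  let RU := (DCoh.Rpush U.ι).obj ((rho U.ι).obj E)
  have hCq : DCoh.IsQCohD C :=
    isQCohD_obj₃ hd hE (isQCohD_rpush U.ι (isQCohD_rho U.ι hE))
  have hKC : ∀ᶠ i in l, ∀ φ : K'⟦-i⟧ ⟶ C, φ = 0 := by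
    refine ((hl 1).eventually (h K' hK')).mono fun i hi φ => ?_
    obtain ⟨ψ, hψ⟩ : ∃ ψ : K'⟦-i⟧ ⟶ RU, φ = ψ ≫ g := by
      refine Triangle.coyoneda_exact₂ _ (rot_of_distTriang _ hd) φ ?_
      let ε : K'⟦-(i + 1)⟧⟦(1 : ℤ)⟧ ≅ K'⟦-i⟧ :=
        ((shiftFunctorAdd' (DCoh.D X) (-(i + 1)) 1 (-i) (by omega)).app K').symm
      obtain ⟨ψ, hψ⟩ := (shiftFunctor (DCoh.D X) (1 : ℤ)).map_surjective (ε.hom ≫ φ ≫ d)
      rw [hi ψ, Functor.map_zero] at hψ
      exact (cancel_epi ε.hom).1 (by rw [comp_zero]; exact hψ.symm)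
    rw [hψ, eq_zero_of_rho_isZero U.ι ((isZero_rho_iff U.ι _).2 (by
      rw [Scheme.Opens.range_ι]; exact hK'Z.shift _)) ψ, zero_comp]
  have hCz : ∀ᶠ i in l, IsZero (DCoh.HD C i) := by
    refine hKC.mono fun i hi => ?_
    haveI := isIso_unit_of_supp V.ι C hZV hC (supp_rpush V.ι hZ (hC.rho V.ι))
    have hz := hKdet _ (isQCohD_rho V.ι hCq) (hC.rho V.ι) (-i) fun φ => by
      let c := ((rho V.ι).commShiftIso (-i)).app K' ≪≫
        (shiftFunctor _ (-i)).mapIso (asIso ((adjR V.ι).counit.app K))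
      have h1 := hi ((adjR V.ι).homEquiv _ _ (c.hom ≫ φ) ≫ inv ((adjR V.ι).unit.app C))
      have h2 : (adjR V.ι).homEquiv _ _ (c.hom ≫ φ) = 0 :=
        (Preadditive.IsIso.comp_right_eq_zero _ (inv ((adjR V.ι).unit.app C))).1 h1
      have h3 := congrArg (fun x => (rho V.ι).map x ≫ (adjR V.ι).counit.app _) h2
      simp only [Functor.map_zero, zero_comp] at h3
      erw [homEquiv_back] at h3
      exact (Preadditive.IsIso.comp_left_eq_zero c.hom φ).1 h3
    rw [neg_neg] at hz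
    refine isZero_of_stalk _ fun x => ?_
    by_cases hx : x ∈ Set.range V.ι.base
    · obtain ⟨v, rfl⟩ := hx
      exact (isZero_stalk_rho_iff V.ι C v i).1 ((DerSch.stalkFunctor _ v).map_isZero hz)
    · exact supp_iff.1 hC x (fun hc => hx (hZV hc)) i
  have hQU : ∀ Q : DCoh.D X, DCoh.IsPerfect Q → ∀ᶠ i in l, ∀ φ : Q⟦-i⟧ ⟶ RU, φ = 0 := fun Q hQ => by
    refine ((h Q hQ).and (eventually_hom_zero hl hQ hCq hCz)).mono fun i ⟨h₁, h₂⟩ φ => ?_
    obtain ⟨χ, hχ⟩ := Triangle.coyoneda_exact₂ _ hd φ (h₂ _)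
    rw [hχ, h₁ χ, zero_comp]
  have hEU : ∀ᶠ i in l, IsZero (DCoh.HD ((rho U.ι).obj E) i) := by
    refine ih _ (isQCohD_rho U.ι hE) fun P hP => ?_
    obtain ⟨Q, hQ, -, ⟨r⟩⟩ := exists_extend_retract U hU (T := Set.univ) isClosed_univ (by simp) hP
      (supp_univ P)
    refine (hQU Q hQ).mono fun i hi φ => ?_
    let c := ((rho U.ι).commShiftIso (-i)).app Q
    have h2 : c.hom ≫ r.r⟦-i⟧' ≫ φ = 0 := ((adjR U.ι).homEquiv _ _).injective ((hi _).trans (hi _).symm)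
    calc φ = r.i⟦-i⟧' ≫ c.inv ≫ c.hom ≫ r.r⟦-i⟧' ≫ φ := by
          rw [Iso.inv_hom_id_assoc, ← Functor.map_comp_assoc, r.retract,
            CategoryTheory.Functor.map_id, Category.id_comp]
      _ = 0 := by rw [h2, comp_zero, comp_zero]
  have hRU := hpush _ (isQCohD_rho U.ι hE) hEU
  refine (hRU.and ((hl (-1)).eventually hCz)).mono fun i ⟨h₂, h₁⟩ => ?_
  have hex := DerivedCategory.HomologySequence.exact₂ _ (inv_rot_of_distTriang _ hd) i
  exact hex.isZero_of_both_zeros ((h₁.of_iso (hdShift C (-1) i (i + -1) (by omega))).eq_of_src _ _)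
    (h₂.eq_of_tgt _ _)

end Filter

lemma tendsto_add_atTop (k : ℤ) : Filter.Tendsto (fun i : ℤ => i + k) Filter.atTop Filter.atTop :=
  Filter.tendsto_atTop_add_const_right _ k Filter.tendsto_id

lemma tendsto_add_atBot (k : ℤ) : Filter.Tendsto (fun i : ℤ => i + k) Filter.atBot Filter.atBot :=
  Filter.tendsto_atBot_add_const_right _ k Filter.tendsto_id

lemma isGE_of_eventually {E : DCoh.D X} (h : ∀ᶠ i in Filter.atBot, IsZero (DCoh.HD E i)) :
    ∃ a : ℤ, E.IsGE a := by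
  obtain ⟨N, hN⟩ := Filter.eventually_atBot.1 h
  exact ⟨N, (DerivedCategory.isGE_iff E N).2 fun i hi => hN i hi.le⟩

lemma isLE_of_eventually {E : DCoh.D X} (h : ∀ᶠ i in Filter.atTop, IsZero (DCoh.HD E i)) :
    ∃ b : ℤ, E.IsLE b := by
  obtain ⟨N, hN⟩ := Filter.eventually_atTop.1 h
  exact ⟨N, (DerivedCategory.isLE_iff E N).2 fun i hi => hN i hi.le⟩

/-- Direct images of bounded above objects along quasi-compact opens are bounded above. -/
lemma eventually_rpush_atTop [CompactSpace X] {Y : Scheme.{u}} (f : Y ⟶ X) [QuasiCompact f]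
    [QuasiSeparated f] [DCoh.HasRpush f] {M : DCoh.D Y} (hM : DCoh.IsQCohD M)
    (h : ∀ᶠ i in Filter.atTop, IsZero (DCoh.HD M i)) :
    ∀ᶠ i in Filter.atTop, IsZero (DCoh.HD ((DCoh.Rpush f).obj M) i) := by
  haveI : HasInjectiveResolutions Y.Modules := hasInjectiveResolutions_modules
  obtain ⟨b, hb⟩ := isLE_of_eventually h
  haveI := hb
  choose d hd using fun V : X.affineOpens => exists_Rpush_bound_near f V.2
  have hcov : ∀ x : X, ∃ V : X.affineOpens, x ∈ V.1 := fun x => by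
    obtain ⟨_, ⟨V, hV, rfl⟩, hxV, -⟩ :=
      X.isBasis_affineOpens.exists_subset_of_mem_open (Set.mem_univ x) isOpen_univ
    exact ⟨⟨V, hV⟩, hxV⟩
  choose Vx hVx using hcov
  obtain ⟨s, hs⟩ := isCompact_univ.elim_finite_subcover (fun x : X => ((Vx x).1 : Set X))
    (fun x => (Vx x).1.2) fun x _ => Set.mem_iUnion.2 ⟨x, hVx x⟩
  refine Filter.eventually_atTop.2 ⟨b + (s.sup fun x => d (Vx x) : ℕ), fun i hi => ?_⟩
  refine isZero_of_stalk _ fun x => ?_
  obtain ⟨y, hy, hxy⟩ := Set.mem_iUnion₂.1 (hs (Set.mem_univ x))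
  have hle : d (Vx y) ≤ s.sup fun x => d (Vx x) := Finset.le_sup (f := fun x => d (Vx x)) hy
  have hz := isZero_restrict_hd_rpush f hM b (Vx y).1 (d (Vx y)) (fun M hM p hp => hd _ M hM p hp) i
    (by omega)
  have := (isZero_stalk_rho_iff (Vx y).1.ι ((DCoh.Rpush f).obj M) ⟨x, hxy⟩ i).1
    (((DerSch.stalkFunctor _ _).map_isZero hz).of_iso
      ((DerSch.stalkFunctor _ _).mapIso (restrictHDIso _ _ i)))
  exact this

/-- Boundedness may be tested on perfect objects, on a quasi-compact quasi-separated scheme. -/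
theorem detects_of_push {l : Filter ℤ} (hl : ∀ k : ℤ, Filter.Tendsto (fun i => i + k) l l)
    (hpush : ∀ {Y Z : Scheme.{u}} (f : Z ⟶ Y) [CompactSpace Y] [QuasiCompact f] [QuasiSeparated f]
      [DCoh.HasRpush f] {M : DCoh.D Z}, DCoh.IsQCohD M →
      (∀ᶠ i in l, IsZero (DCoh.HD M i)) → ∀ᶠ i in l, IsZero (DCoh.HD ((DCoh.Rpush f).obj M) i))
    [CompactSpace X] [QuasiSeparatedSpace X] : Detects l X := by
  suffices h : ∀ S : X.Opens, IsCompact (S : Set X) → ∀ (Y : Scheme.{u}) (j : Y ⟶ X)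
      [IsOpenImmersion j], Set.range j.base = S → Detects l Y from
    h ⊤ (by simpa using CompactSpace.isCompact_univ) X (𝟙 X) (by simp)
  intro S hS
  refine compact_open_induction_on (P := fun S => ∀ (Y : Scheme.{u}) (j : Y ⟶ X)
      [IsOpenImmersion j], Set.range j.base = S → Detects l Y) S hS ?_ ?_
  · intro Y j _ hj E _ _
    refine Filter.Eventually.of_forall fun i => isZero_of_stalk _ fun y => ?_
    have : j.base y ∈ Set.range j.base := ⟨y, rfl⟩
    rw [hj] at this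
    exact this.elim
  · intro S hS V ih Y j _ hj
    haveI := quasiSeparatedSpace_of_openImmersion j
    haveI : CompactSpace Y := by
      refine ⟨?_⟩
      rw [j.isOpenEmbedding.isEmbedding.isCompact_iff, Set.image_univ, hj]
      exact hS.union V.2.isCompact
    have hS' : (S : Set X) ⊆ Set.range j.base := hj ▸ Set.subset_union_left
    have hV' : (V.1 : Set X) ⊆ Set.range j.base := hj ▸ Set.subset_union_right
    haveI := quasiCompact_ι (j ⁻¹ᵁ S) (isCompact_preimage_of_range j hS hS')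
    refine detects_step hl (j ⁻¹ᵁ S) (j ⁻¹ᵁ V.1) ?_ (isCompact_preimage_of_range j hS hS')
      (V.2.preimage_of_isOpenImmersion j hV') (fun M _ hM h => hpush _ hM h)
      (ih _ ((j ⁻¹ᵁ S).ι ≫ j) (by rw [range_ι_comp]; exact Set.inter_eq_left.2 hS'))
    rw [← top_le_iff]
    intro y _
    have : j.base y ∈ Set.range j.base := ⟨y, rfl⟩
    rw [hj] at this
    exact this

theorem detects_atTop [CompactSpace X] [QuasiSeparatedSpace X] : Detects Filter.atTop X :=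
  detects_of_push tendsto_add_atTop fun f _ _ _ _ _ hM h => eventually_rpush_atTop f hM h

theorem detects_atBot [CompactSpace X] [QuasiSeparatedSpace X] : Detects Filter.atBot X :=
  detects_of_push tendsto_add_atBot fun f _ _ _ _ M _ h => by
    obtain ⟨a, ha⟩ := isGE_of_eventually h
    haveI := ha
    exact (Filter.eventually_atBot.2 ⟨a - 1, fun i hi => isZero_hd_rpush_of_lt f M a i (by omega)⟩)

/-- Perfect objects are retracts of objects built from a generator. -/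
theorem perfect_le_retractClosure [CompactSpace X] [QuasiSeparatedSpace X] {G : DCoh.D X}
    (hgen : ∀ E : DCoh.D X, DCoh.IsQCohD E → (∀ (n : ℤ) (φ : G⟦n⟧ ⟶ E), φ = 0) → IsZero E)
    (Φ : ObjectProperty (DCoh.D X)) [Φ.IsTriangulated] [Φ.IsClosedUnderIsomorphisms]
    (hΦ : ∀ A, Φ A → DCoh.IsPerfect A) (hGΦ : Φ G) {Q : DCoh.D X} (hQ : DCoh.IsPerfect Q) :
    Φ.retractClosure Q := by
  obtain ⟨A, g, h, hA, e⟩ := exists_factor_gen (T := Set.univ) isClosed_univ Φ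
    (fun A hA => ⟨hΦ A hA, supp_univ A⟩) hGΦ (fun E hE _ => hgen E hE)
    ⟨isQCohD_of_isPerfect hQ, supp_univ Q⟩ (cpt_of_isPerfect _ hQ) (𝟙 Q)
  exact ⟨A, hA, ⟨⟨g, h, e⟩⟩⟩

/-- Eventual vanishing for a generator gives it for all perfect objects. -/
theorem eventually_hom_zero_of_gen {l : Filter ℤ} (hl : ∀ k : ℤ, Filter.Tendsto (fun i => i + k) l l)
    [CompactSpace X] [QuasiSeparatedSpace X] {G : DCoh.D X} (hG : DCoh.IsPerfect G)
    (hgen : ∀ E : DCoh.D X, DCoh.IsQCohD E → (∀ (n : ℤ) (φ : G⟦n⟧ ⟶ E), φ = 0) → IsZero E)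
    {E : DCoh.D X} (h : ∀ᶠ i in l, ∀ φ : G⟦-i⟧ ⟶ E, φ = 0) {Q : DCoh.D X} (hQ : DCoh.IsPerfect Q) :
    ∀ᶠ i in l, ∀ φ : Q⟦-i⟧ ⟶ E, φ = 0 := by
  let Φ : ObjectProperty (DCoh.D X) := fun A => DCoh.IsPerfect A ∧
    ∀ᶠ i in l, ∀ φ : A⟦-i⟧ ⟶ E, φ = 0
  haveI : Φ.IsClosedUnderIsomorphisms := ⟨fun {A B} e ⟨hA, h⟩ => ⟨isPerfect_of_iso' e hA,
    h.mono fun i hi φ => (cancel_epi ((shiftFunctor _ (-i)).map e.hom)).1 ((hi _).trans comp_zero.symm)⟩⟩
  haveI : Φ.IsTriangulated :=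
    { exists_zero := ⟨0, isZero_zero _, isPerfect_of_isZero' (isZero_zero _),
        Filter.Eventually.of_forall fun i φ => ((shiftFunctor _ _).map_isZero (isZero_zero _)).eq_of_src φ 0⟩
      isStableUnderShiftBy := fun n => ⟨fun A ⟨hA, h⟩ => ⟨isPerfect_shift' hA n,
        ((hl (-n)).eventually h).mono fun i hi φ => by
          let ε := (shiftFunctorAdd' (DCoh.D X) n (-i) (-(i + -n)) (by omega)).app A
          exact (cancel_epi ε.hom).1 ((hi _).trans comp_zero.symm)⟩⟩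
      ext₂' := fun τ hτ ⟨p₁, h₁⟩ ⟨p₃, h₃⟩ => ObjectProperty.le_isoClosure _ _
        ⟨isPerfect_tri₂ hτ p₁ p₃, (h₁.and h₃).mono fun i ⟨k₁, k₃⟩ φ => by
          obtain ⟨χ, hχ⟩ := Triangle.yoneda_exact₂ _ (Triangle.shift_distinguished τ hτ (-i)) φ (k₁ _)
          rw [hχ, k₃ χ]; exact comp_zero⟩ }
  obtain ⟨A, ⟨-, hA⟩, ⟨r⟩⟩ := perfect_le_retractClosure hgen Φ (fun _ h => h.1) ⟨hG, h⟩ hQ
  refine hA.mono fun i hi φ => ?_
  calc φ = r.i⟦-i⟧' ≫ r.r⟦-i⟧' ≫ φ := by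
        rw [← Functor.map_comp_assoc, r.retract, CategoryTheory.Functor.map_id, Category.id_comp]
    _ = 0 := (congrArg _ (hi _)).trans comp_zero

end Groth.Agent.PerfGen7
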