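import Groth.Agent.PerfGen7.Supp
import Groth.Agent.H9Misc.TelLocal
import Groth.Agent.KFlatLib.Scheme.GlueD

/-!
# Gluing objects of the derived category together with maps
-/

set_option linter.style.haveILetI false
set_option backward.isDefEq.respectTransparency false

universe u

open CategoryTheory CategoryTheory.Limits AlgebraicGeometry Pretriangulated ZeroObject

attribute [local instance] HasDerivedCategory.standard

namespace Groth.Agent.PerfGen7

open Groth.Agent.KFlatLib

variable {X U V : Scheme.{u}}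

/-- Restricting twice, naturally. -/
noncomputable def rhoCompNat (i : V ⟶ U) [IsOpenImmersion i] (j : U ⟶ X) [IsOpenImmersion j]
    (k : V ⟶ X) [IsOpenImmersion k] (h : i ≫ j = k) : rho j ⋙ rho i ≅ rho k :=
  let qis := HomologicalComplex.quasiIso X.Modules (ComplexShape.up ℤ)
  letI : Localization.Lifting DerivedCategory.Q qis (rCx j ⋙ rCx i ⋙ DerivedCategory.Q)
      (rho j ⋙ rho i) := ⟨rhoQ₂ i j⟩
  letI : Localization.Lifting DerivedCategory.Q qis (rCx k ⋙ DerivedCategory.Q) (rho k) := ⟨rhoQ k⟩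
  Localization.liftNatIso DerivedCategory.Q qis (rCx j ⋙ rCx i ⋙ DerivedCategory.Q)
    (rCx k ⋙ DerivedCategory.Q) _ _
    ((Functor.associator _ _ _).symm ≪≫ Functor.isoWhiskerRight
      (NatIso.mapHomologicalComplex ((Scheme.Modules.restrictFunctorComp i j).symm ≪≫
        Scheme.Modules.restrictFunctorCongr h) (ComplexShape.up ℤ)) DerivedCategory.Q)

/-- Extension by zero on derived categories. -/
noncomputable abbrev lshD (j : U ⟶ X) [IsOpenImmersion j] : DCoh.D U ⥤ DCoh.D X :=
  (lsh j).mapDerivedCategory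

/-- Extension by zero is left adjoint to restriction. -/
noncomputable def lshDAdj (j : U ⟶ X) [IsOpenImmersion j] : lshD j ⊣ rho j :=
  haveI : PreservesColimitsOfSize.{0, 0} (lsh j) := (lshAdj j).leftAdjoint_preservesColimits
  haveI : PreservesFiniteColimits (lsh j) := ⟨fun _ => inferInstance⟩
  H9Misc.TelLocal.derivedAdjunction (lshAdj j)

/-- Restricting an extension by zero. -/
noncomputable def lshDRho (j : U ⟶ X) [IsOpenImmersion j] : lshD j ⋙ rho j ≅ 𝟭 (DCoh.D U) :=
  let qis := HomologicalComplex.quasiIso U.Modules (ComplexShape.up ℤ)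
  let L := (lsh j).mapHomologicalComplex (ComplexShape.up ℤ)
  letI : Localization.Lifting DerivedCategory.Q qis (L ⋙ rCx j ⋙ DerivedCategory.Q)
      (lshD j ⋙ rho j) :=
    ⟨(Functor.associator _ _ _).symm ≪≫
      Functor.isoWhiskerRight (lsh j).mapDerivedCategoryFactors (rho j) ≪≫
      Functor.associator _ _ _ ≪≫ Functor.isoWhiskerLeft _ (rhoQ j)⟩
  letI : Localization.Lifting DerivedCategory.Q qis DerivedCategory.Q (𝟭 (DCoh.D U)) :=
    ⟨Functor.rightUnitor _⟩
  Localization.liftNatIso DerivedCategory.Q qis (L ⋙ rCx j ⋙ DerivedCategory.Q) DerivedCategory.Q _ _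
    ((Functor.associator _ _ _).symm ≪≫ Functor.isoWhiskerRight
      (NatIso.mapHomologicalComplex (asIso (lshAdj j).unit).symm (ComplexShape.up ℤ) ≪≫
        Functor.mapHomologicalComplexIdIso _ _) DerivedCategory.Q ≪≫ Functor.leftUnitor _)

instance isIso_lshD_unit (j : U ⟶ X) [IsOpenImmersion j] : IsIso (lshDAdj j).unit :=
  (lshDAdj j).isIso_unit_of_iso (lshDRho j)

/-- Extensions by zero live on the open. -/
lemma supp_lshD (j : U ⟶ X) [IsOpenImmersion j] (M : DCoh.D U) :
    Supp ((lshD j).obj M) (Set.range j.base) :=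
  haveI : PreservesColimitsOfSize.{0, 0} (lsh j) := (lshAdj j).leftAdjoint_preservesColimits
  haveI : PreservesFiniteColimits (lsh j) := ⟨fun _ => inferInstance⟩
  supp_iff.2 fun x hx i => (isZero_stalk_lsh j x hx (DCoh.HD M i)).of_iso
    ((DerSch.stalkFunctor X x).mapIso ((mapDCHomologyIso (lsh j) i).app M))

/-- The cone of the counit of extension by zero. -/
lemma isIso_rho_counit {W O O' : Scheme.{u}} (w : W ⟶ X) [IsOpenImmersion w] (o : O ⟶ X)
    [IsOpenImmersion o] (o' : O' ⟶ X) [IsOpenImmersion o'] (hle : Set.range w.base ⊆ Set.range o'.base)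
    (hint : Set.range o.base ∩ Set.range o'.base ⊆ Set.range w.base) (M : DCoh.D O') :
    IsIso ((rho o).map ((lshDAdj w).counit.app ((lshD o').obj M))) := by
  obtain ⟨C, g, d, hd⟩ := distinguished_cocone_triangle ((lshDAdj w).counit.app ((lshD o').obj M))
  have hw : IsIso ((rho w).map ((lshDAdj w).counit.app ((lshD o').obj M))) :=
    @IsIso.of_isIso_fac_left _ _ _ _ _ _ _ _ inferInstance (IsIso.id _)
      ((lshDAdj w).right_triangle_components ((lshD o').obj M))
  have h1 : Supp C (Set.range o'.base) :=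
    supp_obj₃ hd ((supp_lshD w _).mono hle) (supp_lshD o' M)
  have h2 : Supp C (Set.range w.base)ᶜ := (isZero_rho_iff w C).1
    ((Triangle.isZero₃_iff_isIso₁ _ ((rho w).map_distinguished _ hd)).2 hw)
  refine (Triangle.isZero₃_iff_isIso₁ _ ((rho o).map_distinguished _ hd)).1
    ((isZero_rho_iff o C).2 (supp_iff.2 fun x hx i => ?_))
  simp only [Set.mem_compl_iff, not_not] at hx
  by_cases hx' : x ∈ Set.range o'.base
  · exact supp_iff.1 h2 x (fun h => h (hint ⟨hx, hx'⟩)) i
  · exact supp_iff.1 h1 x hx' i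

/-- Gluing with maps to a given object. -/
theorem exists_glue_map {W : Scheme.{u}} (u : U ⟶ X) [IsOpenImmersion u] (v : V ⟶ X) [IsOpenImmersion v]
    (w : W ⟶ X) [IsOpenImmersion w] (i : W ⟶ U) [IsOpenImmersion i] (k : W ⟶ V) [IsOpenImmersion k]
    (hi : i ≫ u = w) (hk : k ≫ v = w)
    (hint : Set.range u.base ∩ Set.range v.base ⊆ Set.range w.base)
    {E : DCoh.D X} {A : DCoh.D U} {B : DCoh.D V} (a : A ⟶ (rho u).obj E) (b : B ⟶ (rho v).obj E)
    (c : (rho i).obj A ≅ (rho k).obj B)
    (hab : (rho i).map a ≫ (rhoCompNat i u w hi).hom.app E =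
      c.hom ≫ (rho k).map b ≫ (rhoCompNat k v w hk).hom.app E) :
    ∃ (F : DCoh.D X) (β : F ⟶ E) (eU : (rho u).obj F ≅ A) (eV : (rho v).obj F ≅ B),
      (rho u).map β = eU.hom ≫ a ∧ (rho v).map β = eV.hom ≫ b := by
  have hwu : Set.range w.base ⊆ Set.range u.base := by
    rw [← hi, Scheme.Hom.comp_base, TopCat.coe_comp]; exact Set.range_comp_subset_range _ _
  have hwv : Set.range w.base ⊆ Set.range v.base := by
    rw [← hk, Scheme.Hom.comp_base, TopCat.coe_comp]; exact Set.range_comp_subset_range _ _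
  let A' := (lshD u).obj A
  let B' := (lshD v).obj B
  let a' : A' ⟶ E := ((lshDAdj u).homEquiv _ _).symm a
  let b' : B' ⟶ E := ((lshDAdj v).homEquiv _ _).symm b
  let uA := asIso ((lshDAdj u).unit.app A)
  let uB := asIso ((lshDAdj v).unit.app B)
  have ha : (rho u).map a' = uA.inv ≫ a := by
    rw [Iso.eq_inv_comp]
    exact ((lshDAdj u).homEquiv_unit ..).symm.trans (Equiv.apply_symm_apply _ a)
  have hb : (rho v).map b' = uB.inv ≫ b := by
    rw [Iso.eq_inv_comp]
    exact ((lshDAdj v).homEquiv_unit ..).symm.trans (Equiv.apply_symm_apply _ b)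
  let sA : (rho w).obj A' ≅ (rho i).obj A :=
    ((rhoCompNat i u w hi).app A').symm ≪≫ (rho i).mapIso uA.symm
  let sB : (rho w).obj B' ≅ (rho k).obj B :=
    ((rhoCompNat k v w hk).app B').symm ≪≫ (rho k).mapIso uB.symm
  let θ : (rho w).obj A' ≅ (rho w).obj B' := sA ≪≫ c ≪≫ sB.symm
  have hA : (rho w).map a' = sA.hom ≫ (rho i).map a ≫ (rhoCompNat i u w hi).hom.app E := by
    have h := (rhoCompNat i u w hi).hom.naturality a'
    simp only [Functor.comp_map] at h
    rw [ha, Functor.map_comp, Category.assoc] at h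
    simp only [sA, Iso.trans_hom, Category.assoc, Functor.mapIso_hom, Iso.symm_hom, Iso.app_inv]
    rw [h, Iso.inv_hom_id_app_assoc]
  have hB : (rho w).map b' = sB.hom ≫ (rho k).map b ≫ (rhoCompNat k v w hk).hom.app E := by
    have h := (rhoCompNat k v w hk).hom.naturality b'
    simp only [Functor.comp_map] at h
    rw [hb, Functor.map_comp, Category.assoc] at h
    simp only [sB, Iso.trans_hom, Category.assoc, Functor.mapIso_hom, Iso.symm_hom, Iso.app_inv]
    rw [h, Iso.inv_hom_id_app_assoc]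
  let qA := (lshDAdj w).counit.app A'
  let qB := (lshD w).map θ.hom ≫ (lshDAdj w).counit.app B'
  have hq : qA ≫ a' = qB ≫ b' := by
    simp only [qA, qB, Category.assoc]
    erw [← (lshDAdj w).counit.naturality a', ← (lshDAdj w).counit.naturality b']
    simp only [Functor.comp_map, ← Functor.map_comp_assoc]
    congr 2
    rw [hA, hB, hab]
    simp [θ]
  obtain ⟨F, bm, d, hT⟩ := distinguished_cocone_triangle (biprod.lift qA (-qB))
  obtain ⟨β, hβ⟩ : ∃ β : F ⟶ E, biprod.desc a' b' = bm ≫ β :=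
    Triangle.yoneda_exact₂ _ hT _ (by
      show biprod.lift qA (-qB) ≫ biprod.desc a' b' = 0
      rw [biprod.lift_desc, hq, Preadditive.neg_comp, add_neg_cancel])
  haveI hUq : IsIso ((rho u).map qB) := by
    haveI := isIso_rho_counit w u v hwv hint B
    rw [Functor.map_comp]; infer_instance
  haveI hVq : IsIso ((rho v).map qA) :=
    isIso_rho_counit w v u hwu (by rw [Set.inter_comm]; exact hint) A
  haveI : IsIso ((rho u).map (biprod.inl ≫ bm)) := isIso_map_inl_of_triangle (rho u) _ bm d hT (by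
    rw [biprod.lift_snd, Functor.map_neg]
    exact ⟨-inv ((rho u).map qB), by simp, by simp⟩)
  let σ := biprod.braiding A' B'
  have hT' : Triangle.mk (biprod.lift qA (-qB) ≫ σ.hom) (σ.inv ≫ bm) d ∈ distTriang _ := by
    refine isomorphic_distinguished _ hT _ (Triangle.isoMk _ _ (Iso.refl _) σ.symm (Iso.refl _) ?_ ?_ ?_)
    · change (biprod.lift qA (-qB) ≫ σ.hom) ≫ σ.inv = 𝟙 _ ≫ biprod.lift qA (-qB)
      simp
    · change (σ.inv ≫ bm) ≫ 𝟙 _ = σ.inv ≫ bm
      simp
    · change d ≫ (𝟙 _)⟦(1 : ℤ)⟧' = 𝟙 _ ≫ d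
      rw [CategoryTheory.Functor.map_id, Category.id_comp]
      exact Category.comp_id _
  haveI : IsIso ((rho v).map (biprod.inr ≫ bm)) := by
    have := isIso_map_inl_of_triangle (rho v) _ _ _ hT' (by simpa [σ] using hVq)
    rw [← Category.assoc, show (biprod.inl : B' ⟶ B' ⊞ A') ≫ σ.inv = biprod.inr by
      apply biprod.hom_ext <;> simp [σ]] at this
    exact this
  refine ⟨F, β, (asIso ((rho u).map (biprod.inl ≫ bm))).symm ≪≫ uA.symm,
    (asIso ((rho v).map (biprod.inr ≫ bm))).symm ≪≫ uB.symm, ?_, ?_⟩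
  · simp only [Iso.trans_hom, Iso.symm_hom, asIso_inv, Category.assoc, IsIso.eq_inv_comp]
    rw [← ha, ← Functor.map_comp, Category.assoc, ← hβ, biprod.inl_desc]
  · simp only [Iso.trans_hom, Iso.symm_hom, asIso_inv, Category.assoc, IsIso.eq_inv_comp]
    rw [← hb, ← Functor.map_comp, Category.assoc, ← hβ, biprod.inr_desc]

end Groth.Agent.PerfGen7
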