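import Groth.Agent.PerfGen7.TriRetract

/-!
# Odd shifts of retracts
-/

set_option linter.style.haveILetI false

universe v u

open CategoryTheory Category Limits Pretriangulated ZeroObject

namespace Groth.Agent.PerfGen7

variable {D : Type u} [Category.{v} D] [Preadditive D] [HasZeroObject D] [HasShift D ℤ]
  [∀ n : ℤ, (shiftFunctor D n).Additive] [Pretriangulated D]

/-- If `A ⊞ A⟦1⟧` is in a triangulated subcategory, so is `A ⊞ A⟦2k+1⟧`. -/
theorem prop_biprod_odd (P : ObjectProperty D) [P.IsTriangulated] [P.IsClosedUnderIsomorphisms]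
    {A : D} (h : P (A ⊞ A⟦(1 : ℤ)⟧)) : ∀ k : ℕ, P (A ⊞ A⟦(2 * k + 1 : ℤ)⟧) := by
  have hsh : ∀ n : ℤ, P (A⟦n⟧ ⊞ A⟦n + 1⟧) := fun n => by
    haveI : PreservesBinaryBiproduct A (A⟦(1 : ℤ)⟧) (shiftFunctor D n) :=
      (preservesBinaryBiproducts_of_preservesBiproducts (shiftFunctor D n)).preserves
    exact P.prop_of_iso ((shiftFunctor D n).mapBiprod A (A⟦(1 : ℤ)⟧) ≪≫
      biprod.mapIso (Iso.refl _) ((shiftFunctorAdd' D 1 n (n + 1) (by omega)).app A).symm)
      (P.le_shift n _ h)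
  intro k
  induction k with
  | zero => exact h
  | succ k ih =>
    let n : ℤ := 2 * k + 1
    let z := A⟦n⟧ ⊞ A⟦n + 1⟧
    let w := A ⊞ A⟦n + 1 + 1⟧
    have hxy : P ((A ⊞ A⟦n⟧) ⊞ (A⟦n + 1⟧ ⊞ A⟦n + 1 + 1⟧)) :=
      P.ext_of_isTriangulatedClosed₂ _ (binaryBiproductTriangle_distinguished _ _) ih (hsh (n + 1))
    let e : (A ⊞ A⟦n⟧) ⊞ (A⟦n + 1⟧ ⊞ A⟦n + 1 + 1⟧) ≅ z ⊞ w :=
      { hom := biprod.lift (biprod.lift (biprod.fst ≫ biprod.snd) (biprod.snd ≫ biprod.fst))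
          (biprod.lift (biprod.fst ≫ biprod.fst) (biprod.snd ≫ biprod.snd))
        inv := biprod.lift (biprod.lift (biprod.snd ≫ biprod.fst) (biprod.fst ≫ biprod.fst))
          (biprod.lift (biprod.fst ≫ biprod.snd) (biprod.snd ≫ biprod.snd))
        hom_inv_id := by apply biprod.hom_ext <;> apply biprod.hom_ext <;> simp [z, w]
        inv_hom_id := by apply biprod.hom_ext <;> apply biprod.hom_ext <;> simp [z, w] }
    have hw : P w :=
      P.ext_of_isTriangulatedClosed₃ _ (binaryBiproductTriangle_distinguished z w) (hsh n)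
        (P.prop_of_iso e hxy)
    exact P.prop_of_iso (biprod.mapIso (Iso.refl _) (eqToIso (by
      rw [show n + 1 + 1 = 2 * ((k + 1 : ℕ) : ℤ) + 1 by omega]))) hw

end Groth.Agent.PerfGen7
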