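import Groth.Agent.PerfGen7.ApproxAffine
import Groth.Agent.PerfGen7.GlueMap
import Groth.Agent.PerfGen7.OddShift
import Groth.Agent.PerfGen7.Stmts
import Groth.Agent.PerfGen7.Bounded

/-!
# Approximation: enlarging the open
-/

set_option linter.style.haveILetI false
set_option backward.isDefEq.respectTransparency false

universe u

open CategoryTheory CategoryTheory.Limits AlgebraicGeometry Pretriangulated ZeroObject

attribute [local instance] HasDerivedCategory.standard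

namespace Groth.Agent.PerfGen7

open Groth.Agent.KFlatLib

variable {X : Scheme.{u}}

/-- On a quasi-compact scheme perfect objects are bounded above. -/
lemma exists_upper_bound [CompactSpace X] {E : DCoh.D X} (h' : DCoh.IsPerfect E) :
    ∃ b, ∀ i, b < i → IsZero (DCoh.HD E i) := by
  have h := (KFlatLib.isPerfect_iff E).1 h'
  choose U j hj hx P hP e using h
  choose a b hb using fun x => (hP x).1
  obtain ⟨t, ht⟩ := isCompact_univ.elim_finite_subcover (fun x : X => Set.range (j x).base)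
    (fun x => haveI := hj x; (j x).isOpenEmbedding.isOpen_range) (fun x _ => Set.mem_iUnion.2 ⟨x, hx x⟩)
  refine ⟨((∑ x ∈ t, (b x).natAbs : ℕ) : ℤ), fun i hi => isZero_of_stalk _ fun y => ?_⟩
  obtain ⟨x, hxt, ⟨v, rfl⟩⟩ := Set.mem_iUnion₂.1 (ht (Set.mem_univ y))
  haveI := hj x
  obtain ⟨ex⟩ := e x
  have hbx : (b x).natAbs ≤ ∑ x ∈ t, (b x).natAbs :=
    Finset.single_le_sum (f := fun x => (b x).natAbs) (fun _ _ => Nat.zero_le _) hxt
  refine (isZero_stalk_rho_iff (j x) E v i).1 ((DerSch.stalkFunctor (U x) v).map_isZero ?_)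
  refine IsZero.of_iso ?_ ((DerivedCategory.homologyFunctor _ i).mapIso ex).symm
  exact (ShortComplex.isZero_homology_of_isZero_X₂ _ (hb x i (Or.inr (by omega)))).of_iso
    ((DerivedCategory.homologyFunctorFactors _ i).app (P x))

lemma isClosed_of_le {Y : Scheme.{u}} (j : Y ⟶ X) {T : Set X} (hT : IsClosed T) :
    IsClosed (j.base ⁻¹' T) := hT.preimage j.continuous

/-- Approximation extends from an open containing the support. -/
theorem apprX_of_open (U : X.Opens) {T : Set X} (hT : IsClosed T) (hTU : T ⊆ (U : Set X))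
    {E : DCoh.D X} (m : ℤ) (happ : ApprX (U.ι.base ⁻¹' T) ((rho U.ι).obj E) m)
    (hsupp : ∀ i, m ≤ i → CohB1.support (DCoh.HD E i) ⊆ T) : ApprX T E m := by
  obtain ⟨P, α, C', g', d', hT', hP, hPT, hC'⟩ := happ
  haveI := hasRpush_scheme U.ι
  have hTU' : T ⊆ Set.range U.ι.base := by rwa [Scheme.Opens.range_ι]
  let R := (DCoh.Rpush U.ι).obj P
  have hR : DCoh.IsPerfect R := isPerfect_rpush_of_support U P hP (U.ι.base ⁻¹' T)
    (by rw [Set.image_preimage_eq_of_subset hTU']; exact hT) hPT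
  have hRT : Supp R T := supp_rpush U.ι hT hPT
  obtain ⟨Cη, g, d, hd, hCη⟩ := exists_unit_triangle U.ι E
  rw [Scheme.Opens.range_ι] at hCη
  let W : X.Opens := ⟨Tᶜ, hT.isOpen_compl⟩
  haveI := hasRpush_scheme W.ι
  have hW : (Set.range W.ι.base)ᶜ = T := by rw [Scheme.Opens.range_ι]; exact compl_compl T
  haveI : IsIso ((adjR W.ι).unit.app Cη) :=
    isIso_unit_of_supp W.ι Cη (T := (U : Set X)ᶜ)
      (by rw [Scheme.Opens.range_ι]; exact Set.compl_subset_compl.2 hTU) hCη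
      (supp_rpush W.ι U.2.isClosed_compl (hCη.rho W.ι))
  have hRC : ∀ φ : R ⟶ Cη, φ = 0 := fun φ =>
    (cancel_mono ((adjR W.ι).unit.app Cη)).1 ((eq_zero_of_rho_isZero W.ι
      ((isZero_rho_iff W.ι R).2 (hW.symm ▸ hRT)) _).trans zero_comp.symm)
  obtain ⟨β, hβ⟩ := Triangle.coyoneda_exact₂ _ hd ((DCoh.Rpush U.ι).map α) (hRC _)
  obtain ⟨K, gK, dK, hK⟩ := distinguished_cocone_triangle β
  refine ⟨R, β, K, gK, dK, hK, hR, hRT, fun i hi => isZero_of_stalk _ fun x => ?_⟩
  by_cases hx : x ∈ (U : Set X)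
  · let ce : (rho U.ι).obj R ≅ P := asIso ((adjR U.ι).counit.app P)
    have hcomp : (rho U.ι).map β ≫ 𝟙 _ = ce.hom ≫ α := by
      have h1 := congrArg (fun x => (rho U.ι).map x ≫ (adjR U.ι).counit.app ((rho U.ι).obj E)) hβ
      simp only [Functor.map_comp, Category.assoc] at h1
      erw [(adjR U.ι).counit.naturality α] at h1
      rw [Category.comp_id]
      refine (Eq.trans ?_ h1.symm)
      erw [(adjR U.ι).left_triangle_components E, Category.comp_id]
    let eK : (rho U.ι).obj K ≅ C' := Triangle.π₃.mapIso (isoTriangleOfIso₁₂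
      ((rho U.ι).mapTriangle.obj (Triangle.mk β gK dK)) (Triangle.mk α g' d')
      ((rho U.ι).map_distinguished _ hK) hT' ce (Iso.refl _) hcomp)
    have := (isZero_stalk_rho_iff U.ι K ⟨x, hx⟩ i).1 (((DerSch.stalkFunctor _ _).map_isZero (hC' i hi)).of_iso
      ((DerSch.stalkFunctor _ _).mapIso ((DerivedCategory.homologyFunctor _ i).mapIso eK)))
    exact this
  · have hxT : x ∉ T := fun h => hx (hTU h)
    refine ((DerivedCategory.HomologySequence.exact₃ _ hK i (i + 1) rfl).map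
      (DerSch.stalkFunctor X x)).isZero_of_both_zeros ?_ ?_
    · haveI : Subsingleton ((DerSch.stalkFunctor X x).obj (DCoh.HD E i) : Type u) :=
        not_not.1 fun h' => hxT (hsupp i hi h')
      exact (ModuleCat.isZero_of_subsingleton ((DerSch.stalkFunctor X x).obj (DCoh.HD E i))).eq_of_src _ _
    · exact (supp_iff.1 hRT x hxT (i + 1)).eq_of_tgt _ _

/-- Extensions to an affine scheme of a perfect object plus a large odd shift of it. -/
theorem exists_extend_odd [IsAffine X] {W : Scheme.{u}} (k : W ⟶ X) [IsOpenImmersion k] [QuasiCompact k]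
    {T : Set X} (hT : IsClosed T) (hTc : IsCompact Tᶜ) {F : DCoh.D W} (hF : DCoh.IsPerfect F)
    (hFT : Supp F (k.base ⁻¹' T)) (N : ℕ) :
    ∃ G : DCoh.D X, DCoh.IsPerfect G ∧ Supp G T ∧
      Nonempty ((rho k).obj G ≅ F ⊞ F⟦(2 * N + 1 : ℤ)⟧) := by
  let Φ : ObjectProperty (DCoh.D W) := fun A => ∃ G : DCoh.D X, DCoh.IsPerfect G ∧ Supp G T ∧
    Nonempty ((rho k).obj G ≅ A)
  haveI : Φ.IsClosedUnderIsomorphisms :=
    ⟨fun e ⟨G, hG, hGT, ⟨e'⟩⟩ => ⟨G, hG, hGT, ⟨e' ≪≫ e⟩⟩⟩
  haveI : Φ.IsStableUnderShift ℤ := ⟨fun n => ⟨fun A ⟨G, hG, hGT, ⟨e⟩⟩ =>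
    ⟨G⟦n⟧, isPerfect_shift' hG n, hGT.shift n,
      ⟨((rho k).commShiftIso n).app G ≪≫ (shiftFunctor _ n).mapIso e⟩⟩⟩⟩
  haveI : Φ.ContainsZero := ⟨0, isZero_zero _, 0, isPerfect_of_isZero' (isZero_zero _),
    supp_of_isZero (isZero_zero _) T, ⟨((rho k).map_isZero (isZero_zero _)).iso (isZero_zero _)⟩⟩
  haveI : Φ.IsTriangulatedClosed₃ := ObjectProperty.IsTriangulatedClosed₃.mk'
    fun τ hτ ⟨G, hG, hGT, ⟨eA⟩⟩ ⟨H, hH, hHT, ⟨eB⟩⟩ => by
      obtain ⟨G₁, β, γ, h₁, h₁T, hβ, hγ⟩ := exists_lift_affine k hT hTc hG hGT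
        (isQCohD_of_isPerfect hH) (eA.hom ≫ τ.mor₁ ≫ eB.inv)
      obtain ⟨Cn, g, d, hCn⟩ := distinguished_cocone_triangle γ
      refine ⟨Cn, isPerfect_tri₃ hCn h₁ hH, supp_obj₃ hCn h₁T hHT, ⟨Triangle.π₃.mapIso
        (isoTriangleOfIso₁₂ ((rho k).mapTriangle.obj (Triangle.mk γ g d)) τ
          ((rho k).map_distinguished _ hCn) hτ
          (@asIso _ _ _ _ ((rho k).map β) hβ ≪≫ eA) eB ?_)⟩⟩
      show (rho k).map γ ≫ eB.hom = ((rho k).map β ≫ eA.hom) ≫ τ.mor₁
      rw [← hγ]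
      simp
  haveI : Φ.IsTriangulatedClosed₂ := .of_isTriangulatedClosed₃
  haveI : Φ.IsTriangulated := { }
  exact prop_biprod_odd Φ (exists_extend_affine k hT hTc hF hFT) N

/-- Approximation holds on `Y`. -/
def HasAppr (Y : Scheme.{u}) : Prop :=
  ∀ T : Set Y, IsClosed T → IsRetrocompact Tᶜ → ∃ r : ℤ, ∀ (m : ℤ) (E : DCoh.D Y), DCoh.IsQCohD E →
    DCoh.IsPseudoCoherentD (m - r) E →
    (∀ i : ℤ, m - r ≤ i → CohB1.support (DCoh.HD E i) ⊆ T) → ApprX T E m

/-- Adding an affine open. -/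
theorem hasAppr_step (U V : X.Opens) (hU : IsCompact (U : Set X)) (hV : IsAffineOpen V)
    (hUV : IsCompact ((U ⊓ V : X.Opens) : Set X)) (hcov : U ⊔ V = ⊤)
    (hAU : HasAppr (U : Scheme.{u})) : HasAppr X := by
  intro T hT hTr
  haveI : IsAffine (V : Scheme.{u}) := hV
  haveI : CompactSpace (U : Scheme.{u}) := isCompact_iff_compactSpace.1 hU
  haveI : CompactSpace (V : Scheme.{u}) := isCompact_iff_compactSpace.1 hV.isCompact
  let i := X.homOfLE (inf_le_left : U ⊓ V ≤ U)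
  let k := X.homOfLE (inf_le_right : U ⊓ V ≤ V)
  have hi : i ≫ U.ι = (U ⊓ V).ι := X.homOfLE_ι _
  have hk : k ≫ V.ι = (U ⊓ V).ι := X.homOfLE_ι _
  haveI : CompactSpace ((U ⊓ V : X.Opens) : Scheme.{u}) := isCompact_iff_compactSpace.1 hUV
  haveI : QuasiCompact k := (quasiCompact_iff_compactSpace k).2 inferInstance
  have hmem : ∀ x : X, x ∉ (U : Set X) → x ∈ (V : Set X) := fun x hx =>
    (TopologicalSpace.Opens.mem_sup.1 (hcov ▸ trivial : x ∈ U ⊔ V)).resolve_left hx
  let Z : Set X := T ∩ (U : Set X)ᶜ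
  have hZ : IsClosed Z := hT.inter U.2.isClosed_compl
  have hZV : Z ⊆ (V : Set X) := fun x hx => hmem x hx.2
  have hTVc : IsCompact (V.ι.base ⁻¹' T)ᶜ := by
    rw [V.ι.isOpenEmbedding.isEmbedding.isCompact_iff, ← Set.preimage_compl,
      Set.image_preimage_eq_inter_range, Scheme.Opens.range_ι]
    exact hTr hV.isCompact V.2
  have hTUr : IsRetrocompact (U.ι.base ⁻¹' T)ᶜ := fun O hO hO' => by
    rw [U.ι.isOpenEmbedding.isEmbedding.isCompact_iff, ← Set.preimage_compl, Set.image_preimage_inter]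
    exact hTr (hO.image U.ι.continuous) (U.ι.isOpenEmbedding.isOpenMap _ hO')
  obtain ⟨rU, hrU⟩ := hAU (U.ι.base ⁻¹' T) (hT.preimage U.ι.continuous) hTUr
  -- equations for the rest
  let S : Set (Spec Γ((V : Scheme.{u}), ⊤)) := (V : Scheme.{u}).isoSpec.inv.base ⁻¹' (V.ι.base ⁻¹' Z)
  have hSc : IsCompact Sᶜ := isCompact_compl_preimage_inv (by
    rw [show V.ι.base ⁻¹' Z = V.ι.base ⁻¹' T ∩ V.ι.base ⁻¹' (U : Set X)ᶜ from rfl, Set.compl_inter,
      Set.preimage_compl, compl_compl]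
    refine hTVc.union ?_
    rw [V.ι.isOpenEmbedding.isEmbedding.isCompact_iff, Set.image_preimage_eq_inter_range,
      Scheme.Opens.range_ι]
    exact hUV)
  obtain ⟨fs, hfs⟩ := exists_finset_zeroLocus
    ((hZ.preimage V.ι.continuous).preimage (V : Scheme.{u}).isoSpec.inv.continuous) hSc
  have hloc : (V : Scheme.{u}).zeroLocus (U := ⊤) (fs : Set Γ((V : Scheme.{u}), ⊤)) = V.ι.base ⁻¹' Z := by
    rw [← preimage_inv_image (V : Scheme.{u}) (V.ι.base ⁻¹' Z), hfs]
    ext x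
    rw [Set.mem_preimage, PrimeSpectrum.mem_zeroLocus, Scheme.mem_zeroLocus_iff]
    refine ⟨fun h f hf => ?_, fun h f hf hx => ?_⟩
    · have := h f hf
      rw [← Scheme.toSpecΓ_preimage_basicOpen] at this
      exact not_not.1 this
    · rw [← Scheme.toSpecΓ_preimage_basicOpen] at hx
      exact hx (h hf)
  refine ⟨fs.card + max rU 0, fun m E hE hpc hs => ?_⟩
  let m' : ℤ := m - fs.card
  have hm' : m' ≤ m := by omega
  -- approximation on `U`
  have hpcU : DCoh.IsPseudoCoherentD (m' - rU) ((rho U.ι).obj E) :=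
    (KFlatLib.isPseudoCoherentD_iff _ _).2
      ((((KFlatLib.isPseudoCoherentD_iff _ E).1 hpc).mono (by omega)).restrict U.ι)
  obtain ⟨P, α, hP, hPT, hiso, hepi⟩ := (apprX_iff _ _ _).1 (hrU m' _ (isQCohD_rho U.ι hE) hpcU
    fun j hj y hy => by
      by_contra hyT
      refine hy (ModuleCat.subsingleton_of_isZero ((isZero_stalk_rho_iff U.ι E y j).2 ?_))
      haveI : Subsingleton ((DerSch.stalkFunctor X (U.ι.base y)).obj (DCoh.HD E j) : Type u) :=
        not_not.1 fun h' => hyT (hs j (by omega) h')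
      exact ModuleCat.isZero_of_subsingleton _)
  -- add a shift which does not disturb the degrees at hand
  obtain ⟨b, hb⟩ := exists_upper_bound hP
  let N : ℕ := (b - m').natAbs
  let P₂ := P ⊞ P⟦(2 * N + 1 : ℤ)⟧
  have hTr₂ := binaryBiproductTriangle_distinguished P (P⟦(2 * N + 1 : ℤ)⟧)
  let α₂ : P₂ ⟶ (rho U.ι).obj E := biprod.fst ≫ α
  have hzero : ∀ j, m' ≤ j → IsZero (DCoh.HD (P⟦(2 * N + 1 : ℤ)⟧) j) := fun j hj =>
    (hb (2 * N + 1 + j) (by omega)).of_iso (hdShift P _ j _ rfl)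
  have hfst : ∀ j, m' ≤ j →
      IsIso ((DerivedCategory.homologyFunctor _ j).map (biprod.fst : P₂ ⟶ P)) := fun j hj => by
    refine ⟨(DerivedCategory.homologyFunctor _ j).map biprod.inl, ?_, by
      rw [← Functor.map_comp, biprod.inl_fst, CategoryTheory.Functor.map_id]⟩
    rw [← Functor.map_comp, ← CategoryTheory.Functor.map_id]
    conv_rhs => rw [← biprod.total, Functor.map_add]
    rw [Functor.map_comp (DerivedCategory.homologyFunctor _ j) biprod.snd biprod.inr,
      (hzero j hj).eq_of_tgt ((DerivedCategory.homologyFunctor _ j).map biprod.snd) 0, zero_comp, add_zero]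
  have happ₂ : ApprX (U.ι.base ⁻¹' T) ((rho U.ι).obj E) m' :=
    (apprX_iff _ _ _).2 ⟨P₂, α₂, isPerfect_tri₂ hTr₂ hP (isPerfect_shift' hP _),
      supp_obj₂ hTr₂ hPT (Supp.shift hPT _), fun j hj => by
        haveI := hfst j hj.le
        haveI := hiso j hj
        rw [Functor.map_comp]; infer_instance, by
        haveI := hfst m' le_rfl
        haveI := hepi
        rw [Functor.map_comp]; exact epi_comp _ _⟩
  -- extend to `V`
  have hWT : k.base ⁻¹' (V.ι.base ⁻¹' T) = i.base ⁻¹' (U.ι.base ⁻¹' T) := by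
    rw [← Set.preimage_comp, ← Set.preimage_comp, ← TopCat.coe_comp, ← TopCat.coe_comp,
      ← Scheme.Hom.comp_base, ← Scheme.Hom.comp_base, hi, hk]
  obtain ⟨G, hG, hGT, ⟨eG₀⟩⟩ := exists_extend_odd k (hT.preimage V.ι.continuous) hTVc
    (isPerfect_rho' i hP) (hWT.symm ▸ Supp.rho i hPT) N
  haveI : PreservesBinaryBiproduct P (P⟦(2 * N + 1 : ℤ)⟧) (rho i) :=
    (preservesBinaryBiproducts_of_preservesBiproducts (rho i)).preserves
  let eG : (rho k).obj G ≅ (rho i).obj P₂ := eG₀ ≪≫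
    biprod.mapIso (Iso.refl _) (((rho i).commShiftIso (2 * N + 1 : ℤ)).app P).symm ≪≫
      ((rho i).mapBiprod P (P⟦(2 * N + 1 : ℤ)⟧)).symm
  let κU := (rhoCompNat i U.ι (U ⊓ V).ι hi).app E
  let κV := (rhoCompNat k V.ι (U ⊓ V).ι hk).app E
  obtain ⟨G₁, β₁, γ, hG₁, hG₁T, hβ₁, hγ⟩ := exists_lift_affine k (hT.preimage V.ι.continuous) hTVc
    hG hGT (isQCohD_rho V.ι hE) (eG.hom ≫ (rho i).map α₂ ≫ κU.hom ≫ κV.inv)
  haveI := hβ₁
  let c : (rho i).obj P₂ ≅ (rho k).obj G₁ := eG.symm ≪≫ (asIso ((rho k).map β₁)).symm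
  obtain ⟨F, β, eU, eV, hβU, hβV⟩ := exists_glue_map U.ι V.ι (U ⊓ V).ι i k hi hk
    (by rw [Scheme.Opens.range_ι, Scheme.Opens.range_ι, Scheme.Opens.range_ι]; exact le_rfl)
    α₂ γ c (by
      rw [← hγ]
      simp [c, κU, κV])
  have hFp : DCoh.IsPerfect F := isPerfect_of_cover fun x => by
    by_cases hx : x ∈ (U : Set X)
    · exact ⟨_, U.ι, inferInstance, by rwa [Scheme.Opens.range_ι],
        isPerfect_of_iso' eU.symm (isPerfect_tri₂ hTr₂ hP (isPerfect_shift' hP _))⟩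
    · exact ⟨_, V.ι, inferInstance, by rw [Scheme.Opens.range_ι]; exact hmem x hx,
        isPerfect_of_iso' eV.symm hG₁⟩
  have hFT : Supp F T := supp_of_cover fun x => by
    by_cases hx : x ∈ (U : Set X)
    · exact ⟨_, U.ι, inferInstance, by rwa [Scheme.Opens.range_ι],
        (supp_obj₂ hTr₂ hPT (Supp.shift hPT _)).of_iso eU.symm⟩
    · exact ⟨_, V.ι, inferInstance, by rw [Scheme.Opens.range_ι]; exact hmem x hx,
        hG₁T.of_iso eV.symm⟩
  obtain ⟨K, g, d, hK⟩ := distinguished_cocone_triangle β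
  obtain ⟨hiso₂, hepi₂⟩ :
      (∀ j, m' < j → IsIso ((DerivedCategory.homologyFunctor _ j).map α₂)) ∧
        Epi ((DerivedCategory.homologyFunctor _ m').map α₂) := by
    haveI := hfst m' le_rfl
    haveI := hepi
    refine ⟨fun j hj => ?_, by rw [Functor.map_comp]; exact epi_comp _ _⟩
    haveI := hfst j hj.le
    haveI := hiso j hj
    rw [Functor.map_comp]; infer_instance
  obtain ⟨C₂, g₂, d₂, hC₂⟩ := distinguished_cocone_triangle α₂
  have hC₂z : ∀ j, m' ≤ j → IsZero (DCoh.HD C₂ j) := fun j hj => by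
    have h1 : Epi ((DerivedCategory.homologyFunctor _ j).map α₂) := by
      rcases eq_or_lt_of_le hj with rfl | hj
      · exact hepi₂
      · haveI := hiso₂ j hj; infer_instance
    haveI := hiso₂ (j + 1) (by omega)
    refine (DerivedCategory.HomologySequence.exact₃ _ hC₂ j (j + 1) rfl).isZero_of_both_zeros ?_ ?_
    · haveI := h1
      show (DerivedCategory.homologyFunctor _ j).map g₂ = 0
      rw [← cancel_epi ((DerivedCategory.homologyFunctor _ j).map α₂), ← Functor.map_comp,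
        show α₂ ≫ g₂ = 0 from comp_distTriang_mor_zero₁₂ _ hC₂, Functor.map_zero, comp_zero]
    · rw [← cancel_mono ((DerivedCategory.homologyFunctor _ (j + 1)).map α₂)]
      exact (DerivedCategory.HomologySequence.δ_comp _ hC₂ j (j + 1) rfl).trans zero_comp.symm
  let eK : (rho U.ι).obj K ≅ C₂ := Triangle.π₃.mapIso (isoTriangleOfIso₁₂
    ((rho U.ι).mapTriangle.obj (Triangle.mk β g d)) (Triangle.mk α₂ g₂ d₂)
    ((rho U.ι).map_distinguished _ hK) hC₂ eU (Iso.refl _) ((Category.comp_id _).trans hβU))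
  -- supports of the cone
  have hKs : ∀ j, m' ≤ j → CohB1.support (DCoh.HD K j) ⊆ Z := fun j hj x hx => by
    by_contra hxZ
    refine hx (ModuleCat.subsingleton_of_isZero (M := (DerSch.stalkFunctor X x).obj (DCoh.HD K j)) ?_)
    by_cases hxU : x ∈ (U : Set X)
    · exact (isZero_stalk_rho_iff U.ι K ⟨x, hxU⟩ j).1 (((DerSch.stalkFunctor _ _).map_isZero
        (hC₂z j hj)).of_iso ((DerSch.stalkFunctor _ _).mapIso
          ((DerivedCategory.homologyFunctor _ j).mapIso eK)))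
    · have hxT : x ∉ T := fun h => hxZ ⟨h, hxU⟩
      refine ((DerivedCategory.HomologySequence.exact₃ _ hK j (j + 1) rfl).map
        (DerSch.stalkFunctor X x)).isZero_of_both_zeros ?_ ?_
      · haveI : Subsingleton ((DerSch.stalkFunctor X x).obj (DCoh.HD E j) : Type u) :=
          not_not.1 fun h' => hxT (hs j (by omega) h')
        exact (ModuleCat.isZero_of_subsingleton ((DerSch.stalkFunctor X x).obj (DCoh.HD E j))).eq_of_src _ _
      · exact (supp_iff.1 hFT x hxT (j + 1)).eq_of_tgt _ _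
  have hKq : DCoh.IsQCohD K := isQCohD_obj₃ hK (isQCohD_of_isPerfect hFp) hE
  have hKpc : DCoh.IsPseudoCoherentD m K := (KFlatLib.isPseudoCoherentD_iff _ _).2
    (locPC_obj₃ _ hK (((KFlatLib.isPerfect_iff F).1 hFp).locPC (m + 1))
      (((KFlatLib.isPseudoCoherentD_iff _ E).1 hpc).mono (by omega)))
  have hKV : ApprX (V.ι.base ⁻¹' Z) ((rho V.ι).obj K) m := hloc ▸ apprX_affine fs (isQCohD_rho V.ι hKq)
    ((KFlatLib.isPseudoCoherentD_iff _ _).2 (((KFlatLib.isPseudoCoherentD_iff _ K).1 hKpc).restrict V.ι))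
    fun j hj y hy => by
      rw [hloc]
      by_contra hyZ
      refine hy (ModuleCat.subsingleton_of_isZero ((isZero_stalk_rho_iff V.ι K y j).2 ?_))
      haveI : Subsingleton ((DerSch.stalkFunctor X (V.ι.base y)).obj (DCoh.HD K j) : Type u) :=
        not_not.1 fun h' => hyZ (hKs j (by omega) h')
      exact ModuleCat.isZero_of_subsingleton _
  obtain ⟨Q, αQ, C, gQ, dQ, hQ, hQp, hQZ, hC⟩ := apprX_of_open V hZ hZV m hKV
    fun j hj => hKs j (by omega)
  obtain ⟨R, u₁, v₁, hR⟩ := distinguished_cocone_triangle (g ≫ gQ)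
  have o := Triangulated.someOctahedron (show g ≫ gQ = g ≫ gQ from rfl) (rot_of_distTriang _ hK)
    (rot_of_distTriang _ hQ) hR
  have hRp : DCoh.IsPerfect R :=
    isPerfect_tri₂ o.mem (isPerfect_shift' hFp 1) (isPerfect_shift' hQp 1)
  have hRT : Supp R T := supp_obj₂ o.mem (hFT.shift 1) ((hQZ.mono Set.inter_subset_left).shift 1)
  exact ⟨_, _, C, _, _, inv_rot_of_distTriang _ hR, isPerfect_shift' hRp (-1), hRT.shift (-1), hC⟩

/-- Approximation by perfect complexes on quasi-compact quasi-separated schemes. -/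
theorem hasAppr [CompactSpace X] [QuasiSeparatedSpace X] : HasAppr X := by
  suffices h : ∀ S : X.Opens, IsCompact (S : Set X) → ∀ (Y : Scheme.{u}) (j : Y ⟶ X)
      [IsOpenImmersion j], Set.range j.base = S → HasAppr Y from
    h ⊤ (by simpa using CompactSpace.isCompact_univ) X (𝟙 X) (by simp)
  intro S hS
  refine compact_open_induction_on (P := fun S => ∀ (Y : Scheme.{u}) (j : Y ⟶ X)
      [IsOpenImmersion j], Set.range j.base = S → HasAppr Y) S hS ?_ ?_
  · intro Y j _ hj T _ _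
    refine ⟨0, fun m E _ _ _ => ?_⟩
    refine ⟨0, 0, E, 𝟙 E, 0, isomorphic_distinguished _ (contractible_distinguished₁ E) _ (Iso.refl _),
      isPerfect_of_isZero' (isZero_zero _), supp_of_isZero (isZero_zero _) T,
      fun i _ => isZero_of_stalk _ fun y => ?_⟩
    have : j.base y ∈ Set.range j.base := ⟨y, rfl⟩
    rw [hj] at this
    exact this.elim
  · intro S hS V ih Y j _ hj
    haveI := quasiSeparatedSpace_of_openImmersion j
    have hS' : (S : Set X) ⊆ Set.range j.base := hj ▸ Set.subset_union_left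
    have hV' : (V.1 : Set X) ⊆ Set.range j.base := hj ▸ Set.subset_union_right
    have hSc := isCompact_preimage_of_range j hS hS'
    have hVa := V.2.preimage_of_isOpenImmersion j hV'
    refine hasAppr_step (j ⁻¹ᵁ S) (j ⁻¹ᵁ V.1) hSc hVa
      (QuasiSeparatedSpace.inter_isCompact _ _ (j ⁻¹ᵁ S).2 hSc (j ⁻¹ᵁ V.1).2 hVa.isCompact) ?_
      (ih _ ((j ⁻¹ᵁ S).ι ≫ j) (by rw [range_ι_comp]; exact Set.inter_eq_left.2 hS'))
    rw [← top_le_iff]
    intro y _
    have : j.base y ∈ Set.range j.base := ⟨y, rfl⟩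
    rw [hj] at this
    exact this

lemma isRetrocompact_of_isCompact [QuasiSeparatedSpace X] {s : Set X} (hs : IsOpen s)
    (hc : IsCompact s) : IsRetrocompact s :=
  fun _ hU hU' => QuasiSeparatedSpace.inter_isCompact _ _ hs hc hU' hU

end Groth.Agent.PerfGen7
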