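import Groth.Agent.PerfGen7.RpushCoh
import Groth.Agent.PerfGen7.AffineOpen
import Groth.Agent.KFlatLib.Scheme.SupportPush
import Groth.Agent.KFlatLib.Scheme.RpushUnbounded

/-!
# Boundedness of `Rf_*` for complexes with quasi-compact support
-/

set_option linter.style.haveILetI false
set_option backward.isDefEq.respectTransparency false

universe u

open CategoryTheory CategoryTheory.Limits AlgebraicGeometry Pretriangulated

attribute [local instance] HasDerivedCategory.standard

namespace Groth.Agent.PerfGen7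

open Groth.Agent.KFlatLib

variable {X S : Scheme.{u}} (f : X ⟶ S)

lemma isCompact_of_isProperOver [CompactSpace S] {C : Set X} (h : ClSub.IsProperOver f C) :
    IsCompact C := by
  obtain ⟨hC, hP⟩ := h
  let i := (Scheme.IdealSheafData.vanishingIdeal ⟨C, hC⟩).subschemeι
  haveI : IsProper (i ≫ f) := hP
  haveI := QuasiCompact.compactSpace_of_compactSpace (i ≫ f)
  rw [← QCoh.range_vanishing hC]
  exact isCompact_range i.continuous

/-- Bounded above with quasi-compact closed supports gives bounded above direct image. -/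
theorem exists_isLE_rpush_of_support [IsNoetherian S] [LocallyOfFiniteType f] [DCoh.HasRpush f]
    (E : DCoh.D X) (hE : DCoh.IsQCohD E) (b : ℤ) [E.IsLE b] (T : Set X) (hT : IsClosed T)
    (hTc : IsCompact T) (hsupp : ∀ i : ℤ, CohB1.support (DCoh.HD E i) ⊆ T) :
    ∃ b' : ℤ, ((DCoh.Rpush f).obj E).IsLE b' := by
  haveI := LocallyOfFiniteType.isLocallyNoetherian f
  have hx : ∀ x : X, ∃ V : X.affineOpens, x ∈ V.1 := fun x => by
    obtain ⟨V, hV, hxV, -⟩ := exists_isAffineOpen_mem_and_subset (x := x) (U := ⊤) trivial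
    exact ⟨⟨V, hV⟩, hxV⟩
  choose V hV using hx
  obtain ⟨t, ht⟩ := hTc.elim_finite_subcover (fun x : X => ((V x).1 : Set X)) (fun x => (V x).1.2)
    (fun x _ => Set.mem_iUnion.2 ⟨x, hV x⟩)
  let W : X.Opens := ⨆ x ∈ t, (V x).1
  have hW : IsCompact (W : Set X) := by
    simp only [W, TopologicalSpace.Opens.iSup_mk, TopologicalSpace.Opens.carrier_eq_coe
      ]
    exact t.finite_toSet.isCompact_biUnion fun x _ => (V x).2.isCompact
  have hTW : T ⊆ (W : Set X) := by
    simpa [W] using ht
  haveI : CompactSpace (W : Scheme.{u}) := isCompact_iff_compactSpace.1 hW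
  haveI : IsLocallyNoetherian (W : Scheme.{u}) := isLocallyNoetherian_of_isOpenImmersion W.ι
  haveI : IsNoetherian (W : Scheme.{u}) := {}
  haveI := hasRpush_scheme W.ι
  haveI := hasRpush_scheme (W.ι ≫ f)
  haveI : HasInjectiveResolutions (W : Scheme.{u}).Modules := hasInjectiveResolutions_modules
  obtain ⟨e⟩ := nonempty_iso_rpush_restrict W T hT hTW E hsupp
  obtain ⟨c⟩ := nonempty_rpush_comp W.ι f
  let E' := (DCoh.restrictD W.ι).obj E
  haveI : E'.IsLE b := by
    rw [DerivedCategory.isLE_iff]
    exact fun i hi => ((Scheme.Modules.restrictFunctor W.ι).map_isZero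
      (DerivedCategory.isZero_of_isLE E b i hi)).of_iso (restrictHDIso W.ι E i)
  obtain ⟨n, hn⟩ := exists_Rpush_bound (W.ι ≫ f)
  refine ⟨b + n, (DerivedCategory.isLE_iff _ _).2 fun i hi => ?_⟩
  refine IsZero.of_iso ?_ ((DerivedCategory.homologyFunctor S.Modules i).mapIso
    ((DCoh.Rpush f).mapIso e ≪≫ c.app E'))
  exact isZero_of_isZero_restrict _ fun y => ⟨⊤, trivial, isZero_restrict_hd_rpush (W.ι ≫ f)
    (isQCohD_rho W.ι hE) b ⊤ n (fun M hM p hp => Functor.map_isZero _ (hn M hM p hp)) i (by omega)⟩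

end Groth.Agent.PerfGen7
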