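import Groth.Agent.PerfGen7.TensorTri
import Groth.Agent.PerfGen7.ApprStep
import Groth.Agent.PerfGen7.RpushCohBound

/-!
# Pseudo-coherence of direct images
-/

set_option linter.style.haveILetI false
set_option backward.isDefEq.respectTransparency false

universe u

open CategoryTheory CategoryTheory.Limits AlgebraicGeometry Pretriangulated

attribute [local instance] HasDerivedCategory.standard

namespace Groth.Agent.PerfGen7

open Groth.Agent.KFlatLib

variable {X Y : Scheme.{u}} (f : X ⟶ Y) [QuasiCompact f] [QuasiSeparated f] [CompactSpace Y]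
  [DCoh.HasRpush f]

/-- `Rf_*` lowers nothing and raises degrees boundedly. -/
theorem exists_rpush_shift_bound :
    ∃ N : ℕ, ∀ (E : DCoh.D X), DCoh.IsQCohD E → ∀ b : ℤ, E.IsLE b → ∀ i : ℤ, b + N ≤ i →
      IsZero (DCoh.HD ((DCoh.Rpush f).obj E) i) := by
  haveI : HasInjectiveResolutions X.Modules := hasInjectiveResolutions_modules
  obtain ⟨n, hn⟩ := exists_Rpush_bound f
  refine ⟨n, fun E hE b hb i hi => isZero_of_isZero_restrict _ fun y => ⟨⊤, trivial, ?_⟩⟩
  exact isZero_restrict_hd_rpush f hE b ⊤ n (fun M hM p hp => Functor.map_isZero _ (hn M hM p hp)) i hi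

/-- Pseudo-coherence of direct images of pseudo-coherent objects from that of bounded ones. -/
theorem locPC_rpush_of_bounded (k : ℤ)
    (hK : ∀ (F : DCoh.D X) (n a b : ℤ), F.IsGE a → F.IsLE b → DCoh.IsPseudoCoherentD n F →
      DCoh.IsPseudoCoherentD (n + k) ((DCoh.Rpush f).obj F))
    {F : DCoh.D X} (hF : ∀ m : ℤ, LocPC m F) (m : ℤ) : LocPC m ((DCoh.Rpush f).obj F) := by
  haveI : CompactSpace X := QuasiCompact.compactSpace_of_compactSpace f
  have hq : DCoh.IsQCohD F := fun i =>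
    isQCoh_HD_of_pseudoCoherent ((isPseudoCoherentD_iff (i - 1) F).2 (hF (i - 1))) i (by omega)
  obtain ⟨b, hb⟩ := exists_bound_of_locPC (hF 0)
  haveI : F.IsLE b := by rw [DerivedCategory.isLE_iff]; exact hb
  obtain ⟨N, hN⟩ := exists_rpush_shift_bound f
  let c : ℤ := min (m - N) (m - k - 1)
  obtain ⟨T, hT, rfl, h₁, h₃, e₁, e₃⟩ := exists_split F c
  have hq₁ : DCoh.IsQCohD T.obj₁ := fun i => by
    by_cases hi : i ≤ c
    · exact isQCoh_of_iso (e₁ i hi).some.symm (hq i)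
    · exact isQCoh_of_isZero (DerivedCategory.isZero_of_isLE T.obj₁ c i (by omega))
  have hp₁ : LocPC (c + 2) T.obj₁ :=
    locPC_of_isZero _ _ fun i hi => DerivedCategory.isZero_of_isLE T.obj₁ c i (by omega)
  haveI hge : T.obj₃.IsGE (c + 1) := h₃
  haveI hle : T.obj₃.IsLE b := by
    rw [DerivedCategory.isLE_iff]
    intro i hi
    by_cases hc : c < i
    · exact (DerivedCategory.isZero_of_isLE T.obj₂ b i hi).of_iso (e₃ i hc).some
    · exact DerivedCategory.isZero_of_isGE T.obj₃ (c + 1) i (by omega)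
  have hp₃ : LocPC (c + 1) T.obj₃ :=
    (locPC_two_of_three (c + 1) T hT).1 (by rwa [show c + 1 + 1 = c + 2 by omega]) (hF _)
  have r₃ : LocPC m ((DCoh.Rpush f).obj T.obj₃) := ((isPseudoCoherentD_iff _ _).1
    (hK T.obj₃ (c + 1) (c + 1) b hge hle ((isPseudoCoherentD_iff _ _).2 hp₃))).mono (by omega)
  have r₁ : LocPC m ((DCoh.Rpush f).obj T.obj₁) :=
    locPC_of_isZero _ _ fun i hi => hN T.obj₁ hq₁ c h₁ i (by omega)
  obtain ⟨d, hd⟩ := exists_rpush_triangle f T hT
  exact (locPC_two_of_three m _ hd).2.1 r₁ r₃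

/-- Pseudo-coherence of `Rf_*(E ⊗ K)` may be tested on perfect objects. -/
theorem locPC_rpush_ltensor [CompactSpace X] [QuasiSeparatedSpace X] (K : CochainComplex X.Modules ℤ)
    (hK : DCoh.IsQCohD (DCoh.toD X K)) (b : ℤ) [(DCoh.toD X K).IsLE b] [DCoh.HasLTensorCx K]
    (h : ∀ E : DCoh.D X, DCoh.IsPerfect E → ∀ m : ℤ,
      LocPC m ((DCoh.Rpush f).obj ((DCoh.LTensorCx K).obj E)))
    {E : DCoh.D X} (hE : ∀ m : ℤ, DCoh.IsPseudoCoherentD m E) (m : ℤ) :
    LocPC m ((DCoh.Rpush f).obj ((DCoh.LTensorCx K).obj E)) := by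
  have hq : DCoh.IsQCohD E := fun i => isQCoh_HD_of_pseudoCoherent (hE (i - 1)) i (by omega)
  obtain ⟨N, hN⟩ := exists_rpush_shift_bound f
  obtain ⟨r, hr⟩ := hasAppr (X := X) Set.univ isClosed_univ
    (isRetrocompact_of_isCompact isClosed_univ.isOpen_compl (by simp))
  obtain ⟨P, α, C, g, d, hτ, hP, -, hC⟩ := hr (m + 1 - b - N) E hq (hE _) fun i _ => Set.subset_univ _
  haveI : C.IsLE (m - b - N) := by
    rw [DerivedCategory.isLE_iff]
    exact fun i hi => hC i (by omega)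
  have hqC : DCoh.IsQCohD C := isQCohD_obj₃ hτ (isQCohD_of_isPerfect hP) hq
  haveI := isLE_ltensor K b C (m - b - N)
  obtain ⟨T', hT', ⟨e₁⟩, ⟨e₂⟩, ⟨e₃⟩⟩ := exists_ltensor_triangle K _ hτ
  obtain ⟨c, hc⟩ := exists_rpush_triangle f T' hT'
  obtain ⟨eS⟩ := nonempty_rpush_shift f ((DCoh.LTensorCx K).obj P) 1
  have r₂ : LocPC m ((DCoh.Rpush f).obj T'.obj₂) := (locPC_of_isZero m _ fun i hi =>
    hN _ (isQCohD_ltensor K hK hqC) (m - b - N + b) inferInstance i (by omega)).of_iso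
      ((DCoh.Rpush f).mapIso e₂).symm
  have r₃ : LocPC (m - 1) ((DCoh.Rpush f).obj T'.obj₃) :=
    ((h P hP m).shift 1).of_iso (eS.symm ≪≫ ((DCoh.Rpush f).mapIso e₃).symm)
  have r₁ := (locPC_two_of_three (m - 1) _ hc).2.2 (by rw [sub_add_cancel]; exact r₂) r₃
  rw [sub_add_cancel] at r₁
  exact r₁.of_iso ((DCoh.Rpush f).mapIso e₁)

end Groth.Agent.PerfGen7
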