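import Groth.Agent.PerfGen7.AffineExt

/-!
# The results on `Spec R`, on an affine scheme
-/

set_option linter.style.haveILetI false
set_option backward.isDefEq.respectTransparency false

universe u

open CategoryTheory CategoryTheory.Limits AlgebraicGeometry Pretriangulated ZeroObject

attribute [local instance] HasDerivedCategory.standard

namespace Groth.Agent.PerfGen7

open Groth.Agent.KFlatLib

variable {X U : Scheme.{u}}

/-- Perfectness is local. -/
lemma isPerfect_of_cover {K : DCoh.D X}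
    (h : ∀ x : X, ∃ (U : Scheme.{u}) (j : U ⟶ X) (_ : IsOpenImmersion j),
      x ∈ Set.range j.base ∧ DCoh.IsPerfect ((rho j).obj K)) : DCoh.IsPerfect K :=
  (KFlatLib.isPerfect_iff K).2 (LocSP.of_local fun x => by
    obtain ⟨U, j, hj, hx, hp⟩ := h x
    exact ⟨U, j, hj, hx, (KFlatLib.isPerfect_iff _).1 hp⟩)

lemma isPerfect_of_surjective (j : U ⟶ X) [IsOpenImmersion j] (hj : Function.Surjective j.base)
    {K : DCoh.D X} (h : DCoh.IsPerfect ((rho j).obj K)) : DCoh.IsPerfect K :=
  isPerfect_of_cover fun x => ⟨U, j, inferInstance, hj x, h⟩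

/-- Supports are local. -/
lemma supp_of_cover {K : DCoh.D X} {T : Set X}
    (h : ∀ x : X, ∃ (U : Scheme.{u}) (j : U ⟶ X) (_ : IsOpenImmersion j),
      x ∈ Set.range j.base ∧ Supp ((rho j).obj K) (j.base ⁻¹' T)) : Supp K T :=
  supp_iff.2 fun x hx i => by
    obtain ⟨U, j, hj, hxU, hs⟩ := h x
    exact supp_iff.1 ((supp_rho_iff j K T).1 hs) x (fun hc => hc.elim hx fun hc => hc hxU) i

variable (X) [IsAffine X]

lemma surjective_isoSpec : Function.Surjective X.isoSpec.hom.base :=
  (Scheme.homeoOfIso X.isoSpec).surjective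

lemma preimage_inv_image (T : Set X) :
    X.isoSpec.hom.base ⁻¹' (X.isoSpec.inv.base ⁻¹' T) = T := by
  rw [← Set.preimage_comp]
  have : X.isoSpec.inv.base ∘ X.isoSpec.hom.base = id := by
    funext x
    exact (Scheme.homeoOfIso X.isoSpec).symm_apply_apply x
  erw [this, Set.preimage_id]

variable {X}

lemma isCompact_compl_preimage_inv {T : Set X} (hTc : IsCompact Tᶜ) :
    IsCompact (X.isoSpec.inv.base ⁻¹' T)ᶜ := by
  rw [← Set.preimage_compl]
  exact (Scheme.homeoOfIso X.isoSpec.symm).isCompact_preimage.2 hTc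

/-- A perfect detecting object on an affine scheme. -/
theorem exists_kos_affine {T : Set X} (hT : IsClosed T) (hTc : IsCompact Tᶜ) :
    ∃ K : DCoh.D X, DCoh.IsPerfect K ∧ Supp K T ∧
      ∀ E : DCoh.D X, DCoh.IsQCohD E → Supp E T →
        (∀ (n : ℤ) (φ : K⟦n⟧ ⟶ E), φ = 0) → IsZero E := by
  let e := X.isoSpec.hom
  let S := X.isoSpec.inv.base ⁻¹' T
  have hS : IsClosed S := hT.preimage X.isoSpec.inv.continuous
  obtain ⟨K, hK, hKS, hdet⟩ := exists_kos_spec hS (isCompact_compl_preimage_inv hTc)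
  have heS : e.base ⁻¹' S = T := preimage_inv_image X T
  haveI := hasRpush_scheme e
  haveI : HasInjectiveResolutions X.Modules := hasInjectiveResolutions_modules
  refine ⟨(rho e).obj K, isPerfect_rho' e hK, heS ▸ hKS.rho e, fun E hE hET h => ?_⟩
  have hz := hdet _ (isQCohD_rpush e hE) (supp_rpush e hS (heS.symm ▸ hET)) fun n φ => by
    refine ((adjR e).homEquiv _ _).symm.injective ?_
    have h0 : ((adjR e).homEquiv _ _).symm φ = 0 := by
      rw [← cancel_epi (((rho e).commShiftIso n).app K).inv, comp_zero]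
      exact h n _
    rw [h0, (adjR e).homEquiv_counit, Functor.map_zero, zero_comp]
  exact ((rho e).map_isZero hz).of_iso (asIso ((adjR e).counit.app E)).symm

/-- A perfect object detecting, degree by degree, on an affine scheme. -/
theorem exists_kos_affine_deg {T : Set X} (hT : IsClosed T) (hTc : IsCompact Tᶜ) :
    ∃ K : DCoh.D X, DCoh.IsPerfect K ∧ Supp K T ∧
      ∀ E : DCoh.D X, DCoh.IsQCohD E → Supp E T → ∀ n : ℤ,
        (∀ φ : K⟦n⟧ ⟶ E, φ = 0) → IsZero (DCoh.HD E (-n)) := by
  let e := X.isoSpec.hom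
  let S := X.isoSpec.inv.base ⁻¹' T
  have hS : IsClosed S := hT.preimage X.isoSpec.inv.continuous
  obtain ⟨K, hK, hKS, hdet⟩ := exists_kos_spec_deg hS (isCompact_compl_preimage_inv hTc)
  have heS : e.base ⁻¹' S = T := preimage_inv_image X T
  haveI := hasRpush_scheme e
  haveI : HasInjectiveResolutions X.Modules := hasInjectiveResolutions_modules
  refine ⟨(rho e).obj K, isPerfect_rho' e hK, heS ▸ hKS.rho e, fun E hE hET n h => ?_⟩
  have hz := hdet _ (isQCohD_rpush e hE) (supp_rpush e hS (heS.symm ▸ hET)) n fun φ => by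
    refine ((adjR e).homEquiv _ _).symm.injective ?_
    have h0 : ((adjR e).homEquiv _ _).symm φ = 0 := by
      rw [← cancel_epi (((rho e).commShiftIso n).app K).inv, comp_zero]
      exact h _
    rw [h0, (adjR e).homEquiv_counit, Functor.map_zero, zero_comp]
  exact ((Scheme.Modules.restrictFunctor e).map_isZero hz).of_iso
    ((DerivedCategory.homologyFunctor _ (-n)).mapIso (asIso ((adjR e).counit.app E)).symm ≪≫
      restrictHDIso e _ (-n))

/-- A map from a perfect object to a supported object on an affine scheme. -/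
theorem exists_factor_affine {T : Set X} (hT : IsClosed T) (hTc : IsCompact Tᶜ)
    {G C : DCoh.D X} (hG : DCoh.IsPerfect G) (hC : DCoh.IsQCohD C) (hCT : Supp C T) (φ : G ⟶ C) :
    ∃ (G' : DCoh.D X) (q : G ⟶ G') (φ' : G' ⟶ C), DCoh.IsPerfect G' ∧ Supp G' T ∧
      q ≫ φ' = φ ∧ ∀ S : Set X, IsClosed S → IsCompact Sᶜ → Supp G S → Supp G' S := by
  let e := X.isoSpec.hom
  let S₀ := X.isoSpec.inv.base ⁻¹' T
  have hS₀ : IsClosed S₀ := hT.preimage X.isoSpec.inv.continuous
  haveI := hasRpush_scheme e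
  haveI : HasInjectiveResolutions X.Modules := hasInjectiveResolutions_modules
  let R := DCoh.Rpush e
  have heS : ∀ A : Set X, e.base ⁻¹' (X.isoSpec.inv.base ⁻¹' A) = A := preimage_inv_image X
  obtain ⟨G', q, φ', hG', hG'T, hq, hpres⟩ := exists_factor_spec hS₀ (isCompact_compl_preimage_inv hTc)
    (G := R.obj G) (C := R.obj C)
    (isPerfect_of_surjective e (surjective_isoSpec X)
      (isPerfect_of_iso' (asIso ((adjR e).counit.app G)).symm hG))
    (isQCohD_rpush e hC) (supp_rpush e hS₀ ((heS T).symm ▸ hCT)) (R.map φ)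
  refine ⟨(rho e).obj G', inv ((adjR e).counit.app G) ≫ (rho e).map q,
    (rho e).map φ' ≫ (adjR e).counit.app C, isPerfect_rho' e hG', heS T ▸ hG'T.rho e, ?_,
    fun A hA hAc hGA => heS A ▸ (hpres _ (hA.preimage X.isoSpec.inv.continuous)
      (isCompact_compl_preimage_inv hAc)
      (supp_rpush e (hA.preimage X.isoSpec.inv.continuous) ((heS A).symm ▸ hGA))).rho e⟩
  have h1 : (rho e).map q ≫ (rho e).map φ' = (rho e).map (R.map φ) := by rw [← Functor.map_comp, hq]
  rw [Category.assoc, reassoc_of% h1]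
  erw [(adjR e).counit.naturality φ, IsIso.inv_hom_id_assoc]
  rfl

/-- A perfect object on a quasi-compact open of an affine scheme, added to its shift, extends. -/
theorem exists_extend_affine (k : U ⟶ X) [IsOpenImmersion k] [QuasiCompact k] {T : Set X}
    (hT : IsClosed T) (hTc : IsCompact Tᶜ) {F : DCoh.D U} (hF : DCoh.IsPerfect F)
    (hFT : Supp F (k.base ⁻¹' T)) :
    ∃ G : DCoh.D X, DCoh.IsPerfect G ∧ Supp G T ∧ Nonempty ((rho k).obj G ≅ F ⊞ F⟦(1 : ℤ)⟧) := by
  let e := X.isoSpec.hom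
  let S := X.isoSpec.inv.base ⁻¹' T
  have heS : e.base ⁻¹' S = T := preimage_inv_image X T
  obtain ⟨G, hG, hGS, ⟨i⟩⟩ := exists_extend_perfect (k ≫ e) (hT.preimage X.isoSpec.inv.continuous)
    (isCompact_compl_preimage_inv hTc) hF (by
      rw [Scheme.Hom.comp_base, TopCat.coe_comp, Set.preimage_comp]
      exact heS.symm ▸ hFT)
  exact ⟨(rho e).obj G, isPerfect_rho' e hG, heS ▸ hGS.rho e, ⟨rhoComp k e (k ≫ e) rfl G ≪≫ i⟩⟩

end Groth.Agent.PerfGen7
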