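import Groth.Agent.PerfGen7.TensorModCx
import Groth.Agent.KFlatLib.Scheme.QCohDerived

/-!
# Exactness and bounds of the derived tensor product
-/

set_option linter.style.haveILetI false
set_option backward.isDefEq.respectTransparency false

universe u

open CategoryTheory CategoryTheory.Limits AlgebraicGeometry Pretriangulated

attribute [local instance] HasDerivedCategory.standard

namespace Groth.Agent.PerfGen7

open Groth.Agent.KFlatLib

variable {X : Scheme.{u}}

/-- `- ⊗^L K` is exact: on the objects of a distinguished triangle. -/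
theorem exists_ltensor_triangle (K : CochainComplex X.Modules ℤ) [DCoh.HasLTensorCx K]
    (T : Triangle (DCoh.D X)) (hT : T ∈ distTriang _) :
    ∃ T' ∈ distTriang (DCoh.D X), Nonempty (T'.obj₁ ≅ (DCoh.LTensorCx K).obj T.obj₂) ∧
      Nonempty (T'.obj₂ ≅ (DCoh.LTensorCx K).obj T.obj₃) ∧
      Nonempty (T'.obj₃ ≅ ((DCoh.LTensorCx K).obj T.obj₁)⟦(1 : ℤ)⟧) := by
  obtain ⟨A, B, φ, ⟨e⟩⟩ := (DerivedCategory.mem_distTriang_iff T).1 hT
  let φ' := (kRes X).map φ
  let T₁ := DerivedCategory.Q.mapTriangle.obj (CochainComplex.mappingCone.triangle φ')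
  have hT₁ : T₁ ∈ distTriang (DCoh.D X) :=
    (DerivedCategory.mem_distTriang_iff _).2 ⟨_, _, φ', ⟨Iso.refl _⟩⟩
  have hT₀ : DerivedCategory.Q.mapTriangle.obj (CochainComplex.mappingCone.triangle φ) ∈
      distTriang (DCoh.D X) :=
    (DerivedCategory.mem_distTriang_iff _).2 ⟨_, _, φ, ⟨Iso.refl _⟩⟩
  let e' : T₁ ≅ T := isoTriangleOfIso₁₂ T₁
    (DerivedCategory.Q.mapTriangle.obj (CochainComplex.mappingCone.triangle φ)) hT₁ hT₀
    ((resQIso X).app A) ((resQIso X).app B) ((resQIso X).hom.naturality φ) ≪≫ e.symm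
  have hA : DCoh.IsKFlat ((kRes X).obj A) := isKFlat_kRes A
  have hB : DCoh.IsKFlat ((kRes X).obj B) := isKFlat_kRes B
  have hC : DCoh.IsKFlat (CochainComplex.mappingCone φ') := kFlat_cone (T := DCoh.tensorBi) φ' hA hB
  let S := (coneSeq φ').map ((DCoh.tensorBi (X := X)).map₂CochainComplex.flip.obj K)
  have hS : S.ShortExact :=
    shortExact₁_of_splitting K (coneSeq φ') fun n => ⟨coneSeqSplitting φ' n⟩
  let Lt := DCoh.LTensorCx K
  refine ⟨DerivedCategory.triangleOfSES hS, DerivedCategory.triangleOfSES_distinguished hS,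
    ⟨(ltensorCxIso K hB).symm ≪≫ Lt.mapIso (Triangle.π₂.mapIso e')⟩,
    ⟨(ltensorCxIso K hC).symm ≪≫ Lt.mapIso (Triangle.π₃.mapIso e')⟩,
    ⟨DerivedCategory.Q.mapIso
        (CochainComplex.mapBifunctorShift₁Iso ((kRes X).obj A) K (DCoh.tensorBi (X := X)) 1) ≪≫
      (DerivedCategory.Q.commShiftIso (1 : ℤ)).app _ ≪≫
      (shiftFunctor (DCoh.D X) (1 : ℤ)).mapIso
        ((ltensorCxIso K hA).symm ≪≫ Lt.mapIso (Triangle.π₁.mapIso e'))⟩⟩

/-- Bounded above objects have bounded above tensor product. -/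
theorem isLE_ltensor (K : CochainComplex X.Modules ℤ) [DCoh.HasLTensorCx K] (b : ℤ)
    [(DCoh.toD X K).IsLE b] (E : DCoh.D X) (a : ℤ) [E.IsLE a] :
    ((DCoh.LTensorCx K).obj E).IsLE (a + b) := by
  obtain ⟨K₀, _, ⟨eK⟩⟩ := DerivedCategory.exists_iso_Q_obj_of_isLE (DCoh.toD X K) b
  haveI := hasLTensorCx K₀
  obtain ⟨c⟩ := nonempty_LTensorCx_congr_D eK
  let E₀ := DerivedCategory.Q.objPreimage E
  haveI : CochainComplex.IsLE E₀ a := (DerivedCategory.isLE_Q_obj_iff E₀ a).1
    (DerivedCategory.TStructure.t.isLE_of_iso (DerivedCategory.Q.objObjPreimageIso E).symm a)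
  rw [DerivedCategory.isLE_iff]
  intro i hi
  refine (isZero_homology_of_bound (G := DCoh.tensorCx.flip.obj K₀) (respectsQis_tensorFlip K₀) b
    (fun R n hR j hj => KFlatLib.isZero_tensorCx_X R K₀ n b j (by omega)) E₀ a inferInstance i
    (by omega)).of_iso ?_
  exact (DerivedCategory.homologyFunctor X.Modules i).mapIso (c.app E ≪≫
      (DCoh.LTensorCx K₀).mapIso ((resQIso X).app E₀ ≪≫ DerivedCategory.Q.objObjPreimageIso E).symm ≪≫
      ltensorCxIso K₀ (isKFlat_kRes E₀)) ≪≫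
    (DerivedCategory.homologyFunctorFactors X.Modules i).app _

end Groth.Agent.PerfGen7
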