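import Groth.Agent.PerfGen7.CompactPerfect

/-!
# Brown representability from a compact detecting object
-/

set_option linter.style.haveILetI false
set_option backward.isDefEq.respectTransparency false

universe v v' w w' u

open CategoryTheory CategoryTheory.Limits Pretriangulated ZeroObject

namespace Groth.Agent.PerfGen7.Brown

open Groth.Agent.KFlatLib

variable {D : Type w} [Category.{v} D] [Preadditive D] [HasZeroObject D] [HasShift D ℤ]
  [∀ n : ℤ, (shiftFunctor D n).Additive] [Pretriangulated D]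
  [∀ J : Type u, HasColimitsOfShape (Discrete J) D]
variable {E : Type w'} [Category.{v'} E] [Preadditive E]

/-- The data needed for representability. -/
structure Ctx (Pr : ObjectProperty D) (P : D) (G : D ⥤ E) (N : E) : Prop where
  hsigma : ∀ (J : Type u) (M : J → D), (∀ j, Pr (M j)) → Pr (∐ M)
  hP : Pr P
  hdet : ∀ A, Pr A → (∀ (n : ℤ) (φ : P⟦n⟧ ⟶ A), φ = 0) → IsZero A
  hcpt : ∀ (J : Type u) (M : J → D), (∀ j, Pr (M j)) → Fix M P
  hcop : ∀ (J : Type u) (M : J → D), (∀ j, Pr (M j)) →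
    Function.Bijective fun (x : G.obj (∐ M) ⟶ N) j => G.map (Sigma.ι M j) ≫ x
  hex : ∀ T : Triangle D, T ∈ distTriang D → Pr T.obj₁ → Pr T.obj₂ →
    ∀ x : G.obj T.obj₂ ⟶ N, G.map T.mor₁ ≫ x = 0 → ∃ y : G.obj T.obj₃ ⟶ N, x = G.map T.mor₂ ≫ y
  hsmall : ∀ A B : D, Small.{u} (A ⟶ B)
  hsmall' : ∀ A : D, Small.{u} (G.obj A ⟶ N)

variable {Pr : ObjectProperty D} [Pr.IsTriangulated] [Pr.IsClosedUnderIsomorphisms]
  {P : D} {G : D ⥤ E} [G.Additive] {N : E}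

/-- Bijectivity on the shifts of `P`. -/
def Good (P : D) (L : D) (x : G.obj L ⟶ N) : Prop :=
  ∀ n : ℤ, Function.Bijective fun g : P⟦n⟧ ⟶ L => G.map g ≫ x

omit [G.Additive] in
lemma exists_step (h : Ctx.{v, v', w, w', u} Pr P G N) {A : D} (hA : Pr A) (x : G.obj A ⟶ N) :
    ∃ (A' : D) (f : A ⟶ A') (x' : G.obj A' ⟶ N), Pr A' ∧ G.map f ≫ x' = x ∧
      ∀ (n : ℤ) (φ : P⟦n⟧ ⟶ A), G.map φ ≫ x = 0 → φ ≫ f = 0 := by
  classical
  haveI := h.hsmall
  let κ := Shrink.{u} (Σ n : ℤ, {φ : P⟦n⟧ ⟶ A // G.map φ ≫ x = 0})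
  let e : κ → Σ n : ℤ, {φ : P⟦n⟧ ⟶ A // G.map φ ≫ x = 0} := (equivShrink _).symm
  let M : κ → D := fun k => P⟦(e k).1⟧
  have hM : ∀ k, Pr (M k) := fun k => Pr.le_shift _ _ h.hP
  let ρ : ∐ M ⟶ A := Sigma.desc fun k => (e k).2.1
  obtain ⟨A', f, δ, hT⟩ := distinguished_cocone_triangle ρ
  have hρ : G.map ρ ≫ x = 0 := (h.hcop κ M hM).1 (funext fun k => by
    simp only [comp_zero, ← Category.assoc, ← Functor.map_comp]
    rw [show Sigma.ι M k ≫ ρ = (e k).2.1 from Sigma.ι_desc _ _]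
    exact (e k).2.2)
  obtain ⟨x', hx'⟩ := h.hex _ hT (h.hsigma κ M hM) hA x hρ
  refine ⟨A', f, x', Pr.ext_of_isTriangulatedClosed₃ _ hT (h.hsigma κ M hM) hA, hx'.symm,
    fun n φ hφ => ?_⟩
  have key : ∀ a : Σ n : ℤ, {φ : P⟦n⟧ ⟶ A // G.map φ ≫ x = 0}, a.2.1 ≫ f = 0 := fun a => by
    obtain ⟨k, rfl⟩ := (equivShrink _).symm.surjective a
    rw [← show Sigma.ι M k ≫ ρ = (e k).2.1 from Sigma.ι_desc _ _, Category.assoc,
      show ρ ≫ f = 0 from comp_distTriang_mor_zero₁₂ _ hT, comp_zero]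
  exact key ⟨n, φ, hφ⟩

/-- From any seed, a telescope kills the kernel on the shifts of `P`. -/
lemma exists_inj (h : Ctx.{v, v', w, w', u} Pr P G N) {S : D} (hS : Pr S) (xS : G.obj S ⟶ N) :
    ∃ (L : D) (i : S ⟶ L) (x : G.obj L ⟶ N), Pr L ∧ G.map i ≫ x = xS ∧
      ∀ (n : ℤ) (φ : P⟦n⟧ ⟶ L), G.map φ ≫ x = 0 → φ = 0 := by
  classical
  have step : ∀ a : Σ' (A : D) (_ : G.obj A ⟶ N), Pr A,
      ∃ (b : Σ' (A : D) (_ : G.obj A ⟶ N), Pr A) (f : a.1 ⟶ b.1), G.map f ≫ b.2.1 = a.2.1 ∧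
        ∀ (n : ℤ) (φ : P⟦n⟧ ⟶ a.1), G.map φ ≫ a.2.1 = 0 → φ ≫ f = 0 := fun a => by
    obtain ⟨A', f, x', hA', h1, h2⟩ := exists_step h a.2.2 a.2.1
    exact ⟨⟨A', x', hA'⟩, f, h1, h2⟩
  choose nx fx hfx hkill using step
  let Es : ℕ → Σ' (A : D) (_ : G.obj A ⟶ N), Pr A := fun m =>
    Nat.rec ⟨S, xS, hS⟩ (fun _ a => nx a) m
  let f : ∀ m, (Es m).1 ⟶ (Es (m + 1)).1 := fun m => fx (Es m)
  let M : ULift.{u} ℕ → D := fun i => (Es i.down).1
  have hM : ∀ i, Pr (M i) := fun i => (Es i.down).2.2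
  have hMs : Pr (∐ M) := h.hsigma _ M hM
  obtain ⟨y, hy⟩ := (h.hcop _ M hM).2 fun i => (Es i.down).2.1
  have hy' : ∀ i : ULift.{u} ℕ, G.map (Sigma.ι M i) ≫ y = (Es i.down).2.1 := fun i => congrFun hy i
  let t : ∐ M ⟶ ∐ M := Sigma.desc fun i => Sigma.ι M i - f i.down ≫ Sigma.ι M ⟨i.down + 1⟩
  have ht : ∀ i : ULift.{u} ℕ, Sigma.ι M i ≫ t =
      Sigma.ι M i - f i.down ≫ Sigma.ι M ⟨i.down + 1⟩ := fun i => Sigma.ι_desc _ _
  have ht0 : t ≫ projAt M ⟨0⟩ = projAt M ⟨0⟩ := Sigma.hom_ext _ _ fun i => by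
    rw [← Category.assoc, ht, Preadditive.sub_comp, Category.assoc,
      ι_projAt_ne M (i := ⟨i.down + 1⟩) (by simp), comp_zero, sub_zero]
  have htS : ∀ j : ℕ, t ≫ projAt M ⟨j + 1⟩ = projAt M ⟨j + 1⟩ - projAt M ⟨j⟩ ≫ f j := fun j =>
    Sigma.hom_ext _ _ fun ⟨i⟩ => by
      rw [← Category.assoc, ht, Preadditive.sub_comp, Category.assoc, Preadditive.comp_sub]
      congr 1
      by_cases hij : i = j
      · subst hij
        rw [ι_projAt_self, Category.comp_id, ← Category.assoc, ι_projAt_self, Category.id_comp]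
      · rw [ι_projAt_ne M (i := ⟨i + 1⟩) (by simpa using hij), comp_zero, ← Category.assoc,
          ι_projAt_ne M (by simpa using hij), zero_comp]
  have hty : G.map t ≫ y = 0 := (h.hcop _ M hM).1 (funext fun i => by
    simp only [comp_zero, ← Category.assoc, ← Functor.map_comp, ht, Functor.map_sub,
      Preadditive.sub_comp]
    rw [Functor.map_comp, Category.assoc, hy', hy']
    exact sub_eq_zero.2 (hfx _).symm)
  obtain ⟨L, g, d, hL⟩ := distinguished_cocone_triangle t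
  obtain ⟨x, hx⟩ := h.hex _ hL hMs hMs y hty
  have hg : ∀ i : ULift.{u} ℕ, G.map (Sigma.ι M i ≫ g) ≫ x = (Es i.down).2.1 := fun i => by
    rw [Functor.map_comp, Category.assoc, show G.map g ≫ x = y from hx.symm, hy']
  have hιg : ∀ i : ℕ, Sigma.ι M ⟨i⟩ ≫ g = f i ≫ Sigma.ι M ⟨i + 1⟩ ≫ g := fun i => by
    have h12 : t ≫ g = 0 := comp_distTriang_mor_zero₁₂ _ hL
    have h1 := congrArg (Sigma.ι M ⟨i⟩ ≫ ·) h12
    simp only [← Category.assoc, ht, Preadditive.sub_comp, comp_zero, sub_eq_zero] at h1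
    simpa only [Category.assoc] using h1
  refine ⟨L, Sigma.ι M ⟨0⟩ ≫ g, x, Pr.ext_of_isTriangulatedClosed₃ _ hL hMs hMs, hg ⟨0⟩,
    fun n φ hφ => ?_⟩
  obtain ⟨ψ₁, hψ₁⟩ : ∃ ψ₁ : P⟦n⟧ ⟶ ∐ M, φ = ψ₁ ≫ g := by
    refine Triangle.coyoneda_exact₂ _ (rot_of_distTriang _ hL) φ ?_
    let ε : P⟦n + -1⟧⟦(1 : ℤ)⟧ ≅ P⟦n⟧ :=
      ((shiftFunctorAdd' D (n + -1) 1 n (by omega)).app P).symm
    obtain ⟨ψ, hψ⟩ := (shiftFunctor D (1 : ℤ)).map_surjective (ε.hom ≫ φ ≫ d)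
    have h31 : d ≫ t⟦(1 : ℤ)⟧' = 0 := comp_distTriang_mor_zero₃₁ _ hL
    have hψt : ψ ≫ t = 0 := (shiftFunctor D (1 : ℤ)).map_injective (by
      rw [Functor.map_comp, hψ, Functor.map_zero, Category.assoc, Category.assoc, h31, comp_zero,
        comp_zero])
    have ha : ∀ j : ℕ, ψ ≫ projAt M ⟨j⟩ = 0 := fun j => by
      induction j with
      | zero => rw [← ht0, ← Category.assoc, hψt, zero_comp]
      | succ j ih =>
        have := congrArg (ψ ≫ ·) (htS j)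
        simp only [Preadditive.comp_sub, ← Category.assoc, hψt, ih, zero_comp, sub_zero] at this
        exact this.symm
    obtain ⟨F, hF⟩ := h.hcpt _ M hM _ ψ
    have hψ0 : ψ = 0 := hF.symm.trans (by
      rw [partProj_eq_sum, Preadditive.comp_sum]
      exact Finset.sum_eq_zero fun i _ => by rw [← Category.assoc, ha i.down, zero_comp])
    rw [hψ0, Functor.map_zero] at hψ
    exact (cancel_epi ε.hom).1 (by rw [comp_zero]; exact hψ.symm)
  -- `φ` comes from a single stage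
  let Rep : (P⟦n⟧ ⟶ L) → ℕ → Prop := fun a m =>
    ∃ b : P⟦n⟧ ⟶ (Es m).1, a = b ≫ Sigma.ι M ⟨m⟩ ≫ g
  have mono : ∀ a m m', m ≤ m' → Rep a m → Rep a m' := fun a m m' hmm hr => by
    induction m', hmm using Nat.le_induction with
    | base => exact hr
    | succ k _ ih =>
      obtain ⟨b, rfl⟩ := ih
      exact ⟨b ≫ f k, by rw [hιg, Category.assoc]⟩
  obtain ⟨F, hF⟩ := h.hcpt _ M hM _ ψ₁
  obtain ⟨m, b, hb⟩ : ∃ m, Rep φ m := by
    rw [hψ₁, ← hF, partProj_eq_sum, Preadditive.comp_sum, Preadditive.sum_comp]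
    refine Finset.sum_induction _ (fun a => ∃ m, Rep a m) ?_ ⟨0, 0, zero_comp.symm⟩ fun i _ => ?_
    · rintro a a' ⟨m, hm⟩ ⟨m', hm'⟩
      obtain ⟨b, rfl⟩ := mono _ _ _ (le_max_left m m') hm
      obtain ⟨b', rfl⟩ := mono _ _ _ (le_max_right m m') hm'
      exact ⟨max m m', b + b', (Preadditive.add_comp _ _ _ _ _ _).symm⟩
    · exact ⟨i.down, ψ₁ ≫ projAt M i, by simp only [Category.assoc]⟩
  have hb0 : G.map b ≫ (Es m).2.1 = 0 := by
    rw [← hg ⟨m⟩, ← Category.assoc, ← Functor.map_comp, ← hb, hφ]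
  rw [hb, hιg, ← Category.assoc, show b ≫ f m = 0 from hkill _ n b hb0, zero_comp]

omit [∀ J : Type u, HasColimitsOfShape (Discrete J) D] [G.Additive] in
lemma map_comp_desc {Q A B : D} (a : Q ⟶ A ⊞ B) (xA : G.obj A ⟶ N) (xB : G.obj B ⟶ N) :
    G.map a ≫ (G.map biprod.fst ≫ xA + G.map biprod.snd ≫ xB) =
      G.map (a ≫ biprod.fst) ≫ xA + G.map (a ≫ biprod.snd) ≫ xB := by
  simp only [Preadditive.comp_add, Functor.map_comp, Category.assoc]

/-- From any seed, a solution that is bijective on the shifts of `P`. -/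
lemma exists_good (h : Ctx.{v, v', w, w', u} Pr P G N) {S : D} (hS : Pr S) (xS : G.obj S ⟶ N) :
    ∃ (L : D) (i : S ⟶ L) (x : G.obj L ⟶ N), Pr L ∧ G.map i ≫ x = xS ∧ Good P L x := by
  classical
  haveI := h.hsmall'
  let κ := Shrink.{u} (Σ n : ℤ, (G.obj (P⟦n⟧) ⟶ N))
  let e : κ → Σ n : ℤ, (G.obj (P⟦n⟧) ⟶ N) := (equivShrink _).symm
  let M : κ → D := fun k => P⟦(e k).1⟧
  have hM : ∀ k, Pr (M k) := fun k => Pr.le_shift _ _ h.hP
  obtain ⟨y, hy⟩ := (h.hcop κ M hM).2 fun k => (e k).2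
  let x₀ : G.obj (S ⊞ ∐ M) ⟶ N := G.map biprod.fst ≫ xS + G.map biprod.snd ≫ y
  obtain ⟨L, i, x, hL, hi, hinj⟩ := exists_inj h
    (Pr.ext_of_isTriangulatedClosed₂ _ (binaryBiproductTriangle_distinguished S (∐ M)) hS
      (h.hsigma κ M hM)) x₀
  refine ⟨L, biprod.inl ≫ i, x, hL, ?_, fun n => ⟨fun g g' hgg => ?_, fun z => ?_⟩⟩
  · rw [Functor.map_comp, Category.assoc, hi]
    refine (map_comp_desc _ _ _).trans ?_
    simp
  · exact sub_eq_zero.1 (hinj n _ (by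
      rw [Functor.map_sub, Preadditive.sub_comp, sub_eq_zero]; exact hgg))
  · have key : ∀ a : Σ n : ℤ, (G.obj (P⟦n⟧) ⟶ N), ∃ g, G.map g ≫ x = a.2 := fun a => by
      obtain ⟨k, rfl⟩ := (equivShrink _).symm.surjective a
      refine ⟨(Sigma.ι M k ≫ biprod.inr) ≫ i, ?_⟩
      rw [Functor.map_comp, Category.assoc, hi]
      refine (map_comp_desc _ _ _).trans ?_
      simpa using congrFun hy k
    exact key ⟨n, z⟩

/-- A map compatible with two good solutions is an isomorphism. -/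
lemma isIso_of_good (h : Ctx.{v, v', w, w', u} Pr P G N) {L L' : D} (hL : Pr L) (hL' : Pr L')
    {x : G.obj L ⟶ N} {x' : G.obj L' ⟶ N} (hx : Good P L x) (hx' : Good P L' x') (j : L ⟶ L')
    (hj : G.map j ≫ x' = x) : IsIso j := by
  obtain ⟨C, q, d, hT⟩ := distinguished_cocone_triangle j
  refine (Triangle.isZero₃_iff_isIso₁ _ hT).1
    (h.hdet C (Pr.ext_of_isTriangulatedClosed₃ _ hT hL hL') fun n φ => ?_)
  obtain ⟨ψ₂, hψ₂⟩ : ∃ ψ₂ : P⟦n⟧ ⟶ L', φ = ψ₂ ≫ q := by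
    refine Triangle.coyoneda_exact₂ _ (rot_of_distTriang _ hT) φ ?_
    let ε : P⟦n + -1⟧⟦(1 : ℤ)⟧ ≅ P⟦n⟧ :=
      ((shiftFunctorAdd' D (n + -1) 1 n (by omega)).app P).symm
    obtain ⟨ψ, hψ⟩ := (shiftFunctor D (1 : ℤ)).map_surjective (ε.hom ≫ φ ≫ d)
    have h31 : d ≫ j⟦(1 : ℤ)⟧' = 0 := comp_distTriang_mor_zero₃₁ _ hT
    have hψj : ψ ≫ j = 0 := (shiftFunctor D (1 : ℤ)).map_injective (by
      rw [Functor.map_comp, hψ, Functor.map_zero, Category.assoc, Category.assoc, h31, comp_zero,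
        comp_zero])
    have hψ0 : ψ = 0 := (hx _).1 (by
      show G.map ψ ≫ x = G.map 0 ≫ x
      rw [← hj, ← Category.assoc, ← Functor.map_comp, hψj, Functor.map_zero, Functor.map_zero,
        zero_comp, zero_comp])
    rw [hψ0, Functor.map_zero] at hψ
    exact (cancel_epi ε.hom).1 (by rw [comp_zero]; exact hψ.symm)
  obtain ⟨g, hg⟩ := (hx n).2 (G.map ψ₂ ≫ x')
  have : ψ₂ = g ≫ j := (hx' n).1 (by
    show G.map ψ₂ ≫ x' = G.map (g ≫ j) ≫ x'
    rw [Functor.map_comp, Category.assoc, hj]; exact hg.symm)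
  rw [hψ₂, this, Category.assoc, show j ≫ q = 0 from comp_distTriang_mor_zero₁₂ _ hT, comp_zero]

/-- **Brown representability.** -/
theorem exists_rep (h : Ctx.{v, v', w, w', u} Pr P G N) :
    ∃ (L : D) (x : G.obj L ⟶ N), Pr L ∧
      ∀ A : D, Pr A → Function.Bijective fun g : A ⟶ L => G.map g ≫ x := by
  obtain ⟨Z, hZ, hPZ⟩ := Pr.exists_prop_of_containsZero
  obtain ⟨L, -, x, hL, -, hx⟩ := exists_good h hPZ (0 : G.obj Z ⟶ N)
  refine ⟨L, x, hL, fun A hA => ⟨fun g g' hgg => sub_eq_zero.1 ?_, fun z => ?_⟩⟩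
  · -- injectivity
    obtain ⟨C, q, d, hT⟩ := distinguished_cocone_triangle (g - g')
    obtain ⟨xC, hxC⟩ := h.hex _ hT hA hL x (by
      show G.map (g - g') ≫ x = 0
      rw [Functor.map_sub, Preadditive.sub_comp, sub_eq_zero]; exact hgg)
    obtain ⟨L', i, x', hL', hi, hx'⟩ := exists_good h
      (Pr.ext_of_isTriangulatedClosed₃ _ hT hA hL) xC
    haveI := isIso_of_good h hL hL' hx hx' (q ≫ i) (by
      rw [Functor.map_comp, Category.assoc, hi]; exact hxC.symm)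
    rw [← cancel_mono (q ≫ i), ← Category.assoc,
      show (g - g') ≫ q = 0 from comp_distTriang_mor_zero₁₂ _ hT, zero_comp, zero_comp]
  · -- surjectivity
    obtain ⟨L', i, x', hL', hi, hx'⟩ := exists_good h
      (Pr.ext_of_isTriangulatedClosed₂ _ (binaryBiproductTriangle_distinguished L A) hL hA)
      (G.map biprod.fst ≫ x + G.map biprod.snd ≫ z)
    have h1 : G.map (biprod.inl ≫ i) ≫ x' = x := by
      rw [Functor.map_comp, Category.assoc, hi]
      refine (map_comp_desc _ _ _).trans ?_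
      simp
    haveI := isIso_of_good h hL hL' hx hx' (biprod.inl ≫ i) h1
    refine ⟨(biprod.inr ≫ i) ≫ inv (biprod.inl ≫ i), ?_⟩
    have hxx : G.map (inv (biprod.inl ≫ i)) ≫ x = x' := by
      rw [← h1, ← Category.assoc, ← Functor.map_comp, IsIso.inv_hom_id, CategoryTheory.Functor.map_id,
        Category.id_comp]
    show G.map _ ≫ x = z
    rw [Functor.map_comp, Category.assoc, hxx, Functor.map_comp, Category.assoc, hi]
    refine (map_comp_desc _ _ _).trans ?_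
    simp

/-- Pointwise representability gives a right adjoint. -/
lemma isLeftAdjoint_of_rep {C : Type w} [Category.{v} C] {E : Type w'} [Category.{v'} E] (F : C ⥤ E)
    (h : ∀ N : E, ∃ (L : C) (x : F.obj L ⟶ N),
      ∀ A : C, Function.Bijective fun g : A ⟶ L => F.map g ≫ x) : F.IsLeftAdjoint := by
  choose L x hb using h
  let e : ∀ A N, (F.obj A ⟶ N) ≃ (A ⟶ L N) := fun A N => (Equiv.ofBijective _ (hb N A)).symm
  refine ⟨_, ⟨Adjunction.adjunctionOfEquivRight e fun A' A N f g => ?_⟩⟩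
  apply (hb N A').1
  show F.map (e A' N (F.map f ≫ g)) ≫ x N = F.map (f ≫ e A N g) ≫ x N
  have e1 : ∀ (A : C) (g : F.obj A ⟶ N), F.map (e A N g) ≫ x N = g := fun A g =>
    Equiv.apply_symm_apply (Equiv.ofBijective _ (hb N A)) g
  rw [e1, F.map_comp, Category.assoc, e1]

end Groth.Agent.PerfGen7.Brown
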