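import Groth.Agent.KFlatLib.Scheme.InnerHom
import Groth.Agent.PerfGen7.BrownGen

/-!
# `- ⊗^L E` has a right adjoint
-/

set_option linter.style.haveILetI false
set_option backward.isDefEq.respectTransparency false

universe u

open CategoryTheory CategoryTheory.Limits AlgebraicGeometry

attribute [local instance] HasDerivedCategory.standard

namespace Groth.Agent.PerfGen7

open Groth.Agent.KFlatLib

variable {X : Scheme.{u}}

/-- `RHom(E, -)` exists. -/
theorem hasRSheafHom (E : CochainComplex X.Modules ℤ) [DCoh.HasLTensorCx E] :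
    DCoh.HasRSheafHom E := by
  let P := (kRes X).obj E
  have hP : DCoh.IsKFlat P := isKFlat_kRes E
  haveI := (flatCover X).quasiIso_ψ E
  haveI := hasLTensorCx P
  obtain ⟨eE⟩ := nonempty_LTensorCx_congr (P := P) (E := E) ((flatCover X).ψ.app E)
  suffices h : (DCoh.LTensorCx P).IsLeftAdjoint from
    haveI := h; ((Adjunction.ofIsLeftAdjoint (DCoh.LTensorCx P)).ofNatIsoLeft eE).isLeftAdjoint
  refine Brown.isLeftAdjoint_of_rep _ fun L => ?_
  obtain ⟨I, _, _, ⟨eI⟩⟩ := exists_kInjective_rep L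
  let A := (iHom P).obj I
  let c := (DCoh.tensorCxQ P).totalLeftDerivedCounit DerivedCategory.Q (qisX X)
  haveI := fun N => isIso_LTensorCx_counit_of_isKFlat_right P hP N
  let x : (DCoh.LTensorCx P).obj (DerivedCategory.Q.obj A) ⟶ L :=
    c.app A ≫ DerivedCategory.Q.map ((iHomAdj P).counit.app I) ≫ eI.inv
  refine ⟨DerivedCategory.Q.obj A, x, fun Z => ?_⟩
  obtain ⟨N, hN, ⟨e⟩⟩ := exists_kFlat_rep Z
  have key : ∀ g : N ⟶ A, (DCoh.LTensorCx P).map (DerivedCategory.Q.map g) ≫ x =
      c.app N ≫ DerivedCategory.Q.map (((iHomAdj P).homEquiv N I).symm g) ≫ eI.inv := fun g => by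
    have w : (DCoh.LTensorCx P).map (DerivedCategory.Q.map g) ≫ c.app A =
        c.app N ≫ (DCoh.tensorCxQ P).map g := c.naturality g
    simp only [x, ← Category.assoc, w]
    simp only [Category.assoc, (iHomAdj P).homEquiv_counit, DerivedCategory.Q.map_comp]
    rfl
  haveI := isKInjective_iHom hP I
  suffices h : Function.Bijective fun a : DerivedCategory.Q.obj N ⟶ DerivedCategory.Q.obj A =>
      (DCoh.LTensorCx P).map a ≫ x by
    refine ⟨fun z z' hz => (cancel_epi e.hom).1 (h.1 ?_), fun y => ?_⟩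
    · simp only [Functor.map_comp, Category.assoc] at hz ⊢
      exact congrArg ((DCoh.LTensorCx P).map e.hom ≫ ·) hz
    · obtain ⟨z, hz⟩ := h.2 ((DCoh.LTensorCx P).map e.hom ≫ y)
      refine ⟨e.inv ≫ z, ?_⟩
      simp only [Functor.map_comp, Category.assoc] at hz ⊢
      rw [hz, ← Category.assoc, ← Functor.map_comp, e.inv_hom_id, CategoryTheory.Functor.map_id,
        Category.id_comp]
  refine ⟨fun a a' h => ?_, fun y => ?_⟩
  · obtain ⟨g, rfl⟩ := exists_Q_map a
    obtain ⟨g', rfl⟩ := exists_Q_map a'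
    simp only [key, cancel_epi, cancel_mono] at h
    obtain ⟨H⟩ := (Inner.nonempty_homotopy_iff (DCoh.tensorBi (X := X)) g g').2
      (homotopy_of_Q_map_eq _ _ h)
    exact DerivedCategory.Q_map_eq_of_homotopy _ H
  · obtain ⟨b, hb⟩ := exists_Q_map (inv (c.app N) ≫ y ≫ eI.hom)
    refine ⟨DerivedCategory.Q.map ((iHomAdj P).homEquiv N I b), ?_⟩
    show (DCoh.LTensorCx P).map _ ≫ x = y
    rw [key, Equiv.symm_apply_apply, hb]
    simp

end Groth.Agent.PerfGen7
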