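import Groth.Agent.PerfGen7.Supp
import Groth.Agent.KFlatLib.Scheme.SupportPush
import Groth.Agent.KFlatLib.Scheme.ProjLocFree
import Groth.Agent.KFlatLib.Scheme.EvalPerfect

/-!
# Perfect objects and supports; supports of direct images
-/

set_option linter.style.haveILetI false

universe u

open CategoryTheory CategoryTheory.Limits AlgebraicGeometry Pretriangulated ZeroObject

attribute [local instance] HasDerivedCategory.standard

namespace Groth.Agent.PerfGen7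

open Groth.Agent.KFlatLib

variable {X Y : Scheme.{u}}

lemma isPerfect_of_iso' {A B : DCoh.D X} (e : A ≅ B) (h : DCoh.IsPerfect A) : DCoh.IsPerfect B :=
  (KFlatLib.isPerfect_iff B).2 (((KFlatLib.isPerfect_iff A).1 h).of_iso e)

lemma isPerfect_shift' {A : DCoh.D X} (h : DCoh.IsPerfect A) (n : ℤ) : DCoh.IsPerfect (A⟦n⟧) :=
  (KFlatLib.isPerfect_iff _).2 (((KFlatLib.isPerfect_iff A).1 h).shift n)

lemma isPerfect_of_isZero' {A : DCoh.D X} (h : IsZero A) : DCoh.IsPerfect A :=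
  (KFlatLib.isPerfect_iff A).2 (locSP_of_isZero h)

lemma isPerfect_tri₃ {T : Triangle (DCoh.D X)} (hT : T ∈ distTriang _) (h₁ : DCoh.IsPerfect T.obj₁)
    (h₂ : DCoh.IsPerfect T.obj₂) : DCoh.IsPerfect T.obj₃ :=
  (KFlatLib.isPerfect_iff _).2 ((locSP_two_of_three T hT).1 ((KFlatLib.isPerfect_iff _).1 h₁)
    ((KFlatLib.isPerfect_iff _).1 h₂))

lemma isPerfect_tri₁ {T : Triangle (DCoh.D X)} (hT : T ∈ distTriang _) (h₂ : DCoh.IsPerfect T.obj₂)
    (h₃ : DCoh.IsPerfect T.obj₃) : DCoh.IsPerfect T.obj₁ :=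
  (KFlatLib.isPerfect_iff _).2 ((locSP_two_of_three T hT).2.2 ((KFlatLib.isPerfect_iff _).1 h₂)
    ((KFlatLib.isPerfect_iff _).1 h₃))

lemma isPerfect_tri₂ {T : Triangle (DCoh.D X)} (hT : T ∈ distTriang _) (h₁ : DCoh.IsPerfect T.obj₁)
    (h₃ : DCoh.IsPerfect T.obj₃) : DCoh.IsPerfect T.obj₂ :=
  (KFlatLib.isPerfect_iff _).2 ((locSP_two_of_three T hT).2.1 ((KFlatLib.isPerfect_iff _).1 h₁)
    ((KFlatLib.isPerfect_iff _).1 h₃))

lemma isPerfect_rho' (j : Y ⟶ X) [IsOpenImmersion j] {A : DCoh.D X} (h : DCoh.IsPerfect A) :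
    DCoh.IsPerfect ((rho j).obj A) :=
  (KFlatLib.isPerfect_iff _).2 (((KFlatLib.isPerfect_iff A).1 h).restrict' j)

lemma rpush_additive (f : X ⟶ Y) [DCoh.HasRpush f] : (DCoh.Rpush f).Additive :=
  (exists_rightDerived_triangle (Scheme.Modules.pushforward f) _
    (contractible_distinguished (0 : DCoh.D X))).1

/-- Supports of direct images. -/
theorem supp_rpush (f : X ⟶ Y) [DCoh.HasRpush f] {F : DCoh.D X} {S : Set Y} (hS : IsClosed S)
    (h : Supp F (f.base ⁻¹' S)) : Supp ((DCoh.Rpush f).obj F) S := by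
  let W : Y.Opens := ⟨Sᶜ, hS.isOpen_compl⟩
  have hW : (Set.range W.ι.base)ᶜ = S := by
    rw [Scheme.Opens.range_ι]; exact compl_compl S
  rw [← hW, ← isZero_rho_iff]
  haveI := hasRpush_scheme (f ∣_ W)
  haveI := rpush_additive (f ∣_ W)
  obtain ⟨e⟩ := nonempty_rpush_restrictD_iso f W
  refine IsZero.of_iso (Functor.map_isZero (DCoh.Rpush (f ∣_ W)) ?_) (e.app F)
  refine (isZero_rho_iff (f ⁻¹ᵁ W).ι F).2 (h.mono fun x hx => ?_)
  rw [Scheme.Opens.range_ι]
  exact fun hc => hc hx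

end Groth.Agent.PerfGen7
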