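import Groth.Agent.PerfGen7.TensorCoh
import Groth.Agent.PerfGen7.RpushCohBound
import Groth.Agent.PerfGen7.HasRHom
import Groth.Agent.QCoh.ProperOver2
import Groth.Agent.S0965
import Groth.Agent.PerfGen7.UnitDetect
import Groth.Agent.PerfGen7.PushSupp
import Groth.Agent.AssLib.OpenRestrict

/-!
# Direct images of perfect objects tensored with modules flat over the base
-/

set_option linter.style.haveILetI false
set_option backward.isDefEq.respectTransparency false

universe u

open CategoryTheory CategoryTheory.Limits AlgebraicGeometry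

attribute [local instance] HasDerivedCategory.standard

namespace Groth.Agent.PerfGen7

open Groth.Agent.KFlatLib

variable {X S : Scheme.{u}} (f : X ⟶ S)

lemma isQCohD_degZero {F : X.Modules} (hF : Coh.IsQCoh F) :
    DCoh.IsQCohD (DCoh.toD X (degZero F)) := fun n => by
  refine isQCoh_of_iso ((DerivedCategory.homologyFunctorFactors X.Modules n).app (degZero F)).symm ?_
  by_cases hn : n = 0
  · subst hn
    exact isQCoh_of_iso (HomologicalComplex.singleObjHomologySelfIso (ComplexShape.up ℤ) 0 F).symm hF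
  · exact isQCoh_of_isZero (ShortComplex.isZero_homology_of_isZero_X₂ _
      (HomologicalComplex.isZero_single_obj_X (ComplexShape.up ℤ) _ _ _ hn))

lemma mem_support_of_restrict {U : Scheme.{u}} (j : U ⟶ X) [IsOpenImmersion j] (M : X.Modules) (z : U)
    (h : z ∈ CohB1.support (M.restrict j)) : j.base z ∈ CohB1.support M := by
  intro hs
  obtain ⟨e, -⟩ := AssLib.exists_semilinear_restrict j M z
  haveI : Subsingleton (M.presheaf.stalk (j.base z)) := hs
  exact h e.injective.subsingleton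

/-- `Rf_*(E ⊗^L G)` has bounded tor amplitude for `E` perfect and `G` flat over the base. -/
theorem exists_torAmplitude_rpush_ltensor [QuasiCompact f] [QuasiSeparated f]
    [CompactSpace X] [CompactSpace S] [QuasiSeparatedSpace S] [DCoh.HasRpush f]
    {G : X.Modules} (hG : Coh.IsQCoh G) (hflat : FlatMod.IsFlatOver f G)
    [DCoh.HasLTensorCx (degZero G)] {E : DCoh.D X} (hE : DCoh.IsPerfect E) :
    ∃ a b : ℤ, a ≤ b ∧
      DCoh.HasTorAmplitudeIn a b ((DCoh.Rpush f).obj ((DCoh.LTensorCx (degZero G)).obj E)) := by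
  haveI : HasInjectiveResolutions X.Modules := hasInjectiveResolutions_modules
  obtain ⟨a, b, hab, hamp⟩ := exists_flatAmplitude_of_perfect hE
  obtain ⟨N, hN⟩ := exists_Rpush_bound f
  refine ⟨a, b + N, by omega, torAmplitude_of_qcoh _ a _ fun F hF _ i hi => ?_⟩
  haveI := hasLpull f
  haveI := hasLTensorCx (degZero F)
  obtain ⟨M, hMflat, ⟨eM⟩, ⟨eGM⟩⟩ := exists_tensor_lpull_degZero f hflat F
  haveI := hasLTensorCx M
  haveI := hasLTensorCx ((DCoh.tensorCx.obj (degZero G)).obj M)
  let T₀ := (DCoh.LTensorCx (degZero G)).obj E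
  obtain ⟨eT⟩ := nonempty_LTensorMod_iso F ((DCoh.Rpush f).obj T₀)
  have hK := isQCohD_degZero (X := S) hF
  have hM : DCoh.IsQCohD (DCoh.toD X M) := isQCohD_of_iso eM.symm (isQCohD_lpull f hK)
  have hT₀ : DCoh.IsQCohD T₀ :=
    isQCohD_ltensor (degZero G) (isQCohD_degZero hG) (isQCohD_of_isPerfect hE)
  obtain ⟨eP⟩ := nonempty_projection_DQCoh f T₀ hT₀ (degZero F) hK M ⟨eM⟩
  obtain ⟨eA⟩ := nonempty_LTensorCx_comp (degZero G) M hMflat
  let T := (DCoh.LTensorCx M).obj T₀
  have hSv : DCoh.VanishesOutside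
      (((pullTensor f G).mapHomologicalComplex (ComplexShape.up ℤ)).obj (degZero F)) 0 0 := fun n hn =>
    (pullTensor f G).map_isZero (vanishesOutside_degZero F n hn)
  have hTz : ∀ n, (n < a ∨ b < n) → IsZero (DCoh.HD T n) := fun n hn =>
    (isZero_hd_ltensorCx_of_amplitude hamp hSv eGM n hn).of_iso
      ((DerivedCategory.homologyFunctor X.Modules n).mapIso (eA.app E))
  refine IsZero.of_iso ?_ ((DerivedCategory.homologyFunctor S.Modules i).mapIso (eT ≪≫ eP))
  rcases hi with hi | hi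
  · haveI : T.IsGE a := by
      rw [DerivedCategory.isGE_iff]
      exact fun n hn => hTz n (Or.inl hn)
    exact isZero_hd_rpush_of_lt f T a i hi
  · haveI : T.IsLE b := by
      rw [DerivedCategory.isLE_iff]
      exact fun n hn => hTz n (Or.inr hn)
    refine isZero_of_isZero_restrict _ fun y => ⟨⊤, trivial, ?_⟩
    exact isZero_restrict_hd_rpush f (isQCohD_ltensor M hM hT₀) b ⊤ N
      (fun G hG p hp => Functor.map_isZero _ (hN G hG p hp)) i (by omega)

/-- The quasi-compact case of the perfectness theorem. -/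
lemma isPerfect_rpush_ltensor_compact [IsNoetherian X] [IsNoetherian S] [LocallyOfFiniteType f]
    [DCoh.HasRpush f] {G : X.Modules} (hG : Coh.IsCoh G) (hflat : FlatMod.IsFlatOver f G)
    (hsupp : ClSub.IsProperOver f (CohB1.support G)) [DCoh.HasLTensorCx (degZero G)]
    {E : DCoh.D X} (hE : DCoh.IsPerfect E) :
    DCoh.IsPerfect ((DCoh.Rpush f).obj ((DCoh.LTensorCx (degZero G)).obj E)) := by
  haveI : HasInjectiveResolutions X.Modules := hasInjectiveResolutions_modules
  haveI : QuasiCompact f := inferInstance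
  haveI : QuasiSeparated f := inferInstance
  let T := (DCoh.LTensorCx (degZero G)).obj E
  have hc : DCoh.IsCohD T := isCohD_ltensor_degZero G hG hE
  obtain ⟨a, b, hab, hamp⟩ := exists_flatAmplitude_of_perfect hE
  have hz : ∀ i, (i < a ∨ b < i) → IsZero (DCoh.HD T i) := fun i hi =>
    isZero_hd_ltensorCx_of_amplitude hamp (vanishesOutside_degZero G) (Iso.refl _) i hi
  haveI : T.IsGE a := by
    rw [DerivedCategory.isGE_iff]
    exact fun i hi => hz i (Or.inl hi)
  haveI : T.IsLE b := by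
    rw [DerivedCategory.isLE_iff]
    exact fun i hi => hz i (Or.inr hi)
  have hgood : ∀ i, GoodMod f (DCoh.HD T i) := fun i =>
    ⟨hc i, Or.inr (QCoh.IsProperOver.subset hsupp (QCoh.isClosed_support_of_isFT (hc i).1 (hc i).2)
      (support_ltensor_degZero G E i))⟩
  have hcoh := isCohD_rpush_of_isGE f T a hgood
  obtain ⟨N, hN⟩ := exists_Rpush_bound f
  have hbd : ∀ i, b + N - 1 < i → IsZero (DCoh.HD ((DCoh.Rpush f).obj T) i) := fun i hi =>
    isZero_of_isZero_restrict _ fun y => ⟨⊤, trivial, isZero_restrict_hd_rpush f (isCohD_isQCohD hc) b ⊤ N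
      (fun G hG p hp => Functor.map_isZero _ (hN G hG p hp)) i (by omega)⟩
  obtain ⟨a', b', hab', ht⟩ := exists_torAmplitude_rpush_ltensor f hG.1 hflat hE
  exact (KFlatLib.isPerfect_iff _).2 (locSP_of_flat_pc hab'
    (flatAmplitude_of_torAmplitude hasLTensorMod hab' ht)
    (locPC_of_coh (isCohD_isQCohD hcoh) (fun i _ => hcoh i) _ hbd))

/-- `Rf_*(E ⊗^L G)` is perfect for `E` perfect, `G` coherent, flat over the Noetherian base, with
proper support. -/
theorem isPerfect_rpush_ltensor [IsNoetherian S] [LocallyOfFiniteType f] [DCoh.HasRpush f]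
    {G : X.Modules} (hG : Coh.IsCoh G) (hflat : FlatMod.IsFlatOver f G)
    (hsupp : ClSub.IsProperOver f (CohB1.support G)) [DCoh.HasLTensorCx (degZero G)]
    {E : DCoh.D X} (hE : DCoh.IsPerfect E) :
    DCoh.IsPerfect ((DCoh.Rpush f).obj ((DCoh.LTensorCx (degZero G)).obj E)) := by
  haveI := LocallyOfFiniteType.isLocallyNoetherian f
  have hTc : IsCompact (CohB1.support G) := isCompact_of_isProperOver f hsupp
  have hT : IsClosed (CohB1.support G) := QCoh.isClosed_support_of_isFT hG.1 hG.2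
  obtain ⟨W, hW, hTW⟩ : ∃ W : X.Opens, IsCompact (W : Set X) ∧ CohB1.support G ⊆ (W : Set X) := by
    have hx : ∀ x : X, ∃ V : X.affineOpens, x ∈ V.1 := fun x => by
      obtain ⟨V, hV, hxV, -⟩ := exists_isAffineOpen_mem_and_subset (x := x) (U := ⊤) trivial
      exact ⟨⟨V, hV⟩, hxV⟩
    choose V hV using hx
    obtain ⟨t, ht⟩ := hTc.elim_finite_subcover (fun x : X => ((V x).1 : Set X)) (fun x => (V x).1.2)
      (fun x _ => Set.mem_iUnion.2 ⟨x, hV x⟩)
    refine ⟨⨆ x ∈ t, (V x).1, ?_, ?_⟩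
    · simp only [TopologicalSpace.Opens.iSup_mk, TopologicalSpace.Opens.carrier_eq_coe]
      exact t.finite_toSet.isCompact_biUnion fun x _ => (V x).2.isCompact
    · simpa using ht
  haveI : CompactSpace (W : Scheme.{u}) := isCompact_iff_compactSpace.1 hW
  haveI : IsLocallyNoetherian (W : Scheme.{u}) := isLocallyNoetherian_of_isOpenImmersion W.ι
  haveI : IsNoetherian (W : Scheme.{u}) := {}
  haveI := hasRpush_scheme W.ι
  haveI := hasRpush_scheme (W.ι ≫ f)
  let G' := G.restrict W.ι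
  haveI := hasLTensorCx (degZero G')
  have hG' : Coh.IsCoh G' := isCoh_restrict W.ι hG
  have hsupp' : ClSub.IsProperOver (W.ι ≫ f) (CohB1.support G') := by
    obtain ⟨hC, hP⟩ := hsupp
    let i := (Scheme.IdealSheafData.vanishingIdeal ⟨CohB1.support G, hC⟩).subschemeι
    have hr : Set.range i.base ⊆ Set.range W.ι.base := by
      rw [Scheme.Opens.range_ι]
      exact (QCoh.range_vanishing hC).le.trans hTW
    let i' := IsOpenImmersion.lift W.ι i hr
    have hi' : i' ≫ W.ι = i := IsOpenImmersion.lift_fac _ _ _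
    haveI : IsClosedImmersion (i' ≫ W.ι) := by rw [hi']; infer_instance
    haveI : IsClosedImmersion i' := IsClosedImmersion.of_comp i' W.ι
    haveI : IsProper (i' ≫ W.ι ≫ f) := by rw [← Category.assoc, hi']; exact hP
    refine QCoh.IsProperOver.subset (QCoh.isProperOver_range i')
      (QCoh.isClosed_support_of_isFT hG'.1 hG'.2) fun w hw => ?_
    have hwC : W.ι.base w ∈ CohB1.support G := mem_support_of_restrict W.ι G w hw
    obtain ⟨z, hz⟩ := (QCoh.range_vanishing hC).ge hwC
    exact ⟨z, W.ι.isOpenEmbedding.injective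
      ((congrArg (fun t => t.base z) hi').trans hz)⟩
  have h := isPerfect_rpush_ltensor_compact (W.ι ≫ f) hG' (PerfLocus7.isFlatOver_restrict f W.ι hflat)
    hsupp' (isPerfect_rho' W.ι hE)
  obtain ⟨e⟩ := nonempty_iso_rpush_restrict W (CohB1.support G) hT hTW
    ((DCoh.LTensorCx (degZero G)).obj E) (support_ltensor_degZero G E)
  obtain ⟨c⟩ := nonempty_rpush_comp W.ι f
  obtain ⟨r⟩ := nonempty_rho_ltensor_degZero W.ι G E
  exact (KFlatLib.isPerfect_iff _).2 (((KFlatLib.isPerfect_iff _).1 h).of_iso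
    ((DCoh.Rpush (W.ι ≫ f)).mapIso r.symm ≪≫
      ((DCoh.Rpush f).mapIso e ≪≫ c.app _).symm))

/-- `RHom(E, G) ≅ E^∨ ⊗^L G` for `E` perfect. -/
theorem exists_perfect_RSheafHom (E : CochainComplex X.Modules ℤ)
    (hE : DCoh.IsPerfect (DCoh.toD X E)) [DCoh.HasLTensorCx E] [DCoh.HasRSheafHom E]
    (G : X.Modules) [DCoh.HasLTensorCx (degZero G)] :
    ∃ E' : DCoh.D X, DCoh.IsPerfect E' ∧
      Nonempty ((DCoh.RSheafHom E).obj (DCoh.inD X G) ≅ (DCoh.LTensorCx (degZero G)).obj E') := by
  let P := (kRes X).obj E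
  haveI := (flatCover X).quasiIso_ψ E
  haveI := isIso_Q_map _ ((flatCover X).quasiIso_ψ E)
  have hP : DCoh.IsPerfect (DerivedCategory.Q.obj P) := (KFlatLib.isPerfect_iff _).2
    (((KFlatLib.isPerfect_iff _).1 hE).of_iso
      (asIso (DerivedCategory.Q.map ((flatCover X).ψ.app E))).symm)
  haveI := hasLTensorCx P
  obtain ⟨e⟩ := nonempty_LTensorCx_congr (P := P) (E := E) ((flatCover X).ψ.app E)
  haveI : DCoh.HasRSheafHom P := ((DCoh.RSheafHomAdj E).ofNatIsoLeft e.symm).isLeftAdjoint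
  let ρ : DCoh.RSheafHom E ≅ DCoh.RSheafHom P :=
    ((DCoh.RSheafHomAdj E).ofNatIsoLeft e.symm).rightAdjointUniq (DCoh.RSheafHomAdj P)
  obtain ⟨h₁, h₂⟩ := S0965.result P (isKFlat_kRes E) hP
  obtain ⟨D, hD, ⟨eD⟩⟩ := exists_kFlat_rep
    ((DCoh.RSheafHom P).obj ((DerivedCategory.singleFunctor X.Modules 0).obj (Coh.structureModule X)))
  haveI := hasLTensorCx D
  obtain ⟨t⟩ := h₂ D hD ⟨eD⟩ (DCoh.inD X G)
  let s : DCoh.inD X G ≅ DCoh.toD X (degZero G) :=
    ((SingleFunctors.evaluation _ _ 0).mapIso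
      (DerivedCategory.singleFunctorsPostcompQIso X.Modules)).app G
  refine ⟨DerivedCategory.Q.obj D, (KFlatLib.isPerfect_iff _).2
    (((KFlatLib.isPerfect_iff _).1 h₁).of_iso eD.symm), ⟨ρ.app _ ≪≫ t.symm ≪≫
      (DCoh.LTensorCx D).mapIso s ≪≫ ?_⟩⟩
  exact @asIso _ _ _ _ (((DCoh.tensorCxQ D).totalLeftDerivedCounit DerivedCategory.Q (qisX X)).app
      (degZero G)) (isIso_LTensorCx_counit_of_isKFlat_right D hD _) ≪≫
    DerivedCategory.Q.mapIso (((symmIso (tensorBiFlipIso X) (degZero G)).app D).symm) ≪≫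
    (ltensorCxIso (degZero G) hD).symm

end Groth.Agent.PerfGen7
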