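import Groth.Agent.PerfGen7.RelNPC
import Groth.Agent.PCMor.Perfect
import Groth.Agent.H1GeomRk.Unit

/-!
# Tor amplitude `[0, 0]` is flatness
-/

set_option linter.style.haveILetI false
set_option backward.isDefEq.respectTransparency false
set_option backward.isDefEq.respectTransparency.types false

universe u

open CategoryTheory CategoryTheory.Limits AlgebraicGeometry

attribute [local instance] HasDerivedCategory.standard

namespace Groth.Agent.PerfGen7

variable {A : Type u} [CommRing A]

/-- A module in degree zero has tor amplitude in `[0, 0]` exactly when it is flat. -/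
theorem torAmp_zero_single_iff (M : ModuleCat.{u} A) :
    DRing.HasTorAmplitudeIn A 0 0
      (DRing.toD ((HomologicalComplex.single (ModuleCat.{u} A) (ComplexShape.up ℤ) 0).obj M)) ↔
      Module.Flat A M := by
  constructor
  · rintro ⟨E, hz, hfl, ⟨e⟩⟩
    have hp : IsZero (E.X ((ComplexShape.up ℤ).prev 0)) := hz _ (Or.inl (by simp))
    have hn : IsZero (E.X ((ComplexShape.up ℤ).next 0)) := hz _ (Or.inr (by simp))
    let h0 : E.homology 0 ≅ E.X 0 :=
      (ShortComplex.HomologyData.ofZeros (E.sc 0) (hp.eq_of_src _ _) (hn.eq_of_tgt _ _)).left.homologyIso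
    let e0 : E.X 0 ≅ M := h0.symm ≪≫
      ((DerivedCategory.homologyFunctorFactors (ModuleCat.{u} A) 0).app E).symm ≪≫
      (DerivedCategory.homologyFunctor (ModuleCat.{u} A) 0).mapIso e ≪≫
      (DerivedCategory.homologyFunctorFactors (ModuleCat.{u} A) 0).app _ ≪≫
      HomologicalComplex.singleObjHomologySelfIso _ 0 M
    haveI : Module.Flat A (E.X 0) := hfl 0
    exact Module.Flat.of_linearEquiv e0.toLinearEquiv.symm
  · intro h
    refine ⟨_, fun i hi => HomologicalComplex.isZero_single_obj_X (ComplexShape.up ℤ) 0 M i (by omega),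
      fun i => ?_, ⟨Iso.refl _⟩⟩
    rcases eq_or_ne i 0 with hi | hi
    · subst hi
      exact Module.Flat.of_linearEquiv
        (HomologicalComplex.singleObjXSelf (ComplexShape.up ℤ) 0 M).toLinearEquiv
    · haveI := ModuleCat.subsingleton_of_isZero
        (HomologicalComplex.isZero_single_obj_X (ComplexShape.up ℤ) 0 M i hi)
      infer_instance

variable {X Y : Scheme.{u}} (f : X ⟶ Y)

/-- For a module, relative tor amplitude `[0, 0]` is flatness over the base. -/
theorem torAmplitudeAt_single_iff (M : X.Modules) (x : X) :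
    DerSch.HasTorAmplitudeAt f 0 0 ((HomologicalComplex.single X.Modules (ComplexShape.up ℤ) 0).obj M) x ↔
      FlatMod.IsFlatOverAt f M x := by
  let e := DerivedCategory.Q.mapIso
    ((HomologicalComplex.singleMapHomologicalComplex (DerSch.stalkOver f x) (ComplexShape.up ℤ) 0).app M)
  refine Iff.trans ⟨fun h => ?_, fun h => ?_⟩ (torAmp_zero_single_iff ((DerSch.stalkOver f x).obj M))
  · obtain ⟨E, h1, h2, ⟨e'⟩⟩ := h
    exact ⟨E, h1, h2, ⟨e' ≪≫ e⟩⟩
  · obtain ⟨E, h1, h2, ⟨e'⟩⟩ := h
    exact ⟨E, h1, h2, ⟨e' ≪≫ e.symm⟩⟩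

/-- Flatness from flatness of the structure module over the base. -/
theorem flat_of_isFlatOver (h : FlatMod.IsFlatOver f (Coh.structureModule X)) : Flat f :=
  Flat.of_stalkMap f fun x => by
    obtain ⟨e⟩ := H1GeomRk.nonempty_stalkUnitEquiv (X := X) x
    letI := FlatMod.moduleStalkOver f (Coh.structureModule X) x
    letI := (f.stalkMap x).hom.toAlgebra
    haveI : IsScalarTower (Y.presheaf.stalk (f x)) (X.presheaf.stalk x)
        ((Coh.structureModule X).presheaf.stalk x) := IsScalarTower.of_algebraMap_smul fun _ _ => rfl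
    haveI : Module.Flat (Y.presheaf.stalk (f x)) ((Coh.structureModule X).presheaf.stalk x) := h x
    exact Module.Flat.of_linearEquiv (e.restrictScalars (Y.presheaf.stalk (f x)))

/-- Flat morphisms locally of finite presentation are pseudo-coherent in every degree. -/
theorem isNPseudoCoherent_of_flat [Flat f] [LocallyOfFinitePresentation f] (m : ℤ) :
    DerSch.IsNPseudoCoherent f m := by
  refine isNPseudoCoherent_of_charts fun x => ?_
  obtain ⟨V, hV, hxV, -⟩ := exists_isAffineOpen_mem_and_subset (x := f x) (U := (⊤ : Y.Opens)) trivial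
  obtain ⟨U, hU, hxU, hUV⟩ := exists_isAffineOpen_mem_and_subset (x := x) (U := f ⁻¹ᵁ V) hxV
  obtain ⟨n, φ, hφ⟩ := exists_chart_of_affine (f := f) hU hV hUV
  refine ⟨U, V, hxU, hU, hV, hUV, n, φ, hφ, ?_⟩
  letI : Algebra Γ(Y, V) Γ(X, U) := (f.appLE V U hUV).hom.toAlgebra
  haveI : Module.Flat Γ(Y, V) Γ(X, U) := HasRingHomProperty.appLE @Flat f ‹_› ⟨V, hV⟩ ⟨U, hU⟩ hUV
  haveI : Algebra.FinitePresentation Γ(Y, V) Γ(X, U) :=
    LocallyOfFinitePresentation.finitePresentation_appLE f hV hU hUV
  have hpc := (Groth.Agent.PCMor.pq_of_flat (A := Γ(Y, V)) (B := Γ(X, U))).1.pcHom φ hφ.1 hφ.2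
  letI := φ.toAlgebra
  exact (Groth.Agent.H9Misc.DRingPC.pc'_iff _).1 (Groth.Agent.PCMor.pcHom_iff.1 hpc) m

end Groth.Agent.PerfGen7
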