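import Groth.Agent.KFlatLib.Perfect.Criterion
import Groth.Agent.KFlatLib.PsiC

/-!
# A bounded complex with pseudo-coherent terms is pseudo-coherent
-/

set_option linter.style.haveILetI false

universe u

open CategoryTheory CategoryTheory.Limits AlgebraicGeometry CategoryTheory.Pretriangulated

attribute [local instance] HasDerivedCategory.standard

namespace Groth.Agent.PerfGen7

open Groth.Agent.KFlatLib

variable {X : Scheme.{u}}

/-- A complex splits off its lowest term. -/
lemma exists_lowest_triangle {P : CochainComplex X.Modules ℤ} {a b : ℤ}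
    (hz : DCoh.VanishesOutside P a b) :
    ∃ (u : DerivedCategory.Q.obj (stupidGE P (a + 1)) ⟶ DerivedCategory.Q.obj P)
      (v : DerivedCategory.Q.obj P ⟶ DerivedCategory.Q.obj
        ((HomologicalComplex.single X.Modules (ComplexShape.up ℤ) a).obj (P.X a))) (w : _),
      Triangle.mk u v w ∈ distinguishedTriangles := by
  let g : P ⟶ (HomologicalComplex.single X.Modules (ComplexShape.up ℤ) a).obj (P.X a) :=
    HomologicalComplex.mkHomToSingle (𝟙 _) (fun i hi => by
      have hi' : i + 1 = a := hi
      rw [(hz i (Or.inl (by omega))).eq_of_src (P.d i a) 0, zero_comp])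
  have w : stupidGEι P (a + 1) ≫ g = 0 := by
    refine HomologicalComplex.Hom.ext (funext fun i => ?_)
    rcases eq_or_ne i a with h' | h'
    · subst h'
      exact (isZero_stupidGE P (i + 1) (by omega)).eq_of_src _ _
    · exact (HomologicalComplex.isZero_single_obj_X (ComplexShape.up ℤ) a _ i h').eq_of_tgt _ _
  let S := ShortComplex.mk _ _ w
  have hS : S.ShortExact := HomologicalComplex.shortExact_of_degreewise_shortExact _ fun i => by
    rcases eq_or_ne i a with h' | h'
    · subst h'
      have h0 : IsZero (S.X₁.X i) := isZero_stupidGE P (i + 1) (by omega)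
      haveI : IsIso (g.f i) := by
        simp only [g, HomologicalComplex.mkHomToSingle_f]
        infer_instance
      haveI : Mono ((S.map (HomologicalComplex.eval X.Modules (ComplexShape.up ℤ) i)).f) :=
        ⟨fun u v _ => h0.eq_of_tgt u v⟩
      haveI : Epi ((S.map (HomologicalComplex.eval X.Modules (ComplexShape.up ℤ) i)).g) :=
        inferInstanceAs (Epi (g.f i))
      refine ShortComplex.ShortExact.mk' ?_ inferInstance inferInstance
      exact (ShortComplex.exact_iff_mono _ (h0.eq_of_src _ _)).2 (inferInstanceAs (Mono (g.f i)))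
    · have h0 : IsZero (S.X₃.X i) :=
        HomologicalComplex.isZero_single_obj_X (ComplexShape.up ℤ) a _ i h'
      haveI : IsIso ((stupidGEι P (a + 1)).f i) := by
        by_cases hi : a + 1 ≤ i
        · exact isIso_stupidι P (a + 1) hi
        · exact ⟨0, (isZero_stupidGE P (a + 1) (by omega)).eq_of_src _ _,
            (hz i (Or.inl (by omega))).eq_of_src _ _⟩
      haveI : Mono ((S.map (HomologicalComplex.eval X.Modules (ComplexShape.up ℤ) i)).f) :=
        inferInstanceAs (Mono ((stupidGEι P (a + 1)).f i))
      haveI : Epi ((S.map (HomologicalComplex.eval X.Modules (ComplexShape.up ℤ) i)).g) :=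
        ⟨fun u v _ => h0.eq_of_src u v⟩
      refine ShortComplex.ShortExact.mk' ?_ inferInstance inferInstance
      exact (ShortComplex.exact_iff_epi _ (h0.eq_of_tgt _ _)).2
        (inferInstanceAs (Epi ((stupidGEι P (a + 1)).f i)))
  exact ⟨_, _, _, DerivedCategory.triangleOfSES_distinguished hS⟩

/-- A module in degree `a` is pseudo-coherent if it is so in degree `0`. -/
lemma locPC_single {M : X.Modules} (a : ℤ) (h : ∀ m, LocPC m (DCoh.inD X M)) (m : ℤ) :
    LocPC m (DerivedCategory.Q.obj ((HomologicalComplex.single X.Modules (ComplexShape.up ℤ) a).obj M)) := by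
  refine LocPC.of_shift a (LocPC.of_iso ?_ (h (m - a)))
  exact ((DerivedCategory.singleFunctors X.Modules).shiftIso a 0 a (by omega)).symm.app M ≪≫
    (shiftFunctor (DCoh.D X) a).mapIso (singleQ a M)

/-- A bounded complex with pseudo-coherent terms is pseudo-coherent. -/
theorem locPC_of_terms (d : ℕ) : ∀ (P : CochainComplex X.Modules ℤ) (a : ℤ),
    DCoh.VanishesOutside P a (a + d - 1) → (∀ i m, LocPC m (DCoh.inD X (P.X i))) →
    ∀ m, LocPC m (DerivedCategory.Q.obj P) := by
  induction d with
  | zero =>
    intro P a hz _ m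
    refine locPC_of_isZero _ _ fun i _ => ?_
    exact (ShortComplex.isZero_homology_of_isZero_X₂ _ (hz i (by omega))).of_iso
      ((DerivedCategory.homologyFunctorFactors X.Modules i).app P)
  | succ d ih =>
    intro P a hz hP m
    obtain ⟨u, v, w, hT⟩ := exists_lowest_triangle hz
    have hz' : DCoh.VanishesOutside (stupidGE P (a + 1)) (a + 1) (a + 1 + d - 1) := by
      intro i hi
      by_cases hn : a + 1 ≤ i
      · exact (hz i (by omega)).of_iso (eqToIso (stupidX_eq P _ hn))
      · exact isZero_stupidX P _ hn
    have hP' : ∀ i m, LocPC m (DCoh.inD X ((stupidGE P (a + 1)).X i)) := fun i m => by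
      by_cases hn : a + 1 ≤ i
      · exact (hP i m).of_iso ((DerivedCategory.singleFunctor X.Modules 0).mapIso (eqToIso (stupidX_eq P _ hn)).symm)
      · refine locPC_of_isZero _ _ fun j _ => ?_
        exact Functor.map_isZero _ (Functor.map_isZero (DerivedCategory.singleFunctor X.Modules 0) (isZero_stupidX P _ hn))
    exact (locPC_two_of_three m _ hT).2.1 (ih _ (a + 1) hz' hP' m) (locPC_single a (hP a) m)

end Groth.Agent.PerfGen7
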