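import Groth.Agent.PerfGen7.RelModuleFP
import Groth.Agent.PerfGen7.RelFlatZero
import Groth.Agent.PerfGen7.TermsPC
import Groth.Agent.FlatSyz5.PC
import Groth.Agent.QCoh.FlatOver

/-!
# Complexes with flat terms finitely presented relative to the base
-/

set_option linter.style.haveILetI false
set_option backward.isDefEq.respectTransparency false
set_option backward.isDefEq.respectTransparency.types false

universe u

open CategoryTheory CategoryTheory.Limits AlgebraicGeometry Opposite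

attribute [local instance] HasDerivedCategory.standard

namespace Groth.Agent.PerfGen7

open Groth.Agent.KFlatLib Groth.Agent.H9Misc

variable {X Y : Scheme.{u}} {f : X ⟶ Y} {m : ℤ}

/-- Relative pseudo-coherence respects isomorphisms. -/
theorem rel_of_iso {K L : DCoh.D X} (e : K ≅ L) (h : DerSch.IsPseudoCoherentRel f m K) :
    DerSch.IsPseudoCoherentRel f m L := by
  haveI := h.1
  refine isPseudoCoherentRel_iff.2 fun x => ?_
  obtain ⟨U, V, hxU, hU, hV, e', n, φ, hφ, hp⟩ := isPseudoCoherentRel_iff.1 h x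
  haveI := isClosedImmersion_imm hU φ hφ.1
  exact ⟨U, V, hxU, hU, hV, e', n, φ, hφ,
    fun _ => (hp inferInstance).of_iso ((pushD (imm U φ)).mapIso ((rho U.ι).mapIso e))⟩

/-- An approximation transfers pseudo-coherence. -/
lemma locPC_of_pcMap {Z : Scheme.{u}} {A B : DCoh.D Z} (h : LocPC m A) (α : A ⟶ B) (hα : IsPcMap m α) :
    LocPC m B := fun x => by
  obtain ⟨U, j, _, hx, P, β, hP, hβ⟩ := h x
  exact ⟨U, j, inferInstance, hx, P, β ≫ (rho j).map α, hP, hβ.comp (hα.map_exact _)⟩

/-- A bounded above complex with pseudo-coherent terms is pseudo-coherent. -/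
theorem locPC_of_bddAbove_terms {Z : Scheme.{u}} (P : CochainComplex Z.Modules ℤ) (b : ℤ)
    (hz : ∀ i, b < i → IsZero (P.X i)) (hP : ∀ i m, LocPC m (DCoh.inD Z (P.X i))) (m : ℤ) :
    LocPC m (DerivedCategory.Q.obj P) := by
  refine locPC_of_pcMap (locPC_of_terms (b - m + 1).toNat (stupidGE P m) m (fun i hi => ?_) (fun i k => ?_) m)
    (DerivedCategory.Q.map (stupidGEι P m)) (isPcMap_stupidGEι P m)
  · by_cases hn : m ≤ i
    · exact (hz i (by omega)).of_iso (eqToIso (stupidX_eq P _ hn))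
    · exact isZero_stupidX P _ hn
  · by_cases hn : m ≤ i
    · exact (hP i k).of_iso ((DerivedCategory.singleFunctor Z.Modules 0).mapIso (eqToIso (stupidX_eq P _ hn)).symm)
    · refine locPC_of_isZero _ _ fun j _ => ?_
      exact Functor.map_isZero _ (Functor.map_isZero (DerivedCategory.singleFunctor Z.Modules 0) (isZero_stupidX P _ hn))

variable [LocallyOfFiniteType f]

/-- A flat module finitely presented relative to the base is pseudo-coherent relative to it. -/
theorem relAll_of_flat {M : X.Modules} (hfl : FlatMod.IsFlatOver f M)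
    (hfp : DerSch.IsPseudoCoherentRel f (-1) (DCoh.inD X M)) (m : ℤ) :
    DerSch.IsPseudoCoherentRel f m (DCoh.inD X M) := by
  have hM : Coh.IsQCoh M := ((rel_module_negOne_iff M).1 hfp).1
  refine isPseudoCoherentRel_iff.2 fun x => ?_
  obtain ⟨V, hV, hxV, -⟩ := exists_isAffineOpen_mem_and_subset (x := f x) (U := (⊤ : Y.Opens)) trivial
  obtain ⟨U, hU, hxU, hUV⟩ := exists_isAffineOpen_mem_and_subset (x := x) (U := f ⁻¹ᵁ V) hxV
  obtain ⟨n, φ, hφ⟩ := exists_chart_of_affine (f := f) hU hV hUV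
  refine ⟨U, V, hxU, hU, hV, hUV, n, φ, hφ, ?_⟩
  have hFP := (immPC_module_iff M hU hM φ hφ.1).1
    ((chartPC_iff hU φ hφ.1).1 (chartPC_of_rel hfp hU hV hUV φ hφ))
  have hFl := (QCoh.flat_appLE_iff f hM hU hV hUV).2 fun x _ => hfl x
  haveI := isClosedImmersion_toSpecΓ hU
  obtain ⟨e⟩ := nonempty_tilde_chart M hU hM
  let N := moduleSpecΓFunctor.obj (M.restrict hU.fromSpec)
  let ei : (DRing.restrictD φ).obj ((DerivedCategory.singleFunctor (ModuleCat.{u} Γ(X, U)) 0).obj N) ≅
      (DerivedCategory.singleFunctor (ModuleCat.{u} (MvPolynomial (Fin n) Γ(Y, V))) 0).obj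
        ((ModuleCat.restrictScalars φ).obj N) :=
    ((ModuleCat.restrictScalars φ).mapDerivedCategorySingleFunctor 0).app N
  refine (immPC_tilde_iff hU φ hφ.1 _ e).2 (DRingPC.of_iso ei.symm ?_)
  let ε := QCoh.chartEquiv hU M
  letI : Module (MvPolynomial (Fin n) Γ(Y, V)) (M.val.obj (op U)) := Module.compHom _ φ
  letI : Module Γ(Y, V) (M.val.obj (op U)) := Module.compHom _ (f.appLE V U hUV).hom
  letI : Module (MvPolynomial (Fin n) Γ(Y, V)) N := Module.compHom N φ
  letI : Module Γ(Y, V) N := Module.compHom N (f.appLE V U hUV).hom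
  haveI : IsScalarTower Γ(Y, V) (MvPolynomial (Fin n) Γ(Y, V)) N := IsScalarTower.of_algebraMap_smul fun r v => by
    show φ (MvPolynomial.C r) • v = (f.appLE V U hUV).hom r • v
    exact congrArg (fun g : Γ(Y, V) →+* Γ(X, U) => g r • v) hφ.2
  let εP : M.val.obj (op U) ≃ₗ[MvPolynomial (Fin n) Γ(Y, V)] N :=
    { ε.toAddEquiv with map_smul' := fun p v => ε.map_smul (φ p) v }
  let εA : M.val.obj (op U) ≃ₗ[Γ(Y, V)] N :=
    { ε.toAddEquiv with map_smul' := fun p v => ε.map_smul ((f.appLE V U hUV).hom p) v }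
  haveI : Module.FinitePresentation (MvPolynomial (Fin n) Γ(Y, V)) (M.val.obj (op U)) := hFP
  haveI : Module.FinitePresentation (MvPolynomial (Fin n) Γ(Y, V)) N :=
    Module.FinitePresentation.of_equiv εP
  haveI : Module.Flat Γ(Y, V) (M.val.obj (op U)) := hFl
  haveI : Module.Flat Γ(Y, V) N := Module.Flat.of_linearEquiv εA.symm
  exact (DRingPC.pc'_iff _).1 (FlatSyz5.pc' Γ(Y, V) (MvPolynomial (Fin n) Γ(Y, V)) N) m

/-- A bounded above complex with flat terms finitely presented relative to the base. -/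
theorem relAll_of_flat_terms (E : CochainComplex X.Modules ℤ) (b : ℤ) (hb : ∀ i : ℤ, b < i → IsZero (E.X i))
    (hfl : ∀ i : ℤ, FlatMod.IsFlatOver f (E.X i))
    (hfp : ∀ i : ℤ, DerSch.IsPseudoCoherentRel f (-1) (DCoh.inD X (E.X i))) (m : ℤ) :
    DerSch.IsPseudoCoherentRel f m (DCoh.toD X E) := by
  refine isPseudoCoherentRel_iff.2 fun x => ?_
  obtain ⟨V, hV, hxV, -⟩ := exists_isAffineOpen_mem_and_subset (x := f x) (U := (⊤ : Y.Opens)) trivial
  obtain ⟨U, hU, hxU, hUV⟩ := exists_isAffineOpen_mem_and_subset (x := x) (U := f ⁻¹ᵁ V) hxV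
  obtain ⟨n, φ, hφ⟩ := exists_chart_of_affine (f := f) hU hV hUV
  refine ⟨U, V, hxU, hU, hV, hUV, n, φ, hφ, fun hi => ?_⟩
  haveI := hi
  refine LocPC.of_iso ((pushD (imm U φ)).mapIso ((rhoQ U.ι).app E) ≪≫ pushDQ _ _).symm
    (locPC_of_bddAbove_terms _ b (fun i h => (Scheme.Modules.pushforward (imm U φ)).map_isZero ((Scheme.Modules.restrictFunctor U.ι).map_isZero (hb i h)))
      (fun i k => ?_) m)
  exact ((chartPC_iff hU φ hφ.1).1
    (chartPC_of_rel (relAll_of_flat (hfl i) (hfp i) k) hU hV hUV φ hφ) hi).of_iso (pushInDIso _ (E.X i))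

omit [LocallyOfFiniteType f] in
variable (f) in
/-- A module flat over the base and finitely presented relative to it. -/
theorem relFP_single_iff (M : X.Modules) (m : ℤ) :
    DerSch.IsPseudoCoherentRel f m (DCoh.toD X ((HomologicalComplex.single _ (ComplexShape.up ℤ) 0).obj M)) ↔
      DerSch.IsPseudoCoherentRel f m (DCoh.inD X M) :=
  ⟨rel_of_iso ((DerivedCategory.singleFunctorIsoCompQ X.Modules 0).app M).symm,
    rel_of_iso ((DerivedCategory.singleFunctorIsoCompQ X.Modules 0).app M)⟩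

omit [LocallyOfFiniteType f] in
/-- Flat terms in a range give the tor amplitude. -/
theorem torAmplitude_of_flat_terms (E : CochainComplex X.Modules ℤ) (a b : ℤ) (hab : DCoh.VanishesOutside E a b)
    (hfl : ∀ i : ℤ, FlatMod.IsFlatOver f (E.X i)) : DerSch.HasTorAmplitude f a b E := fun x =>
  ⟨(DerSch.stalkCxOver f x).obj E, fun i hi => (DerSch.stalkOver f x).map_isZero (hab i hi), fun i => hfl i x,
    ⟨Iso.refl _⟩⟩

end Groth.Agent.PerfGen7
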