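import Groth.Agent.H9Misc.DRingPC
import Groth.Agent.H9Misc.DRingTor
import Groth.Agent.H9Misc.DRingPerfect
import Groth.Agent.FlatSyz5.PC
import Groth.Prelude.Def_DualSh

/-!
# Relatively perfect complexes as bounded complexes of finitely presented flat modules
-/

set_option linter.style.haveILetI false
set_option backward.isDefEq.respectTransparency false

universe u

open CategoryTheory CategoryTheory.Limits

attribute [local instance] HasDerivedCategory.standard

namespace Groth.Agent.PerfGen7.RelPerfectModel

open Groth.Agent.H9Misc Groth.Agent.KFlatLib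

variable (R A : Type u) [CommRing R] [CommRing A] [Algebra R A]

/-- A bounded complex of finitely presented modules, flat over the base, is relatively perfect. -/
theorem isRelPerfect_of_model [Module.Flat R A] [Algebra.FinitePresentation R A] (E : DRing.Cx A) (a b : ℤ)
    (hz : DRing.VanishesOutside E a b)
    (hE : ∀ i : ℤ, Module.FinitePresentation A (E.X i) ∧
      Module.Flat R ((ModuleCat.restrictScalars (algebraMap R A)).obj (E.X i))) :
    Dual2.IsRelPerfect R A (DRing.toD E) := by
  let F := ModuleCat.restrictScalars.{u} (algebraMap R A)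
  refine ⟨(DRingPC.pc'_iff _).2 fun m => DRingPC.of_terms E b (fun i hi => hz i (Or.inr hi)) fun i => ?_,
    a, b, (F.mapHomologicalComplex _).obj E, fun i hi => F.map_isZero (hz i hi), fun i => (hE i).2,
    ⟨(F.mapDerivedCategoryFactors.app E).symm⟩⟩
  letI : Module R (E.X i) := Module.compHom (E.X i) (algebraMap R A)
  haveI : IsScalarTower R A (E.X i) := IsScalarTower.of_algebraMap_smul fun _ _ => rfl
  haveI := (hE i).1
  haveI : Module.Flat R (E.X i) := (hE i).2
  exact (DRingPC.pc'_iff _).1 (FlatSyz5.pc' R A (E.X i)) (m - i)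

/-- A relatively perfect object has a bounded model by finitely presented modules flat over the base. -/
theorem exists_model [Module.Flat R A] {K : Dual.D A} (hK : Dual2.IsRelPerfect R A K) :
    ∃ (E : DRing.Cx A) (a b : ℤ), DRing.VanishesOutside E a b ∧
      (∀ i : ℤ, Module.FinitePresentation A (E.X i) ∧
        Module.Flat R ((ModuleCat.restrictScalars (algebraMap R A)).obj (E.X i))) ∧
      Nonempty (DRing.toD E ≅ K) := by
  obtain ⟨hpc, a, b, hamp⟩ := hK
  obtain ⟨P, c, hPz, hPf, ⟨eP⟩⟩ := hpc
  let F := ModuleCat.restrictScalars.{u} (algebraMap R A)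
  let P' := (F.mapHomologicalComplex (ComplexShape.up ℤ)).obj P
  have hfl : ∀ i, Module.Flat R (F.obj (P.X i)) := fun i => by
    letI : Module R (P.X i) := Module.compHom (P.X i) (algebraMap R A)
    haveI : IsScalarTower R A (P.X i) := IsScalarTower.of_algebraMap_smul fun _ _ => rfl
    haveI := (hPf i).2
    exact (Module.Flat.trans R A (P.X i) :)
  have hb' : DRing.VanishesAbove P' c := fun i hi => F.map_isZero (hPz i hi)
  have hv : DRingTor.Van a b P' := (DRingTor.iff_van (DRingTor.isKF_of_flat (E := P') hfl hb')
    ((F.mapDerivedCategoryFactors.app P).symm ≪≫ (DRing.restrictD (algebraMap R A)).mapIso eP)).1 hamp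
  haveI : P.IsGE a := (CochainComplex.isGE_iff P a).2 fun i hi =>
    (ShortComplex.exact_map_iff_of_faithful _ F).1 (hv.exactAt (Or.inl hi))
  let emb := ComplexShape.embeddingUpIntGE a
  haveI : IsIso (DerivedCategory.Q.map (P.πTruncGE a)) :=
    (DerivedCategory.isIso_Q_map_iff_quasiIso _ _).2 inferInstance
  refine ⟨P.truncGE a, a, max a c, fun i hi => ?_, fun i => ?_,
    ⟨(asIso (DerivedCategory.Q.map (P.πTruncGE a))).symm ≪≫ eP⟩⟩
  · rcases hi with hi | hi
    · exact CochainComplex.isZero_of_isStrictlyGE _ a i hi
    · obtain ⟨n, rfl⟩ : ∃ n : ℕ, a + n = i := ⟨(i - a).toNat, by omega⟩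
      exact (hPz _ (by omega)).of_iso (HomologicalComplex.truncGEXIso P emb (i := n) rfl
        (fun hb => by have := (ComplexShape.boundaryGE_embeddingUpIntGE_iff a n).1 hb; omega))
  rcases lt_or_ge i a with hia | hia
  · have h0 := CochainComplex.isZero_of_isStrictlyGE (P.truncGE a) a i hia
    haveI := ModuleCat.subsingleton_of_isZero h0
    haveI := ModuleCat.subsingleton_of_isZero (F.map_isZero h0)
    exact ⟨inferInstance, inferInstance⟩
  have key : ∀ {M N : ModuleCat.{u} A}, (M ≅ N) → Module.FinitePresentation A N ∧ Module.Flat R (F.obj N) →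
      Module.FinitePresentation A M ∧ Module.Flat R (F.obj M) := fun {M N} e ⟨h1, h2⟩ =>
    ⟨Module.FinitePresentation.of_equiv e.symm.toLinearEquiv,
      Module.Flat.of_linearEquiv (F.mapIso e).toLinearEquiv⟩
  obtain ⟨n, rfl⟩ : ∃ n : ℕ, a + n = i := ⟨(i - a).toNat, by omega⟩
  rcases Nat.eq_zero_or_pos n with rfl | hn
  · refine key (HomologicalComplex.truncGEXIsoOpcycles P emb (i := 0) rfl
      ((ComplexShape.boundaryGE_embeddingUpIntGE_iff a 0).2 rfl)) ?_
    show Module.FinitePresentation A (P.opcycles (a + (0 : ℕ))) ∧ Module.Flat R (F.obj (P.opcycles (a + (0 : ℕ))))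
    rw [Nat.cast_zero, add_zero]
    constructor
    · haveI : Module.Free A (P.X a) := (hPf a).2
      haveI : Module.Finite A (P.X a) := (hPf a).1
      haveI : Module.Finite A (P.X (a - 1)) := (hPf (a - 1)).1
      haveI : Module.FinitePresentation A (P.X a) := Module.finitePresentation_of_projective A (P.X a)
      haveI : Module.FinitePresentation A ((P.X a) ⧸ LinearMap.range (P.d (a - 1) a).hom) :=
        Module.finitePresentation_of_surjective (LinearMap.range (P.d (a - 1) a).hom).mkQ (Submodule.mkQ_surjective _)
          (by rw [Submodule.ker_mkQ]; exact Module.Finite.iff_fg.1 inferInstance)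
      exact Module.FinitePresentation.of_equiv ((((cokernelIsCokernel (P.d (a - 1) a)).coconePointUniqueUpToIso
        (P.opcyclesIsCokernel (a - 1) a (by simp))).symm ≪≫
          ModuleCat.cokernelIsoRangeQuotient (P.d (a - 1) a)).toLinearEquiv).symm
    · haveI : Module.Flat R ((P.sc a).map F).opcycles :=
        DRingTor.flat_opcycles hfl a fun M => hv M (a - 1) (Or.inl (by omega))
      exact Module.Flat.of_linearEquiv ((P.sc a).mapOpcyclesIso F).symm.toLinearEquiv
  · refine key (HomologicalComplex.truncGEXIso P emb (i := n) rfl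
      (fun hb => by have := (ComplexShape.boundaryGE_embeddingUpIntGE_iff a n).1 hb; omega)) ⟨?_, hfl _⟩
    haveI : Module.Free A (P.X (a + n)) := (hPf _).2
    haveI : Module.Finite A (P.X (a + n)) := (hPf _).1
    exact Module.finitePresentation_of_projective A _

end Groth.Agent.PerfGen7.RelPerfectModel
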