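import Groth.Agent.PerfGen7.RelPerfectAffine
import Groth.Agent.PerfGen7.RelPerfectModel
import Groth.Agent.PerfGen7.RelFlatZero
import Groth.Agent.PerfGen7.FlatTerms
import Groth.Agent.PinchLib.Scheme

/-!
# Relatively perfect objects as complexes of finitely presented modules flat over the base
-/

set_option backward.isDefEq.respectTransparency false
set_option linter.style.haveILetI false

universe u

open CategoryTheory CategoryTheory.Limits AlgebraicGeometry Opposite

attribute [local instance] HasDerivedCategory.standard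

namespace Groth.Agent.PerfGen7

open Groth.Agent.KFlatLib Groth.Agent.H9Misc Groth.Agent.PerfGen7.RelTor

variable {X Y S : Scheme.{u}}

/-- An open immersion at the target does not change flatness over the base. -/
theorem isFlatOver_comp_openImmersion (f : X ⟶ Y) (g : Y ⟶ S) [IsOpenImmersion g] {M : X.Modules}
    (h : FlatMod.IsFlatOver f M) : FlatMod.IsFlatOver (f ≫ g) M := fun x =>
  (torAmplitudeAt_single_iff _ M x).1
    (torAmplitudeAt_comp_openImmersion f g ((torAmplitudeAt_single_iff f M x).2 (h x)))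

/-- The sheaf of a module flat over the base is flat over the base. -/
theorem isFlatOver_tilde {R A : CommRingCat.{u}} (φ : R ⟶ A) (N : ModuleCat.{u} A)
    (h : Module.Flat R ((ModuleCat.restrictScalars φ.hom).obj N)) :
    FlatMod.IsFlatOver (Spec.map φ) ((tilde.functor A).obj N) := by
  intro x
  rw [← torAmplitudeAt_single_iff]
  refine torAmp_of_iso (DerivedCategory.Q.mapIso ((DerSch.stalkCxOver (Spec.map φ) x).mapIso
    ((HomologicalComplex.singleMapHomologicalComplex (tilde.functor A) (ComplexShape.up ℤ) 0).app N)))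
    ((TorAmpBC.torAmplitude_tilde_cx_iff φ _).2 ?_ x)
  exact torAmp_of_iso (DerivedCategory.Q.mapIso
    ((HomologicalComplex.singleMapHomologicalComplex (ModuleCat.restrictScalars φ.hom) (ComplexShape.up ℤ) 0).app N)).symm
    ((torAmp_zero_single_iff _).2 h)

variable (f : X ⟶ S) [Flat f] [LocallyOfFinitePresentation f]

/-- A finitely presented module flat over the base is pseudo-coherent. -/
theorem locPC_of_fp_flat {M : X.Modules} (hfp : CohB1.IsFP M) (hfl : FlatMod.IsFlatOver f M) (m : ℤ) :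
    LocPC m (DCoh.inD X M) := by
  have hM : Coh.IsQCoh M := QCoh.isQCoh_of_isFP hfp
  refine LocPC.of_local fun x => ?_
  obtain ⟨V, hV, hxV, -⟩ := exists_isAffineOpen_mem_and_subset (x := f x) (U := (⊤ : S.Opens)) trivial
  obtain ⟨U, hU, hxU, hUV⟩ := exists_isAffineOpen_mem_and_subset (x := x) (U := f ⁻¹ᵁ V) hxV
  refine ⟨_, hU.fromSpec, inferInstance, hU.range_fromSpec ▸ hxU, ?_⟩

  letI : Algebra Γ(S, V) Γ(X, U) := (f.appLE V U hUV).hom.toAlgebra
  haveI : Algebra.FinitePresentation Γ(S, V) Γ(X, U) :=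
    HasRingHomProperty.appLE @LocallyOfFinitePresentation f ‹_› ⟨V, hV⟩ ⟨U, hU⟩ hUV
  haveI : Module.Flat Γ(S, V) Γ(X, U) := HasRingHomProperty.appLE @Flat f ‹_› ⟨V, hV⟩ ⟨U, hU⟩ hUV
  let N := moduleSpecΓFunctor.obj (M.restrict hU.fromSpec)
  let ε := QCoh.chartEquiv hU M
  letI : Module Γ(S, V) Γ(M, U) := Module.compHom _ (f.appLE V U hUV).hom
  letI : Module Γ(S, V) N := Module.compHom N (f.appLE V U hUV).hom
  haveI : IsScalarTower Γ(S, V) Γ(X, U) N := IsScalarTower.of_algebraMap_smul fun _ _ => rfl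
  haveI : Module.Flat Γ(S, V) Γ(M, U) := (QCoh.flat_appLE_iff f hM hU hV hUV).2 fun y _ => hfl y
  haveI : Module.FinitePresentation Γ(X, U) Γ(M, U) := QCoh.finitePresentation_of_isFP hfp hU
  haveI : Module.FinitePresentation Γ(X, U) N := Module.FinitePresentation.of_equiv ε
  let εA : Γ(M, U) ≃ₗ[Γ(S, V)] N :=
    { ε.toAddEquiv with map_smul' := fun p v => ε.map_smul ((f.appLE V U hUV).hom p) v }
  haveI : Module.Flat Γ(S, V) N := Module.Flat.of_linearEquiv εA.symm
  have hpc := (S1004.result Γ(X, U) _ m).2 ((DRingPC.pc'_iff _).1 (FlatSyz5.pc' Γ(S, V) Γ(X, U) N) m)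
  have := (isQuasicoherent_iff_isIso_fromTildeΓ _).1 (QCoh.isQCoh_restrict hU.fromSpec hM)
  exact ((isPseudoCoherentD_iff m _).1 hpc).of_iso
    (((tilde.functor Γ(X, U)).mapDerivedCategorySingleFunctor 0).app N ≪≫
      (DerivedCategory.singleFunctor _ 0).mapIso (@asIso _ _ _ _ (M.restrict hU.fromSpec).fromTildeΓ this) ≪≫
      (((Scheme.Modules.restrictFunctor hU.fromSpec).mapDerivedCategorySingleFunctor 0).app M).symm)

/-- A bounded complex of finitely presented modules flat over the base is pseudo-coherent. -/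
theorem locPC_of_fp_flat_terms (G : CochainComplex X.Modules ℤ) (b : ℤ) (hz : ∀ i, b < i → IsZero (G.X i))
    (h : ∀ i, CohB1.IsFP (G.X i) ∧ FlatMod.IsFlatOver f (G.X i)) (m : ℤ) :
    LocPC m (DerivedCategory.Q.obj G) :=
  locPC_of_bddAbove_terms G b hz (fun i k => locPC_of_fp_flat f (h i).1 (h i).2 k) m

/-- The model of a relatively perfect object near a point. -/
theorem exists_fp_flat_model {E : DCoh.D X} (hpc : ∀ m, LocPC m E) (htor : DCoh.LocHasFiniteRelTorDim f E) (x : X) :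
    ∃ U : X.Opens, x ∈ U ∧ ∃ (G : CochainComplex (U : Scheme.{u}).Modules ℤ) (a b : ℤ),
      DCoh.VanishesOutside G a b ∧
      (∀ i : ℤ, CohB1.IsFP (G.X i) ∧ FlatMod.IsFlatOver (U.ι ≫ f) (G.X i)) ∧
      Nonempty (DerivedCategory.Q.obj G ≅ (rho U.ι).obj E) := by
  obtain ⟨V, hV, hxV, -⟩ := exists_isAffineOpen_mem_and_subset (x := f x) (U := (⊤ : S.Opens)) trivial
  obtain ⟨U, hU, hxU, hUV⟩ := exists_isAffineOpen_mem_and_subset (x := x) (U := f ⁻¹ᵁ V) hxV
  haveI : ∀ R : CommRingCat.{u}, PreservesFiniteLimits (tilde.functor R) := fun R => inferInstance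
  have hE : DCoh.IsQCohD E := fun i =>
    isQCoh_HD_of_pseudoCoherent ((isPseudoCoherentD_iff (i - 1) E).2 (hpc (i - 1))) i (by omega)
  obtain ⟨M, ⟨eM⟩⟩ := exists_tilde_fromSpec hU hE
  letI : Algebra Γ(S, V) Γ(X, U) := (f.appLE V U hUV).hom.toAlgebra
  haveI : Module.Flat Γ(S, V) Γ(X, U) := HasRingHomProperty.appLE @Flat f ‹_› ⟨V, hV⟩ ⟨U, hU⟩ hUV
  obtain ⟨E₀, a, b, hz, hE₀, ⟨e₀⟩⟩ := RelPerfectModel.exists_model Γ(S, V) Γ(X, U)
    (isRelPerfect_of_chart f hU hV hUV hpc htor M eM.symm)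
  let j := hU.isoSpec.hom
  let T : CochainComplex (Spec Γ(X, U)).Modules ℤ :=
    ((tilde.functor Γ(X, U)).mapHomologicalComplex (ComplexShape.up ℤ)).obj E₀
  let η := (NatIso.mapHomologicalComplex (Scheme.Modules.restrictFunctorIsoPullback j) (ComplexShape.up ℤ)).app T
  have hje : j ≫ hU.fromSpec = U.ι := by
    show hU.isoSpec.hom ≫ hU.fromSpec = U.ι
    rw [← hU.isoSpec_inv_ι, Iso.hom_inv_id_assoc]
  refine ⟨U, hxU, (pullCx j).obj T, a, b,
    fun i hi => (Scheme.Modules.pullback j).map_isZero ((tilde.functor _).map_isZero (hz i hi)),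
    fun i => ⟨?_, ?_⟩, ⟨?_⟩⟩
  · exact PinchLib.finitePresentation_pullback j (show Coh.IsQCoh (tilde (E₀.X i)) from inferInstance) ((QCoh.isFP_tilde_iff _).2 (hE₀ i).1)
  · refine PerfLocus7.isFlatOver_of_iso _ ((Scheme.Modules.restrictFunctorIsoPullback j).app _) ?_
    have h1 := PerfLocus7.isFlatOver_restrict (Spec.map (f.appLE V U hUV) ≫ hV.fromSpec) j
      (isFlatOver_comp_openImmersion _ hV.fromSpec (isFlatOver_tilde (f.appLE V U hUV) (E₀.X i) (hE₀ i).2))
    rwa [hV.SpecMap_appLE_fromSpec f hU hUV, ← Category.assoc j hU.fromSpec f, hje] at h1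
  · exact DerivedCategory.Q.mapIso η.symm ≪≫ ((rhoQ j).app T).symm ≪≫
      (rho j).mapIso (((tilde.functor Γ(X, U)).mapDerivedCategoryFactors.app E₀).symm ≪≫
        (DCoh.tildeD Γ(X, U)).mapIso e₀ ≪≫ eM) ≪≫ rhoComp j hU.fromSpec U.ι hje E

end Groth.Agent.PerfGen7
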