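import Groth.Agent.PerfGen7.LocalizeDual
import Groth.Agent.PerfGen7.Supp
import Groth.Agent.PerfGen7.AffineOpen
import Groth.Agent.LC.LiaisonLocal
import Groth.Agent.KFlatLib.Scheme.CohD
import Groth.Prelude.Def_DualSch

/-!
The Cohen–Macaulay locus of a scheme with a dualizing complex.
-/

set_option autoImplicit false
set_option backward.isDefEq.respectTransparency false
universe u

open CategoryTheory CategoryTheory.Limits AlgebraicGeometry Groth.Agent.KFlatLib

attribute [local instance] HasDerivedCategory.standard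

namespace Groth.Agent.PerfGen7.DualSchCM

/-- `A_q` is Cohen–Macaulay iff at most one cohomology module survives at `q`; one always does. -/
theorem ring_criterion {A : Type u} [CommRing A] [IsNoetherianRing A] {ω : Dual.D A}
    (hω : Dual.IsDualizing A ω) (q : PrimeSpectrum A) :
    (LocCoh.IsCohenMacaulayLocalRing (Localization.AtPrime q.asIdeal) ↔ ∀ i j : ℤ,
      Nontrivial (LocalizedModule q.asIdeal.primeCompl (Dual.HD A ω i)) →
        Nontrivial (LocalizedModule q.asIdeal.primeCompl (Dual.HD A ω j)) → i = j) ∧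
      ∃ i : ℤ, Nontrivial (LocalizedModule q.asIdeal.primeCompl (Dual.HD A ω i)) := by
  obtain ⟨n, hn, -, -, -⟩ := exists_extDegree hω
  haveI : Nontrivial (LocalizedModule q.asIdeal.primeCompl A) :=
    (LC.selfLoc q.asIdeal.primeCompl).toEquiv.nontrivial
  have key : ∀ i : ℤ, Nontrivial (LocalizedModule q.asIdeal.primeCompl (Dual.inD A A ⟶ ω⟦i⟧)) ↔
      Nontrivial (LocalizedModule q.asIdeal.primeCompl (Dual.HD A ω i)) := fun i => by
    obtain ⟨e⟩ := exists_homRingLEquiv ω i
    exact (Equiv.ofBijective _ ⟨LocalizedModule.map_injective q.asIdeal.primeCompl e.toLinearMap e.injective,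
      LocalizedModule.map_surjective q.asIdeal.primeCompl e.toLinearMap e.surjective⟩).nontrivial_congr
  refine ⟨?_, ?_⟩
  · rw [LocalizeDual.isCM_localRing_iff q, LocalizeDual.isCM_localized_iff hω hn A q]
    simp only [key]
  · obtain ⟨ω', h1, h2, h3⟩ := LocalizeDual.exists_local hω hn q
    haveI : IsNoetherianRing (Localization.AtPrime q.asIdeal) :=
      IsLocalization.isNoetherianRing q.asIdeal.primeCompl _ inferInstance
    obtain ⟨d, hd⟩ := LocalizeDual.exists_supportDim_eq (B := Localization.AtPrime q.asIdeal)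
      (LocalizedModule q.asIdeal.primeCompl A)
    haveI : Module.Finite (Localization.AtPrime q.asIdeal) (LocalizedModule q.asIdeal.primeCompl A) :=
      Module.Finite.of_isLocalizedModule q.asIdeal.primeCompl (LocalizedModule.mkLinearMap q.asIdeal.primeCompl A)
    obtain ⟨c⟩ := h3 A (-(d : ℤ))
    haveI := nontrivial_ext_neg_supportDim h1 h2 (LocalizedModule q.asIdeal.primeCompl A) d hd
    exact ⟨_, (key _).1 c.symm.toEquiv.nontrivial⟩

variable {X : Scheme.{u}} [IsLocallyNoetherian X]

/-- At every point the cohomology stalks of a dualizing complex are those of an affine chart. -/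
theorem exists_chart_data
    [∀ (U : Scheme.{u}) (j : U ⟶ X) [IsOpenImmersion j], PreservesFiniteLimits (Scheme.Modules.restrictFunctor j)]
    [∀ (R : CommRingCat.{u}), PreservesFiniteLimits (tilde.functor R)]
    {ω : DCoh.D X} (hω : Dual2.IsDualizingSch X ω) (x : X) :
    ∃ (R : CommRingCat.{u}) (_ : IsNoetherianRing R) (j : Spec R ⟶ X) (_ : IsOpenImmersion j)
      (ωA : Dual.D R), Dual.IsDualizing R ωA ∧ x ∈ Set.range j.base ∧
      ∀ p : Spec R,
        (LocCoh.IsCohenMacaulayLocalRing (X.presheaf.stalk (j.base p)) ↔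
          LocCoh.IsCohenMacaulayLocalRing (Localization.AtPrime p.asIdeal)) ∧
        ∀ i : ℤ, Nontrivial ((DCoh.HD ω i).presheaf.stalk (j.base p)) ↔
          Nontrivial (LocalizedModule p.asIdeal.primeCompl (Dual.HD R ωA i)) := by
  obtain ⟨R, hR, j, hj, hx⟩ := exists_chart x
  obtain ⟨ωA, hωA, ⟨e⟩⟩ := hω R j
  refine ⟨R, hR, j, hj, ωA, hωA, hx, fun p => ⟨?_, fun i => ?_⟩⟩
  · let e₁ : X.presheaf.stalk (j.base p) ≃+* (Spec R).presheaf.stalk p :=
      (asIso (j.stalkMap p)).commRingCatIsoToRingEquiv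
    let e₂ : Localization.AtPrime p.asIdeal ≃+* (Spec R).presheaf.stalk p :=
      (StructureSheaf.stalkIso R p).toRingEquiv
    haveI : IsNoetherianRing (Localization.AtPrime p.asIdeal) :=
      IsLocalization.isNoetherianRing p.asIdeal.primeCompl _ inferInstance
    haveI : IsNoetherianRing (X.presheaf.stalk (j.base p)) :=
      isNoetherianRing_of_ringEquiv _ (e₂.trans e₁.symm)
    exact ⟨fun h => LC.Liaison.isCMLocal_of_ringEquiv (e₁.trans e₂.symm),
      fun h => LC.Liaison.isCMLocal_of_ringEquiv (e₂.trans e₁.symm)⟩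
  · rw [← not_iff_not, not_nontrivial_iff_subsingleton, not_nontrivial_iff_subsingleton,
      LocalizedModule.subsingleton_iff]
    have h1 := isZero_stalk_rho_iff j ω p i
    let N : ModuleCat.{u} R := (DerivedCategory.homologyFunctor (ModuleCat.{u} R) i).obj ωA
    have h2 := isZero_stalk_tilde_iff (R := R) N p
    have h3 : IsZero ((DerSch.stalkFunctor (Spec R) p).obj (DCoh.HD ((rho j).obj ω) i)) ↔
        IsZero ((DerSch.stalkFunctor (Spec R) p).obj ((tilde.functor R).obj N)) :=
      ((DerSch.stalkFunctor (Spec R) p).mapIso ((DerivedCategory.homologyFunctor (Spec R).Modules i).mapIso e ≪≫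
        (mapDCHomologyIso (tilde.functor R) i).app ωA)).isZero_iff
    constructor
    · intro h
      haveI : Subsingleton ((DerSch.stalkFunctor X (j.base p)).obj (DCoh.HD ω i) : Type u) := h
      exact h2.1 (h3.1 (h1.2 (ModuleCat.isZero_of_subsingleton _)))
    · intro h
      exact ModuleCat.subsingleton_of_isZero (h1.1 (h3.2 (h2.2 h)))

/-- The criterion and openness. -/
theorem criterion
    [∀ (U : Scheme.{u}) (j : U ⟶ X) [IsOpenImmersion j], PreservesFiniteLimits (Scheme.Modules.restrictFunctor j)]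
    [∀ (R : CommRingCat.{u}), PreservesFiniteLimits (tilde.functor R)]
    {ω : DCoh.D X} (hω : Dual2.IsDualizingSch X ω) :
    (∀ x : X, LocCoh.IsCohenMacaulayLocalRing (X.presheaf.stalk x) ↔
      ∃! i : ℤ, Nontrivial ((DCoh.HD ω i).presheaf.stalk x)) ∧
      IsOpen {x : X | LocCoh.IsCohenMacaulayLocalRing (X.presheaf.stalk x)} := by
  refine ⟨fun x => ?_, ?_⟩
  · obtain ⟨R, _, j, _, ωA, hωA, ⟨p, rfl⟩, h⟩ := exists_chart_data hω x
    obtain ⟨hcm, i₀, hi₀⟩ := ring_criterion hωA p
    rw [(h p).1, hcm]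
    simp only [(h p).2]
    exact ⟨fun hu => ⟨i₀, hi₀, fun k hk => hu k i₀ hk hi₀⟩, fun hu i k hi hk => hu.unique hi hk⟩
  · rw [isOpen_iff_forall_mem_open]
    intro x hx
    obtain ⟨R, _, j, _, ωA, hωA, hxj, h⟩ := exists_chart_data hω x
    obtain ⟨n, hn, -, -, -⟩ := exists_extDegree hωA
    have hopen : IsOpen {p : PrimeSpectrum R | LocCoh.IsCohenMacaulayLocalRing (Localization.AtPrime p.asIdeal)} := by
      convert LocalizeDual.isOpen_unique hωA (R : Type u) using 1
      ext p
      haveI : Nontrivial (LocalizedModule p.asIdeal.primeCompl R) :=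
        (LC.selfLoc p.asIdeal.primeCompl).toEquiv.nontrivial
      exact (LocalizeDual.isCM_localRing_iff p).trans (LocalizeDual.isCM_localized_iff hωA hn R p)
    refine ⟨j.base '' {p : Spec R | LocCoh.IsCohenMacaulayLocalRing (Localization.AtPrime p.asIdeal)}, ?_,
      j.isOpenEmbedding.isOpenMap _ hopen, ?_⟩
    · rintro _ ⟨p, hp, rfl⟩
      exact (h p).1.2 hp
    · obtain ⟨p, rfl⟩ := hxj
      exact ⟨p, (h p).1.1 hx, rfl⟩

end Groth.Agent.PerfGen7.DualSchCM
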