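import Groth.Agent.PerfGen7.LocalizeDual
import Groth.Agent.LC.GorDualizing
import Groth.Agent.H9Misc.DRingInjAmp

/-!
The Gorenstein locus of a ring with a dualizing complex: one cohomology module, locally free of
rank one.
-/

set_option autoImplicit false
set_option backward.isDefEq.respectTransparency false
universe u

open CategoryTheory CategoryTheory.Limits

attribute [local instance] HasDerivedCategory.standard

namespace Groth.Agent.PerfGen7.GorLocus

open Groth.Agent.KFlatLib

variable {B : Type u} [CommRing B]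

/-- Cohomology of a shifted module. -/
lemma exists_hd_shift_inD (M : Type u) [AddCommGroup M] [Module B M] (k : ℤ) :
    (∀ j : ℤ, j ≠ -k → Subsingleton (Dual.HD B ((Dual.inD B M)⟦k⟧) j)) ∧
      Nonempty (Dual.HD B ((Dual.inD B M)⟦k⟧) (-k) ≃ₗ[B] M) := by
  refine ⟨fun j hj => ModuleCat.subsingleton_of_isZero ?_, ⟨?_⟩⟩
  · refine IsZero.of_iso ?_ (((DerivedCategory.homologyFunctor (ModuleCat.{u} B) 0).shiftIso k j (j + k) (add_comm k j)).app _)
    rcases lt_or_gt_of_ne (show j + k ≠ 0 by omega) with h' | h'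
    · exact DerivedCategory.isZero_of_isGE _ 0 _ h'
    · exact DerivedCategory.isZero_of_isLE _ 0 _ h'
  · exact ((((DerivedCategory.homologyFunctor (ModuleCat.{u} B) 0).shiftIso k (-k) 0 (by omega)).app _) ≪≫
      (DerivedCategory.singleFunctorCompHomologyFunctorIso (ModuleCat.{u} B) 0).app (ModuleCat.of B M)).toLinearEquiv

variable [IsLocalRing B] [IsNoetherianRing B] {ω : Dual.D B}

/-- A local ring with a dualizing complex is Gorenstein iff this complex is the ring in one degree. -/
theorem gorenstein_iff (hω : Dual.IsDualizing B ω) :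
    LocCoh.IsGorensteinLocalRing B ↔
      ∃ i : ℤ, (∀ j : ℤ, j ≠ i → Subsingleton (Dual.HD B ω j)) ∧ Nonempty (Dual.HD B ω i ≃ₗ[B] B) := by
  rw [LC.gorenstein_iff_isDualizing]
  haveI := hasLTen B
  haveI := hasRHom (A := B)
  constructor
  · intro h
    obtain ⟨k, ⟨e⟩⟩ := exists_iso_shift_of_isDualizing h hω
    obtain ⟨h1, ⟨h2⟩⟩ := exists_hd_shift_inD (B := B) B k
    refine ⟨-k, fun j hj => ?_, ⟨((DerivedCategory.homologyFunctor (ModuleCat.{u} B) (-k)).mapIso e).toLinearEquiv.trans h2⟩⟩
    haveI := h1 j hj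
    exact ((DerivedCategory.homologyFunctor (ModuleCat.{u} B) j).mapIso e).toLinearEquiv.toEquiv.subsingleton
  · rintro ⟨i, hz, ⟨e⟩⟩
    have hz' : ∀ j : ℤ, j ≠ i → IsZero ((DerivedCategory.homologyFunctor (ModuleCat.{u} B) j).obj ω) :=
      fun j hj => @ModuleCat.isZero_of_subsingleton _ _ _ (hz j hj)
    haveI : ω.IsLE i := (DerivedCategory.isLE_iff _ _).2 fun j hj => hz' j (by omega)
    haveI : ω.IsGE i := (DerivedCategory.isGE_iff _ _).2 fun j hj => hz' j (by omega)
    haveI : DerivedCategory.IsLE (ω⟦i⟧) 0 := DerivedCategory.TStructure.t.isLE_shift ω i i 0 (by omega)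
    haveI : DerivedCategory.IsGE (ω⟦i⟧) 0 := DerivedCategory.TStructure.t.isGE_shift ω i i 0 (by omega)
    obtain ⟨e₁⟩ := H9Misc.nonempty_iso_single_homology 0 (ω⟦i⟧)
    let e₂ : Dual.HD B (ω⟦i⟧) 0 ≃ₗ[B] B :=
      (((DerivedCategory.homologyFunctor (ModuleCat.{u} B) 0).shiftIso i 0 i (by omega)).app ω).toLinearEquiv.trans e
    exact isDualizing_of_iso (e₁ ≪≫ (DerivedCategory.singleFunctor (ModuleCat.{u} B) 0).mapIso e₂.toModuleIso)
      (isDualizing_shift hω i)

variable {A : Type u} [CommRing A] [IsNoetherianRing A]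

/-- The cohomology of the normalized dualizing complex of `A_q` is the localized cohomology. -/
theorem exists_local_hd {ωA : Dual.D A} (hωA : Dual.IsDualizing A ωA) {n : PrimeSpectrum A → ℤ}
    (hn : IsExtDegree ωA n) (q : PrimeSpectrum A) :
    ∃ ω' : Dual.D (Localization.AtPrime q.asIdeal), Dual.IsDualizing (Localization.AtPrime q.asIdeal) ω' ∧
      ∀ i : ℤ, Nonempty (Dual.HD (Localization.AtPrime q.asIdeal) ω' i ≃ₗ[Localization.AtPrime q.asIdeal]
        LocalizedModule q.asIdeal.primeCompl (Dual.HD A ωA (n q + i))) := by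
  obtain ⟨ω', h1, -, h3⟩ := LocalizeDual.exists_local hωA hn q
  refine ⟨ω', h1, fun i => ?_⟩
  obtain ⟨c⟩ := h3 A i
  obtain ⟨e'⟩ := exists_homRingLEquiv ω' i
  obtain ⟨e⟩ := exists_homRingLEquiv ωA (n q + i)
  let c1 := (Linear.homCongr (Localization.AtPrime q.asIdeal)
    ((DerivedCategory.singleFunctor (ModuleCat.{u} (Localization.AtPrime q.asIdeal)) 0).mapIso
      (LC.selfLoc q.asIdeal.primeCompl).toModuleIso) (Iso.refl (ω'⟦i⟧))).symm.trans c
  exact ⟨e'.symm.trans (c1.trans (LinearEquiv.ofBijective (LocalizedModule.map q.asIdeal.primeCompl e.toLinearMap)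
    ⟨LocalizedModule.map_injective _ _ e.injective, LocalizedModule.map_surjective _ _ e.surjective⟩))⟩

/-- The Gorenstein locus through the cohomology of a dualizing complex. -/
theorem gorenstein_localized_iff {ωA : Dual.D A} (hωA : Dual.IsDualizing A ωA) (q : PrimeSpectrum A) :
    LocCoh.IsGorensteinLocalRing (Localization.AtPrime q.asIdeal) ↔
      ∃ i : ℤ, (∀ j : ℤ, j ≠ i → Subsingleton (LocalizedModule q.asIdeal.primeCompl (Dual.HD A ωA j))) ∧
        Nonempty (LocalizedModule q.asIdeal.primeCompl (Dual.HD A ωA i) ≃ₗ[Localization.AtPrime q.asIdeal]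
          Localization.AtPrime q.asIdeal) := by
  obtain ⟨n, hn, -, -, -⟩ := exists_extDegree hωA
  obtain ⟨ω', h1, h2⟩ := exists_local_hd hωA hn q
  haveI : IsNoetherianRing (Localization.AtPrime q.asIdeal) :=
    IsLocalization.isNoetherianRing q.asIdeal.primeCompl _ inferInstance
  rw [gorenstein_iff h1]
  constructor
  · rintro ⟨i, hz, ⟨e⟩⟩
    obtain ⟨c⟩ := h2 i
    refine ⟨n q + i, fun j hj => ?_, ⟨c.symm.trans e⟩⟩
    obtain ⟨c'⟩ := h2 (j - n q)
    rw [show n q + (j - n q) = j by omega] at c'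
    haveI := hz (j - n q) (by omega)
    exact c'.symm.toEquiv.subsingleton
  · rintro ⟨i, hz, ⟨e⟩⟩
    obtain ⟨c⟩ := h2 (i - n q)
    rw [show n q + (i - n q) = i by omega] at c
    refine ⟨i - n q, fun j hj => ?_, ⟨c.trans e⟩⟩
    obtain ⟨c'⟩ := h2 j
    haveI := hz (n q + j) (by omega)
    exact c'.toEquiv.subsingleton

/-- The Gorenstein locus is open. -/
theorem isOpen_gorenstein {ωA : Dual.D A} (hωA : Dual.IsDualizing A ωA) :
    IsOpen {p : PrimeSpectrum A | LocCoh.IsGorensteinLocalRing (Localization.AtPrime p.asIdeal)} := by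
  obtain ⟨a, b, -, _, _⟩ := exists_bounds_of_isDualizing hωA
  haveI hfin := hωA.finite_cohomology
  rw [isOpen_iff_forall_mem_open]
  intro q hq
  obtain ⟨i, hz, ⟨e⟩⟩ := (gorenstein_localized_iff hωA q).1 hq
  obtain ⟨⟨m, s⟩, hms⟩ := IsLocalizedModule.surj q.asIdeal.primeCompl
    (LocalizedModule.mkLinearMap q.asIdeal.primeCompl (Dual.HD A ωA i)) (e.symm 1)
  let φ : A →ₗ[A] Dual.HD A ωA i := LinearMap.toSpanSingleton A _ m
  let U : Set (PrimeSpectrum A) := (Module.support A (LinearMap.ker φ) ∪
    Module.support A (Dual.HD A ωA i ⧸ LinearMap.range φ) ∪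
    ⋃ j ∈ Set.Icc a b \ {i}, Module.support A (Dual.HD A ωA j))ᶜ
  have hUopen : IsOpen U := by
    haveI := hfin i
    refine ((Module.isClosed_support.union Module.isClosed_support).union ?_).isOpen_compl
    exact ((Set.finite_Icc a b).diff).isClosed_biUnion fun j _ => haveI := hfin j; Module.isClosed_support
  have hφ : ∀ p : PrimeSpectrum A, Function.Bijective (LocalizedModule.map p.asIdeal.primeCompl φ) ↔
      p ∉ Module.support A (LinearMap.ker φ) ∧ p ∉ Module.support A (Dual.HD A ωA i ⧸ LinearMap.range φ) := by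
    intro p
    have hex1 : Function.Exact (LinearMap.ker φ).subtype φ := LinearMap.exact_subtype_ker_map φ
    have hex2 : Function.Exact φ (LinearMap.range φ).mkQ := LinearMap.exact_map_mkQ_range φ
    have h1 := LocalizedModule.map_exact p.asIdeal.primeCompl _ _ hex1
    have h2 := LocalizedModule.map_exact p.asIdeal.primeCompl _ _ hex2
    have i1 := LocalizedModule.map_injective p.asIdeal.primeCompl _ (LinearMap.ker φ).subtype_injective
    have s2 := LocalizedModule.map_surjective p.asIdeal.primeCompl _ (LinearMap.range φ).mkQ_surjective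
    simp only [Module.mem_support_iff, not_nontrivial_iff_subsingleton]
    constructor
    · rintro ⟨hi, hs⟩
      refine ⟨subsingleton_of_forall_eq 0 fun x => i1 ?_, subsingleton_of_forall_eq 0 fun y => ?_⟩
      · exact hi (((h1 _).2 ⟨x, rfl⟩).trans (map_zero _).symm) |>.trans (map_zero _).symm
      · obtain ⟨z, rfl⟩ := s2 y
        exact (h2 z).2 (hs z)
    · rintro ⟨hk, hc⟩
      refine ⟨(injective_iff_map_eq_zero _).2 fun x hx => ?_, fun y => (h2 y).1 (Subsingleton.elim _ _)⟩
      obtain ⟨x', rfl⟩ := (h1 x).1 hx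
      rw [Subsingleton.elim x' 0, map_zero]
  have hgood : ∀ p ∈ U, LocCoh.IsGorensteinLocalRing (Localization.AtPrime p.asIdeal) := by
    intro p hp
    simp only [U, Set.mem_compl_iff, Set.mem_union, Set.mem_iUnion, not_or, not_exists] at hp
    obtain ⟨⟨hp1, hp2⟩, hp3⟩ := hp
    refine (gorenstein_localized_iff hωA p).2 ⟨i, fun j hj => ?_, ⟨(LinearEquiv.ofBijective _
      ((hφ p).2 ⟨hp1, hp2⟩)).symm.trans (LC.selfLoc p.asIdeal.primeCompl)⟩⟩
    by_cases hjab : j ∈ Set.Icc a b
    · exact not_nontrivial_iff_subsingleton.1 fun h => hp3 j ⟨hjab, hj⟩ (Module.mem_support_iff.2 h)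
    · haveI : Subsingleton (Dual.HD A ωA j) := by
        rw [Set.mem_Icc, not_and_or, not_le, not_le] at hjab
        rcases hjab with h | h
        · exact ModuleCat.subsingleton_of_isZero (DerivedCategory.isZero_of_isGE ωA a j h)
        · exact ModuleCat.subsingleton_of_isZero (DerivedCategory.isZero_of_isLE ωA b j h)
      exact LocalizedModule.subsingleton_iff.2 fun x => ⟨1, one_mem _, Subsingleton.elim _ _⟩
  refine ⟨U, hgood, hUopen, ?_⟩
  have hu : IsUnit (algebraMap A (Localization.AtPrime q.asIdeal) (s : A)) :=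
    IsLocalization.map_units (Localization.AtPrime q.asIdeal) s
  let F := (e.toLinearMap ∘ₗ LocalizedModule.map q.asIdeal.primeCompl φ) ∘ₗ (LC.selfLoc q.asIdeal.primeCompl).symm.toLinearMap
  have hm : e (LocalizedModule.mk m 1) = algebraMap A (Localization.AtPrime q.asIdeal) (s : A) := by
    have h' : LocalizedModule.mk m 1 = algebraMap A (Localization.AtPrime q.asIdeal) (s : A) • e.symm 1 := by
      rw [algebraMap_smul]
      exact hms.symm
    rw [h', map_smul, LinearEquiv.apply_symm_apply, smul_eq_mul, mul_one]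
  have hone : LC.selfLoc q.asIdeal.primeCompl (LocalizedModule.mk 1 1) = 1 :=
    (IsLocalizedModule.linearEquiv_apply q.asIdeal.primeCompl (LocalizedModule.mkLinearMap q.asIdeal.primeCompl A)
      (Algebra.linearMap A (Localization q.asIdeal.primeCompl)) 1).trans (map_one (algebraMap A (Localization q.asIdeal.primeCompl)))
  have hF : ∀ z, F z = z * algebraMap A (Localization.AtPrime q.asIdeal) (s : A) := fun z => by
    conv_lhs => rw [show z = z • (1 : Localization.AtPrime q.asIdeal) by rw [smul_eq_mul, mul_one]]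
    rw [map_smul, smul_eq_mul]
    congr 1
    show e (LocalizedModule.map q.asIdeal.primeCompl φ ((LC.selfLoc q.asIdeal.primeCompl).symm 1)) = _
    rw [← hone, LinearEquiv.symm_apply_apply, LocalizedModule.map_mk, LinearMap.toSpanSingleton_apply_one, hm]
  have hbij : Function.Bijective F := by
    rw [show (F : _ → _) = fun z => z * algebraMap A (Localization.AtPrime q.asIdeal) (s : A) from funext hF]
    exact IsUnit.isUnit_iff_mulRight_bijective.1 hu
  have hbij' : Function.Bijective (LocalizedModule.map q.asIdeal.primeCompl φ) := by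
    have : (LocalizedModule.map q.asIdeal.primeCompl φ : _ → _) = e.symm ∘ F ∘ LC.selfLoc q.asIdeal.primeCompl :=
      funext fun z => by simp [F]
    rw [this]
    exact e.symm.bijective.comp (hbij.comp (LC.selfLoc q.asIdeal.primeCompl).bijective)
  simp only [U, Set.mem_compl_iff, Set.mem_union, Set.mem_iUnion, not_or, not_exists]
  refine ⟨(hφ q).1 hbij', fun j hj => ?_⟩
  rw [Module.mem_support_iff, not_nontrivial_iff_subsingleton]
  exact hz j hj.2

end Groth.Agent.PerfGen7.GorLocus
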