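import Groth.Agent.PerfGen7.GorLocus
import Groth.Agent.KFlatLib.Ring.DualizingCriterion
import Groth.Agent.KFlatLib.Ring.ShriekPerfect
import Groth.Agent.KFlatLib.Ring.DualizingFibre
import Groth.Agent.KFlatLib.Ring.ProjPair

/-!
# Complexes which are the ring in one degree, locally
-/

set_option linter.style.haveILetI false
set_option backward.isDefEq.respectTransparency false

universe u

open CategoryTheory CategoryTheory.Limits MonoidalCategory

open scoped TensorProduct

attribute [local instance] HasDerivedCategory.standard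

namespace Groth.Agent.PerfGen7.RankOne

open Groth.Agent.KFlatLib

/-- The ring in degree zero. -/
noncomputable def unitIso (A : Type u) [CommRing A] : Dual.inD A A ≅ DTen.unit A :=
  (DerivedCategory.singleFunctorIsoCompQ (ModuleCat.{u} A) 0).app (ModuleCat.of A A)

/-- Base change of a shifted ring. -/
lemma nonempty_LBase_unit_shift {A B : Type u} [CommRing A] [CommRing B] (φ : A →+* B) [DTen.HasLBase φ]
    (m : ℤ) : Nonempty ((DTen.LBase φ).obj ((DTen.unit A)⟦m⟧) ≅ (DTen.unit B)⟦m⟧) := by
  obtain ⟨s⟩ := nonempty_LBase_shift φ m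
  obtain ⟨u⟩ := nonempty_LBase_unit φ
  exact ⟨s.app _ ≪≫ (shiftFunctor _ m).mapIso u⟩

/-- Being the shifted ring is preserved along a composite. -/
lemma transport {A B C : Type u} [CommRing A] [CommRing B] [CommRing C] (φ : A →+* B) (ψ : B →+* C)
    (χ : A →+* C) (h : ψ.comp φ = χ) [DTen.HasLBase φ] [DTen.HasLBase χ] {K : Dual.D A} {m : ℤ}
    (hK : Nonempty ((DTen.LBase φ).obj K ≅ (DTen.unit B)⟦m⟧)) :
    Nonempty ((DTen.LBase χ).obj K ≅ (DTen.unit C)⟦m⟧) := by
  haveI := hasLBase ψ
  obtain ⟨e⟩ := hK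
  obtain ⟨c⟩ := nonempty_LBase_comp φ ψ χ h
  obtain ⟨t⟩ := nonempty_LBase_unit_shift ψ m
  exact ⟨(c.app K).symm ≪≫ (DTen.LBase ψ).mapIso e ≪≫ t⟩

/-- Nakayama: a complex over a local ring is the shifted ring if it is so over the residue field. -/
lemma nakayama {S L : Type u} [CommRing S] [IsLocalRing S] [IsNoetherianRing S] [Field L] (χ : S →+* L)
    (hχ : Function.Surjective χ) [DTen.HasLBase χ] (K : Dual.D S) (t : ℤ) [K.IsLE t]
    (hfin : ∀ i : ℤ, Module.Finite S (Dual.HD S K i)) {m : ℤ}
    (h : Nonempty ((DTen.LBase χ).obj K ≅ (DTen.unit L)⟦m⟧)) : Nonempty (K ≅ (DTen.unit S)⟦m⟧) := by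
  haveI := hasLTen S
  haveI := hasRHom (A := S)
  haveI := hasLTen L
  haveI := hasResTen χ
  haveI := resLegIso χ
  haveI := hasLTen₃ S
  haveI := isSymMonoidal S
  haveI := hasLTen₃ L
  haveI := isSymMonoidal L
  obtain ⟨e⟩ := h
  let C := K⟦-m⟧
  haveI : C.IsLE (t + m) := DerivedCategory.TStructure.t.isLE_shift K t (-m) (t + m) (by omega)
  have hC : ∀ i : ℤ, Module.Finite S (Dual.HD S C i) := fun i => by
    haveI : Module.Finite S (((DerivedCategory.homologyFunctor (ModuleCat.{u} S) 0).shift (i - m)).obj K) :=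
      hfin (i - m)
    exact Module.Finite.equiv ((((DerivedCategory.homologyFunctor (ModuleCat.{u} S) 0).shiftIso (-m) i (i - m)
      (by omega)).app K).symm.toLinearEquiv)
  obtain ⟨s⟩ := nonempty_LBase_shift χ (-m)
  let eC : (DTen.LBase χ).obj C ≅ DTen.unit L :=
    s.app K ≪≫ (shiftFunctor _ (-m)).mapIso e ≪≫ ((shiftEquiv _ m).unitIso.app _).symm
  letI := χ.toAlgebra
  have hker : RingHom.ker χ = IsLocalRing.maximalIdeal S :=
    IsLocalRing.eq_maximalIdeal (RingHom.ker_isMaximal_of_surjective χ hχ)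
  let eκ : IsLocalRing.ResidueField S ≃ₗ[S] L :=
    (Submodule.quotEquivOfEq _ _ hker.symm).trans
      ((Algebra.linearMap S L).quotKerEquivOfSurjective hχ)
  let eM : ModuleCat.of S (IsLocalRing.ResidueField S) ≅
      (ModuleCat.restrictScalars χ).obj (ModuleCat.of L L) :=
    LinearEquiv.toModuleIso (m₂ := ((ModuleCat.restrictScalars χ).obj (ModuleCat.of L L)).isModule)
      { toFun := fun x => eκ x
        invFun := fun x => eκ.symm x
        left_inv := eκ.symm_apply_apply
        right_inv := eκ.apply_symm_apply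
        map_add' := fun x y => map_add eκ x y
        map_smul' := fun r x => map_smul eκ r x }
  let eI : Dual.inD S (IsLocalRing.ResidueField S) ≅ (DRing.restrictD χ).obj (DTen.unit L) :=
    (DerivedCategory.singleFunctor (ModuleCat.{u} S) 0).mapIso eM ≪≫
      (H9Misc.DRingRestrict.restrictInDIso χ (ModuleCat.of L L)).symm ≪≫
      (DRing.restrictD χ).mapIso (unitIso L)
  haveI := isIso_piD χ C (DTen.unit L)
  haveI : IsIso (DTen.unitR L) := DTen.IsSymMonoidal.isIso_unitR
  let eT : (DTen.LTen₂ S).obj (C, Dual.inD S (IsLocalRing.ResidueField S)) ≅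
      Dual.inD S (IsLocalRing.ResidueField S) :=
    (DTen.LTen₂ S).mapIso (Iso.prod (Iso.refl C) eI) ≪≫ asIso (piD χ C (DTen.unit L)) ≪≫
      (DRing.restrictD χ).mapIso ((asIso (DTen.unitR L)).app _ ≪≫ eC) ≪≫ eI.symm
  obtain ⟨u⟩ := nonempty_iso_unit_of_ten_residueField C (t + m) hC eT
  exact ⟨((shiftEquiv' (Dual.D S) (-m) m (neg_add_cancel m)).unitIso.app K) ≪≫ (shiftFunctor _ m).mapIso u⟩

variable {A : Type u} [CommRing A] [IsNoetherianRing A]

/-- Localizations of bounded complexes with finite cohomology are of the same kind. -/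
lemma bounds_atPrime (K : Dual.D A) (t : ℤ) [K.IsLE t] (hfin : ∀ i : ℤ, Module.Finite A (Dual.HD A K i))
    (q : Ideal A) [q.IsPrime] [DTen.HasLBase (algebraMap A (Localization.AtPrime q))] :
    ((DTen.LBase (algebraMap A (Localization.AtPrime q))).obj K).IsLE t ∧
      ∀ i : ℤ, Module.Finite (Localization.AtPrime q)
        (Dual.HD (Localization.AtPrime q) ((DTen.LBase (algebraMap A (Localization.AtPrime q))).obj K) i) := by
  haveI : Module.Flat A (Localization.AtPrime q) := IsLocalization.flat _ q.primeCompl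
  refine ⟨(DerivedCategory.isLE_iff _ _).2 fun i hi => ?_, fun i => finite_hd_LBase K i (hfin i)⟩
  obtain ⟨e⟩ := exists_hdLBaseLEquiv (B := Localization.AtPrime q) K i
  haveI : Subsingleton (Dual.HD A K i) :=
    ModuleCat.subsingleton_of_isZero (DerivedCategory.isZero_of_isLE K t i hi)
  exact @ModuleCat.isZero_of_subsingleton _ _ _ e.injective.subsingleton

/-- Being the shifted ring at a prime is detected by any field generated by the residue field. -/
lemma atPrime_iff (K : Dual.D A) (t : ℤ) [K.IsLE t] (hfin : ∀ i : ℤ, Module.Finite A (Dual.HD A K i))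
    (q : Ideal A) [q.IsPrime] [DTen.HasLBase (algebraMap A (Localization.AtPrime q))]
    {L : Type u} [Field L] (ψ : Localization.AtPrime q →+* L) (hψ : Function.Surjective ψ)
    (χ : A →+* L) (h : ψ.comp (algebraMap A (Localization.AtPrime q)) = χ) [DTen.HasLBase χ] (m : ℤ) :
    Nonempty ((DTen.LBase (algebraMap A (Localization.AtPrime q))).obj K ≅ (DTen.unit _)⟦m⟧) ↔
      Nonempty ((DTen.LBase χ).obj K ≅ (DTen.unit L)⟦m⟧) := by
  refine ⟨transport _ ψ χ h, fun ⟨e⟩ => ?_⟩
  haveI := hasLBase ψ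
  obtain ⟨c⟩ := nonempty_LBase_comp (algebraMap A (Localization.AtPrime q)) ψ χ h
  haveI := IsLocalization.isNoetherianRing q.primeCompl (Localization.AtPrime q) inferInstance
  obtain ⟨hle, hf⟩ := bounds_atPrime K t hfin q
  haveI := hle
  exact nakayama ψ hψ _ t hf ⟨c.app K ≪≫ e⟩

/-- A complex with cohomology free of rank one in one degree is the shifted ring. -/
lemma iso_of_hd {B : Type u} [CommRing B] (K : Dual.D B) (m : ℤ)
    (hz : ∀ j : ℤ, j ≠ -m → Subsingleton (Dual.HD B K j)) (e : Dual.HD B K (-m) ≃ₗ[B] B) :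
    Nonempty (K ≅ (DTen.unit B)⟦m⟧) := by
  have hz' : ∀ j : ℤ, j ≠ -m → IsZero ((DerivedCategory.homologyFunctor (ModuleCat.{u} B) j).obj K) :=
    fun j hj => @ModuleCat.isZero_of_subsingleton _ _ _ (hz j hj)
  haveI : K.IsLE (-m) := (DerivedCategory.isLE_iff _ _).2 fun j hj => hz' j (by omega)
  haveI : K.IsGE (-m) := (DerivedCategory.isGE_iff _ _).2 fun j hj => hz' j (by omega)
  obtain ⟨e₁⟩ := H9Misc.nonempty_iso_single_homology (-m) K
  exact ⟨e₁ ≪≫ (DerivedCategory.singleFunctor (ModuleCat.{u} B) (-m)).mapIso e.toModuleIso ≪≫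
    (((DerivedCategory.singleFunctors (ModuleCat.{u} B)).shiftIso m (-m) 0 (by omega)).app (ModuleCat.of B B)).symm ≪≫
    (shiftFunctor _ m).mapIso (unitIso B)⟩

/-- Being the shifted ring at a prime spreads to a neighbourhood. -/
theorem exists_away (K : Dual.D A) (a b : ℤ) [K.IsGE a] [K.IsLE b]
    (hfin : ∀ i : ℤ, Module.Finite A (Dual.HD A K i)) (q : Ideal A) [q.IsPrime]
    [DTen.HasLBase (algebraMap A (Localization.AtPrime q))] {m : ℤ}
    (h : Nonempty ((DTen.LBase (algebraMap A (Localization.AtPrime q))).obj K ≅ (DTen.unit _)⟦m⟧)) :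
    ∃ f : A, f ∉ q ∧ ∀ [DTen.HasLBase (algebraMap A (Localization.Away f))],
      Nonempty ((DTen.LBase (algebraMap A (Localization.Away f))).obj K ≅ (DTen.unit _)⟦m⟧) := by
  classical
  let B := Localization.AtPrime q
  haveI : Module.Flat A B := IsLocalization.flat _ q.primeCompl
  obtain ⟨e⟩ := h
  obtain ⟨hz, ⟨e₁⟩⟩ := GorLocus.exists_hd_shift_inD (B := B) B m
  let eH := fun j => ((DerivedCategory.homologyFunctor (ModuleCat.{u} B) j).mapIso
    (e ≪≫ (shiftFunctor _ m).mapIso (unitIso B).symm)).toLinearEquiv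
  have hsub : ∀ j, j ≠ -m → ∃ g : A, g ∉ q ∧ ∀ x : Dual.HD A K j, g • x = 0 := fun j hj => by
    obtain ⟨c⟩ := exists_hdLBaseLEquiv (B := B) K j
    haveI : Subsingleton (Dual.HD B ((DTen.LBase (algebraMap A B)).obj K) j) :=
      haveI := hz j hj
      (eH j).toEquiv.subsingleton
    haveI : Subsingleton (B ⊗[A] Dual.HD A K j) := c.symm.toEquiv.subsingleton
    haveI : Subsingleton (LocalizedModule q.primeCompl (Dual.HD A K j)) :=
      (LocalizedModule.equivTensorProduct q.primeCompl (Dual.HD A K j)).toEquiv.subsingleton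
    haveI := hfin j
    have hns : (⟨q, inferInstance⟩ : PrimeSpectrum A) ∉ Module.support A (Dual.HD A K j) :=
      Module.notMem_support_iff.2 inferInstance
    rw [Module.mem_support_iff_of_finite] at hns
    obtain ⟨g, hg, hgq⟩ := SetLike.not_le_iff_exists.1 hns
    exact ⟨g, hgq, Module.mem_annihilator.1 hg⟩
  choose! g hgq hg using hsub
  let f₀ := ∏ j ∈ (Finset.Icc a b).filter (· ≠ -m), g j
  have hf₀ : f₀ ∈ q.primeCompl := prod_mem fun j hj => hgq j (Finset.mem_filter.1 hj).2
  obtain ⟨c⟩ := exists_hdLBaseLEquiv (B := B) K (-m)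
  let M := Dual.HD A K (-m)
  let θ : B ⊗[A] M ≃ₗ[B] B := c.symm.trans ((eH (-m)).trans e₁)
  haveI := hfin (-m)
  haveI : IsLocalizedModule q.primeCompl (TensorProduct.mk A B M 1) :=
    (isLocalizedModule_iff_isBaseChange _ B _).mpr (TensorProduct.isBaseChange _ _ _)
  haveI := Module.finitePresentation_of_finite A M
  obtain ⟨r, hr, l, -⟩ := Module.FinitePresentation.exists_lift_equiv_of_isLocalizedModule q.primeCompl
    (TensorProduct.mk A B M 1) (Algebra.linearMap A B) (θ.restrictScalars A)
  let f := f₀ * r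
  refine ⟨f, q.primeCompl.mul_mem hf₀ hr, fun {_} => ?_⟩
  let Bf := Localization.Away f
  haveI : Module.Flat A Bf := IsLocalization.flat _ (Submonoid.powers f)
  have hu : ∀ d : A, d ∣ f → IsUnit (algebraMap A Bf d) := fun d hd =>
    isUnit_of_dvd_unit (map_dvd _ hd) (IsLocalization.Away.algebraMap_isUnit f)
  refine iso_of_hd _ m (fun j hj => ?_) ?_
  · obtain ⟨c'⟩ := exists_hdLBaseLEquiv (B := Bf) K j
    suffices Subsingleton (Bf ⊗[A] Dual.HD A K j) from c'.toEquiv.subsingleton
    by_cases hab : a ≤ j ∧ j ≤ b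
    · refine subsingleton_of_forall_eq 0 fun z => ?_
      have hzero : ∀ z : Bf ⊗[A] Dual.HD A K j, g j • z = 0 := fun z => by
        induction z using TensorProduct.induction_on with
        | zero => exact smul_zero _
        | tmul x y => rw [← TensorProduct.tmul_smul, hg j hj, TensorProduct.tmul_zero]
        | add x y hx hy => rw [smul_add, hx, hy, add_zero]
      obtain ⟨v, hv⟩ := hu (g j) (dvd_mul_of_dvd_left
        (Finset.dvd_prod_of_mem g (Finset.mem_filter.2 ⟨Finset.mem_Icc.2 hab, hj⟩)) r)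
      have := hzero z
      rw [← IsScalarTower.algebraMap_smul Bf, ← hv] at this
      exact (IsUnit.smul_eq_zero v.isUnit).1 this
    · haveI : Subsingleton (Dual.HD A K j) := ModuleCat.subsingleton_of_isZero (by
        rcases not_and_or.1 hab with h | h
        · exact DerivedCategory.isZero_of_isGE K a j (by omega)
        · exact DerivedCategory.isZero_of_isLE K b j (by omega))
      infer_instance
  · let Br := Localization.Away r
    let π : Br →+* Bf := IsLocalization.Away.lift r (hu r (dvd_mul_left _ _))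
    letI := π.toAlgebra
    haveI : IsScalarTower A Br Bf := IsScalarTower.of_algebraMap_eq fun x =>
      (IsLocalization.Away.lift_eq r (hu r (dvd_mul_left _ _)) x).symm
    let eA : LocalizedModule.Away r A ≃ₗ[Br] Br :=
      (IsLocalizedModule.linearEquiv (Submonoid.powers r) (LocalizedModule.mkLinearMap (Submonoid.powers r) A)
        (Algebra.linearMap A Br)).extendScalarsOfIsLocalization (Submonoid.powers r) _
    let θr : Br ⊗[A] M ≃ₗ[Br] Br :=
      (LocalizedModule.equivTensorProduct (Submonoid.powers r) M).symm.trans (l.trans eA)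
    exact (exists_hdLBaseLEquiv (B := Bf) K (-m)).some.trans
      ((TensorProduct.AlgebraTensorModule.cancelBaseChange A Br Bf Bf M).symm.trans
        ((TensorProduct.AlgebraTensorModule.congr (LinearEquiv.refl Bf Bf) θr).trans
          (TensorProduct.AlgebraTensorModule.rid Br Bf Bf)))

end Groth.Agent.PerfGen7.RankOne
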