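import Groth.Agent.PerfGen7.TorAmpBC
import Groth.Agent.PerfGen7.RelTor.Stalk
import Groth.Agent.KFlatLib.Scheme.Tilde
import Groth.Agent.KFlatLib.Scheme.TildeD
import Mathlib.RingTheory.RingHom.Flat

/-!
# Relative tor amplitude of `M^~`
-/

set_option backward.isDefEq.respectTransparency false
set_option linter.style.haveILetI false

universe u

open CategoryTheory CategoryTheory.Limits AlgebraicGeometry

attribute [local instance] HasDerivedCategory.standard

namespace Groth.Agent.PerfGen7.TorAmpBC

open Groth.Agent.KFlatLib Groth.Agent.H9Misc Groth.Agent.PerfGen7.RelTor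
  Groth.Agent.H9Misc.DRingLTensor Groth.Agent.H9Misc.DRingTorDescent

variable {R A : CommRingCat.{u}} {a b : ℤ}

lemma isLocalization_toStalkHom (x : Spec A) :
    @IsLocalization A _ x.asIdeal.primeCompl ((Spec A).presheaf.stalk x) _ (toStalkHom x).toAlgebra := by
  have e : (toStalkHom x).toAlgebra = StructureSheaf.stalkAlgebra A x :=
    Algebra.algebra_ext _ _ fun r => rfl
  rw [e]
  exact StructureSheaf.IsLocalization.to_stalk A x

/-- Restricting an extension of scalars tensors. -/
noncomputable def extResCxIso {B C : Type u} [CommRing B] [CommRing C] (ψ : B →+* C) (X : DRing.Cx B) :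
    (tensC (resB ψ)).obj X ≅ (resCx ψ).obj ((extC' ψ).obj X) :=
  HomologicalComplex.Hom.isoOfComponents (fun n => (DRingTorLocal.extResIso ψ).app (X.X n))
    (fun p q _ => ((DRingTorLocal.extResIso ψ).hom.naturality (X.d p q)).symm)

/-- Tor amplitude of a complex of modules, read on the stalks of the associated sheaves. -/
theorem torAmplitude_tilde_cx_iff (φ : R ⟶ A) (C : DRing.Cx A) :
    DerSch.HasTorAmplitude (Spec.map φ) a b
        (((tilde.functor A).mapHomologicalComplex (ComplexShape.up ℤ)).obj C) ↔
      DRing.HasTorAmplitudeIn R a b (DerivedCategory.Q.obj ((resCx φ.hom).obj C)) := by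
  let eSt : ∀ x : Spec A,
      (stalkCx x).obj (((tilde.functor A).mapHomologicalComplex (ComplexShape.up ℤ)).obj C) ≅
        (extC' (toStalkHom x)).obj C := fun x =>
    (NatIso.mapHomologicalComplex (stalkTildeIso x) (ComplexShape.up ℤ)).app C
  have hw : ∀ x : Spec A, ((Spec.map φ).stalkMap x).hom.comp (toStalkHom ((Spec.map φ).base x)) =
      (toStalkHom x).comp φ.hom := fun x => RingHom.ext fun r => by
    show (Spec.map φ).stalkMap x ((Spec R).presheaf.germ ⊤ _ trivial ((Scheme.ΓSpecIso R).inv r)) =
      (Spec A).presheaf.germ ⊤ x trivial ((Scheme.ΓSpecIso A).inv (φ r))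
    rw [Scheme.Hom.germ_stalkMap_apply (Spec.map φ) ⊤ x trivial]
    exact congrArg ((Spec A).presheaf.germ ⊤ x trivial)
      congr($((Scheme.ΓSpecIso_inv_naturality φ).symm).hom r)
  constructor
  · intro h
    refine DRingTorLocal.hasTorAmplitudeIn_of_local φ.hom C a b fun m _ => ?_
    let x : Spec A := ⟨m, inferInstance⟩
    letI := (toStalkHom x).toAlgebra
    haveI := isLocalization_toStalkHom x
    let e : (Spec A).presheaf.stalk x ≃ₐ[A] Localization.AtPrime m :=
      IsLocalization.algEquiv x.asIdeal.primeCompl _ _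
    let α : (Spec R).presheaf.stalk ((Spec.map φ).base x) →+* Localization.AtPrime m :=
      e.toRingEquiv.toRingHom.comp ((Spec.map φ).stalkMap x).hom
    have he : e.toRingEquiv.toRingHom.comp (toStalkHom x) = algebraMap A (Localization.AtPrime m) :=
      RingHom.ext fun r => e.commutes r
    haveI : Module.Flat ((Spec A).presheaf.stalk x) (resB e.toRingEquiv.toRingHom) :=
      RingHom.Flat.of_bijective e.bijective
    refine ⟨_, inferInstance, toStalkHom ((Spec.map φ).base x), α, ?_, ?_, ?_⟩
    · letI := (toStalkHom ((Spec.map φ).base x)).toAlgebra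
      haveI := isLocalization_toStalkHom ((Spec.map φ).base x)
      exact RingHom.flat_algebraMap_iff.2 (IsLocalization.flat _ ((Spec.map φ).base x).asIdeal.primeCompl)
    · show (e.toRingEquiv.toRingHom.comp _).comp _ = _
      rw [RingHom.comp_assoc, hw x, ← RingHom.comp_assoc, he]
    · refine torAmp_of_iso (DerivedCategory.Q.mapIso ?_)
        (tens_flat ((Spec.map φ).stalkMap x).hom (resB e.toRingEquiv.toRingHom) ((extC' (toStalkHom x)).obj C)
          (torAmp_of_iso (DerivedCategory.Q.mapIso
            (RelTor.stalkCxOverIso (Spec.map φ) x _ ≪≫ (resCx _).mapIso (eSt x))) (h x)))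
      exact (resCx _).mapIso (extResCxIso _ _ ≪≫ (resCx _).mapIso (extCompIso he C).symm) ≪≫
        (resCompIso rfl _).symm
  · intro h x
    letI := (toStalkHom ((Spec.map φ).base x)).toAlgebra
    haveI := isLocalization_toStalkHom ((Spec.map φ).base x)
    letI := (toStalkHom x).toAlgebra
    haveI := isLocalization_toStalkHom x
    haveI : Module.Flat A (resB (toStalkHom x)) :=
      (show RingHom.Flat (toStalkHom x) from RingHom.flat_algebraMap_iff.2
        (IsLocalization.flat ((Spec A).presheaf.stalk x) x.asIdeal.primeCompl))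
    refine of_res_localization (P := R) ((Spec.map φ).base x).asIdeal.primeCompl
      (torAmp_of_iso (DerivedCategory.Q.mapIso ?_) (tens_flat φ.hom (resB (toStalkHom x)) C h))
    exact (resCx φ.hom).mapIso (extResCxIso _ C ≪≫ (resCx _).mapIso (eSt x).symm) ≪≫
      (resCompIso rfl _).symm ≪≫ resCompIso (hw x) _ ≪≫
      (resCx _).mapIso (RelTor.stalkCxOverIso (Spec.map φ) x _).symm

/-- Tor amplitude of `M^~`, on representing complexes. -/
theorem torAmplitude_tilde_iff (φ : R ⟶ A) [PreservesFiniteLimits (tilde.functor A)] (M : Dual.D A)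
    (F : CochainComplex (Spec A).Modules ℤ) (e : DCoh.toD (Spec A) F ≅ (DCoh.tildeD A).obj M) :
    DerSch.HasTorAmplitude (Spec.map φ) a b F ↔
      DRing.HasTorAmplitudeIn R a b ((DRing.restrictD φ.hom).obj M) := by
  let C := DerivedCategory.Q.objPreimage M
  let eC : DerivedCategory.Q.obj C ≅ M := DerivedCategory.Q.objObjPreimageIso M
  let eT : DCoh.toD (Spec A) F ≅
      DCoh.toD (Spec A) (((tilde.functor A).mapHomologicalComplex (ComplexShape.up ℤ)).obj C) :=
    e ≪≫ (DCoh.tildeD A).mapIso eC.symm ≪≫ (tilde.functor A).mapDerivedCategoryFactors.app C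
  let eR : (DRing.restrictD φ.hom).obj M ≅ DerivedCategory.Q.obj ((resCx φ.hom).obj C) :=
    (DRing.restrictD φ.hom).mapIso eC.symm ≪≫ (ModuleCat.restrictScalars φ.hom).mapDerivedCategoryFactors.app C
  refine Iff.trans ⟨fun h x => torAmplitudeAt_congr _ eT (h x), fun h x => torAmplitudeAt_congr _ eT.symm (h x)⟩
    ((torAmplitude_tilde_cx_iff φ C).trans ⟨torAmp_of_iso eR.symm, torAmp_of_iso eR⟩)

end Groth.Agent.PerfGen7.TorAmpBC
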