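import Groth.Agent.PerfGen7.RelFlatZero

/-!
# Relative pseudo-coherence and pseudo-coherent bases
-/

set_option linter.style.haveILetI false
set_option backward.isDefEq.respectTransparency false
set_option backward.isDefEq.respectTransparency.types false

universe u

open CategoryTheory CategoryTheory.Limits AlgebraicGeometry MvPolynomial

attribute [local instance] HasDerivedCategory.standard

namespace Groth.Agent.PerfGen7

open Groth.Agent.KFlatLib Groth.Agent.H9Misc Groth.Agent.H9Misc.DRingRelPC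

variable {X T S : Scheme.{u}} {m : ℤ}

/-- Charts of a pseudo-coherent morphism are pseudo-coherent maps. -/
lemma pcHom_of_chart {b : T ⟶ S} (hb : ∀ k : ℤ, DerSch.IsNPseudoCoherent b k) {V : T.Opens} {W : S.Opens}
    (hV : IsAffineOpen V) (hW : IsAffineOpen W) (h : V ≤ b ⁻¹ᵁ W) {n : ℕ}
    (φ : MvPolynomial (Fin n) Γ(S, W) →+* Γ(T, V)) (hφ : DerSch.IsChart b V W h φ) : PCHom φ := by
  letI := φ.toAlgebra
  exact PCMor.pcHom_iff.2 ((DRingPC.pc'_iff _).2 fun k => module_of_isNPseudoCoherent (hb k) hV hW h φ hφ)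

/-- Relative pseudo-coherence is unchanged by a pseudo-coherent morphism of bases. -/
theorem rel_comp_iff (a : X ⟶ T) (b : T ⟶ S) [LocallyOfFiniteType a] [LocallyOfFiniteType b]
    (hb : ∀ k : ℤ, DerSch.IsNPseudoCoherent b k) (K : DCoh.D X) :
    DerSch.IsPseudoCoherentRel (a ≫ b) m K ↔ DerSch.IsPseudoCoherentRel a m K := by
  have key : ∀ x : X, ∃ (U : X.Opens) (V : T.Opens) (W : S.Opens), x ∈ U ∧ IsAffineOpen U ∧ IsAffineOpen V ∧
      IsAffineOpen W ∧ ∃ (h₁ : U ≤ a ⁻¹ᵁ V) (h₂ : U ≤ (a ≫ b) ⁻¹ᵁ W) (n : ℕ)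
        (ψ : MvPolynomial (Fin n) Γ(T, V) →+* Γ(X, U)) (k : ℕ)
        (θ : MvPolynomial (Fin k) Γ(S, W) →+* Γ(X, U)), DerSch.IsChart a U V h₁ ψ ∧
          DerSch.IsChart (a ≫ b) U W h₂ θ ∧ (ImmPC m K U θ ↔ ImmPC m K U ψ) := by
    intro x
    obtain ⟨W, hW, hxW, -⟩ := exists_isAffineOpen_mem_and_subset (x := b (a x)) (U := (⊤ : S.Opens)) trivial
    obtain ⟨V, hV, hxV, hVW⟩ := exists_isAffineOpen_mem_and_subset (x := a x) (U := b ⁻¹ᵁ W) hxW
    obtain ⟨U, hU, hxU, hUV⟩ := exists_isAffineOpen_mem_and_subset (x := x) (U := a ⁻¹ᵁ V) hxV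
    obtain ⟨l, φ, hφ⟩ := exists_chart_of_affine (f := b) hV hW hVW
    obtain ⟨n, ψ, hψ⟩ := exists_chart_of_affine (f := a) hU hV hUV
    let e := PCMor.nestEquiv Γ(S, W) n l
    let σ := (MvPolynomial.map (σ := Fin n) φ).comp e.toRingEquiv.toRingHom
    have hσ : Function.Surjective σ := (MvPolynomial.map_surjective φ hφ.1).comp e.surjective
    have hσ' : PCHom σ :=
      (PCHom.of_bijective e.bijective).comp (pcHom_map φ (pcHom_of_chart hb hV hW hVW φ hφ) n)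
    refine ⟨U, V, W, hxU, hU, hV, hW, hUV, fun y hy => hVW (hUV hy), n, ψ, n + l, ψ.comp σ, hψ,
      ⟨hψ.1.comp hσ, ?_⟩, immPC_comp_iff hU ψ hψ.1 σ hσ hσ' _ rfl⟩
    ext r
    have : e.toRingEquiv.toRingHom (C r) = C (C r) := by simp [e, PCMor.nestEquiv]
    simp only [σ, RingHom.comp_apply]
    rw [this, MvPolynomial.map_C, ← RingHom.comp_apply ψ, hψ.2, ← RingHom.comp_apply φ, hφ.2,
      ← RingHom.comp_apply, ← CommRingCat.hom_comp, Scheme.Hom.appLE_comp_appLE]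
  constructor
  · intro h
    refine isPseudoCoherentRel_iff.2 fun x => ?_
    obtain ⟨U, V, W, hxU, hU, hV, hW, h₁, h₂, n, ψ, k, θ, hψ, hθ, hiff⟩ := key x
    exact ⟨U, V, hxU, hU, hV, h₁, n, ψ, hψ,
      hiff.1 ((chartPC_iff hU θ hθ.1).1 (chartPC_of_rel h hU hW h₂ θ hθ))⟩
  · intro h
    refine isPseudoCoherentRel_iff.2 fun x => ?_
    obtain ⟨U, V, W, hxU, hU, hV, hW, h₁, h₂, n, ψ, k, θ, hψ, hθ, hiff⟩ := key x
    exact ⟨U, W, hxU, hU, hW, h₂, k, θ, hθ,
      hiff.2 ((chartPC_iff hU ψ hψ.1).1 (chartPC_of_rel h hU hV h₁ ψ hψ))⟩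

/-- Restriction along the identity. -/
noncomputable def rhoId (K : DCoh.D X) : (rho (𝟙 X)).obj K ≅ K :=
  (rho (𝟙 X)).mapIso (repIso K).symm ≪≫ (rhoQ (𝟙 X)).app _ ≪≫
    DerivedCategory.Q.mapIso ((NatIso.mapHomologicalComplex Scheme.Modules.restrictFunctorId
      (ComplexShape.up ℤ)).app (DerivedCategory.Q.objPreimage K)) ≪≫
    DerivedCategory.Q.mapIso ((Functor.mapHomologicalComplexIdIso X.Modules (ComplexShape.up ℤ)).app _) ≪≫
    repIso K

/-- Pseudo-coherence relative to a closed immersion is that of the direct image. -/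
theorem rel_closedImmersion_iff (i : X ⟶ T) [IsClosedImmersion i] (K : DCoh.D X) :
    DerSch.IsPseudoCoherentRel i m K ↔ LocPC m ((pushD i).obj K) := by
  have hchart : ∀ (V : T.Opens), IsAffineOpen V →
      ∃ φ : MvPolynomial (Fin 0) Γ(T, V) →+* Γ(X, i ⁻¹ᵁ V), DerSch.IsChart i (i ⁻¹ᵁ V) V le_rfl φ ∧
        (ImmPC m K (i ⁻¹ᵁ V) φ ↔ LocPC m ((rho V.ι).obj ((pushD i).obj K))) := by
    intro V hV
    have hU : IsAffineOpen (i ⁻¹ᵁ V) := hV.preimage i
    have hsur : Function.Surjective (i.appLE V (i ⁻¹ᵁ V) le_rfl).hom := by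
      rw [← Scheme.Hom.app_eq_appLE]
      haveI : IsAffine V.toScheme := hV
      exact i.app_surjective V hV
    let e := MvPolynomial.isEmptyRingEquiv Γ(T, V) (Fin 0)
    let φ : MvPolynomial (Fin 0) Γ(T, V) →+* Γ(X, i ⁻¹ᵁ V) :=
      (i.appLE V (i ⁻¹ᵁ V) le_rfl).hom.comp e.toRingHom
    have hφ : Function.Surjective φ := hsur.comp e.surjective
    have hφC : φ.comp C = (i.appLE V (i ⁻¹ᵁ V) le_rfl).hom := RingHom.ext fun r => by simp only [φ, RingHom.comp_apply]; congr 1; exact (congrArg e (MvPolynomial.isEmptyRingEquiv_symm_apply (R := Γ(T, V)) (Fin 0) r)).symm.trans (e.apply_symm_apply r)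
    refine ⟨φ, ⟨hφ, hφC⟩, ?_⟩
    haveI := isClosedImmersion_imm hU φ hφ
    haveI : IsIso (CommRingCat.ofHom e.toRingHom) := inferInstanceAs (IsIso e.toCommRingCatIso.hom)
    haveI : IsIso (Spec.map (CommRingCat.ofHom (MvPolynomial.C : Γ(T, V) →+* MvPolynomial (Fin 0) Γ(T, V)))) := by
      have : (MvPolynomial.C : Γ(T, V) →+* MvPolynomial (Fin 0) Γ(T, V)) = e.symm.toRingHom :=
        RingHom.ext fun r => by simp [e]
      rw [this]
      haveI : IsIso (CommRingCat.ofHom e.symm.toRingHom) := inferInstanceAs (IsIso e.symm.toCommRingCatIso.hom)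
      infer_instance
    let l := Spec.map (CommRingCat.ofHom (MvPolynomial.C : Γ(T, V) →+* MvPolynomial (Fin 0) Γ(T, V))) ≫ hV.fromSpec
    have hl : l.opensRange = V := by
      simp only [l, Scheme.Hom.opensRange_comp_of_isIso, IsAffineOpen.opensRange_fromSpec]
    have key := locPC_square (m := m) i (𝟙 X) (imm (i ⁻¹ᵁ V) φ) (i ⁻¹ᵁ V).ι l (i ⁻¹ᵁ V).ι
      (Category.comp_id _) (by
        simp only [imm, l, Category.assoc]
        rw [← Spec.map_comp_assoc, ← CommRingCat.ofHom_comp, hφC, CommRingCat.ofHom_hom,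
          hV.SpecMap_appLE_fromSpec i hU le_rfl, IsAffineOpen.toSpecΓ_fromSpec_assoc])
      (by rw [Scheme.Opens.opensRange_ι, hl]) K
    rw [hl] at key
    let e₁ := (rho V.ι).mapIso ((pushD i).mapIso (rhoId K))
    exact ⟨fun h => (key.2 (h _)).of_iso e₁, fun h _ => key.1 (h.of_iso e₁.symm)⟩
  constructor
  · intro h
    refine LocPC.of_local fun y => ?_
    obtain ⟨V, hV, hyV, -⟩ := exists_isAffineOpen_mem_and_subset (x := y) (U := (⊤ : T.Opens)) trivial
    obtain ⟨φ, hφ, hiff⟩ := hchart V hV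
    exact ⟨_, V.ι, inferInstance, ⟨⟨y, hyV⟩, rfl⟩,
      hiff.1 ((chartPC_iff (hV.preimage i) φ hφ.1).1 (chartPC_of_rel h (hV.preimage i) hV le_rfl φ hφ))⟩
  · intro h
    refine isPseudoCoherentRel_iff.2 fun x => ?_
    obtain ⟨V, hV, hxV, -⟩ := exists_isAffineOpen_mem_and_subset (x := i x) (U := (⊤ : T.Opens)) trivial
    obtain ⟨φ, hφ, hiff⟩ := hchart V hV
    exact ⟨i ⁻¹ᵁ V, V, hxV, hV.preimage i, hV, le_rfl, 0, φ, hφ, hiff.2 (h.restrict V.ι)⟩

/-- For a pseudo-coherent morphism, relative and absolute pseudo-coherence agree. -/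
theorem rel_iff_abs (g : T ⟶ S) [LocallyOfFiniteType g] (hg : ∀ k : ℤ, DerSch.IsNPseudoCoherent g k)
    (K : DCoh.D T) : DerSch.IsPseudoCoherentRel g m K ↔ LocPC m K := by
  conv_lhs => rw [← Category.id_comp g]
  rw [rel_comp_iff (𝟙 T) g hg, rel_closedImmersion_iff (𝟙 T) K,
    locPC_pushD_iff (𝟙 T) (pcImm_of_isIso (𝟙 T)) K]

end Groth.Agent.PerfGen7
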