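import Groth.Agent.KFlatLib.Ring.InvertibleTwist
import Groth.Agent.QFD.Invert
import Mathlib.RingTheory.Spectrum.Prime.FreeLocus

/-!
# Dualizing complexes on a connected spectrum are unique up to shift and invertible twist
-/

set_option linter.style.haveILetI false
set_option backward.isDefEq.respectTransparency false

universe u

open CategoryTheory CategoryTheory.Limits MonoidalCategory

open scoped TensorProduct

attribute [local instance] HasDerivedCategory.standard

namespace Groth.Agent.PerfGen7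

open Groth.Agent.KFlatLib

variable {A : Type u} [CommRing A]

/-- At every prime, exactly one of the modules `Hom(ω, ω'[i])` is non zero, and it is free of rank one. -/
lemma exists_unique_degree_localized [IsNoetherianRing A] {ω ω' : Dual.D A} (hω : Dual.IsDualizing A ω)
    (hω' : Dual.IsDualizing A ω') (q : Ideal A) [q.IsPrime] :
    ∃ i₀ : ℤ, Nonempty (Localization.AtPrime q ⊗[A] (ω ⟶ ω'⟦i₀⟧) ≃ₗ[Localization.AtPrime q]
        Localization.AtPrime q) ∧
      ∀ i, i ≠ i₀ → Subsingleton (Localization.AtPrime q ⊗[A] (ω ⟶ ω'⟦i⟧)) := by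
  let B := Localization.AtPrime q
  haveI : Module.Flat A B := IsLocalization.flat B q.primeCompl
  haveI := hasLTen A
  haveI := hasRHom (A := A)
  haveI := hasLTen B
  haveI := hasRHom (A := B)
  haveI := hasLBase (algebraMap A B)
  haveI : IsNoetherianRing B := IsLocalization.isNoetherianRing q.primeCompl B inferInstance
  have hmax : ∀ n : Ideal B, n.IsMaximal → ∃ I : Ideal A, I.map (algebraMap A B) = n := fun n hn =>
    ⟨q, by rw [IsLocalRing.eq_maximalIdeal hn, Localization.AtPrime.map_eq_maximalIdeal]⟩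
  have h1 := isDualizing_LBase (B := B) hω hmax
  have h2 := isDualizing_LBase (B := B) hω' hmax
  obtain ⟨k, ⟨ek⟩⟩ := exists_iso_shift_of_isDualizing h1 h2
  obtain ⟨a, b, -, _, _⟩ := exists_bounds_of_isDualizing hω
  obtain ⟨a', b', -, _, _⟩ := exists_bounds_of_isDualizing hω'
  have hpc := pc'_of_finite_hd ω b hω.finite_cohomology
  let W := (DTen.LBase (algebraMap A B)).obj ω
  have hc : ∀ i, Nonempty (B ⊗[A] (ω ⟶ ω'⟦i⟧) ≃ₗ[B] (W ⟶ W⟦k + i⟧)) := fun i => by
    obtain ⟨e⟩ := exists_homBaseChangeLEquiv (B := B) (Y := ω') hpc a' i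
    exact ⟨e.symm.trans (Linear.homCongr B (Iso.refl _)
      ((shiftFunctor (Dual.D B) i).mapIso ek ≪≫ ((shiftFunctorAdd' (Dual.D B) k i (k + i) rfl).app W).symm))⟩
  refine ⟨-k, ?_, fun i hi => ?_⟩
  · obtain ⟨e⟩ := hc (-k)
    let c : B →ₗ[B] (W ⟶ W) :=
      { toFun := fun x => x • 𝟙 W
        map_add' := fun x y => add_smul x y _
        map_smul' := fun x y => mul_smul x y _ }
    exact ⟨e.trans ((Linear.homCongr B (Iso.refl _)
      (eqToIso (by rw [add_neg_cancel]) ≪≫ (shiftFunctorZero (Dual.D B) ℤ).app W)).trans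
        (LinearEquiv.ofBijective c h1.toEnd_bijective).symm)⟩
  · obtain ⟨e⟩ := hc i
    haveI := h1.ext_self_subsingleton (k + i) (by omega)
    exact e.injective.subsingleton

/-- On a connected spectrum, two dualizing complexes differ by an invertible module and a shift. -/
theorem exists_twist_shift_of_isDualizing [IsNoetherianRing A] [ConnectedSpace (PrimeSpectrum A)]
    {ω ω' : Dual.D A} (hω : Dual.IsDualizing A ω) (hω' : Dual.IsDualizing A ω') :
    ∃ (P : ModuleCat.{u} A) (_ : Module.Invertible A P) (n : ℤ),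
      ∀ [DRing.HasLTensor A P], Nonempty (ω' ≅ ((DRing.LTensor A P).obj ω)⟦n⟧) := by
  haveI := hasLTen A
  haveI := hasRHom (A := A)
  haveI := hasLTen₃ A
  haveI := isSymMonoidal A
  obtain ⟨a, b, hab, _, _⟩ := exists_bounds_of_isDualizing hω
  obtain ⟨a', b', hab', _, _⟩ := exists_bounds_of_isDualizing hω'
  have hpc := pc'_of_finite_hd ω b hω.finite_cohomology
  have hfinj := finiteInjDim_of_isDualizing hω'
  have hfin : ∀ i : ℤ, Module.Finite A (ω ⟶ ω'⟦i⟧) := fun i => by
    haveI := finite_hd_RHom_of_finite_hd hω.finite_cohomology hω'.finite_cohomology hfinj i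
    obtain ⟨e⟩ := exists_hdRHomShiftLEquiv ω ω' i
    exact Module.Finite.equiv e
  have hrank : ∀ (i : ℤ) (q : PrimeSpectrum A),
      Module.Flat (Localization.AtPrime q.asIdeal) (Localization.AtPrime q.asIdeal ⊗[A] (ω ⟶ ω'⟦i⟧)) := fun i q => by
    obtain ⟨i₀, ⟨e⟩, h0⟩ := exists_unique_degree_localized hω hω' q.asIdeal
    by_cases h : i = i₀
    · subst h; exact Module.Flat.of_linearEquiv e
    · haveI := h0 i h; infer_instance
  have hflat : ∀ i : ℤ, Module.Flat A (ω ⟶ ω'⟦i⟧) := fun i => by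
    refine Module.flat_of_isLocalized_maximal A (ω ⟶ ω'⟦i⟧)
      (fun P _ => Localization.AtPrime P ⊗[A] (ω ⟶ ω'⟦i⟧))
      (fun P _ => TensorProduct.mk A (Localization.AtPrime P) _ 1) fun P hP => ?_
    haveI := hrank i ⟨P, inferInstance⟩
    exact Module.Flat.trans A (Localization.AtPrime P) _
  obtain ⟨q₀⟩ := (inferInstance : Nonempty (PrimeSpectrum A))
  obtain ⟨i₀, ⟨e₀⟩, -⟩ := exists_unique_degree_localized hω hω' q₀.asIdeal
  have hpos : ∀ q : PrimeSpectrum A, Module.rankAtStalk (R := A) (ω ⟶ ω'⟦i₀⟧) q = 1 := fun q => by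
    haveI := hfin i₀
    haveI := Module.finitePresentation_of_finite A (ω ⟶ ω'⟦i₀⟧)
    haveI := hflat i₀
    rw [(Module.isLocallyConstant_rankAtStalk (R := A) (M := (ω ⟶ ω'⟦i₀⟧))).apply_eq_of_isPreconnected
      isPreconnected_univ (Set.mem_univ q) (Set.mem_univ q₀), Module.rankAtStalk_eq_finrank_tensorProduct,
      e₀.finrank_eq, Module.finrank_self]
  have hloc : ∀ q : PrimeSpectrum A,
      Nonempty (Localization.AtPrime q.asIdeal ⊗[A] (ω ⟶ ω'⟦i₀⟧) ≃ₗ[Localization.AtPrime q.asIdeal]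
        Localization.AtPrime q.asIdeal) ∧
      ∀ i, i ≠ i₀ → Subsingleton (Localization.AtPrime q.asIdeal ⊗[A] (ω ⟶ ω'⟦i⟧)) := fun q => by
    obtain ⟨j, ⟨e⟩, h0⟩ := exists_unique_degree_localized hω hω' q.asIdeal
    by_cases h : j = i₀
    · subst h; exact ⟨⟨e⟩, h0⟩
    · haveI := h0 i₀ (Ne.symm h)
      have := hpos q
      rw [Module.rankAtStalk_eq_finrank_tensorProduct, Module.finrank_zero_of_subsingleton] at this
      exact absurd this zero_ne_one
  have hz : ∀ i, i ≠ i₀ → Subsingleton (ω ⟶ ω'⟦i⟧) := fun i hi => by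
    refine ⟨fun x y => Module.eq_of_localization_maximal
      (fun P _ => Localization.AtPrime P ⊗[A] (ω ⟶ ω'⟦i⟧))
      (fun P _ => TensorProduct.mk A (Localization.AtPrime P) _ 1) x y fun P hP => ?_⟩
    haveI := (hloc ⟨P, inferInstance⟩).2 i hi
    exact Subsingleton.elim _ _
  let V := ω'⟦i₀⟧
  let Q := (DTen.RHomR A ω).obj V
  have hQz : ∀ i : ℤ, i ≠ 0 → IsZero ((DerivedCategory.homologyFunctor (ModuleCat.{u} A) i).obj Q) := fun i hi => by
    obtain ⟨e⟩ := exists_hdRHomShiftLEquiv ω V i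
    haveI := hz (i₀ + i) (by omega)
    haveI : Subsingleton (ω ⟶ V⟦i⟧) :=
      (Iso.homCongr (Iso.refl ω) ((shiftFunctorAdd' (Dual.D A) i₀ i (i₀ + i) rfl).app ω')).symm.subsingleton
    exact @ModuleCat.isZero_of_subsingleton _ _ _ e.injective.subsingleton
  haveI : Q.IsLE 0 := (DerivedCategory.isLE_iff _ _).2 fun i hi => hQz i (by omega)
  haveI : Q.IsGE 0 := (DerivedCategory.isGE_iff _ _).2 fun i hi => hQz i (by omega)
  let P : ModuleCat.{u} A := ModuleCat.of A (Dual.HD A Q 0)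
  obtain ⟨eQ⟩ := H9Misc.nonempty_iso_single_homology 0 Q
  obtain ⟨eP⟩ := exists_hdRHomShiftLEquiv ω V 0
  let eP' : (P : Type u) ≃ₗ[A] (ω ⟶ ω'⟦i₀⟧) :=
    eP.trans (Linear.homCongr A (Iso.refl ω) ((shiftFunctorZero (Dual.D A) ℤ).app V))
  haveI := hfin i₀
  haveI : Module.Finite A P := Module.Finite.equiv eP'.symm
  haveI := Module.finitePresentation_of_finite A P
  haveI : Module.Invertible A P := QFD.invertible_of_forall_maximal fun Q _ => by
    obtain ⟨e⟩ := (hloc ⟨Q, inferInstance⟩).1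
    exact ⟨(TensorProduct.AlgebraTensorModule.congr (LinearEquiv.refl (Localization.AtPrime Q)
      (Localization.AtPrime Q)) eP').trans e⟩
  refine ⟨P, inferInstance, -i₀, fun {_} => ?_⟩
  haveI := preservesFiniteLimits_tensorRight P
  obtain ⟨av, bv, habv, _, _⟩ := exists_bounds_of_isDualizing (isDualizing_shift hω' i₀)
  haveI := isIso_evalHom_of_pseudoCoherent ω ω V hpc a inferInstance ⟨av, bv, habv⟩
  obtain ⟨eω⟩ := nonempty_RHom_self_iso hω
  obtain ⟨e0⟩ := nonempty_RHomR_unit_iso (A := A) 0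
  obtain ⟨t1⟩ := nonempty_LTensor_twist P ω
  obtain ⟨t2⟩ := nonempty_twist_LTen P ω
  let eV : V ≅ (DRing.LTensor A P).obj ω :=
    (((DTen.LTen₂ A).mapIso (Iso.prod eQ (Iso.refl ω))).symm ≪≫ asIso (DTen.evalHom ω ω V) ≪≫
      ((DTen.RHom A).mapIso (eω ≪≫ ((shiftFunctorZero (Dual.D A) ℤ).app _).symm).op.symm).app V ≪≫
      e0.app V ≪≫ eqToIso (by rw [neg_zero]) ≪≫ (shiftFunctorZero (Dual.D A) ℤ).app V).symm ≪≫
      (tenFlipIso (Dual.inD A P)).app ω ≪≫ t2.symm ≪≫ t1.symm
  exact ⟨((shiftEquiv (Dual.D A) i₀).unitIso.app ω') ≪≫ (shiftFunctor (Dual.D A) (-i₀)).mapIso eV⟩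

end Groth.Agent.PerfGen7
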