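import Groth.Agent.H9Misc.DRingFibre
import Groth.Agent.KFlatLib.Ring.InvertibleTwist

/-!
# Tor amplitude of a pseudo-coherent object read off at the residue fields
-/

set_option linter.style.haveILetI false
set_option backward.isDefEq.respectTransparency false

universe u

open CategoryTheory CategoryTheory.Limits MonoidalCategory

open scoped TensorProduct

attribute [local instance] HasDerivedCategory.standard

namespace Groth.Agent.PerfGen7

open Groth.Agent.KFlatLib Groth.Agent.H9Misc Groth.Agent.H9Misc.DRingLTensor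

variable {A : Type u} [CommRing A]

/-- Exactness after tensoring by a quotient, as exactness of the base change. -/
lemma exactAt_extC_of_tensC (I : Ideal A) {E : DRing.Cx A} (i : ℤ)
    (h : ((tensC (ModuleCat.of A (A ⧸ I))).obj E).ExactAt i) :
    ((DRingLTensor.extC' (Ideal.Quotient.mk I)).obj E).ExactAt i := by
  rw [HomologicalComplex.exactAt_iff' _ (i - 1) i (i + 1) (by simp) (by simp),
    ShortComplex.moduleCat_exact_iff] at h ⊢
  intro y hy
  obtain ⟨x, hx⟩ := h ((TensorProduct.comm A (A ⧸ I) (E.X i)) y) (by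
    have := congrArg (TensorProduct.comm A (A ⧸ I) (E.X (i + 1))) hy
    rw [map_zero] at this
    refine Eq.trans ?_ this
    exact LinearMap.congr_fun (LinearMap.rTensor_comp_comm ((E.d i (i + 1)).hom)) y)
  refine ⟨(TensorProduct.comm A (A ⧸ I) (E.X (i - 1))).symm x, ?_⟩
  apply (TensorProduct.comm A (A ⧸ I) (E.X i)).injective
  refine Eq.trans ?_ hx
  refine (LinearMap.congr_fun (LinearMap.rTensor_comp_comm ((E.d (i - 1) i).hom)) _).symm.trans ?_
  exact congrArg _ ((TensorProduct.comm A (A ⧸ I) (E.X (i - 1))).apply_symm_apply x)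

/-- The derived tensor with a module, through a K-flat representative. -/
lemma nonempty_LTen_inD [DTen.HasLTen A] (M : ModuleCat.{u} A) [DRing.HasLTensor A M] (X : Dual.D A) :
    Nonempty ((DRing.LTensor A M).obj X ≅ (DTen.LTen₂ A).obj (X, Dual.inD A M)) := by
  let S := (HomologicalComplex.single (ModuleCat.{u} A) (ComplexShape.up ℤ) 0).obj M
  let K := flatRep X
  haveI : IsIso ((DTen.ε A).app (K, S)) := isIso_ε (A := A) (kFlat_ringRes _) S
  obtain ⟨a⟩ := nonempty_ltensor_iso M (K := K) (kFlat_ringRes _)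
  let eS : DerivedCategory.Q.obj S ≅ Dual.inD A M :=
    ((DerivedCategory.singleFunctorIsoCompQ (ModuleCat.{u} A) 0).app M).symm
  exact ⟨(DRing.LTensor A M).mapIso (flatRepIso X).symm ≪≫ a ≪≫
    DerivedCategory.Q.mapIso ((singleIso (curriedTensor (ModuleCat.{u} A)) M).app K).symm ≪≫
    (asIso ((DTen.ε A).app (K, S))).symm ≪≫ (DTen.LTen₂ A).mapIso (Iso.prod (flatRepIso X) eS)⟩

/-- Tor amplitude of a pseudo-coherent object is detected at the maximal ideals. -/
theorem hasTorAmplitudeIn_of_maximal [DTen.HasLTen A] {K : Dual.D A}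
    (hK : DRing.IsPseudoCoherent' A K) (a b : ℤ)
    (h : ∀ (m : Ideal A), m.IsMaximal → ∀ i : ℤ, (i < a ∨ b < i) →
      IsZero ((DerivedCategory.homologyFunctor (ModuleCat.{u} A) i).obj
        ((DTen.LTen₂ A).obj (K, Dual.inD A (A ⧸ m))))) :
    DRing.HasTorAmplitudeIn A a b K := by
  obtain ⟨E, b₀, hz, hE, ⟨e⟩⟩ := hK
  obtain ⟨P, hP₁, hP₂, ⟨eP⟩⟩ := DRingFibre.amp_of_fibres hE hz a b fun m hm i hi => by
    refine exactAt_extC_of_tensC m i ?_
    haveI := DRingTor.hasLTensor (ModuleCat.of A (A ⧸ m))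
    refine (DRingTor.exactAt_tensC_iff (ModuleCat.of A (A ⧸ m)) (DRingFibre.isKF hE hz) e i).1 ?_
    obtain ⟨t⟩ := nonempty_LTen_inD (ModuleCat.of A (A ⧸ m)) K
    exact ModuleCat.subsingleton_of_isZero
      ((h m hm i hi).of_iso ((DerivedCategory.homologyFunctor (ModuleCat.{u} A) i).mapIso t))
  exact ⟨P, hP₁, hP₂, ⟨eP ≪≫ e⟩⟩

end Groth.Agent.PerfGen7
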