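import Groth.Agent.KFlatLib.Ring.DualizingDepth
import Groth.Agent.KFlatLib.Ring.DualizingPoint
import Groth.Agent.LC.Matlis
import Groth.Agent.S0362

/-!
Maps from modules of finite length to a normalized dualizing complex form the Matlis dual.
-/

set_option autoImplicit false
set_option backward.isDefEq.respectTransparency false
universe u

open CategoryTheory CategoryTheory.Limits Pretriangulated IsLocalRing

attribute [local instance] HasDerivedCategory.standard

namespace Groth.Agent.PerfGen7.DualFinLen

open Groth.Agent.KFlatLib (inDMap exists_ses_of_exact exists_factor_inD exists_extend_inD)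

variable {A : Type u} [CommRing A]

lemma inDMap_comp {M N L : Type u} [AddCommGroup M] [Module A M] [AddCommGroup N] [Module A N]
    [AddCommGroup L] [Module A L] (g : N →ₗ[A] L) (f : M →ₗ[A] N) :
    inDMap (g.comp f) = inDMap f ≫ inDMap g := by
  rw [← Functor.map_comp]; rfl

lemma inDMap_add {M N : Type u} [AddCommGroup M] [Module A M] [AddCommGroup N] [Module A N]
    (f g : M →ₗ[A] N) : inDMap (f + g) = inDMap f + inDMap g := by
  rw [← Functor.map_add]; rfl

lemma inDMap_smul {M N : Type u} [AddCommGroup M] [Module A M] [AddCommGroup N] [Module A N]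
    (a : A) (f : M →ₗ[A] N) : inDMap (a • f) = a • inDMap f := by
  rw [← Functor.map_smul]; rfl

lemma inDMap_id (M : Type u) [AddCommGroup M] [Module A M] :
    inDMap (LinearMap.id : M →ₗ[A] M) = 𝟙 _ := (DerivedCategory.singleFunctor (ModuleCat.{u} A) 0).map_id _

lemma subsingleton_of_subsingleton (M : Type u) [AddCommGroup M] [Module A M] [Subsingleton M]
    (Y : Dual.D A) : Subsingleton (Dual.inD A M ⟶ Y) :=
  subsingleton_of_forall_eq 0 fun g => ((DerivedCategory.singleFunctor (ModuleCat.{u} A) 0).map_isZero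
    (ModuleCat.isZero_of_subsingleton _)).eq_of_src g 0

section Sequences

variable {N₁ N₂ N₃ : Type u} [AddCommGroup N₁] [Module A N₁] [AddCommGroup N₂] [Module A N₂]
  [AddCommGroup N₃] [Module A N₃] {f : N₁ →ₗ[A] N₂} {g : N₂ →ₗ[A] N₃}

/-- Restriction along a surjection is injective when the kernel has no maps one degree below. -/
lemma injective_precomp (hf : Function.Injective f) (hg : Function.Surjective g) (h : Function.Exact f g)
    (Y : Dual.D A) (i j : ℤ) (hij : i + 1 = j) (h₁ : Subsingleton (Dual.inD A N₁ ⟶ Y⟦i⟧))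
    (φ : Dual.inD A N₃ ⟶ Y⟦j⟧) (hφ : inDMap g ≫ φ = 0) : φ = 0 := by
  subst hij
  obtain ⟨w, hS⟩ := exists_ses_of_exact hf hg h
  obtain ⟨χ, hχ⟩ := Triangle.yoneda_exact₃ _ hS.singleTriangle_distinguished φ hφ
  let F := shiftFunctor (Dual.D A) (1 : ℤ)
  let e := ((shiftFunctorAdd' (Dual.D A) i 1 (i + 1) rfl).app Y)
  obtain ⟨ψ, hψ⟩ := F.map_surjective (χ ≫ e.hom)
  have h0 : χ = 0 := by
    rw [← cancel_mono e.hom, ← hψ, Subsingleton.elim (α := Dual.inD A N₁ ⟶ Y⟦i⟧) ψ 0, F.map_zero, zero_comp]
  rw [hχ, h0, comp_zero]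

end Sequences

variable [IsLocalRing A]

/-- `Hom(-, ω[i]) = 0` on modules of finite length for `i ≠ 0`. -/
theorem subsingleton_hom_finiteLength {ω : Dual.D A} (hN : Dual.IsNormalized A ω) (M : Type u)
    [AddCommGroup M] [Module A M] (hM : IsFiniteLength A M) :
    ∀ i : ℤ, i ≠ 0 → Subsingleton (Dual.inD A M ⟶ ω⟦i⟧) := by
  induction hM with
  | @of_subsingleton M _ _ _ => exact fun i _ => subsingleton_of_subsingleton M _
  | @of_simple_quotient M _ _ N _ _ ih =>
    intro i hi
    obtain ⟨I, hI, ⟨e⟩⟩ := isSimpleModule_iff_quot_maximal.1 (inferInstance : IsSimpleModule A (M ⧸ N))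
    obtain rfl : I = maximalIdeal A := eq_maximalIdeal hI
    have : Subsingleton (Dual.inD A (M ⧸ N) ⟶ ω⟦i⟧) := by
      have : Subsingleton (Dual.inD A (A ⧸ maximalIdeal A) ⟶ ω⟦i⟧) := hN i hi
      exact ((((DerivedCategory.singleFunctor (ModuleCat.{u} A) 0).mapIso e.toModuleIso).homCongr
        (Iso.refl (ω⟦i⟧)))).subsingleton
    exact Groth.Agent.KFlatLib.subsingleton_hom_inD_mid N.subtype_injective N.mkQ_surjective
      (LinearMap.exact_subtype_mkQ N) _ (ih i hi) this

variable [IsNoetherianRing A] {ω : Dual.D A}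

/-- Maps into `ω`, in degree zero. -/
abbrev G (ω : Dual.D A) (M : Type u) [AddCommGroup M] [Module A M] : Type (u + 1) :=
  Dual.inD A M ⟶ ω⟦(0 : ℤ)⟧

/-- Restriction. -/
noncomputable def res {M N : Type u} [AddCommGroup M] [Module A M] [AddCommGroup N] [Module A N]
    (f : M →ₗ[A] N) : G ω N →ₗ[A] G ω M :=
  Linear.leftComp A _ (inDMap f)

lemma res_apply {M N : Type u} [AddCommGroup M] [Module A M] [AddCommGroup N] [Module A N]
    (f : M →ₗ[A] N) (φ : G ω N) : res f φ = inDMap f ≫ φ := rfl

lemma res_res {M N L : Type u} [AddCommGroup M] [Module A M] [AddCommGroup N] [Module A N]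
    [AddCommGroup L] [Module A L] (f : M →ₗ[A] N) (g : N →ₗ[A] L) (φ : G ω L) :
    res f (res g φ) = res (g.comp f) φ := by
  rw [res_apply, res_apply, res_apply, inDMap_comp, Category.assoc]

variable (hN : Dual.IsNormalized A ω)
include hN

lemma res_injective {M N : Type u} [AddCommGroup M] [Module A M] [AddCommGroup N] [Module A N]
    (hM : IsFiniteLength A M) (q : M →ₗ[A] N) (hq : Function.Surjective q) :
    Function.Injective (res (ω := ω) q) := by
  refine (injective_iff_map_eq_zero _).2 fun φ hφ => ?_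
  have hK : IsFiniteLength A (LinearMap.ker q) := by
    rw [isFiniteLength_iff_isNoetherian_isArtinian] at hM ⊢
    obtain ⟨_, _⟩ := hM
    exact ⟨inferInstance, inferInstance⟩
  exact injective_precomp (LinearMap.ker q).subtype_injective hq (LinearMap.exact_subtype_ker_map q) ω
    (-1) 0 (by norm_num) (subsingleton_hom_finiteLength hN _ hK (-1) (by norm_num)) φ hφ

lemma length_G (hω : Dual.IsDualizing A ω) (M : Type u) [AddCommGroup M] [Module A M]
    (hM : IsFiniteLength A M) : Module.length A (G ω M) = Module.length A M := by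
  induction hM with
  | @of_subsingleton M _ _ _ =>
    have : Subsingleton (G ω M) := subsingleton_of_subsingleton M _
    rw [Module.length_eq_zero, Module.length_eq_zero]
  | @of_simple_quotient M _ _ N _ hNl ih =>
    obtain ⟨I, hI, ⟨e⟩⟩ := isSimpleModule_iff_quot_maximal.1 (inferInstance : IsSimpleModule A (M ⧸ N))
    obtain rfl : I = maximalIdeal A := eq_maximalIdeal hI
    haveI := Groth.Agent.KFlatLib.hasLTen A
    haveI := Groth.Agent.KFlatLib.hasRHom (A := A)
    obtain ⟨n, -, ⟨en⟩⟩ := Groth.Agent.KFlatLib.exists_unique_ext_point (maximalIdeal A) hω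
    have hn : n = 0 := by
      by_contra hne
      have : Subsingleton (Dual.inD A (A ⧸ maximalIdeal A) ⟶ ω⟦n⟧) := hN n hne
      have : Subsingleton (A ⧸ maximalIdeal A) := en.symm.injective.subsingleton
      exact not_subsingleton (IsLocalRing.ResidueField A) this
    subst hn
    have hQ : Module.length A (G ω (M ⧸ N)) = Module.length A (M ⧸ N) := by
      rw [e.length_eq, ← en.length_eq]
      exact (Linear.homCongr A ((DerivedCategory.singleFunctor (ModuleCat.{u} A) 0).mapIso e.toModuleIso)
        (Iso.refl _)).length_eq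
    have hMl : IsFiniteLength A M := .of_simple_quotient hNl
    have hs : Function.Surjective (res (ω := ω) N.subtype) := fun φ => by
      obtain ⟨δ, hδ⟩ := exists_extend_inD N.subtype_injective N.mkQ_surjective
        (LinearMap.exact_subtype_mkQ N) ω 0
      have : IsFiniteLength A (M ⧸ N) := by
        rw [isFiniteLength_iff_isNoetherian_isArtinian] at hMl ⊢
        obtain ⟨_, _⟩ := hMl
        exact ⟨inferInstance, inferInstance⟩
      have := subsingleton_hom_finiteLength hN _ this ((0 : ℤ) + 1) (by norm_num)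
      exact hδ φ (Subsingleton.elim _ _)
    have hex : Function.Exact (res (ω := ω) N.mkQ) (res (ω := ω) N.subtype) := fun φ => by
      refine ⟨fun h => ?_, ?_⟩
      · obtain ⟨ψ, hψ⟩ := exists_factor_inD N.subtype_injective N.mkQ_surjective
          (LinearMap.exact_subtype_mkQ N) _ φ h
        exact ⟨ψ, hψ.symm⟩
      · rintro ⟨ψ, rfl⟩
        rw [res_res, show N.mkQ.comp N.subtype = 0 from LinearMap.ext fun x =>
          (Submodule.Quotient.mk_eq_zero N).2 x.2, res_apply]
        rw [show inDMap (0 : N →ₗ[A] M ⧸ N) = 0 from Functor.map_zero _ _ _, zero_comp]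
    rw [Module.length_eq_add_of_exact _ _ (res_injective hN hMl _ N.mkQ_surjective) hs hex, hQ, ih,
      Module.length_eq_add_of_exact N.subtype N.mkQ N.subtype_injective N.mkQ_surjective
        (LinearMap.exact_subtype_mkQ N), add_comm]

omit hN

variable (A) in
/-- `A/𝔪^(k+1)`. -/
abbrev B (k : ℕ) : Type u := A ⧸ maximalIdeal A ^ (k + 1)

/-- Evaluation at an element. -/
def ev {k : ℕ} {M : Type u} [AddCommGroup M] [Module A M]
    (h : ∀ a ∈ maximalIdeal A ^ (k + 1), ∀ x : M, a • x = 0) : M →ₗ[A] (B A k →ₗ[A] M) where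
  toFun x := Submodule.liftQ _ (LinearMap.toSpanSingleton A M x) fun a ha => h a ha x
  map_add' x y := LinearMap.ext fun z => by
    obtain ⟨r, rfl⟩ := Submodule.Quotient.mk_surjective _ z
    exact smul_add r x y
  map_smul' a x := LinearMap.ext fun z => by
    obtain ⟨r, rfl⟩ := Submodule.Quotient.mk_surjective _ z
    exact smul_comm r a x

lemma ev_one {k : ℕ} {M : Type u} [AddCommGroup M] [Module A M]
    (h : ∀ a ∈ maximalIdeal A ^ (k + 1), ∀ x : M, a • x = 0) (x : M) :
    ev h x (Submodule.Quotient.mk 1) = x := one_smul A x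

lemma linearMap_ext_one {k : ℕ} {M : Type u} [AddCommGroup M] [Module A M] {f g : B A k →ₗ[A] M}
    (h : f (Submodule.Quotient.mk 1) = g (Submodule.Quotient.mk 1)) : f = g := LinearMap.ext fun z => by
  obtain ⟨r, rfl⟩ := Submodule.Quotient.mk_surjective _ z
  have : (Submodule.Quotient.mk r : B A k) = r • Submodule.Quotient.mk 1 :=
    (congrArg _ (mul_one r).symm).trans (Submodule.Quotient.mk_smul _ r (1 : A))
  rw [this, map_smul, map_smul, h]

lemma killed_B (k : ℕ) : ∀ a ∈ maximalIdeal A ^ (k + 1), ∀ x : B A k, a • x = 0 := fun a ha x => by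
  obtain ⟨r, rfl⟩ := Submodule.Quotient.mk_surjective _ x
  exact (Submodule.Quotient.mk_eq_zero _).2 (Ideal.mul_mem_right r _ ha)

include hN

/-- Classes are detected by evaluation at elements. -/
lemma eq_zero_of_ev {k : ℕ} {M : Type u} [AddCommGroup M] [Module A M] [Module.Finite A M]
    (h : ∀ a ∈ maximalIdeal A ^ (k + 1), ∀ x : M, a • x = 0) (φ : G ω M)
    (hφ : ∀ x : M, res (ev h x) φ = 0) : φ = 0 := by
  classical
  obtain ⟨n, s, hs⟩ := Module.Finite.exists_fin (R := A) (M := M)
  let q : (Fin n → B A k) →ₗ[A] M := ∑ i, (ev h (s i)).comp (LinearMap.proj i)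
  have hq : Function.Surjective q := by
    rw [← LinearMap.range_eq_top, eq_top_iff, ← hs, Submodule.span_le]
    rintro _ ⟨i, rfl⟩
    refine ⟨Pi.single i (Submodule.Quotient.mk 1), ?_⟩
    simp only [q, LinearMap.sum_apply, LinearMap.comp_apply, LinearMap.proj_apply]
    rw [Finset.sum_eq_single i]
    · rw [Pi.single_eq_same, ev_one]
    · intro j _ hj
      rw [Pi.single_eq_of_ne hj, map_zero]
    · simp
  have hF : IsFiniteLength A (Fin n → B A k) := by
    have := Groth.Agent.S0362.isFiniteLength_quot A (k + 1)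
    rw [isFiniteLength_iff_isNoetherian_isArtinian] at this ⊢
    obtain ⟨_, _⟩ := this
    exact ⟨inferInstance, inferInstance⟩
  refine res_injective hN hF q hq ?_
  rw [map_zero]
  have hsum : ∀ (t : Finset (Fin n)),
      res (∑ i ∈ t, (ev h (s i)).comp (LinearMap.proj i)) φ = 0 := by
    intro t
    induction t using Finset.induction with
    | empty => rw [Finset.sum_empty, res_apply,
        show inDMap (0 : (Fin n → B A k) →ₗ[A] M) = 0 from Functor.map_zero _ _ _, zero_comp]
    | insert a t ha ih =>
      rw [Finset.sum_insert ha, res_apply, inDMap_add, Preadditive.add_comp, ← res_apply,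
        ← res_apply, ih, add_zero, ← res_res, hφ, map_zero]
  exact hsum Finset.univ

omit hN

lemma exists_pow (M : Type u) [AddCommGroup M] [Module A M] (hM : IsFiniteLength A M) :
    ∃ n, ∀ a ∈ maximalIdeal A ^ (n + 1), ∀ x : M, a • x = 0 :=
  Groth.Agent.S0362.exists_pow ⟨ModuleCat.of A M, hM⟩

/-- A nonzero element killed by a power of the maximal ideal has a nonzero multiple in the socle. -/
lemma exists_socle {V : Type*} [AddCommGroup V] [Module A V] (v : V) (hv : v ≠ 0) :
    ∀ t : ℕ, (∀ a ∈ maximalIdeal A ^ t, a • v = 0) →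
      ∃ r : A, r • v ≠ 0 ∧ ∀ a ∈ maximalIdeal A, a • (r • v) = 0 := by
  intro t
  induction t with
  | zero => exact fun h => absurd (by simpa using h 1 (by simp)) hv
  | succ t ih =>
    intro h
    by_cases h' : ∀ a ∈ maximalIdeal A ^ t, a • v = 0
    · exact ih h'
    · push Not at h'
      obtain ⟨r, hr, hrv⟩ := h'
      exact ⟨r, hrv, fun a ha => by
        rw [smul_smul]; exact h _ (by rw [pow_succ']; exact Ideal.mul_mem_mul ha hr)⟩

/-- Maps into a normalized dualizing complex are the Matlis dual. -/
theorem exists_matlis (hω : Dual.IsDualizing A ω) (hN : Dual.IsNormalized A ω) (E : Type u)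
    [AddCommGroup E] [Module A E] (f : ResidueField A →ₗ[A] E) (hf : InjHull.IsInjectiveHull f)
    (M : Type u) [AddCommGroup M] [Module A M] (hM : IsFiniteLength A M) :
    Nonempty ((Dual.inD A M ⟶ ω) ≃ₗ[A] (M →ₗ[A] E)) := by
  classical
  have := hf.isInjective
  obtain ⟨k, hk⟩ := exists_pow M hM
  have hMfin : Module.Finite A M := by
    obtain ⟨h1, _⟩ := isFiniteLength_iff_isNoetherian_isArtinian.1 hM
    infer_instance
  haveI := Groth.Agent.KFlatLib.hasLTen A
  haveI := Groth.Agent.KFlatLib.hasRHom (A := A)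
  obtain ⟨n, -, ⟨en⟩⟩ := Groth.Agent.KFlatLib.exists_unique_ext_point (maximalIdeal A) hω
  have hn : n = 0 := by
    by_contra hne
    have : Subsingleton (Dual.inD A (A ⧸ maximalIdeal A) ⟶ ω⟦n⟧) := hN n hne
    have : Subsingleton (A ⧸ maximalIdeal A) := en.symm.injective.subsingleton
    exact not_subsingleton (IsLocalRing.ResidueField A) this
  subst hn
  have hle : maximalIdeal A ^ (k + 1) ≤ maximalIdeal A := Ideal.pow_le_self (Nat.succ_ne_zero k)
  let p : B A k →ₗ[A] (A ⧸ maximalIdeal A) := Submodule.factor hle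
  have hp : Function.Surjective p := Submodule.factor_surjective hle
  have hBfl : IsFiniteLength A (B A k) := Groth.Agent.S0362.isFiniteLength_quot A (k + 1)
  let ρ : G ω (A ⧸ maximalIdeal A) →ₗ[A] G ω (B A k) := res p
  have hρ : Function.Injective ρ := res_injective hN hBfl p hp
  let j₀ : LinearMap.range ρ →ₗ[A] E :=
    f.comp (en.toLinearMap.comp (LinearEquiv.ofInjective ρ hρ).symm.toLinearMap)
  obtain ⟨j, hj⟩ := (Module.Baer.of_injective hf.isInjective).extension_property
    (LinearMap.range ρ).subtype Subtype.val_injective j₀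
  have hj0 : Function.Injective j₀ := by
    exact hf.injective.comp (en.injective.comp (LinearEquiv.ofInjective ρ hρ).symm.injective)
  have hkill : ∀ (φ : G ω (B A k)), ∀ a ∈ maximalIdeal A ^ (k + 1), a • φ = 0 := fun φ a ha => by
    have h0 : a • (LinearMap.id : B A k →ₗ[A] B A k) = 0 := LinearMap.ext fun x => killed_B k a ha x
    rw [← Category.id_comp φ, ← inDMap_id, ← Linear.smul_comp, ← inDMap_smul, h0,
      show inDMap (0 : B A k →ₗ[A] B A k) = 0 from Functor.map_zero _ _ _, zero_comp]
  have hjinj : Function.Injective j := by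
    refine (injective_iff_map_eq_zero j).2 fun φ hφ => ?_
    by_contra hne
    obtain ⟨r, hr, hsoc⟩ := exists_socle φ hne (k + 1) (hkill φ)
    -- the socle comes from the residue field
    obtain ⟨ψ, hψ⟩ : r • φ ∈ LinearMap.range ρ := by
      let K := LinearMap.ker p
      have hK : Module.Finite A K := inferInstance
      have hKk : ∀ a ∈ maximalIdeal A ^ (k + 1), ∀ x : K, a • x = 0 := fun a ha x =>
        Subtype.ext (killed_B k a ha x)
      have h0 : res K.subtype (r • φ) = 0 := eq_zero_of_ev hN hKk _ fun x => by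
        obtain ⟨s, hs⟩ := Submodule.Quotient.mk_surjective _ (x : B A k)
        have hsm : s ∈ maximalIdeal A := by
          have := LinearMap.mem_ker.1 x.2
          rw [← hs] at this
          exact (Submodule.Quotient.mk_eq_zero _).1 this
        have hev : K.subtype.comp (ev hKk x) = s • LinearMap.id := linearMap_ext_one (by
          rw [LinearMap.comp_apply, ev_one, LinearMap.smul_apply, LinearMap.id_apply,
            Submodule.subtype_apply, ← hs]
          exact (congrArg _ (mul_one s).symm).trans (Submodule.Quotient.mk_smul _ s (1 : A)))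
        rw [res_res, hev, res_apply, inDMap_smul, inDMap_id, Linear.smul_comp, Category.id_comp,
          hsoc s hsm]
      obtain ⟨ψ, hψ⟩ := exists_factor_inD K.subtype_injective hp (LinearMap.exact_subtype_ker_map p) _
        (r • φ) h0
      exact ⟨ψ, hψ.symm⟩
    have h1 : j₀ ⟨ρ ψ, ψ, rfl⟩ = 0 := by
      rw [← hj]
      show j (ρ ψ) = 0
      rw [hψ, map_smul, hφ, smul_zero]
    refine hr ?_
    rw [← hψ]
    exact congrArg Subtype.val (hj0 (h1.trans (map_zero j₀).symm))
  -- the comparison map
  let Φ : G ω M →ₗ[A] (M →ₗ[A] E) :=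
    { toFun := fun φ =>
        { toFun := fun x => j (res (ev hk x) φ)
          map_add' := fun x y => by
            rw [map_add, res_apply, inDMap_add, Preadditive.add_comp, map_add]; rfl
          map_smul' := fun a x => by
            rw [map_smul, res_apply, inDMap_smul, Linear.smul_comp, map_smul]; rfl }
      map_add' := fun φ ψ => LinearMap.ext fun x => by
        show j (res (ev hk x) (φ + ψ)) = _
        rw [map_add, map_add]; rfl
      map_smul' := fun a φ => LinearMap.ext fun x => by
        show j (res (ev hk x) (a • φ)) = _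
        rw [map_smul, map_smul]; rfl }
  have hΦ : Function.Injective Φ := by
    refine (injective_iff_map_eq_zero Φ).2 fun φ hφ => eq_zero_of_ev hN hk φ fun x => ?_
    exact hjinj ((LinearMap.congr_fun hφ x).trans (map_zero j).symm)
  have hlen : Module.length A (G ω M) = Module.length A (M →ₗ[A] E) := by
    rw [length_G hN hω M hM, Groth.Agent.LC.length_dual hf M hM]
  have hfin : Module.length A (G ω M) ≠ ⊤ := by
    rw [length_G hN hω M hM, Module.length_ne_top_iff]
    exact hM
  have hsurj : Function.Surjective Φ := by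
    have h1 := Module.length_eq_add_of_exact Φ (LinearMap.range Φ).mkQ hΦ
      (Submodule.mkQ_surjective _) (LinearMap.exact_map_mkQ_range Φ)
    have h2 : Module.length A ((M →ₗ[A] E) ⧸ LinearMap.range Φ) = 0 := by
      rw [← hlen] at h1
      obtain ⟨a, ha⟩ := ENat.ne_top_iff_exists.1 hfin
      rw [← ha] at h1
      have h3 : (a : ℕ∞) + 0 = (a : ℕ∞) + Module.length A ((M →ₗ[A] E) ⧸ LinearMap.range Φ) :=
        (add_zero _).trans h1
      exact (WithTop.add_left_cancel (ENat.natCast_ne_top a) h3).symm
    rw [Module.length_eq_zero_iff, Submodule.Quotient.subsingleton_iff] at h2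
    exact LinearMap.range_eq_top.1 h2
  exact ⟨(Linear.homCongr A (Iso.refl _) ((shiftFunctorZero (Dual.D A) ℤ).app ω).symm).trans
    (LinearEquiv.ofBijective Φ ⟨hΦ, hsurj⟩)⟩

end Groth.Agent.PerfGen7.DualFinLen
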