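import Groth.Agent.PerfGen7.LocalizeDual
import Groth.Agent.PerfGen7.DualFinLen
import Mathlib.RingTheory.KrullDimension.Regular
import Mathlib.RingTheory.Regular.RegularSequence

/-!
The top Ext into a normalized dualizing complex has depth at least `min(2, dim)`.
-/

set_option autoImplicit false
set_option backward.isDefEq.respectTransparency false
universe u

open CategoryTheory CategoryTheory.Limits IsLocalRing RingTheory.Sequence
open scoped Pointwise

attribute [local instance] HasDerivedCategory.standard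

namespace Groth.Agent.PerfGen7.DualizingS2

open Groth.Agent.KFlatLib (inDMap exists_factor_inD exists_extend_inD)

variable {A : Type u} [CommRing A] [IsLocalRing A] [IsNoetherianRing A] {ω : Dual.D A}

lemma inDMap_smul_id (x : A) (M : Type u) [AddCommGroup M] [Module A M] {Y : Dual.D A}
    (φ : Dual.inD A M ⟶ Y) : inDMap (x • (LinearMap.id : M →ₗ[A] M)) ≫ φ = x • φ := by
  rw [DualFinLen.inDMap_smul, DualFinLen.inDMap_id, Linear.smul_comp, Category.id_comp]

lemma dim_cancel {a : WithBot ℕ∞} {k : ℕ} (h : a + 1 ≤ ((k + 1 : ℕ) : WithBot ℕ∞)) :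
    a ≤ (k : WithBot ℕ∞) := by
  induction a using WithBot.recBotCoe with
  | bot => exact bot_le
  | coe b =>
    have h' : b + 1 ≤ ((k + 1 : ℕ) : ℕ∞) := by exact_mod_cast h
    have h2 : b ≤ (k : ℕ∞) := by
      push_cast at h'
      exact (ENat.add_le_add_iff_right ENat.one_ne_top).1 h'
    exact_mod_cast h2

variable (hω : Dual.IsDualizing A ω) (hN : Dual.IsNormalized A ω)
include hω hN

/-- Ext vanishes beyond the dimension of the support. -/
lemma subsingleton_hom_of_dim_le (M : Type u) [AddCommGroup M] [Module A M] [Module.Finite A M] {k : ℕ}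
    (hM : Module.supportDim A M ≤ k) (j : ℕ) (hj : k < j) :
    Subsingleton (Dual.inD A M ⟶ ω⟦-(j : ℤ)⟧) := by
  rcases subsingleton_or_nontrivial M with h | h
  · exact DualFinLen.subsingleton_of_subsingleton M _
  · obtain ⟨d, hd⟩ := LocalizeDual.exists_supportDim_eq (B := A) M
    have hdk : d ≤ k := by rw [hd] at hM; exact_mod_cast hM
    refine not_nontrivial_iff_subsingleton.1 fun hnt => ?_
    have := ((KFlatLib.ext_amplitude_and_support hω hN M d hd _).1 hnt).1
    omega

/-- An element cutting down the dimension is regular on the top Ext. -/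
theorem isSMulRegular_of_dim (M : Type u) [AddCommGroup M] [Module A M] [Module.Finite A M] {k : ℕ}
    (hM : Module.supportDim A M ≤ (k + 1 : ℕ)) (x : A)
    (hx : Module.supportDim A (QuotSMulTop x M) ≤ k) :
    IsSMulRegular (Dual.inD A M ⟶ ω⟦-((k + 1 : ℕ) : ℤ)⟧) x := by
  let R : Submodule A M := x • (⊤ : Submodule A M)
  let p : M →ₗ[A] R := (x • (LinearMap.id : M →ₗ[A] M)).codRestrict R fun m =>
    Submodule.smul_mem_pointwise_smul m x ⊤ Submodule.mem_top
  have hp : Function.Surjective p := by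
    rintro ⟨y, hy⟩
    obtain ⟨m, -, rfl⟩ := (Submodule.mem_smul_pointwise_iff_exists _ _ _).1 hy
    exact ⟨m, rfl⟩
  rw [isSMulRegular_iff_right_eq_zero_of_smul]
  intro φ hφ
  have h1 : inDMap R.subtype ≫ φ = 0 := by
    refine DualFinLen.injective_precomp (LinearMap.ker p).subtype_injective hp (LinearMap.exact_subtype_ker_map p)
      ω (-((k + 2 : ℕ) : ℤ)) _ (by push_cast; omega)
      (subsingleton_hom_of_dim_le hω hN _
        ((Module.supportDim_le_of_injective _ (LinearMap.ker p).subtype_injective).trans hM) (k + 2) (by omega))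
      _ ?_
    rw [← Category.assoc, ← DualFinLen.inDMap_comp,
      show R.subtype.comp p = x • (LinearMap.id : M →ₗ[A] M) from rfl, inDMap_smul_id, hφ]
  obtain ⟨ψ, hψ⟩ := exists_factor_inD R.subtype_injective R.mkQ_surjective (LinearMap.exact_subtype_mkQ R) _ φ h1
  haveI := subsingleton_hom_of_dim_le hω hN (QuotSMulTop x M) hx (k + 1) (Nat.lt_succ_self k)
  rw [hψ, Subsingleton.elim (α := Dual.inD A (QuotSMulTop x M) ⟶ ω⟦-((k + 1 : ℕ) : ℤ)⟧) ψ 0, comp_zero]

/-- For `x` regular on `M`, regularity passes from `Ext` of `M/xM` to the quotient of `Ext` of `M` by `x`. -/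
theorem isSMulRegular_quot (M : Type u) [AddCommGroup M] [Module A M] [Module.Finite A M] {k : ℕ}
    (x : A) (hxM : IsSMulRegular M x) (y : A)
    (hy : IsSMulRegular (Dual.inD A (QuotSMulTop x M) ⟶ ω⟦-(k : ℤ)⟧) y) :
    IsSMulRegular (QuotSMulTop x (Dual.inD A M ⟶ ω⟦-((k + 1 : ℕ) : ℤ)⟧)) y := by
  let R : Submodule A M := x • (⊤ : Submodule A M)
  have hex : Function.Exact (x • (LinearMap.id : M →ₗ[A] M)) R.mkQ := by
    intro m
    rw [Submodule.mkQ_apply, Submodule.Quotient.mk_eq_zero, Submodule.mem_smul_pointwise_iff_exists]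
    exact ⟨fun ⟨n, _, hn⟩ => ⟨n, hn⟩, fun ⟨n, hn⟩ => ⟨n, Submodule.mem_top, hn⟩⟩
  obtain ⟨δ, hδ⟩ := exists_extend_inD (f := x • (LinearMap.id : M →ₗ[A] M)) (g := R.mkQ) hxM
    R.mkQ_surjective hex ω (-((k + 1 : ℕ) : ℤ))
  let c : ω⟦(-((k + 1 : ℕ) : ℤ)) + 1⟧ ≅ ω⟦-(k : ℤ)⟧ := eqToIso (by rw [show (-((k + 1 : ℕ) : ℤ)) + 1 = -(k : ℤ) by push_cast; omega])
  let δ' : (Dual.inD A M ⟶ ω⟦-((k + 1 : ℕ) : ℤ)⟧) →ₗ[A] (Dual.inD A (QuotSMulTop x M) ⟶ ω⟦-(k : ℤ)⟧) :=
    (Linear.homCongr A (Iso.refl _) c).toLinearMap ∘ₗ δ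
  have h0 : ∀ φ, δ' φ = 0 → φ ∈ x • (⊤ : Submodule A (Dual.inD A M ⟶ ω⟦-((k + 1 : ℕ) : ℤ)⟧)) := by
    intro φ hφ
    have : δ φ = 0 := (Linear.homCongr A (Iso.refl _) c).injective (hφ.trans (map_zero _).symm)
    obtain ⟨ψ, hψ⟩ := hδ φ this
    rw [inDMap_smul_id] at hψ
    rw [← hψ]
    exact Submodule.smul_mem_pointwise_smul ψ x ⊤ Submodule.mem_top
  have hkill : ∀ φ : Dual.inD A (QuotSMulTop x M) ⟶ ω⟦-(k : ℤ)⟧, x • φ = 0 := by
    intro φ
    have h00 : x • (LinearMap.id : QuotSMulTop x M →ₗ[A] QuotSMulTop x M) = 0 := LinearMap.ext fun z => by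
      obtain ⟨m, rfl⟩ := Submodule.Quotient.mk_surjective _ z
      exact (Submodule.Quotient.mk_eq_zero _).2 (Submodule.smul_mem_pointwise_smul m x ⊤ Submodule.mem_top)
    rw [← inDMap_smul_id, h00, show inDMap (0 : QuotSMulTop x M →ₗ[A] QuotSMulTop x M) = 0 from Functor.map_zero _ _ _,
      zero_comp]
  rw [isSMulRegular_iff_right_eq_zero_of_smul]
  intro z hz
  obtain ⟨φ, rfl⟩ := Submodule.Quotient.mk_surjective _ z
  rw [← Submodule.Quotient.mk_smul, Submodule.Quotient.mk_eq_zero, Submodule.mem_smul_pointwise_iff_exists] at hz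
  obtain ⟨ψ, -, hψ⟩ := hz
  rw [Submodule.Quotient.mk_eq_zero]
  refine h0 φ (hy ?_)
  show y • δ' φ = y • (0 : Dual.inD A (QuotSMulTop x M) ⟶ ω⟦-(k : ℤ)⟧)
  rw [← map_smul, ← hψ, map_smul, hkill, smul_zero]

omit hω hN in
/-- An element of the maximal ideal cutting down the dimension. -/
theorem exists_drop (M : Type u) [AddCommGroup M] [Module A M] [Module.Finite A M] {k : ℕ}
    (hM : Module.supportDim A M ≤ (k + 1 : ℕ)) :
    ∃ x ∈ maximalIdeal A, Module.supportDim A (QuotSMulTop x M) ≤ k := by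
  by_cases hle : Module.supportDim A M ≤ k
  · exact ⟨0, zero_mem _,
      (Module.supportDim_le_of_surjective _ (Submodule.mkQ_surjective _)).trans hle⟩
  have hfin := (Module.annihilator A M).finite_minimalPrimes_of_isNoetherianRing
  have hnm : ∀ p ∈ (Module.annihilator A M).minimalPrimes, ¬ maximalIdeal A ≤ p := by
    intro p hp hmp
    refine hle ((Order.krullDim_nonpos_iff_forall_isMin.2 fun P Q hQP => ?_).trans (by exact_mod_cast Nat.zero_le k))
    have key : ∀ S : Module.support A M, S.1.asIdeal = maximalIdeal A := fun S => by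
      have hS : Module.annihilator A M ≤ S.1.asIdeal :=
        (Set.ext_iff.1 (Module.support_eq_zeroLocus (R := A) (M := M)) S.1).1 S.2
      exact le_antisymm (le_maximalIdeal S.1.isPrime.ne_top)
        (hmp.trans (hp.2 ⟨S.1.isPrime, hS⟩ ((le_maximalIdeal S.1.isPrime.ne_top).trans hmp)))
    exact le_of_eq (Subtype.ext (PrimeSpectrum.ext ((key P).trans (key Q).symm)))
  have hun : ¬ ((maximalIdeal A : Set A) ⊆ ⋃ p ∈ (hfin.toFinset : Set (Ideal A)), p) := by
    rw [Ideal.subset_union_prime ⊥ ⊥ fun p hp _ _ => (hfin.mem_toFinset.1 hp).1.1]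
    rintro ⟨p, hp, hle'⟩
    exact hnm p (hfin.mem_toFinset.1 hp) hle'
  obtain ⟨x, hx, hx'⟩ := Set.not_subset.1 hun
  refine ⟨x, hx, dim_cancel ?_⟩
  rw [Module.supportDim_quotSMulTop_succ_eq_of_notMem_minimalPrimes_of_mem_maximalIdeal
    (fun p hp hxp => hx' (Set.mem_biUnion (hfin.mem_toFinset.2 hp) hxp)) hx]
  exact hM

/-- `min(2, dim)` regular elements on the top Ext of the ring. -/
theorem exists_regular_seq {h : ℕ} (hh : ringKrullDim A = h) :
    ∃ rs : List A, IsWeaklyRegular (Dual.inD A A ⟶ ω⟦-(h : ℤ)⟧) rs ∧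
      (∀ r ∈ rs, r ∈ maximalIdeal A) ∧ rs.length = min 2 h := by
  have hA : Module.supportDim A A ≤ (h : ℕ) := by rw [Module.supportDim_self_eq_ringKrullDim, hh]
  match h with
  | 0 => exact ⟨[], IsWeaklyRegular.nil A _, by simp, by simp⟩
  | 1 =>
    obtain ⟨x, hx, hdim⟩ := exists_drop A hA
    exact ⟨[x], (isWeaklyRegular_singleton_iff _ _).2 (isSMulRegular_of_dim hω hN A hA x hdim),
      fun r hr => (List.mem_singleton.1 hr).symm ▸ hx, by simp⟩
  | k + 2 =>
    obtain ⟨x, hx, hdim⟩ := exists_drop A hA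
    have hreg := isSMulRegular_of_dim hω hN A hA x hdim
    obtain ⟨N, hNs⟩ := monotone_stabilizes_iff_noetherian.2 (inferInstanceAs (IsNoetherian A A))
      { toFun := fun n => LinearMap.ker (x ^ n • (LinearMap.id : A →ₗ[A] A))
        monotone' := fun n m hnm a ha => by
          simp only [LinearMap.mem_ker, LinearMap.smul_apply, LinearMap.id_apply, smul_eq_mul] at ha ⊢
          obtain ⟨c, rfl⟩ := Nat.exists_eq_add_of_le hnm
          rw [pow_add, mul_comm (x ^ n), mul_assoc, ha, mul_zero] }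
    let J : Submodule A A := LinearMap.ker (x ^ N • (LinearMap.id : A →ₗ[A] A))
    let M' := A ⧸ J
    have hM' : Module.supportDim A M' ≤ (k + 2 : ℕ) :=
      (Module.supportDim_le_of_surjective _ J.mkQ_surjective).trans hA
    have hxM' : IsSMulRegular M' x := by
      rw [isSMulRegular_iff_right_eq_zero_of_smul]
      intro z hz
      obtain ⟨a, rfl⟩ := Submodule.Quotient.mk_surjective _ z
      rw [← Submodule.Quotient.mk_smul, Submodule.Quotient.mk_eq_zero] at hz
      rw [Submodule.Quotient.mk_eq_zero]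
      have h2 : a ∈ LinearMap.ker (x ^ (N + 1) • (LinearMap.id : A →ₗ[A] A)) := by
        simp only [J, LinearMap.mem_ker, LinearMap.smul_apply, LinearMap.id_apply, smul_eq_mul] at hz ⊢
        rw [pow_succ, mul_assoc]
        exact hz
      exact (SetLike.ext_iff.1 (hNs (N + 1) (Nat.le_succ N)) a).2 h2
    have hJ : Module.supportDim A J ≤ (k + 1 : ℕ) := by
      have hsub : ∀ P : Module.support A J, P.1 ∈ Module.support A (QuotSMulTop x A) := fun P => ?_
      exact le_trans (Order.krullDim_le_of_strictMono (fun P => (⟨P.1, hsub P⟩ : Module.support A (QuotSMulTop x A))) fun P Q hPQ => hPQ) hdim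
      rw [Module.support_quotSMulTop]
      refine ⟨Module.support_subset_of_injective J.subtype J.subtype_injective P.2, ?_⟩
      have hP := (Set.ext_iff.1 (Module.support_eq_zeroLocus (R := A) (M := J)) P.1).1 P.2
      simp only [PrimeSpectrum.mem_zeroLocus, Set.singleton_subset_iff, SetLike.mem_coe]
      refine P.1.isPrime.mem_of_pow_mem N (hP (Module.mem_annihilator.2 fun a => Subtype.ext ?_))
      exact a.2
    haveI := subsingleton_hom_of_dim_le hω hN J hJ (k + 2) (by omega)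
    let r : (Dual.inD A M' ⟶ ω⟦-((k + 2 : ℕ) : ℤ)⟧) →ₗ[A] (Dual.inD A A ⟶ ω⟦-((k + 2 : ℕ) : ℤ)⟧) :=
      Linear.leftComp A _ (inDMap J.mkQ)
    have hr : Function.Bijective r := by
      refine ⟨(injective_iff_map_eq_zero r).2 fun φ hφ => ?_, fun φ => ?_⟩
      · exact DualFinLen.injective_precomp J.subtype_injective J.mkQ_surjective (LinearMap.exact_subtype_mkQ J) ω
          (-((k + 3 : ℕ) : ℤ)) _ (by push_cast; omega)
          (subsingleton_hom_of_dim_le hω hN J hJ (k + 3) (by omega)) φ hφ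
      · obtain ⟨ψ, hψ⟩ := exists_factor_inD J.subtype_injective J.mkQ_surjective (LinearMap.exact_subtype_mkQ J)
          _ φ (Subsingleton.elim (α := Dual.inD A J ⟶ ω⟦-((k + 2 : ℕ) : ℤ)⟧) _ _)
        exact ⟨ψ, hψ.symm⟩
    let e := LinearEquiv.ofBijective r hr
    have hQ : Module.supportDim A (QuotSMulTop x M') ≤ (k + 1 : ℕ) :=
      dim_cancel ((Module.supportDim_quotSMulTop_succ_eq_supportDim hxM' hx).trans_le hM')
    obtain ⟨y, hy, hdimy⟩ := exists_drop (QuotSMulTop x M') hQ
    refine ⟨[x, y], ?_, fun r hr => (List.mem_cons.1 hr).elim (fun h => h.symm ▸ hx) (fun h => (List.mem_singleton.1 h).symm ▸ hy), by simp⟩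
    rw [isWeaklyRegular_cons_iff, isWeaklyRegular_singleton_iff]
    refine ⟨hreg, ?_⟩
    exact ((LinearEquiv.isSMulRegular_congr (QuotSMulTop.congr x e) y).1
      (isSMulRegular_quot hω hN M' x hxM' y (isSMulRegular_of_dim hω hN (QuotSMulTop x M') hQ y hdimy)))

end Groth.Agent.PerfGen7.DualizingS2
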