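import Groth.Agent.PerfGen7.RelModule
import Groth.Agent.RelFP.Scheme
import Groth.Agent.H9Misc.DRingPCModule
import Groth.Agent.KZ.ClosedDev
import Groth.Agent.QCoh.Pullback

/-!
# Relative `(-1)`-pseudo-coherence of a module
-/

set_option linter.style.haveILetI false
set_option backward.isDefEq.respectTransparency false
set_option backward.isDefEq.respectTransparency.types false

universe u

open CategoryTheory CategoryTheory.Limits AlgebraicGeometry Opposite

attribute [local instance] HasDerivedCategory.standard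

namespace Groth.Agent.PerfGen7

open Groth.Agent.KFlatLib Groth.Agent.H9Misc

variable {X Y : Scheme.{u}} {f : X ⟶ Y} {m : ℤ}

/-- The cohomology above the degree of relative pseudo-coherence is quasi-coherent. -/
theorem isQCoh_HD_of_rel {K : DCoh.D X} (h : DerSch.IsPseudoCoherentRel f m K) {j : ℤ} (hj : m < j) :
    Coh.IsQCoh (DCoh.HD K j) := by
  choose U R i hxU hU hi hpc using fun x : X => exists_chart h x
  refine QCoh.isQCoh_of_isOpenCover U
    (top_le_iff.1 fun x _ => TopologicalSpace.Opens.mem_iSup.2 ⟨x, hxU x⟩) fun x => ?_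
  haveI := hi x
  let G := DerivedCategory.Q.objPreimage K
  have hq : Coh.IsQCoh ((Scheme.Modules.pushforward (i x)).obj
      ((Scheme.Modules.restrictFunctor (U x).ι).obj (DCoh.HD K j))) :=
    isQCoh_of_iso (pushRestrictHDIso (i x) G (repIso K) j)
      (isQCoh_HD_of_pseudoCoherent (hpc x G ⟨repIso K⟩) j (by omega))
  haveI := Groth.Agent.KZ.ClosedDev.isIso_counit (i x) hq
  exact isQCoh_of_iso (asIso ((Scheme.Modules.pullbackPushforwardAdjunction (i x)).counit.app
      ((Scheme.Modules.restrictFunctor (U x).ι).obj (DCoh.HD K j)))) (QCoh.isQCoh_pullback (i x) hq)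

variable (M : X.Modules)

/-- A module on an affine open, as the module of its sections. -/
theorem nonempty_tilde_chart {U : X.Opens} (hU : IsAffineOpen U) [IsClosedImmersion U.toSpecΓ]
    (hM : Coh.IsQCoh M) :
    Nonempty ((DCoh.tildeD Γ(X, U)).obj ((DerivedCategory.singleFunctor (ModuleCat.{u} Γ(X, U)) 0).obj
        (moduleSpecΓFunctor.obj (M.restrict hU.fromSpec))) ≅
      (pushD U.toSpecΓ).obj ((rho U.ι).obj (DCoh.inD X M))) := by
  haveI : IsIso U.toSpecΓ := by
    have h := hU.isoSpec.isIso_hom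
    rwa [hU.isoSpec_hom] at h
  have hq : Coh.IsQCoh (M.restrict hU.fromSpec) := QCoh.isQCoh_restrict _ hM
  let e₀ : tilde (moduleSpecΓFunctor.obj (M.restrict hU.fromSpec)) ≅ M.restrict hU.fromSpec :=
    @asIso _ _ _ _ (M.restrict hU.fromSpec).fromTildeΓ ((isQuasicoherent_iff_isIso_fromTildeΓ _).1 hq)
  let e₁ : (Scheme.Modules.pushforward U.toSpecΓ).obj (M.restrict U.ι) ≅ M.restrict hU.fromSpec :=
    (Scheme.Modules.pushforward U.toSpecΓ).mapIso ((Scheme.Modules.restrictFunctorCongr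
      (show U.toSpecΓ ≫ hU.fromSpec = U.ι from hU.toSpecΓ_fromSpec)).symm.app M ≪≫
        (Scheme.Modules.restrictFunctorComp U.toSpecΓ hU.fromSpec).app M) ≪≫
      (pushRestrictSelfIso U.toSpecΓ).app _
  exact ⟨((tilde.functor Γ(X, U)).mapDerivedCategorySingleFunctor 0).app _ ≪≫
    (DerivedCategory.singleFunctor _ 0).mapIso (e₀ ≪≫ e₁.symm) ≪≫ (pushInDIso U.toSpecΓ M).symm⟩

/-- The test on a chart, for a quasi-coherent module. -/
theorem immPC_module_iff {U : X.Opens} (hU : IsAffineOpen U) (hM : Coh.IsQCoh M) {P : Type u} [CommRing P]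
    (φ : P →+* Γ(X, U)) (hφ : Function.Surjective φ) :
    ImmPC (-1) (DCoh.inD X M) U φ ↔ RelFP.FPVia φ (M.val.obj (op U)) := by
  haveI := isClosedImmersion_toSpecΓ hU
  obtain ⟨e⟩ := nonempty_tilde_chart M hU hM
  let N := moduleSpecΓFunctor.obj (M.restrict hU.fromSpec)
  have hN : RelFP.FPVia φ (M.val.obj (op U)) ↔ RelFP.FPVia φ N :=
    RelFP.fpVia_equiv (QCoh.chartEquiv hU M).toAddEquiv fun x v => (QCoh.chartEquiv hU M).map_smul (φ x) v
  rw [immPC_tilde_iff hU φ hφ _ e, hN]
  let ei : (DRing.restrictD φ).obj ((DerivedCategory.singleFunctor (ModuleCat.{u} Γ(X, U)) 0).obj N) ≅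
      (DerivedCategory.singleFunctor (ModuleCat.{u} P) 0).obj ((ModuleCat.restrictScalars φ).obj N) :=
    ((ModuleCat.restrictScalars φ).mapDerivedCategorySingleFunctor 0).app N
  letI : Module P N := Module.compHom N φ
  constructor
  · intro h
    exact DRingPC.finitePresentation_of_pc (A := P) (M := N) (DRingPC.of_iso ei h)
  · intro h
    haveI : Module.FinitePresentation P N := h
    exact DRingPC.of_iso ei.symm (DRingPC.pc_neg_one_of_finitePresentation (A := P) N)

/-- `(-1)`-pseudo-coherence of a module is quasi-coherence and relative finite presentation. -/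
theorem rel_module_negOne_iff [LocallyOfFiniteType f] :
    DerSch.IsPseudoCoherentRel f (-1) (DCoh.inD X M) ↔ (Coh.IsQCoh M ∧ Flatn.IsRelFP f M) := by
  constructor
  · intro h
    haveI hM : Coh.IsQCoh M := isQCoh_of_iso (hdSingleIso M) (isQCoh_HD_of_rel h (by norm_num : (-1 : ℤ) < 0))
    refine ⟨hM, RelFP.isRelFP_of_forall fun U V hUV => ?_⟩
    obtain ⟨n, φ, hφ⟩ := exists_chart_of_affine (f := f) U.2 V.2 hUV
    letI := (f.appLE V.1 U.1 hUV).hom.toAlgebra
    haveI : Algebra.FiniteType Γ(Y, V.1) Γ(X, U.1) := f.finiteType_appLE V.2 U.2 hUV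
    let φ' : MvPolynomial (Fin n) Γ(Y, V.1) →ₐ[Γ(Y, V.1)] Γ(X, U.1) :=
      { φ with commutes' := fun r => RingHom.congr_fun hφ.2 r }
    exact ⟨n, φ', hφ.1, (immPC_module_iff M U.2 hM φ hφ.1).1 (((chartPC_iff U.2 φ hφ.1).1 (chartPC_of_rel h U.2 V.2 hUV φ hφ)))⟩
  · rintro ⟨hM, hP⟩
    haveI := hM
    refine isPseudoCoherentRel_iff.2 fun x => ?_
    obtain ⟨V, hV, hxV, -⟩ := exists_isAffineOpen_mem_and_subset (x := f x) (U := (⊤ : Y.Opens)) trivial
    obtain ⟨U, hU, hxU, hUV⟩ := exists_isAffineOpen_mem_and_subset (x := x) (U := f ⁻¹ᵁ V) hxV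
    obtain ⟨n, φ, hφ, hfp⟩ := RelFP.relFPOn_of_isRelFP hP ⟨U, hU⟩ ⟨V, hV⟩ hUV
    letI := (f.appLE V U hUV).hom.toAlgebra
    exact ⟨U, V, hxU, hU, hV, hUV, n, φ.toRingHom, ⟨hφ, RingHom.ext φ.commutes⟩,
      (immPC_module_iff M hU hM φ.toRingHom hφ).2 hfp⟩

end Groth.Agent.PerfGen7
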