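import Mathlib

/-!
`Ext^i_A(A/J, -)` for an ideal `J` generated by a weakly regular sequence, by induction on the length:
the top degree is `M/JM`, and for a module killed by `J` every degree is `M^(n choose i)`.
-/

set_option autoImplicit false
universe u

open CategoryTheory Abelian RingTheory.Sequence

namespace Groth.Agent.PerfGen7.KoszulExt

variable {A : Type u} [CommRing A]

/-- `A/I` as an object of `ModuleCat A`. -/
abbrev Q (I : Ideal A) : ModuleCat.{u} A := ModuleCat.of A (A ⧸ I)

lemma hom_ext_one {I : Ideal A} {M : ModuleCat.{u} A} {f g : Q I ⟶ M}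
    (h : f.hom (Submodule.Quotient.mk 1) = g.hom (Submodule.Quotient.mk 1)) : f = g := by
  refine ModuleCat.hom_ext (LinearMap.ext fun y => ?_)
  obtain ⟨r, rfl⟩ := Submodule.Quotient.mk_surjective _ y
  have : (Submodule.Quotient.mk r : A ⧸ I) = r • Submodule.Quotient.mk 1 :=
    (congrArg _ (mul_one r).symm).trans (Submodule.Quotient.mk_smul _ r (1 : A))
  rw [this, map_smul, map_smul, h]

/-- Multiplication by `x` on `A/I` and the projection to `A/I'`. -/
abbrev ses (I I' : Ideal A) (x : A) (h : I ≤ I') (hx : x ∈ I') : ShortComplex (ModuleCat.{u} A) :=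
  ShortComplex.mk (x • 𝟙 (Q I)) (ModuleCat.ofHom (Submodule.factor h) : Q I ⟶ Q I') (by
    refine ModuleCat.hom_ext (LinearMap.ext fun y => ?_)
    obtain ⟨r, rfl⟩ := Submodule.Quotient.mk_surjective _ y
    show Submodule.factor h (x • (Submodule.Quotient.mk r : A ⧸ I)) = 0
    rw [map_smul]
    exact (Submodule.Quotient.mk_eq_zero _).2 (Ideal.mul_mem_right r _ hx))

lemma ses_shortExact (I : Ideal A) (x : A) (hreg : IsSMulRegular (A ⧸ I) x) :
    (ses I (I ⊔ Ideal.span {x}) x le_sup_left
      (Ideal.mem_sup_right (Ideal.mem_span_singleton_self x))).ShortExact where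
  mono_f := by
    rw [ModuleCat.mono_iff_injective]
    exact hreg
  epi_g := by
    rw [ModuleCat.epi_iff_surjective]
    exact Submodule.factor_surjective le_sup_left
  exact := by
    rw [ShortComplex.moduleCat_exact_iff]
    intro y hy
    obtain ⟨r, rfl⟩ := Submodule.Quotient.mk_surjective _ y
    have hr : r ∈ I ⊔ Ideal.span {x} := (Submodule.Quotient.mk_eq_zero _).1 hy
    obtain ⟨a, ha, b, hb, rfl⟩ := Submodule.mem_sup.1 hr
    obtain ⟨c, rfl⟩ := Ideal.mem_span_singleton'.1 hb
    refine ⟨Submodule.Quotient.mk c, ?_⟩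
    show x • (Submodule.Quotient.mk c : A ⧸ I) = _
    rw [← Submodule.Quotient.mk_smul, eq_comm, Submodule.Quotient.eq]
    show a + c * x - x * c ∈ I
    rw [mul_comm x c, add_sub_cancel_right]
    exact ha

lemma smul_precomp {X M : ModuleCat.{u} A} {n : ℕ} (x : A) (z : Ext X M n) :
    (Ext.mk₀ (x • 𝟙 X)).comp z (zero_add n) = x • z := by
  rw [Ext.mk₀_smul, Ext.smul_comp, Ext.mk₀_id_comp]

lemma smul_eq_zero_of_killed {X M : ModuleCat.{u} A} {n : ℕ} (x : A) (hx : ∀ m : M, x • m = 0)
    (z : Ext X M n) : x • z = 0 := by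
  rw [Ext.smul_eq_comp_mk₀, show x • 𝟙 M = 0 from by ext m; exact hx m, Ext.mk₀_zero, Ext.comp_zero]

lemma projective_Q_bot : Projective (Q (⊥ : Ideal A)) := by
  have : Module.Projective A (A ⧸ (⊥ : Ideal A)) :=
    Module.Projective.of_equiv (Submodule.quotEquivOfEqBot (⊥ : Ideal A) rfl).symm
  exact (IsProjective.iff_projective _).1 this

lemma ofList_concat (xs : List A) (x : A) :
    Ideal.ofList (xs ++ [x]) = Ideal.ofList xs ⊔ Ideal.span {x} := by
  rw [Ideal.ofList_append, Ideal.ofList_singleton]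

lemma regular_concat {xs : List A} {x : A} (h : IsWeaklyRegular A (xs ++ [x])) :
    IsWeaklyRegular A xs ∧ IsSMulRegular (A ⧸ Ideal.ofList xs) x := by
  rw [isWeaklyRegular_append_iff, isWeaklyRegular_cons_iff] at h
  exact ⟨h.1, ((Submodule.quotEquivOfEq _ _ (by simp [Ideal.mul_top])).isSMulRegular_congr x).1 h.2.1⟩

/-- The top degree. -/
theorem ext_top (xs : List A) (hreg : IsWeaklyRegular A xs) (M : ModuleCat.{u} A) :
    (∀ i : ℕ, xs.length < i → Subsingleton (Ext (Q (Ideal.ofList xs)) M i)) ∧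
      Nonempty (Ext (Q (Ideal.ofList xs)) M xs.length ≃ₗ[A]
        (M ⧸ (Ideal.ofList xs • (⊤ : Submodule A M)))) := by
  induction xs using List.reverseRecOn with
  | nil =>
    rw [Ideal.ofList_nil, List.length_nil]
    refine ⟨fun i hi => ?_, ⟨?_⟩⟩
    · have := projective_Q_bot (A := A)
      obtain ⟨j, rfl⟩ := Nat.exists_eq_succ_of_ne_zero hi.ne'
      exact subsingleton_of_forall_eq 0 fun e => e.eq_zero_of_projective
    · exact Ext.linearEquiv₀.trans (ModuleCat.homLinearEquiv.trans
        ((LinearEquiv.arrowCongr (Submodule.quotEquivOfEqBot (⊥ : Ideal A) rfl) (LinearEquiv.refl A M)).trans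
        ((LinearMap.ringLmapEquivSelf A A M).trans
        (Submodule.quotEquivOfEqBot _ (by simp)).symm)))
  | append_singleton xs x ih =>
    obtain ⟨hxs, hx⟩ := regular_concat hreg
    obtain ⟨hzero, ⟨e⟩⟩ := ih hxs
    rw [ofList_concat, List.length_append, List.length_singleton]
    set I := Ideal.ofList xs
    have hS := ses_shortExact I x hx
    set I' := I ⊔ Ideal.span {x}
    refine ⟨fun i hi => ?_, ?_⟩
    · obtain ⟨j, rfl⟩ := Nat.exists_eq_succ_of_ne_zero (show i ≠ 0 by omega)
      have := hzero j (by omega)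
      have := hzero (j + 1) (by omega)
      refine subsingleton_of_forall_eq 0 fun z => ?_
      obtain ⟨y, rfl⟩ := Ext.contravariant_sequence_exact₃ hS M z (Subsingleton.elim (α := Ext (Q I) M (j + 1)) _ _)
        (n₀ := j) (by omega)
      rw [Subsingleton.elim (α := Ext (Q I) M j) y 0, Ext.comp_zero]
    · let δ := Ext.precompOfLinear hS.extClass A M (show 1 + xs.length = xs.length + 1 by omega)
      let ψ := (δ.comp e.symm.toLinearMap).comp (Submodule.mkQ (I • (⊤ : Submodule A M)))
      have hδ : ∀ y, δ y = 0 ↔ ∃ z, x • z = y := by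
        intro y
        refine ⟨fun h => ?_, ?_⟩
        · obtain ⟨z, hz⟩ := Ext.contravariant_sequence_exact₁ hS M y (show 1 + xs.length = xs.length + 1 by omega) h
          exact ⟨z, (smul_precomp x z).symm.trans hz⟩
        · rintro ⟨z, rfl⟩
          refine (congrArg δ (smul_precomp x z).symm).trans ?_
          exact hS.extClass_comp_assoc z (h := by omega)
      have hψs : Function.Surjective ψ := by
        intro z
        have := hzero (xs.length + 1) (by omega)
        obtain ⟨y, hy⟩ := Ext.contravariant_sequence_exact₃ hS M z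
          (Subsingleton.elim (α := Ext (Q I) M (xs.length + 1)) _ _)
          (n₀ := xs.length) (by omega)
        obtain ⟨m, hm⟩ := Submodule.mkQ_surjective _ (e y)
        exact ⟨m, by simp [ψ, hm, δ, hy]⟩
      have hker : LinearMap.ker ψ = I' • (⊤ : Submodule A M) := by
        rw [Submodule.sup_smul, Submodule.ideal_span_singleton_smul]
        refine le_antisymm (fun m hm => ?_) (sup_le (fun m hm => ?_) ?_)
        · obtain ⟨z, hz⟩ := (hδ _).1 (LinearMap.mem_ker.1 hm)
          obtain ⟨w, hw⟩ := Submodule.mkQ_surjective (I • (⊤ : Submodule A M)) (e z)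
          have h2 : (Submodule.mkQ (I • (⊤ : Submodule A M))) (m - x • w) = 0 := by
            rw [map_sub, map_smul, hw, ← map_smul, hz]
            simp
          rw [Submodule.mem_sup]
          exact ⟨m - x • w, (Submodule.Quotient.mk_eq_zero _).1 h2, x • w,
            Submodule.smul_mem_pointwise_smul _ _ _ trivial, by abel⟩
        · simp [ψ, (Submodule.Quotient.mk_eq_zero _).2 hm]
        · intro m hm
          obtain ⟨w, -, rfl⟩ := hm
          exact (hδ _).2 ⟨e.symm (Submodule.mkQ (I • (⊤ : Submodule A M)) w), by simp⟩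
      exact ⟨(ψ.quotKerEquivOfSurjective hψs).symm.trans (Submodule.quotEquivOfEq _ _ hker)⟩

/-- `A/I ⟶ M`, `1 ↦ m`, for `M` killed by `I`. -/
def φ {I : Ideal A} {M : ModuleCat.{u} A} (hM : ∀ a ∈ I, ∀ m : M, a • m = 0) :
    M →ₗ[A] (Q I ⟶ M) where
  toFun m := ModuleCat.ofHom (Submodule.liftQ I (LinearMap.toSpanSingleton A M m) fun a ha => hM a ha m)
  map_add' m m' := by
    refine ModuleCat.hom_ext (LinearMap.ext fun y => ?_)
    obtain ⟨r, rfl⟩ := Submodule.Quotient.mk_surjective _ y
    exact smul_add r m m'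
  map_smul' a m := by
    refine ModuleCat.hom_ext (LinearMap.ext fun y => ?_)
    obtain ⟨r, rfl⟩ := Submodule.Quotient.mk_surjective _ y
    exact smul_comm r a m

@[simp] lemma φ_one {I : Ideal A} {M : ModuleCat.{u} A} (hM : ∀ a ∈ I, ∀ m : M, a • m = 0) (m : M) :
    (φ hM m).hom (Submodule.Quotient.mk 1) = m := one_smul A m

/-- The map `M^ι → Ext^i(A/I, M)` of a family of classes in `Ext^i(A/I, A/I)`. -/
noncomputable def Φ {I : Ideal A} {i : ℕ} {ι : Type} [Fintype ι] (w : ι → Ext (Q I) (Q I) i)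
    (M : ModuleCat.{u} A) (hM : ∀ a ∈ I, ∀ m : M, a • m = 0) : (ι → M) →ₗ[A] Ext (Q I) M i where
  toFun m := ∑ j, (w j).comp (Ext.mk₀ (φ hM (m j))) (add_zero i)
  map_add' m m' := by
    simp only [Pi.add_apply, map_add, Ext.mk₀_add, Ext.comp_add, Finset.sum_add_distrib]
  map_smul' a m := by
    simp only [Pi.smul_apply, map_smul, Ext.mk₀_smul, Ext.comp_smul, Finset.smul_sum,
      RingHom.id_apply]

lemma Φ_apply {I : Ideal A} {i : ℕ} {ι : Type} [Fintype ι] (w : ι → Ext (Q I) (Q I) i)
    (M : ModuleCat.{u} A) (hM : ∀ a ∈ I, ∀ m : M, a • m = 0) (m : ι → M) :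
    Φ w M hM m = ∑ j, (w j).comp (Ext.mk₀ (φ hM (m j))) (add_zero i) := rfl

/-- All degrees, for modules killed by the ideal. -/
theorem exists_classes (xs : List A) (hreg : IsWeaklyRegular A xs) :
    ∀ i, ∃ (ι : Type) (_ : Fintype ι) (w : ι → Ext (Q (Ideal.ofList xs)) (Q (Ideal.ofList xs)) i),
      Fintype.card ι = xs.length.choose i ∧
      ∀ (M : ModuleCat.{u} A) (hM : ∀ a ∈ Ideal.ofList xs, ∀ m : M, a • m = 0),
        Function.Bijective (Φ w M hM) := by
  induction xs using List.reverseRecOn with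
  | nil =>
    intro i
    match i with
    | 0 =>
      refine ⟨Unit, inferInstance, fun _ => Ext.mk₀ (𝟙 _), by simp, fun M hM => ⟨fun m m' h => ?_, fun e => ?_⟩⟩
      · funext j
        simp only [Φ_apply, Fintype.sum_unique, Ext.mk₀_id_comp] at h
        exact (φ_one hM _).symm.trans ((congrArg (fun f : Q _ ⟶ M => f.hom (Submodule.Quotient.mk 1))
          (Ext.addEquiv₀.symm.injective h)).trans (φ_one hM _))
      · obtain ⟨f, rfl⟩ := Ext.addEquiv₀.symm.surjective e
        refine ⟨fun _ => f.hom (Submodule.Quotient.mk 1), ?_⟩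
        simp only [Φ_apply, Fintype.sum_unique, Ext.mk₀_id_comp]
        exact congrArg _ (hom_ext_one (φ_one hM _))
    | j + 1 =>
      refine ⟨Empty, inferInstance, Empty.elim, by simp, fun M hM => ?_⟩
      have : Projective (Q (Ideal.ofList ([] : List A))) := by
        rw [Ideal.ofList_nil]
        exact projective_Q_bot
      have : Subsingleton (Ext (Q (Ideal.ofList ([] : List A))) M (j + 1)) :=
        subsingleton_of_forall_eq 0 fun e => e.eq_zero_of_projective
      exact ⟨fun _ _ _ => Subsingleton.elim _ _, fun e => ⟨Empty.elim, Subsingleton.elim _ _⟩⟩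
  | append_singleton xs x ih =>
    obtain ⟨hxs, hx⟩ := regular_concat hreg
    have ih' := ih hxs
    rw [ofList_concat, List.length_append, List.length_singleton]
    set I := Ideal.ofList xs
    have hS := ses_shortExact I x hx
    set I' := I ⊔ Ideal.span {x}
    have hxI : x ∈ I' := Ideal.mem_sup_right (Ideal.mem_span_singleton_self x)
    let g : Q I ⟶ Q I' := ModuleCat.ofHom (Submodule.factor le_sup_left)
    intro i
    match i with
    | 0 =>
      refine ⟨Unit, inferInstance, fun _ => Ext.mk₀ (𝟙 _), by simp, fun M hM => ⟨fun m m' h => ?_, fun e => ?_⟩⟩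
      · funext j
        simp only [Φ_apply, Fintype.sum_unique, Ext.mk₀_id_comp] at h
        exact (φ_one hM _).symm.trans ((congrArg (fun f : Q _ ⟶ M => f.hom (Submodule.Quotient.mk 1))
          (Ext.addEquiv₀.symm.injective h)).trans (φ_one hM _))
      · obtain ⟨f, rfl⟩ := Ext.addEquiv₀.symm.surjective e
        refine ⟨fun _ => f.hom (Submodule.Quotient.mk 1), ?_⟩
        simp only [Φ_apply, Fintype.sum_unique, Ext.mk₀_id_comp]
        exact congrArg _ (hom_ext_one (φ_one hM _))
    | i + 1 =>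
      obtain ⟨ι₁, _, w₁, hc₁, hb₁⟩ := ih' (i + 1)
      obtain ⟨ι₂, _, w₂, hc₂, hb₂⟩ := ih' i
      have hlift : ∀ j, ∃ v : Ext (Q I') (Q I') (i + 1),
          (Ext.mk₀ g).comp v (zero_add _) = (w₁ j).comp (Ext.mk₀ g) (add_zero _) := fun j =>
        Ext.contravariant_sequence_exact₂ hS (Q I') _ ((smul_precomp x _).trans
          (smul_eq_zero_of_killed x (fun m => by
            obtain ⟨r, rfl⟩ := Submodule.Quotient.mk_surjective _ m
            exact (Submodule.Quotient.mk_eq_zero _).2 (Ideal.mul_mem_right r _ hxI)) _))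
      choose v hv using hlift
      let z : ι₂ → Ext (Q I') (Q I') (i + 1) := fun j =>
        hS.extClass.comp ((w₂ j).comp (Ext.mk₀ g) (add_zero _)) (by omega)
      refine ⟨ι₁ ⊕ ι₂, inferInstance, Sum.elim v z, ?_, fun M hM => ?_⟩
      · rw [Fintype.card_sum, hc₁, hc₂, Nat.choose_succ_succ', add_comm]
      have hM' : ∀ a ∈ I, ∀ m : M, a • m = 0 := fun a ha => hM a (Ideal.mem_sup_left ha)
      have hgφ : ∀ m, g ≫ φ hM m = φ hM' m := fun m => hom_ext_one rfl
      have hres : ∀ m, (Ext.mk₀ g).comp (∑ j, (v j).comp (Ext.mk₀ (φ hM (m j))) (add_zero _))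
          (zero_add _) = Φ w₁ M hM' m := fun m => by
        rw [Ext.comp_sum, Φ_apply]
        refine Finset.sum_congr rfl fun j _ => ?_
        rw [← Ext.comp_assoc_of_third_deg_zero, hv, Ext.comp_assoc_of_second_deg_zero,
          Ext.mk₀_comp_mk₀, hgφ]
      have hcon : ∀ m, ∑ j, (z j).comp (Ext.mk₀ (φ hM (m j))) (add_zero _) =
          hS.extClass.comp (Φ w₂ M hM' m) (show 1 + i = i + 1 by omega) := fun m => by
        rw [Φ_apply, Ext.comp_sum]
        refine Finset.sum_congr rfl fun j _ => ?_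
        rw [Ext.comp_assoc_of_third_deg_zero, Ext.comp_assoc_of_second_deg_zero,
          Ext.mk₀_comp_mk₀, hgφ]
      have hsum : ∀ m : ι₁ ⊕ ι₂ → M, Φ (Sum.elim v z) M hM m =
          (∑ j, (v j).comp (Ext.mk₀ (φ hM (m (Sum.inl j)))) (add_zero _)) +
            hS.extClass.comp (Φ w₂ M hM' (m ∘ Sum.inr)) (show 1 + i = i + 1 by omega) := fun m => by
        rw [Φ_apply, Fintype.sum_sum_type, ← hcon]
        rfl
      refine ⟨(injective_iff_map_eq_zero _).2 fun m h => ?_, fun e => ?_⟩
      · rw [hsum] at h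
        have h1 := congrArg (fun y => (Ext.mk₀ g).comp y (zero_add (i + 1))) h
        simp only [Ext.comp_add, hres, Ext.comp_zero] at h1
        erw [hS.comp_extClass_assoc, add_zero] at h1
        have hl : (fun j => m (Sum.inl j)) = 0 := (hb₁ M hM').1 (h1.trans (map_zero _).symm)
        have hl' : ∀ j, m (Sum.inl j) = 0 := congrFun hl
        simp only [hl', map_zero, Ext.mk₀_zero, Ext.comp_zero, Finset.sum_const_zero, zero_add] at h
        obtain ⟨y, hy⟩ := Ext.contravariant_sequence_exact₁ hS M _ _ h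
        have hz : Φ w₂ M hM' (m ∘ Sum.inr) = 0 :=
          hy.symm.trans ((smul_precomp x y).trans (smul_eq_zero_of_killed x (hM x hxI) y))
        have hr := (hb₂ M hM').1 (hz.trans (map_zero _).symm)
        funext j
        cases j with
        | inl j => exact hl' j
        | inr j => exact congrFun hr j
      · obtain ⟨m, hm⟩ := (hb₁ M hM').2 ((Ext.mk₀ g).comp e (zero_add _))
        obtain ⟨y, hy⟩ := Ext.contravariant_sequence_exact₃ hS M
          (e - ∑ j, (v j).comp (Ext.mk₀ (φ hM (m j))) (add_zero _))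
          (by
            show (Ext.mk₀ g).comp _ _ = 0
            rw [sub_eq_add_neg, Ext.comp_add, Ext.comp_neg, hres, hm, add_neg_cancel])
          (n₀ := i) (by omega)
        obtain ⟨m', rfl⟩ := (hb₂ M hM').2 y
        refine ⟨Sum.elim m m', ?_⟩
        rw [hsum]
        exact add_eq_of_eq_sub' hy

end Groth.Agent.PerfGen7.KoszulExt
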