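import Groth.Agent.KFlatLib.Scheme.RpushQCoh
import Groth.Agent.KFlatLib.Scheme.CohD
import Groth.Agent.QCoh.RpushClosed

/-!
# `Rf_*` of coherent complexes with proper support
-/

set_option linter.style.haveILetI false
set_option backward.isDefEq.respectTransparency false

universe u

open CategoryTheory CategoryTheory.Limits AlgebraicGeometry Pretriangulated

attribute [local instance] HasDerivedCategory.standard

namespace Groth.Agent.PerfGen7

open Groth.Agent.KFlatLib

variable {X S : Scheme.{u}} (f : X ⟶ S)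

/-- Coherent modules whose direct images are coherent for our purposes. -/
def GoodMod : ObjectProperty X.Modules := fun M =>
  Coh.IsCoh M ∧ (IsZero M ∨ ClSub.IsProperOver f (CohB1.support M))

lemma goodMod_of_iso [IsLocallyNoetherian X] {M N : X.Modules} (e : M ≅ N) (h : GoodMod f M) :
    GoodMod f N := by
  refine ⟨isCoh_of_iso e h.1, h.2.imp (fun hz => hz.of_iso e.symm) fun hp => ?_⟩
  rwa [← QCoh.support_iso e h.1.1]

lemma goodMod_of_isZero [IsLocallyNoetherian X] {M : X.Modules} (h : IsZero M) : GoodMod f M :=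
  ⟨isCoh_of_isZero h, Or.inl h⟩

variable [LocallyOfFiniteType f] [IsLocallyNoetherian S]

lemma isCoh_rpush_goodMod [HasInjectiveResolutions X.Modules] {M : X.Modules} (h : GoodMod f M)
    (p : ℕ) : Coh.IsCoh ((Coh.Rpush f p).obj M) := by
  obtain ⟨hc, hz | hp⟩ := h
  · exact isCoh_of_isZero ((Coh.Rpush f p).map_isZero hz)
  · exact QCoh.isCoh_Rpush_of_properSupport f hc hp p

variable [DCoh.HasRpush f]

/-- The cohomology sheaves of a truncation. -/
lemma exists_split (K : DCoh.D X) (c : ℤ) :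
    ∃ T : Triangle (DCoh.D X), T ∈ distTriang _ ∧ T.obj₂ = K ∧ T.obj₁.IsLE c ∧ T.obj₃.IsGE (c + 1) ∧
      (∀ i, i ≤ c → Nonempty (DCoh.HD T.obj₁ i ≅ DCoh.HD K i)) ∧
      (∀ i, c < i → Nonempty (DCoh.HD T.obj₃ i ≅ DCoh.HD K i)) := by
  let t : Triangulated.TStructure (DCoh.D X) := DerivedCategory.TStructure.t
  let T := (t.triangleLTGE (c + 1)).obj K
  have hT : T ∈ distTriang _ := t.triangleLTGE_distinguished _ K
  haveI h₁ : T.obj₁.IsLE c := t.isLE_truncLT_obj K _ _ (by omega)
  haveI h₃ : T.obj₃.IsGE (c + 1) := t.isGE_truncGE_obj K _ _ le_rfl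
  refine ⟨T, hT, rfl, h₁, h₃, fun i hi => ?_, fun i hi => ?_⟩
  · haveI : Epi ((DerivedCategory.homologyFunctor X.Modules i).map T.mor₁) :=
      (DerivedCategory.HomologySequence.exact₂ T hT i).epi_f
        ((DerivedCategory.isZero_of_isGE T.obj₃ (c + 1) i (by omega)).eq_of_tgt _ _)
    haveI : Mono ((DerivedCategory.homologyFunctor X.Modules i).map T.mor₁) :=
      (DerivedCategory.HomologySequence.exact₁ T hT (i - 1) i (by omega)).mono_g
        ((DerivedCategory.isZero_of_isGE T.obj₃ (c + 1) (i - 1) (by omega)).eq_of_src _ _)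
    haveI := isIso_of_mono_of_epi ((DerivedCategory.homologyFunctor X.Modules i).map T.mor₁)
    exact ⟨asIso ((DerivedCategory.homologyFunctor X.Modules i).map T.mor₁)⟩
  · haveI : Mono ((DerivedCategory.homologyFunctor X.Modules i).map T.mor₂) :=
      (DerivedCategory.HomologySequence.exact₂ T hT i).mono_g
        ((DerivedCategory.isZero_of_isLE T.obj₁ c i (by omega)).eq_of_src _ _)
    haveI : Epi ((DerivedCategory.homologyFunctor X.Modules i).map T.mor₂) :=
      (DerivedCategory.HomologySequence.exact₃ T hT i (i + 1) rfl).epi_f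
        ((DerivedCategory.isZero_of_isLE T.obj₁ c (i + 1) (by omega)).eq_of_tgt _ _)
    haveI := isIso_of_mono_of_epi ((DerivedCategory.homologyFunctor X.Modules i).map T.mor₂)
    exact ⟨(asIso ((DerivedCategory.homologyFunctor X.Modules i).map T.mor₂)).symm⟩

lemma isCohD_rpush_bounded [HasInjectiveResolutions X.Modules] : ∀ (m : ℕ) (a : ℤ) (K : DCoh.D X),
    K.IsGE a → K.IsLE (a + m) → (∀ i, GoodMod f (DCoh.HD K i)) →
    DCoh.IsCohD ((DCoh.Rpush f).obj K) := by
  haveI := LocallyOfFiniteType.isLocallyNoetherian f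
  intro m
  induction m with
  | zero =>
    intro a K hge hle hK
    haveI := hge
    haveI : K.IsLE a := by simpa using hle
    obtain ⟨M, ⟨e⟩⟩ := DerivedCategory.exists_iso_singleFunctor_obj_of_isGE_of_isLE K a
    let es : K ≅ (DCoh.inD X M)⟦(-a : ℤ)⟧ :=
      e ≪≫ (((DerivedCategory.singleFunctors X.Modules).shiftIso (-a) a 0 (by omega)).app M).symm
    obtain ⟨eS⟩ := nonempty_rpush_shift f (DCoh.inD X M) (-a)
    have hM : GoodMod f M := goodMod_of_iso f
      ((DerivedCategory.homologyFunctor X.Modules a).mapIso e ≪≫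
        (DerivedCategory.singleFunctorCompHomologyFunctorIso X.Modules a).app M) (hK a)
    refine isCohD_of_iso (((DCoh.Rpush f).mapIso es ≪≫ eS).symm) (isCohD_shift (fun i => ?_) _)
    rcases lt_or_ge i 0 with h | h
    · exact isCoh_of_isZero (isZero_hd_rpush_of_lt f _ 0 _ h)
    · obtain ⟨n, rfl⟩ := Int.eq_ofNat_of_zero_le h
      exact isCoh_of_iso (nonempty_hd_rpush_single f M n).some.symm (isCoh_rpush_goodMod f hM n)
  | succ m ih =>
    intro a K hge hle hK
    haveI := hge
    haveI := hle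
    obtain ⟨T, hT, rfl, h₁le, h₃ge, e₁, e₃⟩ := exists_split K a
    have k₁ : ∀ i, GoodMod f (DCoh.HD T.obj₁ i) := fun i => by
      by_cases hi : i ≤ a
      · exact goodMod_of_iso f (e₁ i hi).some.symm (hK i)
      · exact goodMod_of_isZero f (DerivedCategory.isZero_of_isLE T.obj₁ a i (by omega))
    have k₃ : ∀ i, GoodMod f (DCoh.HD T.obj₃ i) := fun i => by
      by_cases hi : a < i
      · exact goodMod_of_iso f (e₃ i hi).some.symm (hK i)
      · exact goodMod_of_isZero f (DerivedCategory.isZero_of_isGE T.obj₃ (a + 1) i (by omega))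
    haveI h₁ge : T.obj₁.IsGE a := by
      rw [DerivedCategory.isGE_iff]
      exact fun i hi => (DerivedCategory.isZero_of_isGE T.obj₂ a i hi).of_iso (e₁ i (by omega)).some
    haveI h₃le : T.obj₃.IsLE (a + 1 + m) := by
      rw [DerivedCategory.isLE_iff]
      exact fun i hi => (DerivedCategory.isZero_of_isLE T.obj₂ (a + (m + 1 : ℕ)) i
        (by push_cast; omega)).of_iso (e₃ i (by omega)).some
    obtain ⟨c, hc⟩ := exists_rpush_triangle f T hT
    exact isCohD_obj₂ hc
      (ih a T.obj₁ h₁ge (DerivedCategory.TStructure.t.isLE_of_le _ a _ (by omega)) k₁)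
      (ih (a + 1) T.obj₃ h₃ge h₃le k₃)

/-- `Rf_*` of a bounded below coherent complex with proper supports has coherent cohomology. -/
theorem isCohD_rpush_of_isGE (K : DCoh.D X) (a : ℤ) [K.IsGE a]
    (hK : ∀ i, GoodMod f (DCoh.HD K i)) : DCoh.IsCohD ((DCoh.Rpush f).obj K) := fun i => by
  haveI := LocallyOfFiniteType.isLocallyNoetherian f
  haveI : HasInjectiveResolutions X.Modules := hasInjectiveResolutions_modules
  rcases lt_or_ge i a with h | h
  · exact isCoh_of_isZero (isZero_hd_rpush_of_lt f K a i h)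
  obtain ⟨T, hT, rfl, h₁le, h₃ge, e₁, -⟩ := exists_split K i
  have k₁ : ∀ j, GoodMod f (DCoh.HD T.obj₁ j) := fun j => by
    by_cases hj : j ≤ i
    · exact goodMod_of_iso f (e₁ j hj).some.symm (hK j)
    · exact goodMod_of_isZero f (DerivedCategory.isZero_of_isLE T.obj₁ i j (by omega))
  haveI h₁ge : T.obj₁.IsGE a := by
    rw [DerivedCategory.isGE_iff]
    exact fun j hj => (DerivedCategory.isZero_of_isGE T.obj₂ a j hj).of_iso (e₁ j (by omega)).some
  have r₁ := isCohD_rpush_bounded f (i - a).toNat a T.obj₁ h₁ge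
    (DerivedCategory.TStructure.t.isLE_of_le _ i _ (by omega)) k₁
  obtain ⟨c, hc⟩ := exists_rpush_triangle f T hT
  let g := (DerivedCategory.homologyFunctor S.Modules i).map ((DCoh.Rpush f).map T.mor₁)
  haveI : Epi g := (DerivedCategory.HomologySequence.exact₂ _ hc i).epi_f
    ((isZero_hd_rpush_of_lt f T.obj₃ (i + 1) i (by omega)).eq_of_tgt _ _)
  haveI : Mono g := (DerivedCategory.HomologySequence.exact₁ _ hc (i - 1) i (by omega)).mono_g
    ((isZero_hd_rpush_of_lt f T.obj₃ (i + 1) (i - 1) (by omega)).eq_of_src _ _)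
  have hg : IsIso g := isIso_of_mono_of_epi g
  exact isCoh_of_iso (@asIso _ _ _ _ g hg) (r₁ i)

end Groth.Agent.PerfGen7
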