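import Groth.Agent.H9Misc.DRingPCDescent
import Groth.Agent.PCMor.Ring
import Groth.Agent.S7000

/-!
# `n`-pseudo-coherent morphisms: rings
-/

set_option linter.style.haveILetI false

universe u

open CategoryTheory CategoryTheory.Limits MvPolynomial TensorProduct

attribute [local instance] HasDerivedCategory.standard

namespace Groth.Agent.PerfGen7

attribute [local instance] MvPolynomial.algebraMvPolynomial

open Groth.Agent.H9Misc Groth.Agent.H9Misc.DRingRestrict Groth.Agent.H9Misc.DRingTor

/-- Modules pseudo-coherent over a base, after a flat pushout. -/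
theorem modulePC_pushout {P P' B B' : Type u} [CommRing P] [CommRing P'] [CommRing B] [CommRing B']
    [Algebra P B] [Algebra P P'] [Algebra P' B'] [Algebra B B'] [Algebra P B'] [IsScalarTower P P' B']
    [IsScalarTower P B B'] [Algebra.IsPushout P P' B B'] (m : ℤ) :
    (Module.Flat P P' → DRing.IsPseudoCoherentModule P m B → DRing.IsPseudoCoherentModule P' m B') ∧
      (Module.FaithfullyFlat P P' → DRing.IsPseudoCoherentModule P' m B' →
        DRing.IsPseudoCoherentModule P m B) := by
  let e := (DerivedCategory.singleFunctor (ModuleCat.{u} P') 0).mapIso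
    (Algebra.IsPushout.equiv P P' B B').toLinearEquiv.toModuleIso
  constructor
  · intro _ h
    exact DRingPC.of_iso e ((Groth.Agent.S7000.result m B).1 h)
  · intro _ h
    have h1 : DRing.IsPseudoCoherentModule P' m (P' ⊗[P] B) := DRingPC.of_iso e.symm h
    let K : DRing.Cx P := (HomologicalComplex.single (ModuleCat.{u} P) (ComplexShape.up ℤ) 0).obj (ModuleCat.of P B)
    refine DRingPC.of_iso ((DerivedCategory.singleFunctorIsoCompQ (ModuleCat.{u} P) 0).app
      (ModuleCat.of P B)).symm (DRingPCDescent.pc_descent (R' := P') K m ?_)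
    refine DRingPC.of_iso ((DerivedCategory.singleFunctorIsoCompQ (ModuleCat.{u} P') 0).app _ ≪≫
      DerivedCategory.Q.mapIso ((HomologicalComplex.singleMapHomologicalComplex
        (ModuleCat.extendScalars.{u, u, u} (algebraMap P P')) (ComplexShape.up ℤ) 0).app
          (ModuleCat.of P B)).symm) ?_
    have he : (algebraMap P P').toAlgebra = ‹Algebra P P'› := Algebra.algebra_ext _ _ fun _ => rfl
    revert h1
    generalize algebraMap P P' = φ at he
    subst he
    exact fun h => h

/-- A presentation of a pushout, with the comparison of modules. -/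
theorem exists_presentation_pushout {A A' B B' : Type u} [CommRing A] [CommRing A'] [CommRing B]
    [CommRing B'] [Algebra A B] [Algebra A A'] [Module.Flat A A'] [Algebra A' B'] [Algebra B B']
    [Algebra A B'] [IsScalarTower A A' B'] [IsScalarTower A B B'] [Algebra.IsPushout A A' B B']
    {n : ℕ} (ψ : MvPolynomial (Fin n) A →+* B) (hψ : Function.Surjective ψ)
    (hC : ψ.comp C = algebraMap A B) (m : ℤ) :
    ∃ ψ' : MvPolynomial (Fin n) A' →+* B', Function.Surjective ψ' ∧ ψ'.comp C = algebraMap A' B' ∧
      ((letI := ψ.toAlgebra; DRing.IsPseudoCoherentModule (MvPolynomial (Fin n) A) m B) →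
        (letI := ψ'.toAlgebra; DRing.IsPseudoCoherentModule (MvPolynomial (Fin n) A') m B')) ∧
      (Module.FaithfullyFlat A A' →
        (letI := ψ'.toAlgebra; DRing.IsPseudoCoherentModule (MvPolynomial (Fin n) A') m B') →
        (letI := ψ.toAlgebra; DRing.IsPseudoCoherentModule (MvPolynomial (Fin n) A) m B)) := by
  let ψ' : MvPolynomial (Fin n) A' →+* B' :=
    eval₂Hom (algebraMap A' B') fun i => algebraMap B B' (ψ (MvPolynomial.X i))
  letI := ψ.toAlgebra
  letI := ψ'.toAlgebra
  haveI : IsScalarTower A (MvPolynomial (Fin n) A) (MvPolynomial (Fin n) A') :=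
    .of_algebraMap_eq fun a => (MvPolynomial.map_C _ a).symm
  letI : Algebra (MvPolynomial (Fin n) A) B' := ((algebraMap B B').comp ψ).toAlgebra
  haveI : IsScalarTower A (MvPolynomial (Fin n) A) B := .of_algebraMap_eq fun a => by
    exact (RingHom.congr_fun hC a).symm
  haveI : IsScalarTower A' (MvPolynomial (Fin n) A') B' := .of_algebraMap_eq fun a => by
    show _ = ψ' (MvPolynomial.C a)
    simp [ψ']
  haveI : IsScalarTower (MvPolynomial (Fin n) A) B B' := .of_algebraMap_eq fun _ => rfl
  haveI : IsScalarTower A (MvPolynomial (Fin n) A) B' := .of_algebraMap_eq fun a => by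
    show _ = algebraMap B B' (ψ (MvPolynomial.C a))
    rw [← RingHom.comp_apply ψ, hC, ← IsScalarTower.algebraMap_apply]
  haveI : IsScalarTower (MvPolynomial (Fin n) A) (MvPolynomial (Fin n) A') B' := .of_algebraMap_eq' <| by
    refine MvPolynomial.ringHom_ext (fun a => ?_) fun i => ?_
    · show algebraMap B B' (ψ (MvPolynomial.C a)) = ψ' (MvPolynomial.map _ (MvPolynomial.C a))
      rw [← RingHom.comp_apply ψ, hC]
      simp [ψ', ← IsScalarTower.algebraMap_apply]
    · show algebraMap B B' (ψ (MvPolynomial.X i)) = ψ' (MvPolynomial.map _ (MvPolynomial.X i))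
      simp [ψ']
  haveI : IsScalarTower A (MvPolynomial (Fin n) A') B' := .of_algebraMap_eq fun a => by
    show _ = ψ' (MvPolynomial.C (algebraMap A A' a))
    simp [ψ', ← IsScalarTower.algebraMap_apply]
  haveI hP : Algebra.IsPushout (MvPolynomial (Fin n) A) (MvPolynomial (Fin n) A') B B' :=
    ((Algebra.IsPushout.comp_iff (R := A) (S := MvPolynomial (Fin n) A) (R' := A')
      (S' := MvPolynomial (Fin n) A') (T := B) (T' := B')).1 ‹Algebra.IsPushout A A' B B'›.symm).symm
  have key := modulePC_pushout (P := MvPolynomial (Fin n) A) (P' := MvPolynomial (Fin n) A') (B := B)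
    (B' := B') m
  refine ⟨ψ', ?_, RingHom.ext fun a => by simp [ψ'], key.1 (Module.Flat.of_linearEquiv
    (Algebra.IsPushout.equiv A (MvPolynomial (Fin n) A) A' _).symm.toLinearEquiv), fun _ => key.2
      (Module.FaithfullyFlat.of_linearEquiv _ _
        (Algebra.IsPushout.equiv A (MvPolynomial (Fin n) A) A' _).symm.toLinearEquiv)⟩
  intro b
  obtain ⟨x, rfl⟩ := (Algebra.IsPushout.equiv A A' B B').surjective b
  induction x with
  | zero => exact ⟨0, by simp⟩
  | add x y hx hy =>
    obtain ⟨p, hp⟩ := hx
    obtain ⟨q, hq⟩ := hy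
    exact ⟨p + q, by rw [map_add, map_add, hp, hq]⟩
  | tmul a y =>
    obtain ⟨p, rfl⟩ := hψ y
    refine ⟨MvPolynomial.C a * MvPolynomial.map (algebraMap A A') p, ?_⟩
    rw [Algebra.IsPushout.equiv_tmul, map_mul]
    refine congrArg₂ (· * ·) (by simp [ψ']) ?_
    exact (IsScalarTower.algebraMap_apply (MvPolynomial (Fin n) A) (MvPolynomial (Fin n) A') B' p).symm

end Groth.Agent.PerfGen7
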