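import Groth.Agent.PerfGen7.RelNPC
import Groth.Agent.PerfGen7.RelBCRing
import Groth.Agent.H9Misc.DRingPCDescent
import Groth.Agent.PCMor.Ring
import Groth.Agent.S7000
import Mathlib.AlgebraicGeometry.Morphisms.Descent
import Mathlib.AlgebraicGeometry.Morphisms.Flat

/-!
# `n`-pseudo-coherent morphisms: flat base change and descent
-/

set_option linter.style.haveILetI false
set_option backward.isDefEq.respectTransparency false
set_option backward.isDefEq.respectTransparency.types false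

universe u

open CategoryTheory CategoryTheory.Limits AlgebraicGeometry MvPolynomial TensorProduct

attribute [local instance] HasDerivedCategory.standard

namespace Groth.Agent.PerfGen7

open Groth.Agent.H9Misc Groth.Agent.H9Misc.DRingRestrict Groth.Agent.H9Misc.DRingTor

variable {X Y X' Y' : Scheme.{u}} {f : X ⟶ Y} {f' : X' ⟶ Y'} {g' : X' ⟶ X} {g : Y' ⟶ Y} {m : ℤ}

/-- Restrictions to affine opens, as spectra of maps on sections. -/
lemma isoSpec_resLE {S T : Scheme.{u}} (φ : S ⟶ T) {U : S.Opens} {V : T.Opens} (hU : IsAffineOpen U)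
    (hV : IsAffineOpen V) (e : U ≤ φ ⁻¹ᵁ V) :
    φ.resLE V U e ≫ hV.isoSpec.hom = hU.isoSpec.hom ≫ Spec.map (φ.appLE V U e) := by
  rw [← cancel_mono hV.fromSpec, Category.assoc, Category.assoc, hV.SpecMap_appLE_fromSpec φ hU e,
    IsAffineOpen.isoSpec_hom, IsAffineOpen.isoSpec_hom, IsAffineOpen.toSpecΓ_fromSpec,
    IsAffineOpen.toSpecΓ_fromSpec_assoc, Scheme.Hom.resLE_comp_ι]

/-- The affine square over a pair of affine opens in a base change. -/
theorem exists_affine_square (hc : IsPullback g' f' f g) {U : X.Opens} {V : Y.Opens} {V' : Y'.Opens}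
    (hU : IsAffineOpen U) (hV : IsAffineOpen V) (hV' : IsAffineOpen V')
    (hUV : U ≤ f ⁻¹ᵁ V) (hVV : V' ≤ g ⁻¹ᵁ V) :
    IsAffineOpen (g' ⁻¹ᵁ U ⊓ f' ⁻¹ᵁ V') ∧
      IsPushout (g.appLE V V' hVV) (f.appLE V U hUV)
        (f'.appLE V' (g' ⁻¹ᵁ U ⊓ f' ⁻¹ᵁ V') inf_le_right) (g'.appLE U (g' ⁻¹ᵁ U ⊓ f' ⁻¹ᵁ V') inf_le_left) := by
  let U' : X'.Opens := g' ⁻¹ᵁ U ⊓ f' ⁻¹ᵁ V'
  let a := g'.resLE U U' inf_le_left
  let b := f'.resLE V' U' inf_le_right
  let c := f.resLE V U hUV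
  let d := g.resLE V V' hVV
  have hw : a ≫ c = b ≫ d := by
    rw [← cancel_mono V.ι]
    simp [a, b, c, d, hc.w]
  have hpb : IsPullback a b c d := by
    refine ⟨⟨hw⟩, ⟨PullbackCone.IsLimit.mk hw (fun s => ?_) (fun s => ?_) (fun s => ?_) (fun s m hm₁ hm₂ => ?_)⟩⟩
    · refine IsOpenImmersion.lift U'.ι (hc.lift (s.fst ≫ U.ι) (s.snd ≫ V'.ι) ?_) ?_
      · have := congrArg (· ≫ V.ι) s.condition
        simpa [c, d] using this
      · rw [Scheme.Opens.range_ι]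
        rintro _ ⟨y, rfl⟩
        refine ⟨?_, ?_⟩
        · show g' ((hc.lift _ _ _) y) ∈ U
          rw [← Scheme.Hom.comp_apply, hc.lift_fst, Scheme.Hom.comp_apply]
          exact (s.fst y).2
        · show f' ((hc.lift _ _ _) y) ∈ V'
          rw [← Scheme.Hom.comp_apply, hc.lift_snd, Scheme.Hom.comp_apply]
          exact (s.snd y).2
    · rw [← cancel_mono U.ι]
      simp [a]
    · rw [← cancel_mono V'.ι]
      simp [b]
    · rw [← cancel_mono U'.ι, IsOpenImmersion.lift_fac]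
      apply hc.hom_ext
      · rw [IsPullback.lift_fst, ← hm₁]
        simp [a]
      · rw [IsPullback.lift_snd, ← hm₂]
        simp [b]
  haveI : IsAffine U.toScheme := hU
  haveI : IsAffine V.toScheme := hV
  haveI : IsAffine V'.toScheme := hV'
  haveI : IsAffineHom d := isAffineHom_of_isAffine d
  have hU' : IsAffineOpen U' := IsAffine.of_isPullback hpb
  refine ⟨hU', ?_⟩
  have h3 : IsPullback (Spec.map (g'.appLE U U' inf_le_left)) (Spec.map (f'.appLE V' U' inf_le_right))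
      (Spec.map (f.appLE V U hUV)) (Spec.map (g.appLE V V' hVV)) :=
    hpb.of_iso hU'.isoSpec hU.isoSpec hV'.isoSpec hV.isoSpec (isoSpec_resLE g' hU' hU _)
      (isoSpec_resLE f' hU' hV' _) (isoSpec_resLE f hU hV _) (isoSpec_resLE g hV' hV _)
  have w : (f.appLE V U hUV) ≫ g'.appLE U U' inf_le_left =
      g.appLE V V' hVV ≫ f'.appLE V' U' inf_le_right := Spec.map_injective (by
    rw [Spec.map_comp, Spec.map_comp]; exact h3.w)
  have h4 : IsPullback (g'.appLE U U' inf_le_left).op (f'.appLE V' U' inf_le_right).op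
      (f.appLE V U hUV).op (g.appLE V V' hVV).op :=
    IsPullback.of_map Scheme.Spec (by rw [← op_comp, ← op_comp, w]) h3
  exact h4.unop

/-- The test module on a base change, and its descent. -/
theorem module_baseChange_pair [Flat g] (hc : IsPullback g' f' f g) {U : X.Opens} {V : Y.Opens} {V' : Y'.Opens}
    (hU : IsAffineOpen U) (hV : IsAffineOpen V) (hV' : IsAffineOpen V')
    (hUV : U ≤ f ⁻¹ᵁ V) (hVV : V' ≤ g ⁻¹ᵁ V) {n : ℕ} (φ : MvPolynomial (Fin n) Γ(Y, V) →+* Γ(X, U))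
    (hφ : DerSch.IsChart f U V hUV φ) (m : ℤ) :
    ∃ φ' : MvPolynomial (Fin n) Γ(Y', V') →+* Γ(X', g' ⁻¹ᵁ U ⊓ f' ⁻¹ᵁ V'),
      DerSch.IsChart f' (g' ⁻¹ᵁ U ⊓ f' ⁻¹ᵁ V') V' inf_le_right φ' ∧
      ((letI := φ.toAlgebra; DRing.IsPseudoCoherentModule (MvPolynomial (Fin n) Γ(Y, V)) m Γ(X, U)) →
        (letI := φ'.toAlgebra; DRing.IsPseudoCoherentModule (MvPolynomial (Fin n) Γ(Y', V')) m
          Γ(X', g' ⁻¹ᵁ U ⊓ f' ⁻¹ᵁ V'))) ∧
      ((g.appLE V V' hVV).hom.FaithfullyFlat →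
        (letI := φ'.toAlgebra; DRing.IsPseudoCoherentModule (MvPolynomial (Fin n) Γ(Y', V')) m
          Γ(X', g' ⁻¹ᵁ U ⊓ f' ⁻¹ᵁ V')) →
        (letI := φ.toAlgebra; DRing.IsPseudoCoherentModule (MvPolynomial (Fin n) Γ(Y, V)) m Γ(X, U))) := by
  obtain ⟨-, hpo⟩ := exists_affine_square hc hU hV hV' hUV hVV
  let U' := g' ⁻¹ᵁ U ⊓ f' ⁻¹ᵁ V'
  letI : Algebra Γ(Y, V) Γ(X, U) := (f.appLE V U hUV).hom.toAlgebra
  letI : Algebra Γ(Y, V) Γ(Y', V') := (g.appLE V V' hVV).hom.toAlgebra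
  letI : Algebra Γ(Y', V') Γ(X', U') := (f'.appLE V' U' inf_le_right).hom.toAlgebra
  letI : Algebra Γ(X, U) Γ(X', U') := (g'.appLE U U' inf_le_left).hom.toAlgebra
  letI : Algebra Γ(Y, V) Γ(X', U') := ((f'.appLE V' U' inf_le_right).hom.comp (g.appLE V V' hVV).hom).toAlgebra
  haveI : IsScalarTower Γ(Y, V) Γ(Y', V') Γ(X', U') := .of_algebraMap_eq fun _ => rfl
  haveI : IsScalarTower Γ(Y, V) Γ(X, U) Γ(X', U') := .of_algebraMap_eq' congr(($hpo.w).hom)
  haveI : Module.Flat Γ(Y, V) Γ(Y', V') :=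
    HasRingHomProperty.appLE @Flat g ‹_› ⟨V, hV⟩ ⟨V', hV'⟩ hVV
  haveI : Algebra.IsPushout Γ(Y, V) Γ(Y', V') Γ(X, U) Γ(X', U') :=
    CommRingCat.isPushout_iff_isPushout.1 hpo
  obtain ⟨φ', h1, h2, h3, h4⟩ := exists_presentation_pushout (A := Γ(Y, V)) (A' := Γ(Y', V'))
    (B := Γ(X, U)) (B' := Γ(X', U')) φ hφ.1 hφ.2 m
  exact ⟨φ', ⟨h1, h2⟩, h3, fun h => h4 h⟩

/-- Flat base change of `m`-pseudo-coherent morphisms. -/
theorem isNPseudoCoherent_baseChange [LocallyOfFiniteType f] [Flat g] (hc : IsPullback g' f' f g)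
    (hf : DerSch.IsNPseudoCoherent f m) : DerSch.IsNPseudoCoherent f' m := by
  haveI : LocallyOfFiniteType f' := MorphismProperty.of_isPullback hc ‹_›
  refine isNPseudoCoherent_of_charts fun x => ?_
  obtain ⟨V, hV, hxV, -⟩ := exists_isAffineOpen_mem_and_subset (x := g (f' x)) (U := (⊤ : Y.Opens)) trivial
  obtain ⟨V', hV', hxV', hV'V⟩ := exists_isAffineOpen_mem_and_subset (x := f' x) (U := g ⁻¹ᵁ V) hxV
  have hfx : g' x ∈ f ⁻¹ᵁ V := by
    show f (g' x) ∈ V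
    rw [← Scheme.Hom.comp_apply, hc.w, Scheme.Hom.comp_apply]
    exact hxV
  obtain ⟨U, hU, hxU, hUV⟩ := exists_isAffineOpen_mem_and_subset (x := g' x) (U := f ⁻¹ᵁ V) hfx
  obtain ⟨n, φ, hφ⟩ := exists_chart_of_affine (f := f) hU hV hUV
  obtain ⟨φ', hφ', h1, -⟩ := module_baseChange_pair hc hU hV hV' hUV hV'V φ hφ m
  exact ⟨g' ⁻¹ᵁ U ⊓ f' ⁻¹ᵁ V', V', ⟨hxU, hxV'⟩, (exists_affine_square hc hU hV hV' hUV hV'V).1, hV', inf_le_right, n, φ', hφ',
    h1 (module_of_isNPseudoCoherent hf hU hV hUV φ hφ)⟩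

/-- Faithfully flat quasi-compact descent of `m`-pseudo-coherent morphisms. -/
theorem isNPseudoCoherent_descent [LocallyOfFiniteType f] [Flat g] [Surjective g] [QuasiCompact g]
    (hc : IsPullback g' f' f g) (hf' : DerSch.IsNPseudoCoherent f' m) : DerSch.IsNPseudoCoherent f m := by
  haveI : LocallyOfFiniteType f' := MorphismProperty.of_isPullback hc ‹_›
  refine isNPseudoCoherent_of_charts fun x => ?_
  obtain ⟨V, hV, hxV, -⟩ := exists_isAffineOpen_mem_and_subset (x := f x) (U := (⊤ : Y.Opens)) trivial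
  obtain ⟨U, hU, hxU, hUV⟩ := exists_isAffineOpen_mem_and_subset (x := x) (U := f ⁻¹ᵁ V) hxV
  haveI : CompactSpace (g ⁻¹ᵁ V) := isCompact_iff_compactSpace.1 (g.isCompact_preimage hV.isCompact)
  obtain ⟨W, p, hp, hpf, hW⟩ :=
    Scheme.exists_hom_isAffine_of_isZariskiLocalAtSource (P := @Flat) (g ⁻¹ᵁ V : Scheme.{u})
  haveI := hp
  haveI : Flat p := hpf
  let r : W ⟶ Y' := p ≫ (g ⁻¹ᵁ V).ι
  let g₂ := pullback.fst f' r
  let f₂ := pullback.snd f' r
  have hc₂ : IsPullback g₂ f₂ f' r := IsPullback.of_hasPullback f' r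
  have hc₃ : IsPullback (g₂ ≫ g') f₂ f (r ≫ g) := hc₂.paste_horiz hc
  have hf₂ : DerSch.IsNPseudoCoherent f₂ m := isNPseudoCoherent_baseChange hc₂ hf'
  have hle : (⊤ : W.Opens) ≤ (r ≫ g) ⁻¹ᵁ V := fun w _ => (p w).2
  obtain ⟨n, φ, hφ⟩ := exists_chart_of_affine (f := f) hU hV hUV
  obtain ⟨φ', hφ', -, h2⟩ := module_baseChange_pair hc₃ hU hV (isAffineOpen_top W) hUV hle φ hφ m
  refine ⟨U, V, hxU, hU, hV, hUV, n, φ, hφ, h2 ?_
    (module_of_isNPseudoCoherent hf₂ (exists_affine_square hc₃ hU hV (isAffineOpen_top W) hUV hle).1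
      (isAffineOpen_top W) inf_le_right φ' hφ')⟩
  rw [← flat_and_surjective_SpecMap_iff]
  have e := isoSpec_resLE (r ≫ g) (isAffineOpen_top W) hV hle
  haveI : Flat ((r ≫ g).resLE V ⊤ hle) := by
    dsimp only [Scheme.Hom.resLE]
    infer_instance
  haveI : Surjective ((r ≫ g).resLE V ⊤ hle) := ⟨fun v => by
    obtain ⟨y, hy⟩ := g.surjective v.1
    obtain ⟨w, hw⟩ := p.surjective ⟨y, by show g y ∈ V; rw [hy]; exact v.2⟩
    refine ⟨⟨w, trivial⟩, V.ι.isOpenEmbedding.injective ?_⟩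
    rw [← Scheme.Hom.comp_apply, Scheme.Hom.resLE_comp_ι]
    simp only [Scheme.Hom.comp_apply, r, Scheme.Opens.ι_apply]
    rw [hw]
    exact hy⟩
  have e' : Spec.map ((r ≫ g).appLE V ⊤ hle) =
      (isAffineOpen_top W).isoSpec.inv ≫ (r ≫ g).resLE V ⊤ hle ≫ hV.isoSpec.hom := by
    rw [e, Iso.inv_hom_id_assoc]
  rw [e']
  exact ⟨inferInstance, inferInstance⟩

end Groth.Agent.PerfGen7
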