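import Mathlib.Algebra.Category.Ring.Constructions
import Mathlib.RingTheory.RingHom.FaithfullyFlat
import Mathlib.RingTheory.TensorProduct.MvPolynomial

/-!
# The pushout of a presentation
-/

set_option linter.style.haveILetI false

universe u

open CategoryTheory CategoryTheory.Limits TensorProduct

namespace Groth.Agent.PerfGen7

variable {B B' : Type u} [CommRing B] [CommRing B'] {β : B →+* B'}

/-- The pushout of a presentation. -/
theorem exists_presentation_isPushout {A A' : Type u} [CommRing A] [CommRing A'] {α : A →+* A'}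
    {g : A →+* B} {g' : A' →+* B'}
    (h : IsPushout (CommRingCat.ofHom α) (CommRingCat.ofHom g) (CommRingCat.ofHom g') (CommRingCat.ofHom β))
    {n : ℕ} (ψ : MvPolynomial (Fin n) A →+* B) (hψ : Function.Surjective ψ) (hC : ψ.comp MvPolynomial.C = g) :
    ∃ ψ' : MvPolynomial (Fin n) A' →+* B', Function.Surjective ψ' ∧ ψ'.comp MvPolynomial.C = g' ∧
      IsPushout (CommRingCat.ofHom (MvPolynomial.map (σ := Fin n) α)) (CommRingCat.ofHom ψ)
        (CommRingCat.ofHom ψ') (CommRingCat.ofHom β) := by
  let ψ' : MvPolynomial (Fin n) A' →+* B' := MvPolynomial.eval₂Hom g' fun i => β (ψ (MvPolynomial.X i))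
  have hw : CommRingCat.ofHom (MvPolynomial.map (σ := Fin n) α) ≫ CommRingCat.ofHom ψ' =
      CommRingCat.ofHom ψ ≫ CommRingCat.ofHom β := CommRingCat.hom_ext <| by
    refine MvPolynomial.ringHom_ext (fun r => ?_) fun i => by simp [ψ']
    show ψ' (MvPolynomial.map α (MvPolynomial.C r)) = β ((ψ.comp MvPolynomial.C) r)
    rw [hC]
    simpa [ψ'] using RingHom.congr_fun congr(($h.w).hom) r
  have h1 : IsPushout (CommRingCat.ofHom α) (CommRingCat.ofHom (MvPolynomial.C (σ := Fin n)))
      (CommRingCat.ofHom (MvPolynomial.C (σ := Fin n))) (CommRingCat.ofHom (MvPolynomial.map (σ := Fin n) α)) := by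
    letI := α.toAlgebra
    letI : Algebra (MvPolynomial (Fin n) A) (MvPolynomial (Fin n) A') := MvPolynomial.algebraMvPolynomial
    haveI : IsScalarTower A (MvPolynomial (Fin n) A) (MvPolynomial (Fin n) A') :=
      .of_algebraMap_eq fun a => (MvPolynomial.map_C _ a).symm
    exact CommRingCat.isPushout_iff_isPushout.2
      (Algebra.IsPushout.symm (inferInstance :
        Algebra.IsPushout A (MvPolynomial (Fin n) A) A' (MvPolynomial (Fin n) A')))
  have hp : IsPushout (CommRingCat.ofHom (MvPolynomial.map (σ := Fin n) α)) (CommRingCat.ofHom ψ)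
      (CommRingCat.ofHom ψ') (CommRingCat.ofHom β) := by
    refine IsPushout.of_top ?_ hw h1
    have e1 : CommRingCat.ofHom (MvPolynomial.C (σ := Fin n)) ≫ CommRingCat.ofHom ψ = CommRingCat.ofHom g :=
      CommRingCat.hom_ext hC
    have e2 : CommRingCat.ofHom (MvPolynomial.C (σ := Fin n)) ≫ CommRingCat.ofHom ψ' = CommRingCat.ofHom g' :=
      CommRingCat.hom_ext (RingHom.ext fun r => by simp [ψ'])
    rw [e1, e2]
    exact h
  refine ⟨ψ', ?_, RingHom.ext fun r => by simp [ψ'], hp⟩
  letI := (MvPolynomial.map (σ := Fin n) α).toAlgebra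
  letI := ψ.toAlgebra
  letI := ψ'.toAlgebra
  letI := β.toAlgebra
  letI : Algebra (MvPolynomial (Fin n) A) B' := (ψ'.comp (MvPolynomial.map α)).toAlgebra
  haveI : IsScalarTower (MvPolynomial (Fin n) A) (MvPolynomial (Fin n) A') B' := .of_algebraMap_eq fun _ => rfl
  haveI : IsScalarTower (MvPolynomial (Fin n) A) B B' := .of_algebraMap_eq' congr(($hp.w).hom)
  haveI : Algebra.IsPushout (MvPolynomial (Fin n) A) (MvPolynomial (Fin n) A') B B' :=
    CommRingCat.isPushout_iff_isPushout.1 hp
  intro b
  obtain ⟨x, rfl⟩ := (Algebra.IsPushout.equiv (MvPolynomial (Fin n) A) (MvPolynomial (Fin n) A') B B').surjective b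
  induction x with
  | zero => exact ⟨0, by simp⟩
  | add x y hx hy =>
    obtain ⟨p, hp'⟩ := hx
    obtain ⟨q, hq⟩ := hy
    exact ⟨p + q, by rw [map_add, map_add, hp', hq]⟩
  | tmul a y =>
    obtain ⟨p, rfl⟩ := hψ y
    refine ⟨a * MvPolynomial.map α p, ?_⟩
    rw [Algebra.IsPushout.equiv_tmul, map_mul]
    exact congrArg (ψ' a * ·) (RingHom.congr_fun congr(($hw).hom) p)

attribute [local instance] MvPolynomial.algebraMvPolynomial in
/-- Maps of polynomial rings inherit flatness. -/
theorem flat_map_poly {A A' : Type u} [CommRing A] [CommRing A'] (α : A →+* A') (n : ℕ) :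
    (α.Flat → (MvPolynomial.map (σ := Fin n) α).Flat) ∧
      (α.FaithfullyFlat → (MvPolynomial.map (σ := Fin n) α).FaithfullyFlat) := by
  letI := α.toAlgebra
  haveI : IsScalarTower A (MvPolynomial (Fin n) A) (MvPolynomial (Fin n) A') :=
    .of_algebraMap_eq fun a => (MvPolynomial.map_C _ a).symm
  constructor
  · intro h
    haveI : Module.Flat A A' := h
    exact RingHom.flat_algebraMap_iff.2 (Module.Flat.of_linearEquiv
      (Algebra.IsPushout.equiv A (MvPolynomial (Fin n) A) A' _).symm.toLinearEquiv)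
  · intro h
    haveI : Module.FaithfullyFlat A A' := h
    exact RingHom.faithfullyFlat_algebraMap_iff.2 (Module.FaithfullyFlat.of_linearEquiv _ _
      (Algebra.IsPushout.equiv A (MvPolynomial (Fin n) A) A' _).symm.toLinearEquiv)

end Groth.Agent.PerfGen7
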