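import Groth.Agent.PerfGen7.RelLocal

/-!
# Charts of objects given by modules over an affine open
-/

set_option linter.style.haveILetI false
set_option backward.isDefEq.respectTransparency false
set_option backward.isDefEq.respectTransparency.types false

universe u

open CategoryTheory CategoryTheory.Limits AlgebraicGeometry

attribute [local instance] HasDerivedCategory.standard

namespace Groth.Agent.PerfGen7

open Groth.Agent.KFlatLib

variable {A B : CommRingCat.{u}}

/-- Direct image of `tildeD` along a closed immersion of affine schemes. -/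
theorem nonempty_pushD_tildeD (g : A ⟶ B) [IsClosedImmersion (Spec.map g)] (M : Dual.D B) :
    Nonempty ((pushD (Spec.map g)).obj ((DCoh.tildeD B).obj M) ≅
      (DCoh.tildeD A).obj ((DRing.restrictD g.hom).obj M)) := by
  let C := DerivedCategory.Q.objPreimage M
  let eC : DerivedCategory.Q.obj C ≅ M := DerivedCategory.Q.objObjPreimageIso M
  let c := ComplexShape.up ℤ
  haveI : (ModuleCat.restrictScalars.{u} g.hom ⋙ tilde.functor A).PreservesZeroMorphisms :=
    ⟨fun _ _ => by simp only [Functor.comp_map, Functor.map_zero]⟩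
  exact ⟨(pushD (Spec.map g)).mapIso ((DCoh.tildeD B).mapIso eC.symm ≪≫ tildeQ C) ≪≫ pushDQ _ _ ≪≫
    DerivedCategory.Q.mapIso ((NatIso.mapHomologicalComplex (pushTildeIso g) c).app C) ≪≫
    (tildeQ (((ModuleCat.restrictScalars.{u} g.hom).mapHomologicalComplex c).obj C)).symm ≪≫
    (DCoh.tildeD A).mapIso (((ModuleCat.restrictScalars.{u} g.hom).mapDerivedCategoryFactors.app C).symm ≪≫
      (DRing.restrictD g.hom).mapIso eC)⟩

variable {X : Scheme.{u}} {m : ℤ} {K : DCoh.D X} {U : X.Opens}

/-- The test along a map of spectra, for an object given by a module. -/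
theorem locPC_push_tilde_iff (g : A ⟶ Γ(X, U)) [IsClosedImmersion U.toSpecΓ] [IsClosedImmersion (Spec.map g)]
    [IsClosedImmersion (U.toSpecΓ ≫ Spec.map g)] (M : Dual.D Γ(X, U))
    (e : (DCoh.tildeD Γ(X, U)).obj M ≅ (pushD U.toSpecΓ).obj ((rho U.ι).obj K)) :
    LocPC m ((pushD (U.toSpecΓ ≫ Spec.map g)).obj ((rho U.ι).obj K)) ↔
      DRing.IsPseudoCoherent A m ((DRing.restrictD g.hom).obj M) := by
  obtain ⟨e₁⟩ := nonempty_pushD_tildeD g M
  let e' : (pushD (U.toSpecΓ ≫ Spec.map g)).obj ((rho U.ι).obj K) ≅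
      (DCoh.tildeD A).obj ((DRing.restrictD g.hom).obj M) :=
    (pushDComp U.toSpecΓ (Spec.map g) _ rfl _).symm ≪≫ (pushD (Spec.map g)).mapIso e.symm ≪≫ e₁
  rw [← Groth.Agent.S1004.result A _ m, isPseudoCoherentD_iff]
  exact ⟨fun h => h.of_iso e', fun h => h.of_iso e'.symm⟩

lemma isClosedImmersion_toSpecΓ (hU : IsAffineOpen U) : IsClosedImmersion U.toSpecΓ := by
  haveI : IsIso U.toSpecΓ := by
    have h := hU.isoSpec.isIso_hom
    rwa [hU.isoSpec_hom] at h
  infer_instance

/-- The test on a chart, for an object given by a module. -/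
theorem immPC_tilde_iff (hU : IsAffineOpen U) {P : Type u} [CommRing P] (φ : P →+* Γ(X, U))
    (hφ : Function.Surjective φ) (M : Dual.D Γ(X, U)) [IsClosedImmersion U.toSpecΓ]
    (e : (DCoh.tildeD Γ(X, U)).obj M ≅ (pushD U.toSpecΓ).obj ((rho U.ι).obj K)) :
    ImmPC m K U φ ↔ DRing.IsPseudoCoherent P m ((DRing.restrictD φ).obj M) := by
  haveI : IsClosedImmersion (Spec.map (CommRingCat.ofHom φ)) :=
    IsClosedImmersion.spec_of_surjective _ hφ
  haveI : IsClosedImmersion (U.toSpecΓ ≫ Spec.map (CommRingCat.ofHom φ)) :=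
    isClosedImmersion_imm hU φ hφ
  have key := locPC_push_tilde_iff (m := m) (CommRingCat.ofHom φ) M e
  exact ⟨fun h => key.1 (h _), fun h _ => key.2 h⟩

/-- On an affine open an object with quasi-coherent cohomology is given by a module. -/
theorem exists_tilde_rep (hU : IsAffineOpen U) [IsClosedImmersion U.toSpecΓ] (hK : DCoh.IsQCohD K) :
    ∃ M : Dual.D Γ(X, U),
      Nonempty ((DCoh.tildeD Γ(X, U)).obj M ≅ (pushD U.toSpecΓ).obj ((rho U.ι).obj K)) :=
  exists_tildeD_iso fun i => isQCoh_of_iso ((pushDHD U.toSpecΓ _ i) ≪≫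
      (Scheme.Modules.pushforward U.toSpecΓ).mapIso (restrictHDIso U.ι K i)).symm
    (QCoh.isQCoh_pushforward U.toSpecΓ (QCoh.isQCoh_restrict U.ι (hK i)))

end Groth.Agent.PerfGen7
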