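import Groth.Agent.PerfGen7.RelLpullRing
import Groth.Agent.PerfGen7.RelLpullPoly
import Groth.Agent.PerfGen7.RelTilde
import Groth.Agent.PerfGen7.RelBC
import Groth.Agent.KFlatLib.Scheme.TildePull
import Groth.Agent.KFlatLib.Scheme.QCohDerived
import Groth.Agent.H9Misc.DRingLBase

/-!
# Relative pseudo-coherence: flat base change and descent of objects with quasi-coherent cohomology
-/

set_option linter.style.haveILetI false
set_option backward.isDefEq.respectTransparency false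
set_option backward.isDefEq.respectTransparency.types false

universe u

open CategoryTheory CategoryTheory.Limits AlgebraicGeometry

attribute [local instance] HasDerivedCategory.standard

namespace Groth.Agent.PerfGen7

open Groth.Agent.KFlatLib Groth.Agent.H9Misc

section Square

variable {X X' U U' : Scheme.{u}}

/-- Restriction of a derived pullback along a square of open immersions. -/
theorem nonempty_lpull_square (g' : X' ⟶ X) [DCoh.HasLpull g'] (a : U' ⟶ U) [DCoh.HasLpull a]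
    (j : U ⟶ X) [IsOpenImmersion j] (j' : U' ⟶ X') [IsOpenImmersion j'] (w : j' ≫ g' = a ≫ j) (E : DCoh.D X) :
    Nonempty ((rho j').obj ((DCoh.Lpull g').obj E) ≅ (DCoh.Lpull a).obj ((rho j).obj E)) := by
  let R := repK E
  let η : Scheme.Modules.pullback g' ⋙ Scheme.Modules.restrictFunctor j' ≅
      Scheme.Modules.restrictFunctor j ⋙ Scheme.Modules.pullback a :=
    Functor.isoWhiskerLeft _ (Scheme.Modules.restrictFunctorIsoPullback j') ≪≫
      Scheme.Modules.pullbackComp j' g' ≪≫ Scheme.Modules.pullbackCongr w ≪≫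
      (Scheme.Modules.pullbackComp a j).symm ≪≫
      Functor.isoWhiskerRight (Scheme.Modules.restrictFunctorIsoPullback j).symm _
  exact ⟨(rho j').mapIso (lpullRepIso g' E).symm ≪≫ (rhoQ j').app _ ≪≫
    DerivedCategory.Q.mapIso ((NatIso.mapHomologicalComplex η (ComplexShape.up ℤ)).app R) ≪≫
    (lpullIso a (isKFlat_restrict j (isKFlat_repK E))).symm ≪≫
    (DCoh.Lpull a).mapIso (((rhoQ j).app R).symm ≪≫ (rho j).mapIso (repKIso E))⟩

/-- Derived pullback of a composite. -/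
theorem nonempty_lpull_comp (a : U' ⟶ U) (b : U ⟶ X) (c : U' ⟶ X) (w : a ≫ b = c) [DCoh.HasLpull a]
    [DCoh.HasLpull b] [DCoh.HasLpull c] (E : DCoh.D X) :
    Nonempty ((DCoh.Lpull a).obj ((DCoh.Lpull b).obj E) ≅ (DCoh.Lpull c).obj E) :=
  ⟨(DCoh.Lpull a).mapIso (lpullRepIso b E).symm ≪≫ lpullIso a (isKFlat_pullback b (isKFlat_repK E)) ≪≫
    DerivedCategory.Q.mapIso ((NatIso.mapHomologicalComplex
      (Scheme.Modules.pullbackComp a b ≪≫ Scheme.Modules.pullbackCongr w) (ComplexShape.up ℤ)).app (repK E)) ≪≫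
    lpullRepIso c E⟩

end Square

variable {X Y X' Y' : Scheme.{u}} {f : X ⟶ Y} {f' : X' ⟶ Y'} {g' : X' ⟶ X} {g : Y' ⟶ Y} {m : ℤ}

/-- The two restrictions to an affine open. -/
noncomputable def pushToSpecIso {U : X.Opens} (hU : IsAffineOpen U) [IsClosedImmersion U.toSpecΓ] [IsIso U.toSpecΓ]
    (K : DCoh.D X) : (pushD U.toSpecΓ).obj ((rho U.ι).obj K) ≅ (rho hU.fromSpec).obj K :=
  (pushD U.toSpecΓ).mapIso (rhoComp U.toSpecΓ hU.fromSpec U.ι hU.toSpecΓ_fromSpec K).symm ≪≫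
    pushDRestrictSelf U.toSpecΓ _

variable [DCoh.HasLpull g']

/-- The test on a pair of charts of a base change. -/
theorem immPC_lpull_pair [Flat g] (hc : IsPullback g' f' f g) {U : X.Opens} {V : Y.Opens} {V' : Y'.Opens}
    (hU : IsAffineOpen U) (hV : IsAffineOpen V) (hV' : IsAffineOpen V')
    (hUV : U ≤ f ⁻¹ᵁ V) (hVV : V' ≤ g ⁻¹ᵁ V) {n : ℕ} (φ : MvPolynomial (Fin n) Γ(Y, V) →+* Γ(X, U))
    (hφ : DerSch.IsChart f U V hUV φ) {E : DCoh.D X} (hE : DCoh.IsQCohD E) (m : ℤ) :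
    ∃ φ' : MvPolynomial (Fin n) Γ(Y', V') →+* Γ(X', g' ⁻¹ᵁ U ⊓ f' ⁻¹ᵁ V'),
      DerSch.IsChart f' (g' ⁻¹ᵁ U ⊓ f' ⁻¹ᵁ V') V' inf_le_right φ' ∧
      (ImmPC m E U φ → ImmPC m ((DCoh.Lpull g').obj E) (g' ⁻¹ᵁ U ⊓ f' ⁻¹ᵁ V') φ') ∧
      ((g.appLE V V' hVV).hom.FaithfullyFlat →
        ImmPC m ((DCoh.Lpull g').obj E) (g' ⁻¹ᵁ U ⊓ f' ⁻¹ᵁ V') φ' → ImmPC m E U φ) := by
  obtain ⟨hU', hpo⟩ := exists_affine_square hc hU hV hV' hUV hVV
  let U' := g' ⁻¹ᵁ U ⊓ f' ⁻¹ᵁ V'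
  let α := (g.appLE V V' hVV).hom
  let β := (g'.appLE U U' inf_le_left).hom
  obtain ⟨φ', h1, h2, hp⟩ := exists_presentation_isPushout (α := α) (g := (f.appLE V U hUV).hom)
    (g' := (f'.appLE V' U' inf_le_right).hom) (β := β) hpo φ hφ.1 hφ.2
  haveI := isClosedImmersion_toSpecΓ hU
  haveI := isClosedImmersion_toSpecΓ hU'
  haveI : IsIso U.toSpecΓ := by
    have h := hU.isoSpec.isIso_hom
    rwa [hU.isoSpec_hom] at h
  haveI : IsIso U'.toSpecΓ := by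
    have h := hU'.isoSpec.isIso_hom
    rwa [hU'.isoSpec_hom] at h
  haveI := DRingLBase.hasLBaseChange β
  haveI := hasLpull (Spec.map (g'.appLE U U' inf_le_left))
  haveI : DCoh.HasLpull (Spec.map (CommRingCat.ofHom β)) := hasLpull _
  obtain ⟨M, ⟨e⟩⟩ := exists_tilde_rep hU hE
  obtain ⟨eT⟩ := nonempty_tildeD_lpull_iso β
  obtain ⟨eS⟩ := nonempty_lpull_square g' (Spec.map (g'.appLE U U' inf_le_left)) hU.fromSpec hU'.fromSpec
    (hU.SpecMap_appLE_fromSpec g' hU' inf_le_left).symm E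
  let e' : (DCoh.tildeD Γ(X', U')).obj ((DRing.LBaseChange β).obj M) ≅
      (pushD U'.toSpecΓ).obj ((rho U'.ι).obj ((DCoh.Lpull g').obj E)) :=
    eT.app M ≪≫ (DCoh.Lpull (Spec.map (g'.appLE U U' inf_le_left))).mapIso (e ≪≫ pushToSpecIso hU E) ≪≫
      eS.symm ≪≫ (pushToSpecIso hU' _).symm
  have key := pc_restrict_lbase hp M m
  have hg : α.Flat := HasRingHomProperty.appLE @Flat g ‹_› ⟨V, hV⟩ ⟨V', hV'⟩ hVV
  refine ⟨φ', ⟨h1, h2⟩, fun h => ?_, fun hff h => ?_⟩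
  · exact (immPC_tilde_iff hU' φ' h1 _ e').2
      (key.1 ((flat_map_poly α n).1 hg) ((immPC_tilde_iff hU φ hφ.1 M e).1 h))
  · exact (immPC_tilde_iff hU φ hφ.1 M e).2
      (key.2 ((flat_map_poly α n).2 hff) ((immPC_tilde_iff hU' φ' h1 _ e').1 h))

/-- Flat base change. -/
theorem rel_lpull [LocallyOfFiniteType f] [Flat g] (hc : IsPullback g' f' f g) {E : DCoh.D X}
    (hE : DCoh.IsQCohD E) (h : DerSch.IsPseudoCoherentRel f m E) :
    DerSch.IsPseudoCoherentRel f' m ((DCoh.Lpull g').obj E) := by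
  haveI : LocallyOfFiniteType f' := MorphismProperty.of_isPullback hc ‹_›
  refine isPseudoCoherentRel_iff.2 fun x => ?_
  obtain ⟨V, hV, hxV, -⟩ := exists_isAffineOpen_mem_and_subset (x := g (f' x)) (U := (⊤ : Y.Opens)) trivial
  obtain ⟨V', hV', hxV', hV'V⟩ := exists_isAffineOpen_mem_and_subset (x := f' x) (U := g ⁻¹ᵁ V) hxV
  have hfx : g' x ∈ f ⁻¹ᵁ V := by
    show f (g' x) ∈ V
    rw [← Scheme.Hom.comp_apply, hc.w, Scheme.Hom.comp_apply]
    exact hxV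
  obtain ⟨U, hU, hxU, hUV⟩ := exists_isAffineOpen_mem_and_subset (x := g' x) (U := f ⁻¹ᵁ V) hfx
  obtain ⟨n, φ, hφ⟩ := exists_chart_of_affine (f := f) hU hV hUV
  obtain ⟨φ', hφ', h1, -⟩ := immPC_lpull_pair hc hU hV hV' hUV hV'V φ hφ hE m
  exact ⟨g' ⁻¹ᵁ U ⊓ f' ⁻¹ᵁ V', V', ⟨hxU, hxV'⟩, (exists_affine_square hc hU hV hV' hUV hV'V).1, hV', inf_le_right, n, φ', hφ',
    h1 ((chartPC_iff hU φ hφ.1).1 (chartPC_of_rel h hU hV hUV φ hφ))⟩

/-- Faithfully flat quasi-compact descent. -/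
theorem rel_of_lpull [LocallyOfFiniteType f] [Flat g] [Surjective g] [QuasiCompact g]
    (hc : IsPullback g' f' f g) {E : DCoh.D X} (hE : DCoh.IsQCohD E)
    (hE' : DerSch.IsPseudoCoherentRel f' m ((DCoh.Lpull g').obj E)) :
    DerSch.IsPseudoCoherentRel f m E := by
  haveI : LocallyOfFiniteType f' := MorphismProperty.of_isPullback hc ‹_›
  refine isPseudoCoherentRel_iff.2 fun x => ?_
  obtain ⟨V, hV, hxV, -⟩ := exists_isAffineOpen_mem_and_subset (x := f x) (U := (⊤ : Y.Opens)) trivial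
  obtain ⟨U, hU, hxU, hUV⟩ := exists_isAffineOpen_mem_and_subset (x := x) (U := f ⁻¹ᵁ V) hxV
  haveI : CompactSpace ↥(g ⁻¹ᵁ V : Scheme.{u}) := isCompact_iff_compactSpace.1
    (g.isCompact_preimage hV.isCompact)
  obtain ⟨W, p, hp, hpf, hW⟩ :=
    Scheme.exists_hom_isAffine_of_isZariskiLocalAtSource (P := @Flat) (g ⁻¹ᵁ V : Scheme.{u})
  haveI := hp
  haveI : Flat p := hpf
  let r : W ⟶ Y' := p ≫ (g ⁻¹ᵁ V).ι
  let g₂ := pullback.fst f' r
  let f₂ := pullback.snd f' r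
  have hc₂ : IsPullback g₂ f₂ f' r := IsPullback.of_hasPullback f' r
  have hc₃ : IsPullback (g₂ ≫ g') f₂ f (r ≫ g) := hc₂.paste_horiz hc
  haveI := hasLpull g₂
  haveI := hasLpull (g₂ ≫ g')
  have h₂ : DerSch.IsPseudoCoherentRel f₂ m ((DCoh.Lpull g₂).obj ((DCoh.Lpull g').obj E)) :=
    rel_lpull hc₂ (isQCohD_lpull g' hE) hE'
  obtain ⟨ec⟩ := nonempty_lpull_comp g₂ g' (g₂ ≫ g') rfl E
  have hle : (⊤ : W.Opens) ≤ (r ≫ g) ⁻¹ᵁ V := fun w _ => (p w).2
  obtain ⟨n, φ, hφ⟩ := exists_chart_of_affine (f := f) hU hV hUV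
  obtain ⟨φ', hφ', -, h2⟩ := immPC_lpull_pair hc₃ hU hV (isAffineOpen_top W) hUV hle φ hφ hE m
  have hU'' := (exists_affine_square hc₃ hU hV (isAffineOpen_top W) hUV hle).1
  refine ⟨U, V, hxU, hU, hV, hUV, n, φ, hφ, h2 ?_ fun _ =>
    (((chartPC_iff hU'' φ' hφ'.1).1 (chartPC_of_rel h₂ hU'' (isAffineOpen_top W) inf_le_right φ' hφ')) _).of_iso
      ((pushD _).mapIso ((rho _).mapIso ec))⟩
  rw [← flat_and_surjective_SpecMap_iff]
  have e := isoSpec_resLE (r ≫ g) (isAffineOpen_top W) hV hle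
  haveI : Flat ((r ≫ g).resLE V ⊤ hle) := by
    dsimp only [Scheme.Hom.resLE]
    infer_instance
  haveI : Surjective ((r ≫ g).resLE V ⊤ hle) := ⟨fun v => by
    obtain ⟨y, hy⟩ := g.surjective v.1
    obtain ⟨w, hw⟩ := p.surjective ⟨y, by show g y ∈ V; rw [hy]; exact v.2⟩
    refine ⟨⟨w, trivial⟩, V.ι.isOpenEmbedding.injective ?_⟩
    rw [← Scheme.Hom.comp_apply, Scheme.Hom.resLE_comp_ι]
    simp only [Scheme.Hom.comp_apply, r, Scheme.Opens.ι_apply]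
    rw [hw]
    exact hy⟩
  have e' : Spec.map ((r ≫ g).appLE V ⊤ hle) =
      (isAffineOpen_top W).isoSpec.inv ≫ (r ≫ g).resLE V ⊤ hle ≫ hV.isoSpec.hom := by
    rw [e, Iso.inv_hom_id_assoc]
  rw [e']
  exact ⟨inferInstance, inferInstance⟩

end Groth.Agent.PerfGen7
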