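import Groth.Agent.KFlatLib.Scheme.ClosedPush
import Groth.Agent.KFlatLib.Scheme.PCQCoh
import Groth.Prelude.Def_DerSch2
import Mathlib.AlgebraicGeometry.Morphisms.ClosedImmersion

/-!
# Stalks of the cohomology of objects pseudo-coherent relative to a morphism
-/

set_option linter.style.haveILetI false
set_option backward.isDefEq.respectTransparency false
set_option backward.isDefEq.respectTransparency.types false

universe u

open CategoryTheory CategoryTheory.Limits AlgebraicGeometry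

attribute [local instance] HasDerivedCategory.standard

namespace Groth.Agent.PerfGen7

open Groth.Agent.KFlatLib

variable {X Y : Scheme.{u}}

lemma isClosedImmersion_chartImm {U : X.Opens} (hU : IsAffineOpen U) {R : Type u} [CommRing R] {n : ℕ}
    (φ : MvPolynomial (Fin n) R →+* Γ(X, U)) (hφ : Function.Surjective φ) :
    IsClosedImmersion (DerSch.chartImm U φ) := by
  haveI : IsClosedImmersion (Spec.map (CommRingCat.ofHom φ)) :=
    IsClosedImmersion.spec_of_surjective _ hφ
  haveI : IsIso U.toSpecΓ := by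
    have h := hU.isoSpec.isIso_hom
    rwa [hU.isoSpec_hom] at h
  unfold DerSch.chartImm
  infer_instance

/-- A cover of `X` by the charts of a relatively pseudo-coherent object. -/
lemma exists_chart {f : X ⟶ Y} {m : ℤ} {E : DCoh.D X} (hE : DerSch.IsPseudoCoherentRel f m E)
    (x : X) : ∃ (U : X.Opens) (R : CommRingCat.{u}) (i : (U : Scheme.{u}) ⟶ Spec R),
      x ∈ U ∧ IsAffineOpen U ∧ IsClosedImmersion i ∧
      ∀ G : CochainComplex X.Modules ℤ, Nonempty (DCoh.toD X G ≅ E) →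
        DCoh.IsPseudoCoherentD m
          (DCoh.toD (Spec R) ((DerSch.pushCx i).obj ((DCoh.restrictCx U).obj G))) := by
  obtain ⟨-, 𝒱, h𝒱, h⟩ := hE
  have hx : f x ∈ (⨆ V ∈ 𝒱, (V : Y.Opens)) := h𝒱 ▸ TopologicalSpace.Opens.mem_top _
  simp only [TopologicalSpace.Opens.mem_iSup] at hx
  obtain ⟨V, hV, hxV⟩ := hx
  obtain ⟨𝒰, h𝒰, h'⟩ := h V hV
  have hx' : x ∈ (⨆ U ∈ 𝒰, (U : X.Opens)) := h𝒰 ▸ hxV
  simp only [TopologicalSpace.Opens.mem_iSup] at hx'
  obtain ⟨U, hU, hxU⟩ := hx'
  have hle : (U : X.Opens) ≤ f ⁻¹ᵁ (V : Y.Opens) :=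
    h𝒰 ▸ le_iSup₂ (f := fun (U : X.affineOpens) (_ : U ∈ 𝒰) => (U : X.Opens)) U hU
  obtain ⟨n, φ, hc, hpc⟩ := h' U hU hle
  exact ⟨U, CommRingCat.of _, DerSch.chartImm (U : X.Opens) φ, hxU, U.2,
    isClosedImmersion_chartImm U.2 φ hc.1, hpc⟩

section

variable {U : X.Opens} {Z : Scheme.{u}} (i : (U : Scheme.{u}) ⟶ Z) [IsClosedImmersion i]

lemma preservesFiniteColimits_pushClosed :
    PreservesFiniteColimits (Scheme.Modules.pushforward i) :=
  ⟨fun J _ _ => preservesColimitsOfShape_push i J⟩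

/-- The cohomology of the termwise pushforward of a restriction. -/
noncomputable def pushRestrictHDIso (G : CochainComplex X.Modules ℤ) {E : DCoh.D X}
    (e : DCoh.toD X G ≅ E) (j : ℤ) :
    DCoh.HD (DCoh.toD Z ((DerSch.pushCx i).obj ((DCoh.restrictCx U).obj G))) j ≅
      (Scheme.Modules.pushforward i).obj
        ((Scheme.Modules.restrictFunctor U.ι).obj (DCoh.HD E j)) :=
  haveI := preservesFiniteColimits_pushClosed i
  ((DerivedCategory.homologyFunctorFactors _ j).app
      ((DerSch.pushCx i).obj ((DCoh.restrictCx U).obj G))) ≪≫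
    (((DCoh.restrictCx U).obj G).sc j).mapHomologyIso (Scheme.Modules.pushforward i) ≪≫
    (Scheme.Modules.pushforward i).mapIso ((G.sc j).mapHomologyIso (Scheme.Modules.restrictFunctor U.ι) ≪≫
      (Scheme.Modules.restrictFunctor U.ι).mapIso
        (((DerivedCategory.homologyFunctorFactors _ j).app G).symm ≪≫
          (DerivedCategory.homologyFunctor _ j).mapIso e))

/-- Stalks of the pushforward of a restriction. -/
noncomputable def stalkPushRestrictIso (u : U) (M : X.Modules) :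
    (stalkAb (X := Z) (i u)).obj ((Scheme.Modules.pushforward i).obj
      ((Scheme.Modules.restrictFunctor U.ι).obj M)) ≅ (stalkAb (X := X) (U.ι u)).obj M :=
  (stalkPushIso i u).app _ ≪≫ (Scheme.Modules.restrictStalkNatIso U.ι u).app M

end

/-- Near every point, the cohomology stalks of a relatively pseudo-coherent object vanish in high degree. -/
lemma exists_nhd_isZero_stalk {f : X ⟶ Y} {m : ℤ} {E : DCoh.D X}
    (hE : DerSch.IsPseudoCoherentRel f m E) (x : X) :
    ∃ (N : X.Opens) (b : ℤ), x ∈ N ∧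
      ∀ x' ∈ N, ∀ j : ℤ, b < j → IsZero ((stalkAb (X := X) x').obj (DCoh.HD E j)) := by
  obtain ⟨U, R, i, hxU, hU, hi, hpc⟩ := exists_chart hE x
  let G := DerivedCategory.Q.objPreimage E
  obtain ⟨W, hW, hW'⟩ := hpc G ⟨repIso E⟩ (i ⟨x, hxU⟩)
  obtain ⟨P, α, hP, hiso, -⟩ := hW' _ ⟨Iso.refl _⟩
  obtain ⟨a, b, hab⟩ := hP.1
  refine ⟨U.ι ''ᵁ (i ⁻¹ᵁ W), max m b, ⟨⟨x, hxU⟩, hW, rfl⟩, ?_⟩
  rintro _ ⟨u, hu, rfl⟩ j hj
  have hz : IsZero ((Scheme.Modules.restrictFunctor W.ι).obj
      (DCoh.HD (DCoh.toD (Spec R) ((DerSch.pushCx i).obj ((DCoh.restrictCx U).obj G))) j)) := by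
    haveI := hiso j (lt_of_le_of_lt (le_max_left m b) hj)
    refine IsZero.of_iso ?_ ((restrictHDIso W.ι _ j).symm ≪≫
      (DerivedCategory.homologyFunctor _ j).mapIso ((rhoQ W.ι).app _) ≪≫
      (asIso ((DerivedCategory.homologyFunctor _ j).map α)).symm ≪≫
      (DerivedCategory.homologyFunctorFactors _ j).app P)
    exact ShortComplex.isZero_homology_of_isZero_X₂ _
      (hab j (Or.inr (lt_of_le_of_lt (le_max_right m b) hj)))
  let w : W := ⟨i u, hu⟩
  refine IsZero.of_iso ?_ ((stalkPushRestrictIso i u _).symm ≪≫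
    (stalkAb (X := Spec R) (i u)).mapIso (pushRestrictHDIso i G (repIso E) j).symm ≪≫
    ((Scheme.Modules.restrictStalkNatIso W.ι w).app _).symm)
  exact Functor.map_isZero (stalkAb (X := (W : Scheme.{u})) w) hz

end Groth.Agent.PerfGen7
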