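import Groth.Agent.PerfGen7.RelTorBridge
import Groth.Agent.PerfGen7.RelPCBasic
import Groth.Agent.KFlatLib.Scheme.RHomLocal
import Groth.Agent.S1004

/-!
# Relative perfectness through affine charts
-/

set_option backward.isDefEq.respectTransparency false
set_option linter.style.haveILetI false

universe u

open CategoryTheory CategoryTheory.Limits AlgebraicGeometry

attribute [local instance] HasDerivedCategory.standard

namespace Groth.Agent.PerfGen7

open Groth.Agent.KFlatLib Groth.Agent.H9Misc Groth.Agent.PerfGen7.RelTor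

variable {X S : Scheme.{u}} (f : X ⟶ S) {U : X.Opens} {V : S.Opens}

/-- Tor amplitude over the base, read on an affine chart. -/
theorem torAmplitudeAt_chart_iff (hU : IsAffineOpen U) (hV : IsAffineOpen V) (hUV : U ≤ f ⁻¹ᵁ V)
    (F : CochainComplex X.Modules ℤ) (a b : ℤ) (z : Spec Γ(X, U)) :
    DerSch.HasTorAmplitudeAt f a b F (hU.fromSpec.base z) ↔
      DerSch.HasTorAmplitudeAt (Spec.map (f.appLE V U hUV)) a b ((rCx hU.fromSpec).obj F) z := by
  have e : Spec.map (f.appLE V U hUV) ≫ hV.fromSpec = hU.fromSpec ≫ f :=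
    hV.SpecMap_appLE_fromSpec f hU hUV
  constructor
  · intro h
    exact torAmplitudeAt_of_comp_openImmersion (Spec.map (f.appLE V U hUV)) hV.fromSpec
      (torAmplitudeAt_of_eq e.symm (torAmplitudeAt_restrict f hU.fromSpec z h))
  · intro h
    exact torAmplitudeAt_unrestrict f hU.fromSpec z (torAmplitudeAt_of_eq e
      (torAmplitudeAt_comp_openImmersion (Spec.map (f.appLE V U hUV)) hV.fromSpec h))

/-- The restriction to the spectrum of an affine open, through the inclusion. -/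
noncomputable def fromSpecRhoIso (hU : IsAffineOpen U) (E : DCoh.D X) :
    (rho hU.isoSpec.inv).obj ((rho U.ι).obj E) ≅ (rho hU.fromSpec).obj E :=
  rhoComp hU.isoSpec.inv U.ι hU.fromSpec hU.isoSpec_inv_ι E

theorem exists_tilde_fromSpec (hU : IsAffineOpen U) {E : DCoh.D X} (hE : DCoh.IsQCohD E) :
    ∃ M, Nonempty ((DCoh.tildeD Γ(X, U)).obj M ≅ (rho hU.fromSpec).obj E) :=
  exists_tildeD_iso fun i =>
    isQCoh_of_iso (restrictHDIso hU.fromSpec E i).symm (QCoh.isQCoh_restrict hU.fromSpec (hE i))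

variable [Flat f] [∀ R : CommRingCat.{u}, PreservesFiniteLimits (tilde.functor R)]

/-- On an affine chart a relatively perfect object gives relatively perfect complexes of modules. -/
theorem isRelPerfect_of_chart (hU : IsAffineOpen U) (hV : IsAffineOpen V) (hUV : U ≤ f ⁻¹ᵁ V)
    {E : DCoh.D X} (hpc : ∀ m, LocPC m E) (htor : DCoh.LocHasFiniteRelTorDim f E)
    (M : Dual.D Γ(X, U)) (e : (rho hU.fromSpec).obj E ≅ (DCoh.tildeD Γ(X, U)).obj M) :
    @Dual2.IsRelPerfect Γ(S, V) Γ(X, U) _ _ (f.appLE V U hUV).hom.toAlgebra M := by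
  letI := (f.appLE V U hUV).hom.toAlgebra
  refine ⟨(DRingPC.pc'_iff M).2 fun m => (S1004.result Γ(X, U) M m).1
    ((isPseudoCoherentD_iff m _).2 (((hpc m).restrict hU.fromSpec).of_iso e)), ?_⟩
  let F := DerivedCategory.Q.objPreimage E
  let eF : DCoh.toD X F ≅ E := DerivedCategory.Q.objObjPreimageIso E
  obtain ⟨a, b, -, hab⟩ := exists_interval_of_isCompact f
    ((locHasFiniteRelTorDim_iff_stalks f E F eF).1 htor) hU.isCompact
  refine ⟨a, b, (TorAmpBC.torAmplitude_tilde_iff (f.appLE V U hUV) M ((rCx hU.fromSpec).obj F)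
    (((rhoQ hU.fromSpec).app F).symm ≪≫ (rho hU.fromSpec).mapIso eF ≪≫ e)).1 fun z => ?_⟩
  exact (torAmplitudeAt_chart_iff f hU hV hUV F a b z).1
    (hab _ (hU.range_fromSpec ▸ Set.mem_range_self z))

/-- Relatively perfect complexes of modules on a covering by charts give relative perfectness. -/
theorem relPerfect_of_charts {E : DCoh.D X} (hE : DCoh.IsQCohD E)
    (h : ∀ x : X, ∃ (U : X.Opens) (hU : IsAffineOpen U) (V : S.Opens) (_ : IsAffineOpen V)
      (hUV : U ≤ f ⁻¹ᵁ V), x ∈ U ∧ ∀ M : Dual.D Γ(X, U),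
        Nonempty ((rho hU.fromSpec).obj E ≅ (DCoh.tildeD Γ(X, U)).obj M) →
          @Dual2.IsRelPerfect Γ(S, V) Γ(X, U) _ _ (f.appLE V U hUV).hom.toAlgebra M) :
    (∀ m, DCoh.IsPseudoCoherentD m E) ∧ DCoh.LocHasFiniteRelTorDim f E := by
  let F := DerivedCategory.Q.objPreimage E
  let eF : DCoh.toD X F ≅ E := DerivedCategory.Q.objObjPreimageIso E
  refine ⟨fun m => (isPseudoCoherentD_iff m E).2 (LocPC.of_local fun x => ?_),
    (locHasFiniteRelTorDim_iff_stalks f E F eF).2 fun x => ?_⟩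
  · obtain ⟨U, hU, V, hV, hUV, hxU, hM⟩ := h x
    obtain ⟨M, ⟨e⟩⟩ := exists_tilde_fromSpec hU hE
    refine ⟨_, hU.fromSpec, inferInstance, hU.range_fromSpec ▸ hxU, ?_⟩
    exact ((isPseudoCoherentD_iff m _).1
      ((S1004.result Γ(X, U) M m).2 ((DRingPC.pc'_iff M).1 (hM M ⟨e.symm⟩).1 m))).of_iso e
  · obtain ⟨U, hU, V, hV, hUV, hxU, hM⟩ := h x
    obtain ⟨M, ⟨e⟩⟩ := exists_tilde_fromSpec hU hE
    obtain ⟨a, b, hab⟩ := (hM M ⟨e.symm⟩).2
    refine ⟨U, a, b, hxU, fun y hy => ?_⟩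
    obtain ⟨z, rfl⟩ : y ∈ Set.range hU.fromSpec := hU.range_fromSpec ▸ hy
    exact (torAmplitudeAt_chart_iff f hU hV hUV F a b z).2
      ((TorAmpBC.torAmplitude_tilde_iff (f.appLE V U hUV) M ((rCx hU.fromSpec).obj F)
        (((rhoQ hU.fromSpec).app F).symm ≪≫ (rho hU.fromSpec).mapIso eF ≪≫ e.symm)).2 hab z)

end Groth.Agent.PerfGen7
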