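import Groth.Agent.PerfGen7.RelPerfectCriterion
import Groth.Agent.PerfGen7.RelPerfectAffine
import Groth.Agent.PerfGen7.RelLpull
import Groth.Agent.PerfGen7.LowerBound
import Groth.Agent.H9Misc.DRingTorFaithful
import Mathlib.AlgebraicGeometry.Fiber

/-!
# Relative perfectness from bounded below fibres, for schemes
-/

set_option linter.style.haveILetI false
set_option backward.isDefEq.respectTransparency false

universe u

open CategoryTheory CategoryTheory.Limits MonoidalCategory AlgebraicGeometry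

attribute [local instance] HasDerivedCategory.standard

namespace Groth.Agent.PerfGen7.RelPerfectFibres

open Groth.Agent.KFlatLib Groth.Agent.H9Misc Groth.Agent.H9Misc.DRingLTensor
  Groth.Agent.PerfGen7.RelTor Groth.Agent.H9Misc.DRingTorDescent

section Ring

variable {A B : Type u} [CommRing A] [CommRing B]

/-- Cohomology of an object, read on a representative. -/
theorem subsingleton_iff_exactAt {G : DRing.Cx A} {K : Dual.D A} (e : DerivedCategory.Q.obj G ≅ K) (i : ℤ) :
    Subsingleton (Dual.HD A K i) ↔ G.ExactAt i := by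
  obtain ⟨eH⟩ := DRingTor.hd_iso e i
  exact ⟨RelPerfectCriterion.exactAt_of_subsingleton e i, fun h =>
    ModuleCat.subsingleton_of_isZero (M := ModuleCat.of A (Dual.HD A K i))
      (((HomologicalComplex.exactAt_iff_isZero_homology _ i).1 h).of_iso eH)⟩

/-- Extension of scalars against tensoring with the algebra. -/
theorem exactAt_tensC_iff_extC [Algebra A B] (G : DRing.Cx A) (i : ℤ) :
    ((tensC (ModuleCat.of A B)).obj G).ExactAt i ↔ ((extC' (algebraMap A B)).obj G).ExactAt i := by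
  let eM : (tensC (resB (algebraMap A B))).obj G ≅ (tensC (ModuleCat.of A B)).obj G :=
    HomologicalComplex.Hom.isoOfComponents (fun n => whiskerLeftIso (G.X n) (resBIso B))
      (fun p q _ => whisker_exchange (G.d p q) (resBIso B).hom)
  let eX : (tensC (resB (algebraMap A B))).obj G ≅
      (resCx (algebraMap A B)).obj ((extC' (algebraMap A B)).obj G) :=
    HomologicalComplex.Hom.isoOfComponents (fun n => (DRingTorLocal.extResIso (algebraMap A B)).app (G.X n))
      (fun p q _ => ((DRingTorLocal.extResIso (algebraMap A B)).hom.naturality (G.d p q)).symm)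
  exact (DRingTorLTensor.exactAt_iff_of_iso (eM.symm ≪≫ eX) i).trans
    (ShortComplex.exact_map_iff_of_faithful (((extC' (algebraMap A B)).obj G).sc i)
      (ModuleCat.restrictScalars (algebraMap A B)))

/-- A faithfully flat extension of scalars reflects exactness. -/
theorem exactAt_extC_faithful_iff [Algebra A B] [Module.FaithfullyFlat A B] (G : DRing.Cx A) (i : ℤ) :
    ((extC' (algebraMap A B)).obj G).ExactAt i ↔ G.ExactAt i := by
  let eM : (tensC (resB (algebraMap A B))).obj G ≅ (tensC (ModuleCat.of A B)).obj G :=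
    HomologicalComplex.Hom.isoOfComponents (fun n => whiskerLeftIso (G.X n) (resBIso B))
      (fun p q _ => whisker_exchange (G.d p q) (resBIso B).hom)
  exact (exactAt_tensC_iff_extC G i).symm.trans
    ((DRingTorLTensor.exactAt_iff_of_iso eM i).symm.trans (DRingTorFaithful.exactAt_tensC_faithful G i))

/-- The fibre at a prime does not depend on the field. -/
theorem exactAt_residueField_iff (p : Ideal A) [p.IsPrime] {k : Type u} [CommRing k] (hk : IsField k)
    (π : A →+* k) (hπ : RingHom.ker π = p) (G : DRing.Cx A) (i : ℤ) :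
    ((extC' π).obj G).ExactAt i ↔ ((extC' (algebraMap A p.ResidueField)).obj G).ExactAt i := by
  have h₁ : p ≤ RingHom.ker π := hπ.ge
  have h₂ : p.primeCompl ≤ (IsUnit.submonoid k).comap π := fun x hx => by
    obtain ⟨y, hy⟩ := hk.mul_inv_cancel (a := π x) fun h0 => hx (hπ.le (RingHom.mem_ker.2 h0))
    exact IsUnit.of_mul_eq_one y hy
  let l : p.ResidueField →+* k := Ideal.ResidueField.lift p π h₁ h₂
  have hl : l.comp (algebraMap A p.ResidueField) = π :=
    RingHom.ext fun r => Ideal.ResidueField.lift_algebraMap p π h₁ h₂ r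
  letI : Algebra p.ResidueField k := l.toAlgebra
  haveI : Nontrivial k := hk.nontrivial
  rw [← DRingFibre.exactAt_extC_comp (algebraMap A p.ResidueField) l π hl.symm i]
  exact exactAt_extC_faithful_iff (A := p.ResidueField) (B := k) _ i

end Ring

variable {X S : Scheme.{u}} (f : X ⟶ S)

/-- The kernel of the map to the residue field on an affine open. -/
theorem ker_appLE_fromSpecResidueField {V : S.Opens} (hV : IsAffineOpen V) (p : PrimeSpectrum Γ(S, V))
    (h : (⊤ : (Spec (S.residueField (hV.fromSpec.base p))).Opens) ≤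
      S.fromSpecResidueField (hV.fromSpec.base p) ⁻¹ᵁ V) :
    IsField Γ(Spec (S.residueField (hV.fromSpec.base p)), ⊤) ∧
      RingHom.ker ((S.fromSpecResidueField (hV.fromSpec.base p)).appLE V ⊤ h).hom = p.asIdeal := by
  let κ := S.residueField (hV.fromSpec.base p)
  have hk : IsField Γ(Spec κ, ⊤) :=
    (Scheme.ΓSpecIso κ).commRingCatIsoToRingEquiv.toMulEquiv.isField (Field.toIsField _)
  refine ⟨hk, ?_⟩
  haveI := hk.isDomain
  let x : Spec Γ(Spec κ, ⊤) := ⟨⊥, Ideal.isPrime_bot⟩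
  have h1 := congrArg (fun g => g.base x)
    (hV.SpecMap_appLE_fromSpec (S.fromSpecResidueField (hV.fromSpec.base p)) (isAffineOpen_top (Spec κ)) h)
  simp only [Scheme.Hom.comp_base, TopCat.coe_comp, Function.comp_apply] at h1
  rw [Scheme.fromSpecResidueField_apply] at h1
  have h2 := hV.fromSpec.isOpenEmbedding.injective h1
  exact (congrArg PrimeSpectrum.asIdeal h2 :)

variable [∀ R : CommRingCat.{u}, PreservesFiniteLimits (tilde.functor R)]

theorem isZero_hd_tildeD_iff {R : CommRingCat.{u}} (M : Dual.D R) (i : ℤ) :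
    IsZero (DCoh.HD ((DCoh.tildeD R).obj M) i) ↔ Subsingleton (Dual.HD R M i) := by
  let H := (DerivedCategory.homologyFunctor (ModuleCat.{u} R) i).obj M
  let e := (mapDCHomologyIso (tilde.functor R) i).app M
  refine ⟨fun h => ?_, fun h => IsZero.of_iso
    ((tilde.functor R).map_isZero (DRingCompl.isZ h)) e⟩
  refine ModuleCat.subsingleton_of_isZero (M := H) ((IsZero.iff_id_eq_zero H).2 ?_)
  exact (tilde.functor R).map_injective (((h.of_iso e.symm)).eq_of_src _ _)

variable {U : X.Opens} {V : S.Opens}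

/-- The fibre of a chart, read on the ring. -/
theorem fibre_chart_iff [Flat f] (hU : IsAffineOpen U) (hV : IsAffineOpen V) (hUV : U ≤ f ⁻¹ᵁ V)
    (p : PrimeSpectrum Γ(S, V)) [DCoh.HasLpull (f.fiberι (hV.fromSpec.base p))] (E : DCoh.D X)
    (M : Dual.D Γ(X, U)) (e : (rho hU.fromSpec).obj E ≅ (DCoh.tildeD Γ(X, U)).obj M)
    (hpc : DRing.IsPseudoCoherent' Γ(X, U) M)
    [DRing.HasLTensor Γ(S, V) (ModuleCat.of Γ(S, V) p.asIdeal.ResidueField)] :
    ∃ (U' : (f.fiber (hV.fromSpec.base p)).Opens) (hU' : IsAffineOpen U'),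
      U' = f.fiberι (hV.fromSpec.base p) ⁻¹ᵁ U ∧
      ∀ i : ℤ, IsZero (DCoh.HD ((rho hU'.fromSpec).obj ((DCoh.Lpull (f.fiberι (hV.fromSpec.base p))).obj E)) i) ↔
        Subsingleton (Dual.HD Γ(S, V)
          ((DRing.LTensor Γ(S, V) (ModuleCat.of Γ(S, V) p.asIdeal.ResidueField)).obj
            ((DRing.restrictD (f.appLE V U hUV).hom).obj M)) i) := by
  let s := hV.fromSpec.base p
  let g' := f.fiberι s
  let f' := f.fiberToSpecResidueField s
  have hc : IsPullback g' f' f (S.fromSpecResidueField s) := IsPullback.of_hasPullback _ _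
  have hVV : (⊤ : (Spec (S.residueField s)).Opens) ≤ S.fromSpecResidueField s ⁻¹ᵁ V := fun z _ => by
    show S.fromSpecResidueField s z ∈ V
    rw [Scheme.fromSpecResidueField_apply]
    exact hV.range_fromSpec.le ⟨p, rfl⟩
  obtain ⟨hU', hpo⟩ := exists_affine_square hc hU hV (isAffineOpen_top _) hUV hVV
  obtain ⟨hk, hker⟩ := ker_appLE_fromSpecResidueField hV p hVV
  refine ⟨g' ⁻¹ᵁ U ⊓ f' ⁻¹ᵁ ⊤, hU', ?_, fun i => ?_⟩
  · rw [Scheme.Hom.preimage_top, inf_top_eq]
  let U' := g' ⁻¹ᵁ U ⊓ f' ⁻¹ᵁ ⊤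
  let φ := (f.appLE V U hUV).hom
  let π := ((S.fromSpecResidueField s).appLE V ⊤ hVV).hom
  let β := (g'.appLE U U' inf_le_left).hom
  haveI := DRingLBase.hasLBaseChange β
  haveI := hasLpull (Spec.map (g'.appLE U U' inf_le_left))
  haveI : DCoh.HasLpull (Spec.map (CommRingCat.ofHom β)) := hasLpull _
  obtain ⟨eT⟩ := nonempty_tildeD_lpull_iso β
  obtain ⟨eS⟩ := nonempty_lpull_square g' (Spec.map (g'.appLE U U' inf_le_left)) hU.fromSpec hU'.fromSpec
    (hU.SpecMap_appLE_fromSpec g' hU' inf_le_left).symm E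
  let e' : (rho hU'.fromSpec).obj ((DCoh.Lpull g').obj E) ≅
      (DCoh.tildeD Γ(f.fiber s, U')).obj ((DRing.LBaseChange β).obj M) :=
    eS ≪≫ (DCoh.Lpull (Spec.map (g'.appLE U U' inf_le_left))).mapIso e ≪≫ (eT.app M).symm
  let eH := (DerivedCategory.homologyFunctor _ i).mapIso e'
  refine (Iff.intro (fun h => IsZero.of_iso h eH.symm) (fun h => IsZero.of_iso h eH)).trans
    ((isZero_hd_tildeD_iff _ i).trans ?_)
  obtain ⟨F, b, hFz, hFf, ⟨eF⟩⟩ := hpc
  have hφ : φ.Flat := HasRingHomProperty.appLE @Flat f ‹_› ⟨V, hV⟩ ⟨U, hU⟩ hUV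
  obtain ⟨eL⟩ := DRingLBase.nonempty_lbase_iso β (DRingFibre.isKF hFf hFz)
  have hG : IsKF ((resCx φ).obj F) := DRingTor.isKF_of_flat (FibreRegular.termwiseFlat_res hφ hFf)
    (fun j hj => (ModuleCat.restrictScalars φ).map_isZero (hFz j hj))
  rw [subsingleton_iff_exactAt (eL.symm ≪≫ (DRing.LBaseChange β).mapIso eF) i,
    DRingTor.exactAt_tensC_iff (ModuleCat.of Γ(S, V) p.asIdeal.ResidueField) hG
      (((ModuleCat.restrictScalars φ).mapDerivedCategoryFactors.app F).symm ≪≫
        (DRing.restrictD φ).mapIso eF) i,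
    exactAt_tensC_iff_extC,
    ← exactAt_residueField_iff p.asIdeal hk π hker]
  exact (FibreRegular.exactAt_fibre_iff (π := π) (φ := φ)
    (φ' := (f'.appLE ⊤ U' inf_le_right).hom) (β := β) hpo F i).symm

variable [Flat f] [LocallyOfFinitePresentation f] [∀ s : S, DCoh.HasLpull (f.fiberι s)]

/-- Relative perfectness is boundedness below of the object and of its derived fibres. -/
theorem relPerfect_iff_fibres (E : DCoh.D X) (hE : ∀ m : ℤ, DCoh.IsPseudoCoherentD m E) :
    DCoh.LocHasFiniteRelTorDim f E ↔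
      ((∀ x : X, ∃ (V : X.Opens) (a : ℤ), x ∈ V ∧ ((rho V.ι).obj E).IsGE a) ∧
       ∀ (s : S) (y : ↥(f.fiber s)), ∃ (W : (f.fiber s).Opens) (a : ℤ), y ∈ W ∧
         ((rho W.ι).obj ((DCoh.Lpull (f.fiberι s)).obj E)).IsGE a) := by
  have hq : DCoh.IsQCohD E := fun i => isQCoh_HD_of_pseudoCoherent (hE (i - 1)) i (by omega)
  have hloc : ∀ m, LocPC m E := fun m => (isPseudoCoherentD_iff m E).1 (hE m)
  constructor
  · intro htor
    refine ⟨fun x => ?_, fun s y => ?_⟩
    · obtain ⟨V, hV, hxV, -⟩ := exists_isAffineOpen_mem_and_subset (x := f x) (U := (⊤ : S.Opens)) trivial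
      obtain ⟨U, hU, hxU, hUV⟩ := exists_isAffineOpen_mem_and_subset (x := x) (U := f ⁻¹ᵁ V) hxV
      obtain ⟨M, ⟨e⟩⟩ := exists_tilde_fromSpec hU hq
      letI := (f.appLE V U hUV).hom.toAlgebra
      haveI : Module.Flat Γ(S, V) Γ(X, U) := HasRingHomProperty.appLE @Flat f ‹_› ⟨V, hV⟩ ⟨U, hU⟩ hUV
      haveI : Algebra.FinitePresentation Γ(S, V) Γ(X, U) :=
        HasRingHomProperty.appLE @LocallyOfFinitePresentation f ‹_› ⟨V, hV⟩ ⟨U, hU⟩ hUV
      have h := isRelPerfect_of_chart f hU hV hUV hloc htor M e.symm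
      haveI : ∀ p : PrimeSpectrum Γ(S, V), DRing.HasLTensor Γ(S, V) (ModuleCat.of Γ(S, V) p.asIdeal.ResidueField) :=
        fun p => DRingTor.hasLTensor _
      obtain ⟨a, ha⟩ := ((RelPerfectCriterion.isRelPerfect_iff_fibres M h.1).1 h).1
      exact ⟨U, a, hxU, LowerBound.isGE_rho_of_lowerBound hU.fromSpec E a U hU.range_fromSpec.ge
        fun i hi => IsZero.of_iso ((isZero_hd_tildeD_iff M i).2 (ha i hi))
          ((DerivedCategory.homologyFunctor _ i).mapIso e.symm)⟩
    · have hys : f (f.fiberι s y) = s := by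
        rw [← Scheme.Hom.comp_apply, Scheme.Hom.fiber_fac, Scheme.Hom.comp_apply,
          Scheme.fromSpecResidueField_apply]
      obtain ⟨V, hV, hsV, -⟩ := exists_isAffineOpen_mem_and_subset (x := s) (U := (⊤ : S.Opens)) trivial
      obtain ⟨U, hU, hxU, hUV⟩ := exists_isAffineOpen_mem_and_subset (x := f.fiberι s y) (U := f ⁻¹ᵁ V)
        (show f (f.fiberι s y) ∈ V by rw [hys]; exact hsV)
      obtain ⟨p, rfl⟩ : s ∈ Set.range hV.fromSpec.base := hV.range_fromSpec.ge hsV
      obtain ⟨M, ⟨e⟩⟩ := exists_tilde_fromSpec hU hq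
      letI := (f.appLE V U hUV).hom.toAlgebra
      haveI : Module.Flat Γ(S, V) Γ(X, U) := HasRingHomProperty.appLE @Flat f ‹_› ⟨V, hV⟩ ⟨U, hU⟩ hUV
      haveI : Algebra.FinitePresentation Γ(S, V) Γ(X, U) :=
        HasRingHomProperty.appLE @LocallyOfFinitePresentation f ‹_› ⟨V, hV⟩ ⟨U, hU⟩ hUV
      have h := isRelPerfect_of_chart f hU hV hUV hloc htor M e.symm
      haveI : ∀ p : PrimeSpectrum Γ(S, V), DRing.HasLTensor Γ(S, V) (ModuleCat.of Γ(S, V) p.asIdeal.ResidueField) :=
        fun p => DRingTor.hasLTensor _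
      obtain ⟨a, ha⟩ := ((RelPerfectCriterion.isRelPerfect_iff_fibres M h.1).1 h).2 p
      obtain ⟨U', hU', hUU', hiff⟩ := fibre_chart_iff f hU hV hUV p E M e.symm h.1
      exact ⟨U', a, hUU' ▸ hxU, LowerBound.isGE_rho_of_lowerBound hU'.fromSpec _ a U' hU'.range_fromSpec.ge
        fun i hi => (hiff i).2 (ha i hi)⟩
  · rintro ⟨hX, hfib⟩
    refine (relPerfect_of_charts f hq fun x => ?_).2
    obtain ⟨V₀, a, hxV₀, hge⟩ := hX x
    obtain ⟨V, hV, hxV, -⟩ := exists_isAffineOpen_mem_and_subset (x := f x) (U := (⊤ : S.Opens)) trivial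
    obtain ⟨U, hU, hxU, hle⟩ := exists_isAffineOpen_mem_and_subset (x := x) (U := f ⁻¹ᵁ V ⊓ V₀) ⟨hxV, hxV₀⟩
    have hUV : U ≤ f ⁻¹ᵁ V := le_trans hle inf_le_left
    refine ⟨U, hU, V, hV, hUV, hxU, fun M ⟨e⟩ => ?_⟩
    letI := (f.appLE V U hUV).hom.toAlgebra
    haveI : Module.Flat Γ(S, V) Γ(X, U) := HasRingHomProperty.appLE @Flat f ‹_› ⟨V, hV⟩ ⟨U, hU⟩ hUV
    haveI : Algebra.FinitePresentation Γ(S, V) Γ(X, U) :=
      HasRingHomProperty.appLE @LocallyOfFinitePresentation f ‹_› ⟨V, hV⟩ ⟨U, hU⟩ hUV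
    haveI : ∀ p : PrimeSpectrum Γ(S, V), DRing.HasLTensor Γ(S, V) (ModuleCat.of Γ(S, V) p.asIdeal.ResidueField) :=
      fun p => DRingTor.hasLTensor _
    have hpc : DRing.IsPseudoCoherent' Γ(X, U) M := (DRingPC.pc'_iff M).2 fun m =>
      (S1004.result Γ(X, U) M m).1 ((isPseudoCoherentD_iff m _).2 (((hloc m).restrict hU.fromSpec).of_iso e))
    refine (RelPerfectCriterion.isRelPerfect_iff_fibres M hpc).2 ⟨⟨a, fun i hi => ?_⟩, fun p => ?_⟩
    · refine (isZero_hd_tildeD_iff M i).1 (IsZero.of_iso ?_ ((DerivedCategory.homologyFunctor _ i).mapIso e.symm))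
      haveI := hge
      refine LowerBound.isZero_hd_rho_of_range_le V₀.ι hU.fromSpec ?_ E i (DerivedCategory.isZero_of_isGE _ a i hi)
      rw [Scheme.Opens.range_ι, hU.range_fromSpec]
      exact fun z hz => (hle hz).2
    · obtain ⟨U', hU', -, hiff⟩ := fibre_chart_iff f hU hV hUV p E M e hpc
      obtain ⟨b, hb⟩ := LowerBound.exists_lowerBound hU'.fromSpec
        ((DCoh.Lpull (f.fiberι (hV.fromSpec.base p))).obj E) (fun y _ => hfib _ y)
      exact ⟨b, fun i hi => (hiff i).1 (hb i hi)⟩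

end Groth.Agent.PerfGen7.RelPerfectFibres
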