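import Groth.Agent.PerfGen7.LocalDualityD
import Groth.Agent.LC.CohBasic
import Groth.Agent.KFlatLib.Ring.DualizingFlat
import Groth.Prelude.Def_DualLC

/-!
Local duality for modules and for bounded below complexes with finite cohomology.
-/

set_option autoImplicit false
set_option backward.isDefEq.respectTransparency false
set_option backward.defeqAttrib.useBackward true
universe u

open CategoryTheory CategoryTheory.Limits IsLocalRing Opposite

attribute [local instance] HasDerivedCategory.standard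

namespace Groth.Agent.PerfGen7.LocalDualityD

open Groth.Agent.KFlatLib (exists_shiftHomLEquiv)

variable {A : Type u} [CommRing A]

instance : PreservesFilteredColimitsOfSize.{0, 0} (forget AddCommGrpCat.{u + 1}) :=
  preservesFilteredColimitsOfSize_shrink _

instance : PreservesColimitsOfShape ℕᵒᵖᵒᵖ (forget AddCommGrpCat.{u + 1}) :=
  PreservesFilteredColimitsOfSize.preserves_filtered_colimits _

instance : PreservesColimitsOfShape ℕᵒᵖᵒᵖ (forget (ModuleCat.{u + 1} A)) :=
  haveI : PreservesColimitsOfShape ℕᵒᵖᵒᵖ (forget₂ (ModuleCat.{u + 1} A) AddCommGrpCat ⋙ forget AddCommGrpCat) :=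
    inferInstance
  preservesColimitsOfShape_of_natIso (F := forget₂ (ModuleCat.{u + 1} A) AddCommGrpCat ⋙ forget AddCommGrpCat)
    (Iso.refl _)

variable [IsLocalRing A] [IsNoetherianRing A] {ω : Dual.D A}
  {E : Type u} [AddCommGroup E] [Module A E] {f : ResidueField A →ₗ[A] E}

/-- Maps out of a shift. -/
lemma exists_shiftHom (K Y : Dual.D A) (i : ℤ) : Nonempty ((K⟦i⟧ ⟶ Y) ≃ₗ[A] (K ⟶ Y⟦-i⟧)) := by
  obtain ⟨e⟩ := exists_shiftHomLEquiv K Y (-i)
  exact ⟨(Linear.homCongr A (eqToIso (by rw [neg_neg])) (Iso.refl Y)).trans e.symm⟩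

/-- `H^i_𝔪(M) = Hom(Hom(M, ω[-i]), E)`. -/
theorem exists_localCohomology_equiv (hω : Dual.IsDualizing A ω) (hN : Dual.IsNormalized A ω)
    (hf : InjHull.IsInjectiveHull f) (M : ModuleCat.{u} A) [Module.Finite A M] (i : ℕ) :
    Nonempty ((localCohomology (maximalIdeal A) i).obj M ≃ₗ[A]
      ((Dual.inD A M ⟶ ω⟦(-(i : ℤ))⟧) →ₗ[A] E)) := by
  have := hf.isInjective
  obtain ⟨T⟩ := exists_tower hω hN hf
  haveI hGE : DerivedCategory.IsGE (Dual.inD A M) 0 := by
    rw [Dual.inD]; infer_instance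
  have hfin : ∀ j : ℤ, Module.Finite A (Dual.HD A (Dual.inD A M) j) := fun j => by
    by_cases hj : j = 0
    · subst hj
      haveI : Module.Finite A ((𝟭 (ModuleCat.{u} A)).obj (ModuleCat.of A M)) := ‹Module.Finite A M›
      exact Module.Finite.equiv
        (((DerivedCategory.singleFunctorCompHomologyFunctorIso (ModuleCat.{u} A) 0).app (ModuleCat.of A M)).symm.toLinearEquiv)
    · haveI : Subsingleton (Dual.HD A (Dual.inD A M) j) := ModuleCat.subsingleton_of_isZero (by
        rcases lt_or_gt_of_ne hj with h | h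
        · exact DerivedCategory.isZero_of_isGE _ 0 j h
        · exact DerivedCategory.isZero_of_isLE _ 0 j h)
      exact Module.Finite.of_finite
  obtain ⟨hI, hS⟩ := perfectly_of_finite T hω hN hf 0 hfin (i : ℤ)
  obtain ⟨s⟩ := exists_shiftHom (Dual.inD A M) ω (i : ℤ)
  let e : ∀ n, Abelian.Ext (LC.qObj (maximalIdeal A) n) M i ≃ₗ[A]
      (Dual.inD A (A ⧸ maximalIdeal A ^ n) ⟶ (Dual.inD A M)⟦(i : ℤ)⟧) := fun n => Abelian.Ext.homLinearEquiv
  have he : ∀ {n m : ℕ} (h : n ≤ m) (x : Abelian.Ext (LC.qObj (maximalIdeal A) n) M i),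
      e m (LC.res (maximalIdeal A) h i M x) =
        (DerivedCategory.singleFunctor (ModuleCat.{u} A) 0).map (LC.qMap (maximalIdeal A) h) ≫ e n x := by
    intro n m h x
    show (LC.res (maximalIdeal A) h i M x).hom = _
    rw [LC.res_apply, Abelian.Ext.comp_hom, Abelian.Ext.mk₀_hom, ShiftedHom.mk₀_comp]
    rfl
  have hq : ∀ {k m : ℕ} (h : k ≤ m), q (A := A) h =
      (DerivedCategory.singleFunctor (ModuleCat.{u} A) 0).map (LC.qMap (maximalIdeal A) (Nat.succ_le_succ h)) := by
    intro k m h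
    refine congrArg (DerivedCategory.singleFunctor (ModuleCat.{u} A) 0).map (ModuleCat.hom_ext ?_)
    exact DualFinLen.linearMap_ext_one rfl
  obtain ⟨r⟩ := exists_equiv_of_colim T hI hS
    (fun k => (LC.toH (maximalIdeal A) i M (k + 1)).comp (e (k + 1)).symm.toLinearMap)
    (fun {k m} h ψ => by
      obtain ⟨x, rfl⟩ := (e (k + 1)).surjective ψ
      rw [hq h, ← he]
      simp only [LinearMap.comp_apply, LinearEquiv.coe_coe, LinearEquiv.symm_apply_apply, LC.toH_res])
    (fun z => by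
      obtain ⟨n, hn, x, hx⟩ := LC.exists_toH_of_le (maximalIdeal A) i z 1
      obtain ⟨k, rfl⟩ := Nat.exists_eq_add_of_le' hn
      exact ⟨k, e (k + 1) x, by
        simp only [LinearMap.comp_apply, LinearEquiv.coe_coe, LinearEquiv.symm_apply_apply, hx]⟩)
    (fun k ψ hψ => by
      obtain ⟨x, rfl⟩ := (e (k + 1)).surjective ψ
      simp only [LinearMap.comp_apply, LinearEquiv.coe_coe, LinearEquiv.symm_apply_apply] at hψ
      obtain ⟨m, hm, hx⟩ := (LC.toH_eq_zero_iff _ _ _).1 hψ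
      obtain ⟨m', rfl⟩ := Nat.exists_eq_add_of_le' ((Nat.le_add_left 1 k).trans hm)
      refine ⟨m', by omega, ?_⟩
      rw [hq, ← he, hx, map_zero])
  exact ⟨r.trans (LinearEquiv.congrLeft E A s)⟩

/-- The same for bounded below complexes with finite cohomology. -/
theorem exists_HDI_equiv (hω : Dual.IsDualizing A ω) (hN : Dual.IsNormalized A ω)
    (hf : InjHull.IsInjectiveHull f) (K : Dual.D A) (n : ℤ) [K.IsGE n]
    (hK : ∀ j : ℤ, Module.Finite A (Dual.HD A K j)) (i : ℤ) :
    Nonempty (Dual2.HDI A (maximalIdeal A) K i ≃ₗ[A] ((K ⟶ ω⟦(-i)⟧) →ₗ[A] E)) := by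
  have := hf.isInjective
  obtain ⟨T⟩ := exists_tower hω hN hf
  obtain ⟨hI, hS⟩ := perfectly_of_finite T hω hN hf n hK i
  obtain ⟨s⟩ := exists_shiftHom K ω i
  let F := (localCohomology.ringModIdeals (localCohomology.idealPowersDiagram (maximalIdeal A)) ⋙
      DerivedCategory.singleFunctor (ModuleCat.{u} A) 0).op ⋙ (linearYoneda A (Dual.D A)).obj (K⟦i⟧)
  let lev : ℕ → ℕᵒᵖᵒᵖ := fun k => op (op (k + 1))
  have hq : ∀ {k m : ℕ} (h : k ≤ m) (ψ : X A k ⟶ K⟦i⟧),
      (F.map (LC.arr (Nat.succ_le_succ h) : lev k ⟶ lev m)).hom ψ = q h ≫ ψ := by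
    intro k m h ψ
    refine congrArg (fun t => t ≫ ψ) (congrArg (DerivedCategory.singleFunctor (ModuleCat.{u} A) 0).map (ModuleCat.hom_ext ?_))
    exact DualFinLen.linearMap_ext_one rfl
  obtain ⟨r⟩ := exists_equiv_of_colim T hI hS (fun k => (colimit.ι F (lev k)).hom)
    (fun {k m} h ψ => by
      rw [← hq h ψ]
      exact ConcreteCategory.congr_hom (colimit.w F (LC.arr (Nat.succ_le_succ h) : lev k ⟶ lev m)) ψ)
    (fun z => by
      obtain ⟨j, w, hw⟩ := Concrete.colimit_exists_rep F z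
      obtain ⟨⟨j⟩⟩ := j
      refine ⟨j, (F.map (LC.arr (Nat.le_succ j) : op (op j) ⟶ lev j)).hom w, ?_⟩
      exact (ConcreteCategory.congr_hom (colimit.w F (LC.arr (Nat.le_succ j) : op (op j) ⟶ lev j)) w).trans hw)
    (fun k ψ hψ => by
      obtain ⟨j, g₁, g₂, hg⟩ := Concrete.colimit_exists_of_rep_eq F (i := lev k) (j := lev k) ψ 0
        (hψ.trans (map_zero _).symm)
      obtain ⟨⟨j⟩⟩ := j
      have hkj : k + 1 ≤ j := g₁.unop.unop.down.down
      obtain ⟨m, rfl⟩ := Nat.exists_eq_add_of_le' ((Nat.le_add_left 1 k).trans hkj)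
      refine ⟨m, by omega, ?_⟩
      rw [← hq (show k ≤ m by omega) ψ]
      obtain rfl : g₁ = LC.arr (Nat.succ_le_succ (show k ≤ m by omega)) := Subsingleton.elim _ _
      exact hg.trans (map_zero _))
  exact ⟨r.trans (LinearEquiv.congrLeft E A s)⟩

end Groth.Agent.PerfGen7.LocalDualityD
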