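import Groth.Agent.KFlatLib.Ring.DualizingDepth
import Groth.Agent.KFlatLib.Ring.DualizingFlat
import Groth.Agent.KFlatLib.Ring.InvertibleTwist
import Groth.Agent.S0368
import Groth.Agent.LC.ExtDim
import Groth.Agent.LC.GorLoc

/-!
Localizing `Ext` into a dualizing complex: the normalized dualizing complex of `A_q`, and the
Cohen-Macaulay criterion at a prime.
-/

set_option autoImplicit false
set_option backward.isDefEq.respectTransparency false
universe u

open CategoryTheory CategoryTheory.Limits TensorProduct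

attribute [local instance] HasDerivedCategory.standard

namespace Groth.Agent.PerfGen7.LocalizeDual

open Groth.Agent.KFlatLib

variable {A : Type u} [CommRing A]

lemma exists_supportDim_eq {B : Type u} [CommRing B] [IsLocalRing B] [IsNoetherianRing B] (N : Type u)
    [AddCommGroup N] [Module B N] [Nontrivial N] : ∃ d : ℕ, Module.supportDim B N = d := by
  have h1 : Module.supportDim B N ≠ ⊥ := Module.supportDim_ne_bot_of_nontrivial B N
  have h2 : Module.supportDim B N ≠ ⊤ := fun h =>
    ringKrullDim_ne_top (R := B) (top_le_iff.1 (h.symm.trans_le (Module.supportDim_le_ringKrullDim B N)))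
  obtain ⟨e, he⟩ := WithBot.ne_bot_iff_exists.1 h1
  obtain ⟨m, rfl⟩ := ENat.ne_top_iff_exists.1 (show e ≠ ⊤ from fun hh => h2 (by rw [← he, hh]; rfl))
  exact ⟨m, he.symm⟩

variable [IsNoetherianRing A]

/-- The localization of a module, in degree zero, is the derived base change. -/
lemma nonempty_LBase_inD (q : Ideal A) [q.IsPrime] [DTen.HasLBase (algebraMap A (Localization.AtPrime q))]
    (M : Type u) [AddCommGroup M] [Module A M] :
    Nonempty ((DTen.LBase (algebraMap A (Localization.AtPrime q))).obj (Dual.inD A M) ≅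
      Dual.inD (Localization.AtPrime q) (LocalizedModule q.primeCompl M)) := by
  haveI : Module.Flat A (Localization.AtPrime q) := IsLocalization.flat _ q.primeCompl
  obtain ⟨_, ⟨e⟩⟩ := exists_LBase_map_iso (B := Localization.AtPrime q) (Dual.inD A M)
  obtain ⟨c⟩ := exists_extendLEquiv (B := Localization.AtPrime q) (ModuleCat.of A M)
  exact ⟨e ≪≫ ((ModuleCat.extendScalars.{u, u, u} (algebraMap A (Localization.AtPrime q))).mapDerivedCategorySingleFunctor 0).app _ ≪≫
    (DerivedCategory.singleFunctor (ModuleCat.{u} (Localization.AtPrime q)) 0).mapIso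
      (c.trans (LocalizedModule.equivTensorProduct q.primeCompl M).symm).toModuleIso⟩

variable {ω : Dual.D A}

/-- A normalized dualizing complex of `A_q` computing the localized `Ext` into `ω`. -/
theorem exists_local (hω : Dual.IsDualizing A ω) {n : PrimeSpectrum A → ℤ} (hn : IsExtDegree ω n)
    (q : PrimeSpectrum A) :
    ∃ ω' : Dual.D (Localization.AtPrime q.asIdeal),
      Dual.IsDualizing (Localization.AtPrime q.asIdeal) ω' ∧
      Dual.IsNormalized (Localization.AtPrime q.asIdeal) ω' ∧
      ∀ (M : Type u) [AddCommGroup M] [Module A M] [Module.Finite A M] (i : ℤ),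
        Nonempty ((Dual.inD (Localization.AtPrime q.asIdeal) (LocalizedModule q.asIdeal.primeCompl M) ⟶ ω'⟦i⟧) ≃ₗ[Localization.AtPrime q.asIdeal]
          LocalizedModule q.asIdeal.primeCompl (Dual.inD A M ⟶ ω⟦n q + i⟧)) := by
  let B := Localization.AtPrime q.asIdeal
  haveI := hasLBase (algebraMap A B)
  haveI : Module.Flat A B := IsLocalization.flat _ q.asIdeal.primeCompl
  obtain ⟨a, b, -, _, _⟩ := exists_bounds_of_isDualizing hω
  let W := (DTen.LBase (algebraMap A B)).obj ω
  have hW : Dual.IsDualizing B W := isDualizing_LBase hω fun m _ =>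
    ⟨m.comap (algebraMap A B), IsLocalization.map_comap q.asIdeal.primeCompl B m⟩
  have key : ∀ (M : Type u) [AddCommGroup M] [Module A M] [Module.Finite A M] (i : ℤ),
      Nonempty ((Dual.inD B (LocalizedModule q.asIdeal.primeCompl M) ⟶ (W⟦n q⟧)⟦i⟧) ≃ₗ[B]
        LocalizedModule q.asIdeal.primeCompl (Dual.inD A M ⟶ ω⟦n q + i⟧)) := by
    intro M _ _ _ i
    obtain ⟨eM⟩ := nonempty_LBase_inD q.asIdeal M
    obtain ⟨e⟩ := exists_homBaseChangeLEquiv (B := B) (X := Dual.inD A M) (Y := ω)
      ((Groth.Agent.S6942.result A 0 ω M).2.2 inferInstance) a (n q + i)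
    exact ⟨(Linear.homCongr B eM.symm ((shiftFunctorAdd' (Dual.D B) (n q) i (n q + i) rfl).app W).symm).trans
      (e.trans (LocalizedModule.equivTensorProduct q.asIdeal.primeCompl (Dual.inD A M ⟶ ω⟦n q + i⟧)).symm)⟩
  refine ⟨W⟦n q⟧, isDualizing_shift hW (n q), fun i hi => ?_, key⟩
  obtain ⟨e⟩ := exists_localExtLEquiv (ω := ω) a q.asIdeal q.asIdeal (n q + i)
  have hz : Subsingleton (LocalizedModule q.asIdeal.primeCompl (Dual.inD A (A ⧸ q.asIdeal) ⟶ ω⟦n q + i⟧)) :=
    not_nontrivial_iff_subsingleton.1 fun h => hi (by have := (hn q _).1 h; omega)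
  have h1 := e.subsingleton
  rw [Localization.AtPrime.map_eq_maximalIdeal] at h1
  haveI : Subsingleton (Dual.inD B (IsLocalRing.ResidueField B) ⟶ W⟦n q + i⟧) := h1
  exact ((Linear.homCongr B (Iso.refl _)
    ((shiftFunctorAdd' (Dual.D B) (n q) i (n q + i) rfl).app W).symm)).toEquiv.subsingleton

/-- `M_q` is Cohen–Macaulay exactly when one localized `Ext` survives. -/
theorem isCM_localized_iff (hω : Dual.IsDualizing A ω) {n : PrimeSpectrum A → ℤ} (hn : IsExtDegree ω n)
    (M : Type u) [AddCommGroup M] [Module A M] [Module.Finite A M] (q : PrimeSpectrum A)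
    [Nontrivial (LocalizedModule q.asIdeal.primeCompl M)] :
    LocCoh.IsCohenMacaulayModule (Localization.AtPrime q.asIdeal) (LocalizedModule q.asIdeal.primeCompl M) ↔
      ∀ i j : ℤ, Nontrivial (LocalizedModule q.asIdeal.primeCompl (Dual.inD A M ⟶ ω⟦i⟧)) →
        Nontrivial (LocalizedModule q.asIdeal.primeCompl (Dual.inD A M ⟶ ω⟦j⟧)) → i = j := by
  let B := Localization.AtPrime q.asIdeal
  let N := LocalizedModule q.asIdeal.primeCompl M
  haveI := hasLBase (algebraMap A B)
  obtain ⟨ω', h1, h2, h3⟩ := exists_local hω hn q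
  obtain ⟨d, hd⟩ := exists_supportDim_eq (B := B) N
  have htop := nontrivial_ext_neg_supportDim h1 h2 N d hd
  rw [S0368.result B ω' h1 h2 N d hd]
  have key : ∀ i : ℤ, Nontrivial (Dual.inD B N ⟶ ω'⟦i⟧) ↔
      Nontrivial (LocalizedModule q.asIdeal.primeCompl (Dual.inD A M ⟶ ω⟦n q + i⟧)) := fun i => by
    obtain ⟨e⟩ := h3 M i
    exact e.toEquiv.nontrivial_congr
  constructor
  · intro h
    suffices h' : ∀ i, Nontrivial (LocalizedModule q.asIdeal.primeCompl (Dual.inD A M ⟶ ω⟦i⟧)) → i = n q - d from
      fun i j hi hj => (h' i hi).trans (h' j hj).symm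
    intro i hi
    by_contra hne
    have h4 := h (n q - i) (by omega)
    have h5 := (key (-(n q - i))).2 (by rwa [show n q + -(n q - i) = i by omega])
    exact not_nontrivial_iff_subsingleton.2 h4 h5
  · intro h i hi
    refine not_nontrivial_iff_subsingleton.1 fun hnt => hi ?_
    have := h _ _ ((key _).1 hnt) ((key _).1 htop)
    omega

/-- The locus where at most one localized `Ext` survives is open. -/
theorem isOpen_unique (hω : Dual.IsDualizing A ω) (M : Type u) [AddCommGroup M] [Module A M] [Module.Finite A M] :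
    IsOpen {q : PrimeSpectrum A | ∀ i j : ℤ,
      Nontrivial (LocalizedModule q.asIdeal.primeCompl (Dual.inD A M ⟶ ω⟦i⟧)) →
        Nontrivial (LocalizedModule q.asIdeal.primeCompl (Dual.inD A M ⟶ ω⟦j⟧)) → i = j} := by
  obtain ⟨a, b, hab⟩ := hω.finite_injective_dimension
  obtain ⟨a', b', -, _, _⟩ := exists_bounds_of_isDualizing hω
  have hclosed : ∀ i : ℤ, IsClosed (Module.support A (Dual.inD A M ⟶ ω⟦i⟧)) := fun i => by
    haveI := finite_hom_module ω a' hω.finite_cohomology M i
    exact Module.isClosed_support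
  have heq : {q : PrimeSpectrum A | ∀ i j : ℤ,
      Nontrivial (LocalizedModule q.asIdeal.primeCompl (Dual.inD A M ⟶ ω⟦i⟧)) →
        Nontrivial (LocalizedModule q.asIdeal.primeCompl (Dual.inD A M ⟶ ω⟦j⟧)) → i = j} =
      (⋃ p ∈ (Set.Icc a b ×ˢ Set.Icc a b) ∩ {p | p.1 ≠ p.2},
        Module.support A (Dual.inD A M ⟶ ω⟦p.1⟧) ∩ Module.support A (Dual.inD A M ⟶ ω⟦p.2⟧))ᶜ := by
    have hmem : ∀ (q : PrimeSpectrum A) (i : ℤ),
        Nontrivial (LocalizedModule q.asIdeal.primeCompl (Dual.inD A M ⟶ ω⟦i⟧)) → i ∈ Set.Icc a b := by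
      intro q i h
      by_contra hi
      haveI := hab M i (by rw [Set.mem_Icc] at hi; omega)
      exact not_subsingleton (LocalizedModule q.asIdeal.primeCompl (Dual.inD A M ⟶ ω⟦i⟧))
        (LocalizedModule.subsingleton_iff.2 fun f => ⟨1, one_mem _, Subsingleton.elim _ _⟩)
    ext q
    simp only [Set.mem_ofPred_eq, Set.mem_compl_iff, Set.mem_iUnion, Set.mem_inter_iff, Set.mem_prod,
      Module.mem_support_iff, not_exists, not_and, Prod.forall]
    exact ⟨fun h i j hp hi hj => hp.2 (h i j hi hj), fun h i j hi hj => by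
      by_contra hne
      exact h i j ⟨⟨hmem q i hi, hmem q j hj⟩, hne⟩ hi hj⟩
  rw [heq]
  refine (Set.Finite.isClosed_biUnion ?_ fun p _ => (hclosed _).inter (hclosed _)).isOpen_compl
  exact ((Set.finite_Icc a b).prod (Set.finite_Icc a b)).inter_of_left _

/-- At a minimal prime of the support one `Ext` survives. -/
theorem isCM_of_minimal (M : Type u) [AddCommGroup M] [Module A M] [Module.Finite A M] (q : PrimeSpectrum A)
    (hq : q ∈ Module.support A M) (hmin : ∀ p ∈ Module.support A M, p ≤ q → p = q) :
    LocCoh.IsCohenMacaulayModule (Localization.AtPrime q.asIdeal) (LocalizedModule q.asIdeal.primeCompl M) := by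
  let B := Localization.AtPrime q.asIdeal
  let N := LocalizedModule q.asIdeal.primeCompl M
  haveI : Nontrivial N := Module.mem_support_iff.1 hq
  have hsub : ∀ P ∈ Module.support B N, P = IsLocalRing.closedPoint B := by
    intro P hP
    have hmax : P.asIdeal ≤ IsLocalRing.maximalIdeal B := IsLocalRing.le_maximalIdeal P.isPrime.ne_top
    let p : PrimeSpectrum A := PrimeSpectrum.comap (algebraMap A B) P
    have hpq : p ≤ q := (Ideal.comap_mono hmax).trans_eq (IsLocalization.AtPrime.comap_maximalIdeal B q.asIdeal)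
    have hp : p ∈ Module.support A M := by
      haveI : Module.Finite B N := Module.Finite.of_isLocalizedModule q.asIdeal.primeCompl
        (LocalizedModule.mkLinearMap q.asIdeal.primeCompl M)
      rw [Module.support_eq_zeroLocus] at hP ⊢
      intro r hr
      refine hP (Module.mem_annihilator.2 fun x => ?_)
      induction x using LocalizedModule.induction_on with
      | _ m s =>
        rw [algebraMap_smul, LocalizedModule.smul'_mk, Module.mem_annihilator.1 hr m,
          LocalizedModule.zero_mk]
    have he := congrArg PrimeSpectrum.asIdeal (hmin p hp hpq)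
    refine PrimeSpectrum.ext ?_
    change P.asIdeal = IsLocalRing.maximalIdeal B
    exact (IsLocalization.map_comap q.asIdeal.primeCompl B P.asIdeal).symm.trans
      ((congrArg (Ideal.map (algebraMap A B)) he).trans Localization.AtPrime.map_eq_maximalIdeal)
  have hd : Module.supportDim B N = 0 := by
    refine le_antisymm ?_ ?_
    · exact Order.krullDim_nonpos_iff_forall_isMin.2 fun x y hyx => by
        have h : x = y := Subtype.ext ((hsub _ x.2).trans (hsub _ y.2).symm)
        exact h.le
    · obtain ⟨d, hd⟩ := exists_supportDim_eq (B := B) N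
      rw [hd]
      exact_mod_cast Nat.zero_le d
  unfold LocCoh.IsCohenMacaulayModule
  rw [hd]
  haveI : Module.Finite B N := Module.Finite.of_isLocalizedModule q.asIdeal.primeCompl
    (LocalizedModule.mkLinearMap q.asIdeal.primeCompl M)
  obtain ⟨k, hk⟩ := exists_depth_eq (A := B) N
  have hle := Groth.Agent.LC.depth_le_supportDim (R := B) N
  rw [hd, hk] at hle
  rw [hk]
  exact le_antisymm (by exact_mod_cast Nat.zero_le k) hle

/-- The localization of the ring is Cohen–Macaulay as a ring iff it is so as a localized module. -/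
theorem isCM_localRing_iff (q : PrimeSpectrum A) :
    LocCoh.IsCohenMacaulayLocalRing (Localization.AtPrime q.asIdeal) ↔
      LocCoh.IsCohenMacaulayModule (Localization.AtPrime q.asIdeal) (LocalizedModule q.asIdeal.primeCompl A) := by
  unfold LocCoh.IsCohenMacaulayModule LocCoh.depth
  rw [Module.supportDim_eq_of_equiv (LC.selfLoc q.asIdeal.primeCompl),
    LC.idealDepth_congr _ (LC.selfLoc q.asIdeal.primeCompl)]
  haveI : IsNoetherianRing (Localization.AtPrime q.asIdeal) :=
    IsLocalization.isNoetherianRing q.asIdeal.primeCompl _ inferInstance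
  exact ⟨fun h => h.supportDim_eq_depth, fun h => { supportDim_eq_depth := h }⟩

end Groth.Agent.PerfGen7.LocalizeDual
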