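import Groth.Agent.LC.LocalDuality
import Groth.Agent.LC.Matlis
import Mathlib.RingTheory.AdicCompletion.AsTensorProduct

/-!
The double Matlis dual of a finite module is its completion.
-/

set_option autoImplicit false
universe u

open CategoryTheory TensorProduct IsLocalRing

namespace Groth.Agent.PerfGen7.DoubleDual


variable {R : Type u} [CommRing R]
variable (K E : Type u) [AddCommGroup K] [Module R K] [AddCommGroup E] [Module R E]

/-- `Hom(K, E) ⊗ M → Hom(Hom(M, K), E)`. -/
noncomputable def dualTensor (M : Type u) [AddCommGroup M] [Module R M] :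
    (K →ₗ[R] E) ⊗[R] M →ₗ[R] ((M →ₗ[R] K) →ₗ[R] E) :=
  TensorProduct.lift <| LinearMap.mk₂ R (fun h m => (h) ∘ₗ LinearMap.applyₗ m)
    (fun a b m => LinearMap.add_comp _ _ _)
    (fun r a m => LinearMap.smul_comp _ _ _)
    (fun h a b => by ext g; simp)
    (fun r h a => by ext g; simp)

theorem dualTensor_tmul (M : Type u) [AddCommGroup M] [Module R M]
    (h : (K →ₗ[R] E)) (m : M) (g : M →ₗ[R] K) :
    dualTensor (R := R) K E M (h ⊗ₜ m) g = h (g m) := rfl

theorem dualTensor_natural {M N : Type u} [AddCommGroup M] [Module R M] [AddCommGroup N] [Module R N]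
    (f : M →ₗ[R] N) (t : (K →ₗ[R] E) ⊗[R] M) :
    dualTensor (R := R) K E N (f.lTensor _ t) =
      LinearMap.lcomp R E (LinearMap.lcomp R K f) (dualTensor (R := R) K E M t) := by
  induction t with
  | zero => simp
  | add a b ha hb => simp only [map_add, ha, hb]
  | tmul h m => rfl

theorem dualTensor_bijective_pi (n : ℕ) :
    Function.Bijective (dualTensor (R := R) K E (Fin n → R)) := by
  let e : Fin n → (Fin n → R) := fun k => Pi.single k 1
  let c : Fin n → (K →ₗ[R] ((Fin n → R) →ₗ[R] K)) := fun k =>
    LinearMap.smulRightₗ (LinearMap.proj k)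
  have hc : ∀ k y v, c k y v = v k • y := fun k y v => rfl
  refine Function.bijective_iff_has_inverse.2 ⟨fun θ => ∑ k, (θ ∘ₗ c k) ⊗ₜ[R] e k, fun t => ?_, fun θ => ?_⟩
  · induction t with
    | zero => simp
    | add a b ha hb =>
      simp only [map_add, LinearMap.add_comp, TensorProduct.add_tmul, Finset.sum_add_distrib]
      exact congrArg₂ (· + ·) ha hb
    | tmul h m =>
      have hk : ∀ k, dualTensor (R := R) K E (Fin n → R) (h ⊗ₜ m) ∘ₗ c k = m k • h := fun k =>
        LinearMap.ext fun y => (map_smul (h) (m k) y : _)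
      simp only [hk, map_smul, LinearEquiv.apply_symm_apply, TensorProduct.smul_tmul]
      rw [← TensorProduct.tmul_sum]
      congr 1
      exact funext fun j => by simp [e, Finset.sum_apply, Pi.single_apply]
  · refine LinearMap.ext fun g => ?_
    simp only [map_sum, LinearMap.sum_apply, dualTensor_tmul, LinearEquiv.symm_apply_apply,
      LinearMap.comp_apply]
    rw [← map_sum]
    congr 1
    refine LinearMap.ext fun v => ?_
    simp only [LinearMap.sum_apply, hc]
    conv_rhs => rw [show v = ∑ k, v k • e k from funext fun j => by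
      simp [e, Finset.sum_apply, Pi.single_apply]]
    simp only [map_sum, map_smul]

/-- The two-step presentation used below. -/
theorem exists_fin_presentation (M : Type u) [AddCommGroup M] [Module R M] [Module.Finite R M] :
    ∃ (n : ℕ) (π : (Fin n → R) →ₗ[R] M), Function.Surjective π :=
  Module.Finite.exists_fin' R M

section

variable [IsNoetherianRing R] [Module.Injective R E]

theorem dualTensor_surjective (M : Type u) [AddCommGroup M] [Module R M] [Module.Finite R M] :
    Function.Surjective (dualTensor (R := R) K E M) := by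
  intro θ
  obtain ⟨n, π, hπ⟩ := exists_fin_presentation (R := R) M
  have hinj : Function.Injective (LinearMap.lcomp R K π) := fun a b hab =>
    LinearMap.ext fun m => by obtain ⟨v, rfl⟩ := hπ m; exact LinearMap.congr_fun hab v
  obtain ⟨θ', hθ'⟩ := Module.Injective.out (LinearMap.lcomp R K π) hinj θ
  obtain ⟨t, ht⟩ := (dualTensor_bijective_pi (R := R) K E n).2 θ'
  refine ⟨π.lTensor _ t, ?_⟩
  rw [dualTensor_natural, ht]
  exact LinearMap.ext hθ'

theorem dualTensor_bijective (M : Type u) [AddCommGroup M] [Module R M] [Module.Finite R M] :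
    Function.Bijective (dualTensor (R := R) K E M) := by
  refine ⟨(injective_iff_map_eq_zero _).2 fun t ht => ?_, dualTensor_surjective K E M⟩
  obtain ⟨n, π, hπ⟩ := exists_fin_presentation (R := R) M
  obtain ⟨s, rfl⟩ := LinearMap.lTensor_surjective ((K →ₗ[R] E)) hπ t
  let P := LinearMap.ker π
  let θ := dualTensor (R := R) K E (Fin n → R) s
  let res : ((Fin n → R) →ₗ[R] K) →ₗ[R] (P →ₗ[R] K) := LinearMap.lcomp R K P.subtype
  have hker : LinearMap.ker res ≤ LinearMap.ker θ := by
    intro g hg
    have hle : LinearMap.ker π ≤ LinearMap.ker g := fun z hz =>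
      LinearMap.congr_fun (LinearMap.mem_ker.1 hg) ⟨z, hz⟩
    obtain ⟨g', rfl⟩ : ∃ g' : M →ₗ[R] K, g = g' ∘ₗ π := by
      refine ⟨(LinearMap.ker π).liftQ g hle ∘ₗ (π.quotKerEquivOfSurjective hπ).symm.toLinearMap,
        LinearMap.ext fun v => ?_⟩
      have : (π.quotKerEquivOfSurjective hπ).symm (π v) = Submodule.Quotient.mk v :=
        (LinearEquiv.symm_apply_eq _).2 rfl
      simp [this]
    have h := LinearMap.congr_fun ((dualTensor_natural K E π s).symm.trans ht) g'
    exact h
  obtain ⟨θ'', hθ''⟩ := Module.Injective.out ((LinearMap.ker res).liftQ res le_rfl)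
    (LinearMap.ker_eq_bot.1 (Submodule.ker_liftQ_eq_bot _ _ _ le_rfl))
    ((LinearMap.ker res).liftQ θ hker)
  have : Module.Finite R P := inferInstance
  obtain ⟨v, hv⟩ := dualTensor_surjective K E P θ''
  have heq : P.subtype.lTensor _ v = s := by
    refine (dualTensor_bijective_pi (R := R) K E n).1 ?_
    rw [dualTensor_natural, hv]
    exact LinearMap.ext fun g => hθ'' (Submodule.Quotient.mk g)
  rw [← heq, ← LinearMap.comp_apply, ← LinearMap.lTensor_comp]
  rw [show π ∘ₗ P.subtype = 0 from LinearMap.ext fun z => z.2, LinearMap.lTensor_zero, LinearMap.zero_apply]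

end

/-- The double Matlis dual of a finite module is its completion. -/
theorem exists_doubleDual [IsLocalRing R] [IsNoetherianRing R] {f : ResidueField R →ₗ[R] E}
    (hf : InjHull.IsInjectiveHull f) (M : Type u) [AddCommGroup M] [Module R M] [Module.Finite R M] :
    Nonempty (AdicCompletion (maximalIdeal R) M ≃ₗ[R] ((M →ₗ[R] E) →ₗ[R] E)) := by
  have := hf.isInjective
  obtain ⟨e, -⟩ := Groth.Agent.LC.endEquiv hf
  exact ⟨((AdicCompletion.ofTensorProductEquivOfFiniteNoetherian (maximalIdeal R) M).restrictScalars R).symm.trans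
    ((TensorProduct.congr e.symm.toLinearEquiv (LinearEquiv.refl R M)).trans
      (LinearEquiv.ofBijective _ (dualTensor_bijective E E M)))⟩

end Groth.Agent.PerfGen7.DoubleDual

namespace Groth.Agent.PerfGen7.DoubleDual

/-- A finite module in any universe has a small copy. -/
theorem exists_small {R : Type u} [CommRing R] (V : Type*) [AddCommGroup V] [Module R V] [Module.Finite R V] :
    ∃ (n : ℕ) (P : Submodule R (Fin n → R)), Nonempty (V ≃ₗ[R] ((Fin n → R) ⧸ P)) := by
  obtain ⟨n, π, hπ⟩ := Module.Finite.exists_fin' R V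
  exact ⟨n, LinearMap.ker π, ⟨(π.quotKerEquivOfSurjective hπ).symm⟩⟩

end Groth.Agent.PerfGen7.DoubleDual
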