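import Groth.Agent.PerfGen7.BrownDQCoh

/-!
# A right adjoint of `Rf_*` on `D_QCoh` preserves coproducts when `Rf_*` preserves perfect objects
-/

set_option linter.style.haveILetI false
set_option backward.isDefEq.respectTransparency false

universe u

open CategoryTheory CategoryTheory.Limits AlgebraicGeometry Pretriangulated

attribute [local instance] HasDerivedCategory.standard

namespace Groth.Agent.PerfGen7

open Groth.Agent.KFlatLib

variable {X Y : Scheme.{u}}

/-- Right adjoints of functors preserving perfect objects preserve coproducts. -/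
theorem preservesCoproducts_rightAdjoint [CompactSpace X] [QuasiSeparatedSpace X] [CompactSpace Y]
    [QuasiSeparatedSpace Y] (F : DCoh.DQCoh X ⥤ DCoh.DQCoh Y) [F.Additive]
    (hF : ∀ A : DCoh.DQCoh X, DCoh.IsPerfect A.obj → DCoh.IsPerfect (F.obj A).obj)
    {a : DCoh.DQCoh Y ⥤ DCoh.DQCoh X} (adj : F ⊣ a) (J : Type u) :
    PreservesColimitsOfShape (Discrete J) a := by
  classical
  haveI : ∀ J : Type u, HasColimitsOfShape (Discrete J) (DCoh.D X) :=
    fun J => TriCat.hasColimitsOfShape_derivedCategory
  haveI : ∀ J : Type u, HasColimitsOfShape (Discrete J) (DCoh.D Y) :=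
    fun J => TriCat.hasColimitsOfShape_derivedCategory
  haveI : a.Additive := adj.right_adjoint_additive
  suffices h : ∀ M : J → DCoh.DQCoh Y, PreservesColimit (Discrete.functor M) a from
    haveI := h; preservesColimitsOfShape_of_discrete a
  intro M
  let ιY := ObjectProperty.ι (DCoh.IsQCohD (X := Y))
  let ιX := ObjectProperty.ι (DCoh.IsQCohD (X := X))
  let S : DCoh.DQCoh Y := ⟨∐ fun j => (M j).obj, isQCohD_sigma _ fun j => (M j).property⟩
  let c : Cofan M := Cofan.mk S fun j => ObjectProperty.homMk (Sigma.ι (fun j => (M j).obj) j)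
  have hc : IsColimit c := by
    refine isColimitOfReflects ιY ((isColimitMapCoconeCofanMkEquiv ιY M _).symm ?_)
    exact coproductIsCoproduct fun j => (M j).obj
  refine preservesColimit_of_preserves_colimit_cocone hc ?_
  refine (isColimitMapCoconeCofanMkEquiv a M _).symm ?_
  refine isColimitOfReflects ιX ((isColimitMapCoconeCofanMkEquiv ιX (fun j => a.obj (M j)) _).symm ?_)
  let A : J → DCoh.D X := fun j => (a.obj (M j)).obj
  have hA : ∀ j, DCoh.IsQCohD (A j) := fun j => (a.obj (M j)).property
  let inj : ∀ j, A j ⟶ (a.obj S).obj := fun j =>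
    (a.map (ObjectProperty.homMk (Sigma.ι (fun j => (M j).obj) j))).hom
  show IsColimit (Cofan.mk (a.obj S).obj inj)
  let φ : ∐ A ⟶ (a.obj S).obj := Sigma.desc inj
  suffices hφ' : IsIso φ from IsColimit.ofIsoColimit (coproductIsCoproduct A)
    (Cocone.ext (@asIso _ _ _ _ φ hφ') fun j => Sigma.ι_desc _ _)
  obtain ⟨P, hP, hctx⟩ := exists_ctx_id (X := X)
  refine Brown.isIso_of_good (hctx (a.obj S).obj) (isQCohD_sigma A hA) (a.obj S).property
    (x := φ) (x' := 𝟙 _) (fun n => ?_) (fun n => ⟨fun g g' h => by simpa using h, fun g => ⟨g, by simp⟩⟩)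
    φ (Category.comp_id φ)
  let Q : DCoh.DQCoh X := ⟨P⟦n⟧, isQCohD_shift (isQCohD_of_isPerfect hP) n⟩
  have hQ : DCoh.IsPerfect Q.obj := isPerfect_shift' hP n
  have hφι : ∀ j, Sigma.ι A j ≫ φ = inj j := fun j => Sigma.ι_desc _ _
  let e := fun B => adj.homEquiv Q B
  refine ⟨fun g g' h => sub_eq_zero.1 ?_, fun g => ?_⟩
  · -- injectivity
    have h0 : (g - g') ≫ φ = 0 := by rw [Preadditive.sub_comp, sub_eq_zero]; exact h
    obtain ⟨s, hs⟩ := (fix_of_isPerfect_qcoh hQ A hA).at_zero (g - g')
    rw [partProj_eq_sum, Preadditive.comp_sum] at hs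
    let k : ∀ j, F.obj Q ⟶ M j := fun j =>
      (e (M j)).symm (ObjectProperty.homMk ((g - g') ≫ projAt A j))
    have hk : ∀ j, ((e (M j)) (k j)).hom = (g - g') ≫ projAt A j := fun j => by
      simp only [k, Equiv.apply_symm_apply]; rfl
    have hsum : (∑ j ∈ s, k j ≫ ObjectProperty.homMk (Sigma.ι (fun j => (M j).obj) j) :
        F.obj Q ⟶ S) = 0 := by
      refine (e S).injective ?_
      rw [show (e S) (∑ j ∈ s, k j ≫ ObjectProperty.homMk (Sigma.ι (fun j => (M j).obj) j)) = _
        from adj.homEquiv_unit .., show (e S) 0 = _ from adj.homEquiv_unit ..]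
      simp only [Functor.map_sum, Functor.map_zero, comp_zero, Preadditive.comp_sum]
      apply ιX.map_injective
      rw [Functor.map_sum, Functor.map_zero, ← h0, ← hs, Preadditive.sum_comp]
      refine Finset.sum_congr rfl fun j _ => ?_
      rw [a.map_comp, ← Category.assoc, ← adj.homEquiv_unit, Category.assoc, Category.assoc, hφι]
      show ((e (M j)) (k j)).hom ≫ inj j = _
      rw [hk, Category.assoc]
    rw [← hs]
    refine Finset.sum_eq_zero fun i hi => ?_
    have hki : k i = 0 := by
      apply ιY.map_injective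
      have := congrArg (fun x => ιY.map x ≫ projAt (fun j => (M j).obj) i) hsum
      simp only [Functor.map_sum, Preadditive.sum_comp, Functor.map_zero, zero_comp] at this
      rw [Finset.sum_eq_single i (fun j _ hj => by
        show ((k j).hom ≫ Sigma.ι (fun j => (M j).obj) j) ≫ projAt _ i = 0
        rw [Category.assoc, ι_projAt_ne _ hj, comp_zero]) (fun h => absurd hi h)] at this
      rw [Functor.map_zero]
      refine Eq.trans ?_ this
      show _ = ((k i).hom ≫ Sigma.ι (fun j => (M j).obj) i) ≫ projAt _ i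
      rw [Category.assoc, ι_projAt_self, Category.comp_id]
      rfl
    have h1 : (g - g') ≫ projAt A i = 0 := by
      rw [← hk i, hki, show (e (M i)) 0 = _ from adj.homEquiv_unit .., Functor.map_zero, comp_zero]
      rfl
    rw [← Category.assoc, h1, zero_comp]
  · -- surjectivity
    let g' := (e S).symm (ObjectProperty.homMk g)
    obtain ⟨s, hs⟩ := (fix_of_isPerfect_qcoh (hF Q hQ) _ fun j => (M j).property).at_zero g'.hom
    rw [partProj_eq_sum, Preadditive.comp_sum] at hs
    let k : ∀ j, F.obj Q ⟶ M j := fun j =>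
      ObjectProperty.homMk (g'.hom ≫ projAt (fun j => (M j).obj) j)
    refine ⟨∑ j ∈ s, ((e (M j)) (k j)).hom ≫ Sigma.ι A j, ?_⟩
    have hg : g' = ∑ j ∈ s, k j ≫ ObjectProperty.homMk (Sigma.ι (fun j => (M j).obj) j) := by
      apply ιY.map_injective
      rw [Functor.map_sum]
      refine hs.symm.trans (Finset.sum_congr rfl fun j _ => ?_)
      exact (Category.assoc _ _ _).symm
    have h2 : ObjectProperty.homMk g = (e S) g' := ((e S).apply_symm_apply _).symm
    show (∑ j ∈ s, ((e (M j)) (k j)).hom ≫ Sigma.ι A j) ≫ φ = g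
    rw [show g = ιX.map (ObjectProperty.homMk g : Q ⟶ a.obj S) from rfl, h2, hg,
      show (e S) (∑ j ∈ s, _) = _ from adj.homEquiv_unit ..]
    simp only [Functor.map_sum, Preadditive.comp_sum, Preadditive.sum_comp]
    refine Finset.sum_congr rfl fun j _ => ?_
    rw [Category.assoc, hφι, a.map_comp, ← Category.assoc, ← adj.homEquiv_unit, Functor.map_comp]
    rfl

end Groth.Agent.PerfGen7
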