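import Groth.Agent.TriCat.Sums
import Mathlib.CategoryTheory.Triangulated.Subcategory
import Mathlib.CategoryTheory.ObjectProperty.Retract

/-!
# Retracts of objects of a triangulated subcategory
-/

set_option linter.style.haveILetI false

universe v u

open CategoryTheory Category Limits Pretriangulated ZeroObject

namespace Groth.Agent.PerfGen7

variable {D : Type u} [Category.{v} D] [Preadditive D] [HasZeroObject D] [HasShift D ℤ]
  [∀ n : ℤ, (shiftFunctor D n).Additive] [Pretriangulated D]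

/-- The closure under retracts of a triangulated subcategory is triangulated. -/
theorem isTriangulated_retractClosure (P : ObjectProperty D) [P.IsTriangulated]
    [P.IsClosedUnderIsomorphisms] : P.retractClosure.IsTriangulated := by
  obtain ⟨Z, hZ, hPZ⟩ := P.exists_prop_of_containsZero
  haveI : P.retractClosure.ContainsZero := ⟨Z, hZ, P.le_retractClosure _ hPZ⟩
  haveI : P.retractClosure.IsStableUnderShift ℤ := ⟨fun n => ⟨fun A ⟨G, hG, ⟨r⟩⟩ =>
    ⟨G⟦n⟧, P.le_shift n _ hG, ⟨r.map (shiftFunctor D n)⟩⟩⟩⟩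
  have h₃ : ∀ T ∈ distTriang D, P.retractClosure T.obj₁ → P.retractClosure T.obj₂ →
      P.retractClosure T.obj₃ := fun T hT ⟨G, hG, ⟨a⟩⟩ ⟨H, hH, ⟨b⟩⟩ => by
    obtain ⟨C, g, d, hT'⟩ := distinguished_cocone_triangle (a.r ≫ T.mor₁ ≫ b.i)
    obtain ⟨u, hu⟩ := complete_distinguished_triangle_morphism T _ hT hT' a.i b.i
      (show T.mor₁ ≫ b.i = a.i ≫ a.r ≫ T.mor₁ ≫ b.i by simp)
    obtain ⟨w, hw⟩ := complete_distinguished_triangle_morphism _ T hT' hT a.r b.r
      (show (a.r ≫ T.mor₁ ≫ b.i) ≫ b.r = a.r ≫ T.mor₁ by simp)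
    let φ : T ⟶ Triangle.mk (a.r ≫ T.mor₁ ≫ b.i) g d :=
      Triangle.homMk _ _ a.i b.i u (show T.mor₁ ≫ b.i = a.i ≫ a.r ≫ T.mor₁ ≫ b.i by simp) hu.1 hu.2
    let ψ : Triangle.mk (a.r ≫ T.mor₁ ≫ b.i) g d ⟶ T :=
      Triangle.homMk _ _ a.r b.r w (show (a.r ≫ T.mor₁ ≫ b.i) ≫ b.r = a.r ≫ T.mor₁ by simp) hw.1 hw.2
    have h1 : IsIso (φ ≫ ψ).hom₁ := by
      have : (φ ≫ ψ).hom₁ = 𝟙 _ := a.retract
      rw [this]; infer_instance
    have h2 : IsIso (φ ≫ ψ).hom₂ := by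
      have : (φ ≫ ψ).hom₂ = 𝟙 _ := b.retract
      rw [this]; infer_instance
    have h3 : IsIso (u ≫ w) := isIso₃_of_isIso₁₂ (φ ≫ ψ) hT hT h1 h2
    exact ⟨C, P.ext_of_isTriangulatedClosed₃ _ hT' hG hH,
      ⟨⟨u, w ≫ @inv _ _ _ _ (u ≫ w) h3, (assoc u w _).symm.trans (@IsIso.hom_inv_id _ _ _ _ (u ≫ w) h3)⟩⟩⟩
  haveI : P.retractClosure.IsTriangulatedClosed₂ := ObjectProperty.IsTriangulatedClosed₂.mk' fun T hT h₁ h₃' =>
    P.retractClosure.prop_of_iso
      ((shiftEquiv D (1 : ℤ)).unitIso.app T.obj₂ ≪≫ Iso.refl _).symm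
      (P.retractClosure.le_shift (-1 : ℤ) _ (h₃ T.rotate.rotate (rot_of_distTriang _ (rot_of_distTriang _ hT))
        h₃' (P.retractClosure.le_shift (1 : ℤ) _ h₁)))
  exact { }

/-- If `A` is a retract of an object of a triangulated subcategory, then `A ⊞ A⟦1⟧` belongs to it. -/
theorem prop_biprod_shift_of_retract (P : ObjectProperty D) [P.IsTriangulated]
    [P.IsClosedUnderIsomorphisms] {A G : D} (hG : P G) (h : Retract A G) :
    P (A ⊞ A⟦(1 : ℤ)⟧) := by
  obtain ⟨X, g, d, hT⟩ := distinguished_cocone_triangle h.i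
  haveI : Mono h.i := SplitMono.mono ⟨h.r, h.retract⟩
  have hd : d = 0 := Triangle.mor₃_eq_zero_of_mono₁ _ hT ‹_›
  obtain ⟨e, -, -⟩ := exists_iso_binaryBiproduct_of_distTriang _ hT hd
  have hAX : P (A ⊞ X) := P.prop_of_iso e hG
  obtain ⟨C, g₀, d₀, hC⟩ := distinguished_cocone_triangle (0 : A ⟶ A)
  have hsum := TriCat.biprodTriangle_distinguished hC (contractible_distinguished X)
  have hC₃ : P (C ⊞ (0 : D)) := by
    refine P.ext_of_isTriangulatedClosed₃ _ hsum ?_ ?_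
    · exact hAX
    · exact hAX
  have hC' : P C := P.prop_of_iso (isoBiprodZero (isZero_zero D)).symm hC₃
  obtain ⟨e', -, -⟩ := exists_iso_binaryBiproduct_of_distTriang _ (rot_of_distTriang _ hC)
    (show -(shiftFunctor D (1 : ℤ)).map (0 : A ⟶ A) = 0 by simp)
  exact P.prop_of_iso e' hC'

end Groth.Agent.PerfGen7
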