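import Groth.Agent.PerfGen7.AffineOpen
import Groth.Agent.PerfGen7.PushSupp
import Groth.Agent.PerfGen7.TriRetract
import Groth.Agent.KFlatLib.Scheme.LocalDevissage
import Groth.Agent.KFlatLib.Scheme.RHomLocal

/-!
# Extending perfect objects from an open of an affine scheme
-/

set_option linter.style.haveILetI false
set_option backward.isDefEq.respectTransparency false

universe u

open CategoryTheory CategoryTheory.Limits AlgebraicGeometry Pretriangulated ZeroObject

attribute [local instance] HasDerivedCategory.standard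

namespace Groth.Agent.PerfGen7

open Groth.Agent.KFlatLib Groth.Agent.H9Misc

variable {R : CommRingCat.{u}} {U : Scheme.{u}}

lemma isCompact_range_of_qc (j : U ⟶ Spec R) [QuasiCompact j] : IsCompact (Set.range j.base) := by
  haveI : CompactSpace U := QuasiCompact.compactSpace_of_compactSpace j
  exact isCompact_range j.continuous

lemma homEquiv_back {C D : Type*} [Category C] [Category D] {F : C ⥤ D} {G : D ⥤ C} (adj : F ⊣ G)
    {X : C} {Y : D} (g : F.obj X ⟶ Y) : F.map (adj.homEquiv X Y g) ≫ adj.counit.app Y = g := by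
  simp [Adjunction.homEquiv_unit]

/-- Lifting maps after changing the source away from the open. -/
theorem exists_lift_perfect (j : U ⟶ Spec R) [IsOpenImmersion j] [QuasiCompact j] {T : Set (Spec R)}
    (hT : IsClosed T) (hTc : IsCompact Tᶜ) {G E' : DCoh.D (Spec R)} (hG : DCoh.IsPerfect G)
    (hGT : Supp G T) (hE : DCoh.IsQCohD E') (α : (rho j).obj G ⟶ (rho j).obj E') :
    ∃ (G₁ : DCoh.D (Spec R)) (β : G₁ ⟶ G) (γ : G₁ ⟶ E'), DCoh.IsPerfect G₁ ∧ Supp G₁ T ∧
      IsIso ((rho j).map β) ∧ (rho j).map β ≫ α = (rho j).map γ := by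
  haveI := hasRpush_scheme j
  haveI : HasInjectiveResolutions U.Modules := hasInjectiveResolutions_modules
  obtain ⟨C, g, d, hd, hC⟩ := exists_unit_triangle j E'
  let a : G ⟶ (DCoh.Rpush j).obj ((rho j).obj E') := (adjR j).homEquiv _ _ α
  have hR : IsOpen (Set.range j.base) := j.isOpenEmbedding.isOpen_range
  have hCq : DCoh.IsQCohD C := isQCohD_obj₃ hd hE (isQCohD_rpush j (isQCohD_rho j hE))
  obtain ⟨G', q, φ', hG', hG'R, hq, hpres⟩ := exists_factor_spec hR.isClosed_compl
    (by rw [compl_compl]; exact isCompact_range_of_qc j) hG hCq hC (a ≫ g)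
  obtain ⟨G₁, β, δ, hβ⟩ := distinguished_cocone_triangle₁ q
  have h0 : β ≫ q = 0 := comp_distTriang_mor_zero₁₂ _ hβ
  obtain ⟨γ, hγ⟩ := Triangle.coyoneda_exact₂ _ hd (β ≫ a)
    (show (β ≫ a) ≫ g = 0 by rw [Category.assoc, ← hq, reassoc_of% h0, zero_comp])
  refine ⟨G₁, β, γ, isPerfect_tri₁ hβ hG hG', supp_obj₁ hβ hGT (hpres T hT hTc hGT), ?_, ?_⟩
  · exact (Triangle.isZero₃_iff_isIso₁ _ ((rho j).map_distinguished _ hβ)).1
      ((isZero_rho_iff j G').2 hG'R)
  · have h1 := congrArg (fun x => (rho j).map x ≫ (adjR j).counit.app ((rho j).obj E')) hγ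
    simp only [Functor.map_comp, Category.assoc] at h1
    erw [homEquiv_back] at h1
    change (rho j).map β ≫ α = (rho j).map γ ≫ (rho j).map ((adjR j).unit.app E') ≫ _ at h1
    rw [h1]
    erw [(adjR j).left_triangle_components E', Category.comp_id]

/-- Restrictions of perfect objects supported in `T`. -/
def ImT (j : U ⟶ Spec R) [IsOpenImmersion j] (T : Set (Spec R)) : ObjectProperty (DCoh.D U) :=
  fun A => ∃ G : DCoh.D (Spec R), DCoh.IsPerfect G ∧ Supp G T ∧ Nonempty ((rho j).obj G ≅ A)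

instance (j : U ⟶ Spec R) [IsOpenImmersion j] (T : Set (Spec R)) :
    (ImT j T).IsClosedUnderIsomorphisms where
  of_iso e := fun ⟨G, hG, hGT, ⟨e'⟩⟩ => ⟨G, hG, hGT, ⟨e' ≪≫ e⟩⟩

theorem isTriangulated_imT (j : U ⟶ Spec R) [IsOpenImmersion j] [QuasiCompact j] {T : Set (Spec R)}
    (hT : IsClosed T) (hTc : IsCompact Tᶜ) : (ImT j T).IsTriangulated := by
  haveI : (ImT j T).IsStableUnderShift ℤ := ⟨fun n => ⟨fun A ⟨G, hG, hGT, ⟨e⟩⟩ =>
    ⟨G⟦n⟧, isPerfect_shift' hG n, hGT.shift n,
      ⟨((rho j).commShiftIso n).app G ≪≫ (shiftFunctor _ n).mapIso e⟩⟩⟩⟩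
  haveI : (ImT j T).ContainsZero := ⟨0, isZero_zero _, 0, isPerfect_of_isZero' (isZero_zero _),
    supp_of_isZero (isZero_zero _) T, ⟨((rho j).map_isZero (isZero_zero _)).iso (isZero_zero _)⟩⟩
  haveI : (ImT j T).IsTriangulatedClosed₃ := ObjectProperty.IsTriangulatedClosed₃.mk'
    fun τ hτ ⟨G, hG, hGT, ⟨eA⟩⟩ ⟨H, hH, hHT, ⟨eB⟩⟩ => by
      obtain ⟨G₁, β, γ, h₁, h₁T, hβ, hγ⟩ := exists_lift_perfect j hT hTc hG hGT
        (isQCohD_of_isPerfect hH) (eA.hom ≫ τ.mor₁ ≫ eB.inv)
      obtain ⟨Cn, g, d, hCn⟩ := distinguished_cocone_triangle γ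
      refine ⟨Cn, isPerfect_tri₃ hCn h₁ hH, supp_obj₃ hCn h₁T hHT, ⟨Triangle.π₃.mapIso
        (isoTriangleOfIso₁₂ ((rho j).mapTriangle.obj (Triangle.mk γ g d)) τ
          ((rho j).map_distinguished _ hCn) hτ
          (@asIso _ _ _ _ ((rho j).map β) hβ ≪≫ eA) eB ?_)⟩⟩
      show (rho j).map γ ≫ eB.hom = ((rho j).map β ≫ eA.hom) ≫ τ.mor₁
      rw [← hγ]
      simp
  haveI : (ImT j T).IsTriangulatedClosed₂ := .of_isTriangulatedClosed₃
  exact { }

/-- Supports may be added to retracts of restrictions. -/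
theorem retract_imT_of_supp (j : U ⟶ Spec R) [IsOpenImmersion j] [QuasiCompact j] {T : Set (Spec R)}
    (hT : IsClosed T) (hTc : IsCompact Tᶜ) {F : DCoh.D U} (hF : DCoh.IsPerfect F)
    (hFT : Supp F (j.base ⁻¹' T)) (h : (ImT j Set.univ).retractClosure F) :
    (ImT j T).retractClosure F := by
  obtain ⟨A, ⟨G, hG, -, ⟨e⟩⟩, ⟨r⟩⟩ := h
  haveI := hasRpush_scheme j
  haveI : HasInjectiveResolutions U.Modules := hasInjectiveResolutions_modules
  obtain ⟨G', q, φ', hG', hG'T, hq, -⟩ := exists_factor_spec hT hTc hG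
    (isQCohD_rpush j (isQCohD_of_isPerfect hF)) (supp_rpush j hT hFT)
    ((adjR j).homEquiv _ _ (e.hom ≫ r.r))
  refine ⟨_, ⟨G', hG', hG'T, ⟨Iso.refl _⟩⟩, ⟨{
    i := r.i ≫ e.inv ≫ (rho j).map q
    r := (rho j).map φ' ≫ (adjR j).counit.app F
    retract := ?_ }⟩⟩
  have h1 := congrArg (fun x => (rho j).map x ≫ (adjR j).counit.app F) hq
  simp only [Functor.map_comp, Category.assoc] at h1
  erw [homEquiv_back] at h1
  simp [h1]

/-- The unit object restricts to the unit object. -/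
lemma nonempty_rho_tilde_unit {S : CommRingCat.{u}} (j : Spec S ⟶ Spec R) [IsOpenImmersion j] :
    Nonempty ((rho j).obj ((DCoh.tildeD R).obj (DTen.unit R)) ≅ (DCoh.tildeD S).obj (DTen.unit S)) := by
  have key : ∀ A : CommRingCat.{u}, Nonempty ((DCoh.tildeD A).obj (DTen.unit A) ≅
      (DerivedCategory.singleFunctor (Spec A).Modules 0).obj (Coh.structureModule (Spec A))) := fun A =>
    ⟨((tilde.functor A).mapDerivedCategorySingleFunctor 0).app (ModuleCat.of A A) ≪≫
      (DerivedCategory.singleFunctor (Spec A).Modules 0).mapIso (tildeSelf (R := A))⟩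
  obtain ⟨eR⟩ := key R
  obtain ⟨eS⟩ := key S
  exact ⟨(rho j).mapIso eR ≪≫
    ((Scheme.Modules.restrictFunctor j).mapDerivedCategorySingleFunctor 0).app _ ≪≫
    (DerivedCategory.singleFunctor (Spec S).Modules 0).mapIso (restrictStructureIso j) ≪≫ eS.symm⟩

/-- Perfect objects on an affine open are retracts of restrictions. -/
theorem retract_imT_affine {S : CommRingCat.{u}} (j : Spec S ⟶ Spec R) [IsOpenImmersion j]
    {F : DCoh.D (Spec S)} (hF : DCoh.IsPerfect F) : (ImT j Set.univ).retractClosure F := by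
  haveI := isTriangulated_imT j (T := Set.univ) isClosed_univ (by simp)
  haveI := isTriangulated_retractClosure (ImT j Set.univ)
  let Φ := (ImT j Set.univ).retractClosure
  obtain ⟨K, ⟨eK⟩⟩ := exists_tildeD_iso (isQCohD_of_isPerfect hF)
  refine Φ.prop_of_iso eK (perfect_induction (fun K => Φ ((DCoh.tildeD S).obj K))
    (fun e h => Φ.prop_of_iso ((DCoh.tildeD S).mapIso e) h)
    (fun τ hτ h₁ h₃ => Φ.ext_of_isTriangulatedClosed₂ _ ((DCoh.tildeD S).map_distinguished _ hτ) h₁ h₃)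
    (fun i r hir h => Φ.prop_of_retract ⟨(DCoh.tildeD S).map i, (DCoh.tildeD S).map r,
      by rw [← Functor.map_comp, hir, CategoryTheory.Functor.map_id]⟩ h)
    (fun n => Φ.prop_of_iso (((DCoh.tildeD S).commShiftIso n).app _).symm (Φ.le_shift n _
      ((ImT j Set.univ).le_retractClosure _ ⟨_, (isPerfect_tilde_iff' _).2 ?_, supp_univ _,
        nonempty_rho_tilde_unit j⟩)))
    ((isPerfect_tilde_iff' K).1 (isPerfect_of_iso' eK.symm hF)))
  exact DRingPC.isPerfect_of_iso ((shiftFunctorZero (Dual.D R) ℤ).app _) (isPerfect_unit_shift 0)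

/-- Perfect objects on a quasi-compact open are retracts of restrictions. -/
theorem retract_imT (fs : Finset R) : ∀ {U : Scheme.{u}} (j : U ⟶ Spec R) [IsOpenImmersion j]
    [QuasiCompact j], Set.range j.base = (PrimeSpectrum.zeroLocus (fs : Set R))ᶜ →
    ∀ {F : DCoh.D U}, DCoh.IsPerfect F → (ImT j Set.univ).retractClosure F := by
  classical
  induction fs using Finset.induction with
  | empty =>
    intro U j _ _ hj F hF
    have hF0 : IsZero F := isZero_of_supp_empty (supp_iff.2 fun x _ i => by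
      have : j.base x ∈ Set.range j.base := ⟨x, rfl⟩
      rw [hj] at this
      simp at this)
    exact (ImT j Set.univ).le_retractClosure _ ⟨0, isPerfect_of_isZero' (isZero_zero _), supp_univ _,
      ⟨((rho j).map_isZero (isZero_zero _)).iso hF0⟩⟩
  | @insert f fs hf ih =>
    intro U j _ _ hj F hF
    haveI := isTriangulated_imT j (T := Set.univ) isClosed_univ (by simp)
    haveI := isTriangulated_retractClosure (ImT j Set.univ)
    let Φ := (ImT j Set.univ).retractClosure
    have hmem : ∀ x : Spec R, x ∈ Set.range j.base ↔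
        ¬(f ∈ x.asIdeal ∧ (fs : Set R) ⊆ x.asIdeal) := fun x => by
      rw [hj, Set.mem_compl_iff, PrimeSpectrum.mem_zeroLocus, Finset.coe_insert, Set.insert_subset_iff]
      rfl
    -- the basic open
    let j₀ : Spec (CommRingCat.of (Localization.Away f)) ⟶ Spec R :=
      Spec.map (CommRingCat.ofHom (algebraMap R (Localization.Away f)))
    haveI : IsOpenImmersion j₀ := IsOpenImmersion.of_isLocalization f
    have hj₀ : Set.range j₀.base = (PrimeSpectrum.zeroLocus ({f} : Set R))ᶜ := by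
      rw [← PrimeSpectrum.basicOpen_eq_zeroLocus_compl]
      exact PrimeSpectrum.localization_away_comap_range (Localization.Away f) f
    let k := IsOpenImmersion.lift j j₀ (by
      rintro x hx
      rw [hj₀] at hx
      exact (hmem x).2 fun hc => hx (Set.singleton_subset_iff.2 hc.1))
    have hk : k ≫ j = j₀ := IsOpenImmersion.lift_fac _ _ _
    haveI : IsOpenImmersion k := by
      haveI : IsOpenImmersion (k ≫ j) := by rw [hk]; infer_instance
      exact IsOpenImmersion.of_comp k j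
    haveI := hasRpush_scheme j
    haveI : HasInjectiveResolutions U.Modules := hasInjectiveResolutions_modules
    haveI : PreservesBinaryBiproduct F (F⟦(1 : ℤ)⟧) (rho k) :=
      (preservesBinaryBiproducts_of_preservesBiproducts (rho k)).preserves
    let F₂ := F ⊞ F⟦(1 : ℤ)⟧
    have hF₂ : DCoh.IsPerfect F₂ :=
      isPerfect_tri₂ (binaryBiproductTriangle_distinguished F (F⟦(1 : ℤ)⟧)) hF (isPerfect_shift' hF 1)
    suffices h₂ : Φ F₂ from Φ.prop_of_retract ⟨biprod.inl, biprod.fst, biprod.inl_fst⟩ h₂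
    obtain ⟨A, hA, ⟨rA⟩⟩ := retract_imT_affine j₀ (isPerfect_rho' k hF)
    haveI := isTriangulated_imT j₀ (T := Set.univ) isClosed_univ (by simp)
    obtain ⟨G, hG, -, ⟨e⟩⟩ := (ImT j₀ Set.univ).prop_of_iso
      ((biprod.mapIso (Iso.refl _) (((rho k).commShiftIso (1 : ℤ)).app F).symm) ≪≫
        ((rho k).mapBiprod F (F⟦(1 : ℤ)⟧)).symm)
      (prop_biprod_shift_of_retract (ImT j₀ Set.univ) hA rA)
    let E' := (DCoh.Rpush j).obj F₂
    have hE' : DCoh.IsQCohD E' := isQCohD_rpush j (isQCohD_of_isPerfect hF₂)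
    let ec : (rho j).obj E' ≅ F₂ := asIso ((adjR j).counit.app F₂)
    let e' : (rho j₀).obj E' ≅ (rho k).obj F₂ := (rhoComp k j j₀ hk E').symm ≪≫ (rho k).mapIso ec
    obtain ⟨G₁, β, γ, hG₁, -, hβ, hγ⟩ :=
      exists_lift_perfect j₀ isClosed_univ (by simp) hG (supp_univ G) hE' (e.hom ≫ e'.inv)
    haveI := hβ
    haveI : IsIso ((rho j₀).map γ) := by rw [← hγ]; infer_instance
    obtain ⟨Cγ, g, d, hC⟩ := distinguished_cocone_triangle γ
    have hCs : Supp Cγ (PrimeSpectrum.zeroLocus ({f} : Set R)) := by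
      have := (isZero_rho_iff j₀ Cγ).1 ((Triangle.isZero₃_iff_isIso₁ _
        ((rho j₀).map_distinguished _ hC)).2 ‹IsIso ((rho j₀).map γ)›)
      rwa [hj₀, compl_compl] at this
    let Cn := (rho j).obj Cγ
    have hCn : DCoh.IsPerfect Cn := isPerfect_tri₃ ((rho j).map_distinguished _ hC)
      (isPerfect_rho' j hG₁) (isPerfect_of_iso' ec.symm hF₂)
    suffices hΦ : Φ Cn from Φ.prop_of_iso ec (Φ.ext_of_isTriangulatedClosed₂ _
      ((rho j).map_distinguished _ hC)
      ((ImT j Set.univ).le_retractClosure _ ⟨G₁, hG₁, supp_univ _, ⟨Iso.refl _⟩⟩) hΦ)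
    -- the remaining opens
    let W : (Spec R).Opens := ⟨(PrimeSpectrum.zeroLocus (fs : Set R))ᶜ,
      (PrimeSpectrum.isClosed_zeroLocus _).isOpen_compl⟩
    let m := (j ⁻¹ᵁ W).ι
    let n := m ≫ j
    have hn : Set.range n.base = (PrimeSpectrum.zeroLocus (fs : Set R))ᶜ := by
      refine Set.Subset.antisymm ?_ fun x hx => ?_
      · rintro _ ⟨w, rfl⟩
        exact w.2
      · obtain ⟨y, rfl⟩ := (hmem x).2 fun hc => hx hc.2
        exact ⟨⟨y, hx⟩, rfl⟩
    haveI : QuasiCompact n := by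
      refine (quasiCompact_iff_compactSpace n).2 ⟨?_⟩
      rw [n.isOpenEmbedding.isEmbedding.isCompact_iff, Set.image_univ, hn]
      exact (PrimeSpectrum.isCompact_isOpen_iff.2 ⟨fs, rfl⟩).1
    have hTf : IsClosed (PrimeSpectrum.zeroLocus ({f} : Set R)) := PrimeSpectrum.isClosed_zeroLocus _
    have hTfc : IsCompact (PrimeSpectrum.zeroLocus ({f} : Set R))ᶜ :=
      (PrimeSpectrum.isCompact_isOpen_iff.2 ⟨{f}, by rw [Finset.coe_singleton]⟩).1
    let T' : Set U := j.base ⁻¹' PrimeSpectrum.zeroLocus ({f} : Set R)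
    have hCnT : Supp Cn T' := hCs.rho j
    have hT'm : T' ⊆ Set.range m.base := fun y hy => by
      rw [Scheme.Opens.range_ι]
      exact fun hc => (hmem (j.base y)).1 ⟨y, rfl⟩ ⟨Set.singleton_subset_iff.1 hy, hc⟩
    haveI := hasRpush_scheme m
    obtain ⟨B, ⟨G', hG', hG'T, ⟨eB⟩⟩, ⟨r⟩⟩ := retract_imT_of_supp n hTf hTfc
      (F := (rho m).obj Cn) (isPerfect_rho' m hCn) (hCnT.rho m) (ih n hn (isPerfect_rho' m hCn))
    have hunit : ∀ E : DCoh.D U, Supp E T' → IsIso ((adjR m).unit.app E) := fun E hE =>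
      isIso_unit_of_supp m E hT'm hE
        (supp_rpush m (hTf.preimage j.continuous) (hE.rho m))
    haveI := hunit _ hCnT
    haveI := hunit _ (hG'T.rho j)
    exact ⟨(rho j).obj G', ⟨G', hG', supp_univ _, ⟨Iso.refl _⟩⟩,
      ⟨((Retract.ofIso (asIso ((adjR m).unit.app Cn))).trans
        ((r.trans (Retract.ofIso (eB.symm ≪≫ (rhoComp m j n rfl G').symm))).map (DCoh.Rpush m))).trans
        (Retract.ofIso (asIso ((adjR m).unit.app ((rho j).obj G'))).symm)⟩⟩

/-- A perfect object on a quasi-compact open, added to its shift, extends with a given support. -/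
theorem exists_extend_perfect (j : U ⟶ Spec R) [IsOpenImmersion j] [QuasiCompact j]
    {T : Set (Spec R)} (hT : IsClosed T) (hTc : IsCompact Tᶜ) {F : DCoh.D U} (hF : DCoh.IsPerfect F)
    (hFT : Supp F (j.base ⁻¹' T)) :
    ∃ G : DCoh.D (Spec R), DCoh.IsPerfect G ∧ Supp G T ∧
      Nonempty ((rho j).obj G ≅ F ⊞ F⟦(1 : ℤ)⟧) := by
  obtain ⟨fs, hfs⟩ := exists_finset_zeroLocus j.isOpenEmbedding.isOpen_range.isClosed_compl
    (by rw [compl_compl]; exact isCompact_range_of_qc j)
  haveI := isTriangulated_imT j hT hTc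
  obtain ⟨A, hA, ⟨r⟩⟩ := retract_imT_of_supp j hT hTc hF hFT
    (retract_imT fs j (by rw [← hfs, compl_compl]) hF)
  exact prop_biprod_shift_of_retract (ImT j T) hA r

end Groth.Agent.PerfGen7
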