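import Groth.Agent.KFlatLib.Ring.PerfectInduction
import Groth.Agent.KFlatLib.Ring.BcRHomPerfect
import Groth.Agent.KFlatLib.PsiC
import Groth.Agent.KFlatLib.Scheme.TildePerf
import Groth.Agent.KFlatLib.Perfect.DLocal
import Groth.Agent.H9Misc.DRingNakayama
import Groth.Agent.H9Misc.DRingPC
import Groth.Agent.QCoh.Tilde
import Mathlib.Algebra.Homology.DerivedCategory.Linear
import Mathlib.Algebra.Category.ModuleCat.Projective

/-!
# Torsion objects and Koszul objects in the derived category of a ring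
-/

set_option linter.style.haveILetI false

universe u

open CategoryTheory CategoryTheory.Limits Pretriangulated AlgebraicGeometry

attribute [local instance] HasDerivedCategory.standard

namespace Groth.Agent.PerfGen7

open Groth.Agent.KFlatLib Groth.Agent.H9Misc

variable {R : CommRingCat.{u}}

/-- Cohomology. -/
noncomputable abbrev Hn (n : ℤ) : Dual.D R ⥤ ModuleCat.{u} R :=
  DerivedCategory.homologyFunctor (ModuleCat.{u} R) n

/-- All cohomology is `f`-power torsion. -/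
def Tors (f : R) (M : Dual.D R) : Prop :=
  ∀ (n : ℤ) (x : (Hn n).obj M), ∃ N : ℕ, f ^ N • x = 0

lemma Tors.of_iso {f : R} {M M' : Dual.D R} (e : M ≅ M') (h : Tors f M) : Tors f M' := fun n x => by
  obtain ⟨N, hN⟩ := h n (((Hn n).map e.inv).hom x)
  refine ⟨N, ?_⟩
  have := congrArg (((Hn n).map e.hom).hom) hN
  rw [map_smul, map_zero, ← ModuleCat.comp_apply, ← Functor.map_comp, e.inv_hom_id,
    CategoryTheory.Functor.map_id] at this
  exact this

lemma tors_obj₂ {f : R} {T : Triangle (Dual.D R)} (hT : T ∈ distTriang _) (h₁ : Tors f T.obj₁)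
    (h₃ : Tors f T.obj₃) : Tors f T.obj₂ := fun n x => by
  obtain ⟨a, ha⟩ := h₃ n (((Hn n).map T.mor₂).hom x)
  obtain ⟨y, hy⟩ := (ShortComplex.moduleCat_exact_iff _).1
    (DerivedCategory.HomologySequence.exact₂ T hT n) (f ^ a • x)
    ((map_smul ((Hn n).map T.mor₂).hom (f ^ a) x).trans ha)
  obtain ⟨b, hb⟩ := h₁ n y
  refine ⟨b + a, ?_⟩
  rw [pow_add, ← smul_smul]
  exact ((congrArg (f ^ b • ·) hy).symm.trans ((map_smul _ _ _).symm.trans (congrArg _ hb))).trans
    (map_zero _)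

lemma Tors.shift {f : R} {M : Dual.D R} (h : Tors f M) (m : ℤ) : Tors f (M⟦m⟧) := fun n x => by
  let e : (Hn n).obj (M⟦m⟧) ≅ (Hn (m + n)).obj M :=
    ((DerivedCategory.homologyFunctor (ModuleCat.{u} R) 0).shiftIso m n (m + n) rfl).app M
  obtain ⟨N, hN⟩ := h (m + n) (e.hom.hom x)
  refine ⟨N, e.toLinearEquiv.injective ?_⟩
  exact ((e.hom.hom.map_smul (f ^ N) x).trans hN).trans (e.hom.hom.map_zero).symm

lemma Tors.of_isZero {f : R} {M : Dual.D R} (h : IsZero M) : Tors f M := fun n x => by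
  haveI := ModuleCat.subsingleton_of_isZero ((Hn n).map_isZero h)
  exact ⟨0, Subsingleton.elim _ _⟩

lemma tors_obj₃ {f : R} {T : Triangle (Dual.D R)} (hT : T ∈ distTriang _) (h₁ : Tors f T.obj₁)
    (h₂ : Tors f T.obj₂) : Tors f T.obj₃ :=
  tors_obj₂ (rot_of_distTriang _ hT) h₂ (h₁.shift 1)

/-- Maps from perfect objects to torsion objects are torsion. -/
lemma hom_tors {f : R} {M P : Dual.D R} (hP : DRing.IsPerfect R P) (hM : Tors f M)
    (φ : P ⟶ M) : ∃ N : ℕ, f ^ N • φ = 0 := by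
  let Q : Dual.D R → Prop := fun P => ∀ φ : P ⟶ M, ∃ N : ℕ, f ^ N • φ = 0
  have hiso : ∀ {K K' : Dual.D R}, (K ≅ K') → Q K → Q K' := fun {K K'} e h φ => by
    obtain ⟨N, hN⟩ := h (e.hom ≫ φ)
    exact ⟨N, (cancel_epi e.hom).1 (by rw [Linear.comp_smul, hN, comp_zero])⟩
  refine perfect_induction Q hiso (fun T hT h₁ h₃ φ => ?_) (fun i r hir h φ => ?_) (fun n => ?_) hP φ
  · obtain ⟨a, ha⟩ := h₁ (T.mor₁ ≫ φ)
    obtain ⟨ψ, hψ⟩ := Triangle.yoneda_exact₂ _ hT (f ^ a • φ)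
      (by rw [Linear.comp_smul, ha])
    obtain ⟨b, hb⟩ := h₃ ψ
    exact ⟨b + a, by rw [pow_add, mul_smul, hψ, ← Linear.comp_smul, hb, comp_zero]⟩
  · obtain ⟨N, hN⟩ := h (r ≫ φ)
    refine ⟨N, ?_⟩
    have := congrArg (i ≫ ·) hN
    simpa [Linear.comp_smul, ← Category.assoc, hir] using this
  · refine hiso ((((DerivedCategory.singleFunctors (ModuleCat.{u} R)).shiftIso n (-n) 0
      (by omega)).app (ModuleCat.of R R)).symm) fun φ => ?_
    haveI : Projective (ModuleCat.of R R) := inferInstance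
    obtain ⟨N, hN⟩ := hM (-n) ((psiC (-n) (ModuleCat.of R R) M φ).hom (1 : R))
    refine ⟨N, (bijective_psiC_of_projective (P := ModuleCat.of R R) (-n) M).1 ?_⟩
    refine ModuleCat.hom_ext (LinearMap.ext_ring ?_)
    simp only [psiC, Functor.map_smul, Functor.map_zero, comp_zero, Linear.comp_smul]
    exact hN

lemma isPerfect_obj₃ {T : Triangle (Dual.D R)} (hT : T ∈ distTriang _)
    (h₁ : DRing.IsPerfect R T.obj₁) (h₂ : DRing.IsPerfect R T.obj₂) :
    DRing.IsPerfect R T.obj₃ := by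
  have key : ∀ M : Dual.D R, DCoh.IsPerfect ((DCoh.tildeD R).obj M) ↔ DRing.IsPerfect R M :=
    fun M => (KFlatLib.perfect_tildeD_iff (R := R) M).trans Iff.rfl
  exact (key _).1 ((isPerfect_iff _).2 (locSP_obj₃ _ ((DCoh.tildeD R).map_distinguished T hT)
    ((isPerfect_iff _).1 ((key _).2 h₁)) ((isPerfect_iff _).1 ((key _).2 h₂))))

/-- The cone of multiplication by a power of `g` is `g`-torsion. -/
lemma tors_cone {g : R} {G₁ G₂ : Dual.D R} (N : ℕ) (q : G₁ ⟶ G₂) (d : G₂ ⟶ G₁⟦(1 : ℤ)⟧)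
    (hT : Triangle.mk (g ^ N • 𝟙 G₁) q d ∈ distTriang _) : Tors g G₂ := by
  intro n x
  let x' := ((Hn n).map d).hom x
  have hx' : g ^ N • x' = 0 := by
    have hz : d ≫ (g ^ N • 𝟙 G₁)⟦(1 : ℤ)⟧' = 0 := comp_distTriang_mor_zero₃₁ _ hT
    rw [Functor.map_smul, CategoryTheory.Functor.map_id, Linear.comp_smul, Category.comp_id] at hz
    have h1 := congrArg (fun t => ((Hn n).map t).hom x) hz
    simp only [Functor.map_smul, Functor.map_zero, ModuleCat.hom_smul, LinearMap.smul_apply,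
      ModuleCat.hom_zero, LinearMap.zero_apply] at h1
    exact h1
  obtain ⟨y, hy⟩ := (ShortComplex.moduleCat_exact_iff _).1
    (DerivedCategory.HomologySequence.exact₂ _ (rot_of_distTriang _ hT) n) (g ^ N • x)
    ((map_smul ((Hn n).map d).hom (g ^ N) x).trans hx')
  refine ⟨N + N, ?_⟩
  rw [pow_add, ← smul_smul]
  refine (congrArg (g ^ N • ·) hy).symm.trans ((map_smul _ _ _).symm.trans ?_)
  have hq0 : g ^ N • q = 0 := by
    have h : (g ^ N • 𝟙 G₁) ≫ q = 0 := comp_distTriang_mor_zero₁₂ _ hT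
    rwa [Linear.smul_comp, Category.id_comp] at h
  have h2 : g ^ N • (Hn n).map q = 0 := by rw [← Functor.map_smul, hq0, Functor.map_zero]
  have hz := congrArg (fun t : (Hn n).obj G₁ ⟶ (Hn n).obj G₂ => t.hom y) h2
  exact (LinearMap.map_smul ((Hn n).map q).hom (g ^ N) y).trans hz

/-- A map into a torsion object factors through a torsion perfect object. -/
theorem exists_factor_tors (fs : List R) {M : Dual.D R} (hM : ∀ f ∈ fs, Tors f M) :
    ∀ {G : Dual.D R}, DRing.IsPerfect R G → ∀ φ : G ⟶ M,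
      ∃ (G' : Dual.D R) (q : G ⟶ G') (φ' : G' ⟶ M), DRing.IsPerfect R G' ∧
        (∀ f ∈ fs, Tors f G') ∧ q ≫ φ' = φ ∧
        ∀ g : R, Tors g G → Tors g G' := by
  induction fs with
  | nil => exact fun {G} hG φ => ⟨G, 𝟙 G, φ, hG, by simp, Category.id_comp _, fun _ h => h⟩
  | cons f fs ih =>
    intro G hG φ
    obtain ⟨G₁, q₁, φ₁, hG₁, hT₁, hq₁, hp₁⟩ := ih (fun g hg => hM g (List.mem_cons_of_mem f hg)) hG φ
    obtain ⟨N, hN⟩ := hom_tors hG₁ (hM f List.mem_cons_self) φ₁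
    obtain ⟨G₂, q, d, hT⟩ := distinguished_cocone_triangle (f ^ N • 𝟙 G₁)
    obtain ⟨φ₂, hφ₂⟩ := Triangle.yoneda_exact₂ _ hT φ₁
      ((Linear.smul_comp _ _ _ _ _ _).trans ((congrArg (f ^ N • ·) (Category.id_comp φ₁)).trans hN))
    have hG₂ : DRing.IsPerfect R G₂ := isPerfect_obj₃ hT hG₁ hG₁
    have hpres : ∀ g : R, Tors g G₁ → Tors g G₂ := fun g hg => tors_obj₃ hT hg hg
    refine ⟨G₂, q₁ ≫ q, φ₂, hG₂, fun g hg => ?_, ?_, fun g hg => hpres g (hp₁ g hg)⟩
    · rcases List.mem_cons.1 hg with rfl | hg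
      · exact tors_cone N q d hT
      · exact hpres g (hT₁ g hg)
    · rw [Category.assoc, ← show φ₁ = q ≫ φ₂ from hφ₂, hq₁]

/-- A perfect object which detects, degree by degree, the cohomology of torsion objects. -/
theorem exists_kos_deg (fs : List R) :
    ∃ K : Dual.D R, DRing.IsPerfect R K ∧ (∀ f ∈ fs, Tors f K) ∧
      ∀ M : Dual.D R, (∀ f ∈ fs, Tors f M) → ∀ n : ℤ, (∀ φ : K⟦n⟧ ⟶ M, φ = 0) →
        IsZero ((Hn (-n)).obj M) := by
  suffices h : ∃ K : Dual.D R, DRing.IsPerfect R K ∧ (∀ f ∈ fs, Tors f K) ∧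
      ∀ M : Dual.D R, (∀ f ∈ fs, Tors f M) → ∀ n : ℤ, (∀ φ : K⟦n⟧ ⟶ M, φ = 0) →
        ∀ ψ : (DTen.unit R)⟦n⟧ ⟶ M, ψ = 0 by
    obtain ⟨K, hK, hT, hd⟩ := h
    refine ⟨K, hK, hT, fun M hM n h0 => ?_⟩
    haveI : Subsingleton ((Hn (-n)).obj M) := by
      refine ⟨fun a b => sub_eq_zero.1 ?_⟩
      haveI : Projective (ModuleCat.of R R) := inferInstance
      obtain ⟨φ, hφ⟩ := (bijective_psiC_of_projective (P := ModuleCat.of R R) (-n) M).2
        (ModuleCat.ofHom (LinearMap.toSpanSingleton R _ (a - b)))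
      let e := ((DerivedCategory.singleFunctors (ModuleCat.{u} R)).shiftIso n (-n) 0
        (by omega)).app (ModuleCat.of R R)
      have hφ0 : φ = 0 := by
        rw [← cancel_epi e.hom, comp_zero]
        exact hd M hM n h0 (e.hom ≫ φ)
      have := congrArg (fun t => t.hom (1 : R)) hφ
      simpa [hφ0, psiC] using this.symm
    exact ModuleCat.isZero_of_subsingleton _
  induction fs with
  | nil => exact ⟨DTen.unit R, (isPerfect_unit_shift (R := R) 0).elim fun E ⟨a, b, h₁, h₂, ⟨e⟩⟩ =>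
      ⟨E, a, b, h₁, h₂, ⟨e ≪≫ (shiftFunctorZero (Dual.D R) ℤ).app _⟩⟩, by simp, fun M _ n h => h⟩
  | cons f fs ih =>
    obtain ⟨K, hK, hT, hd⟩ := ih
    obtain ⟨K', q, d, hC⟩ := distinguished_cocone_triangle (f ^ 1 • 𝟙 K)
    refine ⟨K', isPerfect_obj₃ hC hK hK, fun g hg => ?_, fun M hM n h0 => ?_⟩
    · rcases List.mem_cons.1 hg with rfl | hg
      · exact tors_cone 1 q d hC
      · exact tors_obj₃ hC (hT g hg) (hT g hg)
    · refine hd M (fun g hg => hM g (List.mem_cons_of_mem f hg)) n fun ψ => ?_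
      let T := (Triangle.shiftFunctor (Dual.D R) n).obj (Triangle.mk (f ^ 1 • 𝟙 K) q d)
      have hT' : T ∈ distTriang _ := Triangle.shift_distinguished _ hC n
      have key : ∀ χ : K⟦n⟧ ⟶ M, f • χ = 0 → χ = 0 := fun χ hχ => by
        obtain ⟨χ', hχ'⟩ := Triangle.yoneda_exact₂ _ hT' χ (by
          show (n.negOnePow • (f ^ 1 • 𝟙 K)⟦n⟧') ≫ χ = 0
          rw [Functor.map_smul, CategoryTheory.Functor.map_id, pow_one, Linear.units_smul_comp,
            Linear.smul_comp, Category.id_comp, hχ, smul_zero])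
        rw [show χ' = 0 from h0 χ', comp_zero] at hχ'
        exact hχ'
      obtain ⟨N, hN⟩ := hom_tors (DRingPC.isPerfect_shift hK n) (hM f List.mem_cons_self) ψ
      induction N with
      | zero => simpa using hN
      | succ N ihN => exact ihN (key _ (by rwa [smul_smul, ← pow_succ']))

/-- A perfect object which detects the objects torsion for finitely many elements. -/
theorem exists_kos (fs : List R) :
    ∃ K : Dual.D R, DRing.IsPerfect R K ∧ (∀ f ∈ fs, Tors f K) ∧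
      ∀ M : Dual.D R, (∀ f ∈ fs, Tors f M) → (∀ (n : ℤ) (φ : K⟦n⟧ ⟶ M), φ = 0) → IsZero M := by
  obtain ⟨K, hK, hT, h⟩ := exists_kos_deg (R := R) fs
  refine ⟨K, hK, hT, fun M hM h0 => H9Misc.DRingNakayama.isZero_of_homology fun i => ?_⟩
  have := h M hM (-i) (h0 (-i))
  rwa [neg_neg] at this

end Groth.Agent.PerfGen7
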