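import Groth.Agent.PerfGen7.ApproxRing
import Groth.Agent.PerfGen7.AffineX

/-!
# Approximation by supported perfect objects on affine schemes
-/

set_option linter.style.haveILetI false
set_option backward.isDefEq.respectTransparency false

universe u

open CategoryTheory CategoryTheory.Limits AlgebraicGeometry Pretriangulated ZeroObject

attribute [local instance] HasDerivedCategory.standard

namespace Groth.Agent.PerfGen7

open Groth.Agent.KFlatLib Groth.Agent.H9Misc

variable {X : Scheme.{u}}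

/-- Approximation of `E` in degrees `≥ m` by a perfect object supported in `T`, in cone form. -/
def ApprX (T : Set X) (E : DCoh.D X) (m : ℤ) : Prop :=
  ∃ (P : DCoh.D X) (α : P ⟶ E) (C : DCoh.D X) (g : E ⟶ C) (d : C ⟶ P⟦(1 : ℤ)⟧),
    Triangle.mk α g d ∈ distTriang _ ∧ DCoh.IsPerfect P ∧ Supp P T ∧
    ∀ i, m ≤ i → IsZero (DCoh.HD C i)

/-- The cone form is the form of the statements. -/
theorem apprX_iff (T : Set X) (E : DCoh.D X) (m : ℤ) :
    ApprX T E m ↔ ∃ (P : DCoh.D X) (α : P ⟶ E), DCoh.IsPerfect P ∧ Supp P T ∧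
      (∀ i : ℤ, m < i → IsIso ((DerivedCategory.homologyFunctor X.Modules i).map α)) ∧
      Epi ((DerivedCategory.homologyFunctor X.Modules m).map α) := by
  constructor
  · rintro ⟨P, α, C, g, d, hT, hP, hPT, hC⟩
    have he : ∀ i, m ≤ i → Epi ((DerivedCategory.homologyFunctor X.Modules i).map α) := fun i hi =>
      (DerivedCategory.HomologySequence.exact₂ _ hT i).epi_f ((hC i hi).eq_of_tgt _ _)
    refine ⟨P, α, hP, hPT, fun i hi => ?_, he m le_rfl⟩
    haveI : Mono ((DerivedCategory.homologyFunctor X.Modules i).map α) :=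
      (DerivedCategory.HomologySequence.exact₁ _ hT (i - 1) i (by omega)).mono_g
        ((hC (i - 1) (by omega)).eq_of_src _ _)
    haveI := he i hi.le
    exact isIso_of_mono_of_epi _
  · rintro ⟨P, α, hP, hPT, hiso, hepi⟩
    obtain ⟨C, g, d, hT⟩ := distinguished_cocone_triangle α
    refine ⟨P, α, C, g, d, hT, hP, hPT, fun i hi => ?_⟩
    have h1 : Epi ((DerivedCategory.homologyFunctor X.Modules i).map α) := by
      rcases eq_or_lt_of_le hi with rfl | hi
      · exact hepi
      · haveI := hiso i hi; infer_instance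
    haveI := hiso (i + 1) (by omega)
    refine (DerivedCategory.HomologySequence.exact₃ _ hT i (i + 1) rfl).isZero_of_both_zeros ?_ ?_
    · haveI := h1
      show (DerivedCategory.homologyFunctor X.Modules i).map g = 0
      rw [← cancel_epi ((DerivedCategory.homologyFunctor X.Modules i).map α), ← Functor.map_comp,
        show α ≫ g = 0 from comp_distTriang_mor_zero₁₂ _ hT, Functor.map_zero, comp_zero]
    · rw [← cancel_mono ((DerivedCategory.homologyFunctor X.Modules (i + 1)).map α)]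
      exact (DerivedCategory.HomologySequence.δ_comp _ hT i (i + 1) rfl).trans zero_comp.symm

lemma ApprX.mono {T : Set X} {E : DCoh.D X} {m m' : ℤ} (h : ApprX T E m) (hm : m ≤ m') :
    ApprX T E m' := by
  obtain ⟨P, α, C, g, d, hT, hP, hPT, hC⟩ := h
  exact ⟨P, α, C, g, d, hT, hP, hPT, fun i hi => hC i (hm.trans hi)⟩

/-- Approximation on `Spec R`. -/
theorem apprX_spec {R : CommRingCat.{u}} (fs : Finset R) {E : DCoh.D (Spec R)} (hE : DCoh.IsQCohD E)
    {m : ℤ} (hpc : DCoh.IsPseudoCoherentD m E)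
    (hs : ∀ i, m - (fs.card : ℤ) + 1 ≤ i →
      CohB1.support (DCoh.HD E i) ⊆ PrimeSpectrum.zeroLocus (fs : Set R)) :
    ApprX (PrimeSpectrum.zeroLocus (fs : Set R)) E m := by
  obtain ⟨M, ⟨e⟩⟩ := exists_tildeD_iso hE
  have hMpc : DRing.IsPseudoCoherent R m M := (Groth.Agent.S1004.result R M m).1
    ((KFlatLib.isPseudoCoherentD_iff m _).2 (((KFlatLib.isPseudoCoherentD_iff m E).1 hpc).of_iso e.symm))
  have hTors : ∀ f ∈ fs.toList, ∀ i, m - fs.toList.length + 1 ≤ i → TorsAt f M i := by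
    intro f hf i hi n
    rw [Finset.length_toList] at hi
    by_contra hN
    simp only [not_exists] at hN
    let J : Ideal R := (Submodule.span R {n}).annihilator
    have hJ : ∀ r : R, r ∈ J ↔ r • n = 0 := fun r => Submodule.mem_annihilator_span_singleton n r
    have hrad : f ∉ J.radical := fun ⟨N, hN'⟩ => hN N ((hJ _).1 hN')
    rw [Ideal.radical_eq_sInf, Submodule.mem_sInf] at hrad
    push_neg at hrad
    obtain ⟨p, ⟨hJp, hp⟩, hfp⟩ := hrad
    have hz : IsZero ((DerSch.stalkFunctor (Spec R) ⟨p, hp⟩).obj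
        ((tilde.functor R).obj ((Hn i).obj M))) := by
      have hsub : Subsingleton ((DerSch.stalkFunctor (Spec R) ⟨p, hp⟩).obj (DCoh.HD E i) : Type u) :=
        not_not.1 fun h' => hfp ((hs i hi h') (Finset.mem_coe.2 (Finset.mem_toList.1 hf)))
      exact (ModuleCat.isZero_of_subsingleton _).of_iso ((DerSch.stalkFunctor (Spec R) ⟨p, hp⟩).mapIso
        (((mapDCHomologyIso (tilde.functor R) i).app M).symm ≪≫
          (DerivedCategory.homologyFunctor _ i).mapIso e))
    obtain ⟨s, hs', hsn⟩ := (isZero_stalk_tilde_iff _ _).1 hz n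
    exact hs' (hJp ((hJ s).2 hsn))
  obtain ⟨P, α, C, g, d, hT, hP, hPT, hC⟩ := appr_ring fs.toList hMpc hTors
  let F := DCoh.tildeD R
  have hT' := F.map_distinguished _ hT
  refine ⟨F.obj P, F.map α ≫ e.hom, F.obj C, e.inv ≫ F.map g, (F.mapTriangle.obj (Triangle.mk α g d)).mor₃,
    isomorphic_distinguished _ hT' _ (Triangle.isoMk _ _ (Iso.refl _) e.symm (Iso.refl _) ?_ ?_ ?_),
    (isPerfect_tilde_iff' P).2 hP, (supp_tilde_iff P fs).2 fun f hf => hPT f (Finset.mem_toList.2 hf),
    fun i hi => IsZero.of_iso ((tilde.functor R).map_isZero (hC i hi))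
      ((mapDCHomologyIso (tilde.functor R) i).app C)⟩
  · show (F.map α ≫ e.hom) ≫ e.inv = 𝟙 (F.obj P) ≫ F.map α
    simp
  · show (e.inv ≫ F.map g) ≫ 𝟙 (F.obj C) = e.inv ≫ F.map g
    simp
  · show _ ≫ (shiftFunctor _ (1 : ℤ)).map (𝟙 (F.obj P)) = 𝟙 (F.obj C) ≫ _
    rw [CategoryTheory.Functor.map_id, Category.comp_id, Category.id_comp]
    rfl

/-- Approximation on an affine scheme. -/
theorem apprX_affine [IsAffine X] (fs : Finset Γ(X, ⊤)) {E : DCoh.D X} (hE : DCoh.IsQCohD E) {m : ℤ}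
    (hpc : DCoh.IsPseudoCoherentD m E)
    (hs : ∀ i, m - (fs.card : ℤ) + 1 ≤ i →
      CohB1.support (DCoh.HD E i) ⊆ X.zeroLocus (U := ⊤) (fs : Set Γ(X, ⊤))) :
    ApprX (X.zeroLocus (U := ⊤) (fs : Set Γ(X, ⊤))) E m := by
  let e := X.isoSpec.hom
  haveI := hasRpush_scheme e
  haveI : HasInjectiveResolutions X.Modules := hasInjectiveResolutions_modules
  let S : Set (Spec Γ(X, ⊤)) := PrimeSpectrum.zeroLocus (fs : Set Γ(X, ⊤))
  have heS : e.base ⁻¹' S = X.zeroLocus (U := ⊤) (fs : Set Γ(X, ⊤)) := by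
    ext x
    rw [Set.mem_preimage, PrimeSpectrum.mem_zeroLocus, Scheme.mem_zeroLocus_iff]
    refine ⟨fun h f hf hx => ?_, fun h f hf => ?_⟩
    · rw [← Scheme.toSpecΓ_preimage_basicOpen] at hx
      exact hx (h hf)
    · have := h f hf
      rw [← Scheme.toSpecΓ_preimage_basicOpen] at this
      exact not_not.1 this
  let ce : (rho e).obj ((DCoh.Rpush e).obj E) ≅ E := asIso ((adjR e).counit.app E)
  have hsurj := surjective_isoSpec X
  have hpc' : DCoh.IsPseudoCoherentD m ((DCoh.Rpush e).obj E) :=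
    (KFlatLib.isPseudoCoherentD_iff m _).2 (LocPC.of_local fun y => ⟨X, e, inferInstance, hsurj y,
      ((KFlatLib.isPseudoCoherentD_iff m E).1 hpc).of_iso ce.symm⟩)
  obtain ⟨P, α, C, g, d, hT, hP, hPT, hC⟩ := apprX_spec fs (isQCohD_rpush e hE) hpc' fun i hi y hy => by
    by_contra hyS
    obtain ⟨x, rfl⟩ := hsurj y
    refine hy (ModuleCat.subsingleton_of_isZero ((isZero_stalk_rho_iff e _ x i).1 ?_))
    haveI : Subsingleton ((DerSch.stalkFunctor X x).obj (DCoh.HD E i) : Type u) :=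
      not_not.1 fun h' => hyS (by
        have := hs i hi h'
        rwa [← heS] at this)
    exact (ModuleCat.isZero_of_subsingleton _).of_iso ((DerSch.stalkFunctor X x).mapIso
      ((DerivedCategory.homologyFunctor _ i).mapIso ce))
  have hT' := (rho e).map_distinguished _ hT
  refine ⟨(rho e).obj P, (rho e).map α ≫ ce.hom, (rho e).obj C, ce.inv ≫ (rho e).map g,
    ((rho e).mapTriangle.obj (Triangle.mk α g d)).mor₃,
    isomorphic_distinguished _ hT' _ (Triangle.isoMk _ _ (Iso.refl _) ce.symm (Iso.refl _) ?_ ?_ ?_),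
    isPerfect_rho' e hP, heS ▸ hPT.rho e, fun i hi =>
      ((Scheme.Modules.restrictFunctor e).map_isZero (hC i hi)).of_iso (restrictHDIso e C i)⟩
  · show ((rho e).map α ≫ ce.hom) ≫ ce.inv = 𝟙 ((rho e).obj P) ≫ (rho e).map α
    simp
  · show (ce.inv ≫ (rho e).map g) ≫ 𝟙 ((rho e).obj C) = ce.inv ≫ (rho e).map g
    simp
  · show _ ≫ (shiftFunctor _ (1 : ℤ)).map (𝟙 ((rho e).obj P)) = 𝟙 ((rho e).obj C) ≫ _
    rw [CategoryTheory.Functor.map_id, Category.comp_id, Category.id_comp]
    rfl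

end Groth.Agent.PerfGen7
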