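import Groth.Agent.PerfGen7.AffineKos
import Groth.Agent.S2067
import Groth.Agent.S2068
import Groth.Agent.S1004

/-!
# Approximation by supported perfect objects over a ring
-/

set_option linter.style.haveILetI false

universe u

open CategoryTheory CategoryTheory.Limits Pretriangulated AlgebraicGeometry ZeroObject

attribute [local instance] HasDerivedCategory.standard

namespace Groth.Agent.PerfGen7

open Groth.Agent.KFlatLib Groth.Agent.H9Misc

variable {R : CommRingCat.{u}}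

/-- `Hⁱ` is `f`-power torsion. -/
def TorsAt (f : R) (M : Dual.D R) (i : ℤ) : Prop := ∀ x : (Hn i).obj M, ∃ N : ℕ, f ^ N • x = 0

/-- Maps out of `P` only see cohomology in degrees `[a, b]`, as far as torsion is concerned. -/
def Amp (P : Dual.D R) (a b : ℤ) : Prop :=
  ∀ (M : Dual.D R) (f : R), (∀ i, a ≤ i → i ≤ b → TorsAt f M i) →
    ∀ φ : P ⟶ M, ∃ N : ℕ, f ^ N • φ = 0

lemma TorsAt.shift {f : R} {M : Dual.D R} {n i j : ℤ} (h : n + i = j) (hM : TorsAt f M j) :
    TorsAt f (M⟦n⟧) i := fun x => by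
  let e : (Hn i).obj (M⟦n⟧) ≅ (Hn j).obj M :=
    ((DerivedCategory.homologyFunctor (ModuleCat.{u} R) 0).shiftIso n i j h).app M
  obtain ⟨N, hN⟩ := hM (e.hom.hom x)
  refine ⟨N, e.toLinearEquiv.injective ?_⟩
  exact ((e.hom.hom.map_smul (f ^ N) x).trans hN).trans (e.hom.hom.map_zero).symm

lemma torsAt_obj₂ {f : R} {T : Triangle (Dual.D R)} (hT : T ∈ distTriang _) {i : ℤ}
    (h₁ : TorsAt f T.obj₁ i) (h₃ : TorsAt f T.obj₃ i) : TorsAt f T.obj₂ i := fun x => by
  obtain ⟨a, ha⟩ := h₃ (((Hn i).map T.mor₂).hom x)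
  obtain ⟨y, hy⟩ := (ShortComplex.moduleCat_exact_iff _).1
    (DerivedCategory.HomologySequence.exact₂ T hT i) (f ^ a • x)
    ((map_smul ((Hn i).map T.mor₂).hom (f ^ a) x).trans ha)
  obtain ⟨b, hb⟩ := h₁ y
  refine ⟨b + a, ?_⟩
  rw [pow_add, ← smul_smul]
  exact ((congrArg (f ^ b • ·) hy).symm.trans ((map_smul _ _ _).symm.trans (congrArg _ hb))).trans
    (map_zero _)

/-- A cone of an endomorphism has amplitude one more. -/
lemma amp_cone {G G₂ : Dual.D R} {a b : ℤ} (hG : Amp G a b) (hab : a ≤ b) {e : G ⟶ G} {q : G ⟶ G₂}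
    {d : G₂ ⟶ G⟦(1 : ℤ)⟧} (hT : Triangle.mk e q d ∈ distTriang _) : Amp G₂ (a - 1) b :=
  fun M f hM φ => by
  obtain ⟨n₁, h₁⟩ := hG M f (fun i ha hb => hM i (by omega) hb) (q ≫ φ)
  obtain ⟨χ, hχ⟩ := Triangle.yoneda_exact₂ _ (rot_of_distTriang _ hT) (f ^ n₁ • φ)
    ((Linear.comp_smul _ _ _ _ _ _).trans h₁)
  change G⟦(1 : ℤ)⟧ ⟶ M at χ
  change f ^ n₁ • φ = d ≫ χ at hχ
  -- the map on the shifted object
  let ε := (shiftFunctorCompIsoId (Dual.D R) (1 : ℤ) (-1) (by omega)).app G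
  obtain ⟨n₂, h₂⟩ := hG (M⟦(-1 : ℤ)⟧) f
    (fun i ha hb => (hM (-1 + i) (by omega) (by omega)).shift rfl) (ε.inv ≫ χ⟦(-1 : ℤ)⟧')
  have h₂' : f ^ n₂ • χ = 0 := (shiftFunctor (Dual.D R) (-1 : ℤ)).map_injective (by
    rw [Functor.map_smul, Functor.map_zero, ← cancel_epi ε.inv, Linear.comp_smul, h₂, comp_zero]
    )
  refine ⟨n₂ + n₁, ?_⟩
  rw [pow_add, mul_smul, hχ, ← Linear.comp_smul, h₂', comp_zero]

/-- A map to an object with torsion in enough degrees factors through a torsion perfect object. -/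
theorem exists_factor_deg (fs : List R) {M : Dual.D R} (k : ℤ)
    (hM : ∀ f ∈ fs, ∀ i, k - fs.length + 1 ≤ i → i ≤ k → TorsAt f M i)
    {G : Dual.D R} (hG : DRing.IsPerfect R G) (hA : Amp G k k)
    (hG0 : ∀ i, k < i → IsZero ((Hn i).obj G)) (φ : G ⟶ M) :
    ∃ (G' : Dual.D R) (q : G ⟶ G') (φ' : G' ⟶ M), DRing.IsPerfect R G' ∧
      (∀ f ∈ fs, Tors f G') ∧ (∀ i, k < i → IsZero ((Hn i).obj G')) ∧
      Amp G' (k - fs.length) k ∧ q ≫ φ' = φ := by
  induction fs with
  | nil => exact ⟨G, 𝟙 G, φ, hG, by simp, hG0, by simpa using hA, Category.id_comp _⟩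
  | cons f fs ih =>
    have hlen : ((f :: fs).length : ℤ) = fs.length + 1 := by simp
    obtain ⟨G₁, q₁, φ₁, hG₁, hT₁, h0₁, hA₁, hq₁⟩ := ih fun g hg i h1 h2 =>
      hM g (List.mem_cons_of_mem f hg) i (by omega) h2
    obtain ⟨N, hN⟩ := hA₁ M f (fun i h1 h2 => hM f List.mem_cons_self i (by omega) h2) φ₁
    obtain ⟨G₂, q, d, hT⟩ := distinguished_cocone_triangle (f ^ N • 𝟙 G₁)
    obtain ⟨φ₂, hφ₂⟩ := Triangle.yoneda_exact₂ _ hT φ₁
      ((Linear.smul_comp _ _ _ _ _ _).trans ((congrArg (f ^ N • ·) (Category.id_comp φ₁)).trans hN))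
    refine ⟨G₂, q₁ ≫ q, φ₂, isPerfect_obj₃ hT hG₁ hG₁, fun g hg => ?_, fun i hi => ?_, ?_, ?_⟩
    · rcases List.mem_cons.1 hg with rfl | hg
      · exact tors_cone N q d hT
      · exact tors_obj₃ hT (hT₁ g hg) (hT₁ g hg)
    · exact (DerivedCategory.HomologySequence.exact₃ _ hT i (i + 1) rfl).isZero_of_both_zeros
        ((h0₁ i hi).eq_of_src _ _) ((h0₁ (i + 1) (by omega)).eq_of_tgt _ _)
    · have := amp_cone hA₁ (by omega) hT
      rwa [show k - (fs.length : ℤ) - 1 = k - ((f :: fs).length : ℤ) by omega] at this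
    · rw [Category.assoc, ← show φ₁ = q ≫ φ₂ from hφ₂, hq₁]

/-- Perfect objects are pseudo-coherent. -/
lemma pc_of_isPerfect {P : Dual.D R} (h : DRing.IsPerfect R P) (m : ℤ) :
    DRing.IsPseudoCoherent R m P := by
  have h' : DCoh.IsPerfect ((DCoh.tildeD R).obj P) :=
    ((KFlatLib.perfect_tildeD_iff (R := R) P).trans Iff.rfl).2 h
  exact (Groth.Agent.S1004.result R P m).1 ((KFlatLib.isPseudoCoherentD_iff m _).2
    (((KFlatLib.isPerfect_iff _).1 h').locPC m))

/-- A finite free module in a single degree. -/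
lemma exists_free_cover (n : ℕ) (k : ℤ) {M : Dual.D R} (π : (Fin n → R) →ₗ[R] (Hn k).obj M)
    (hπ : Function.Surjective π) :
    ∃ (G : Dual.D R) (φ : G ⟶ M), DRing.IsPerfect R G ∧ Amp G k k ∧
      (∀ i, k < i → IsZero ((Hn i).obj G)) ∧ Epi ((Hn k).map φ) := by
  let F : ModuleCat.{u} R := ModuleCat.of R (Fin n → R)
  haveI : Projective F := by
    rw [← IsProjective.iff_projective]; infer_instance
  let G := (DerivedCategory.singleFunctor (ModuleCat.{u} R) k).obj F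
  obtain ⟨φ, hφ⟩ := (bijective_psiC_of_projective (P := F) k M).2 (ModuleCat.ofHom π)
  refine ⟨G, φ, ?_, fun L f hL ψ => ?_, fun i hi => ?_, ?_⟩
  · refine DRingPC.isPerfect_single ?_
    refine ⟨(HomologicalComplex.single (ModuleCat.{u} R) (ComplexShape.up ℤ) 0).obj F, 0, 0,
      fun j hj => HomologicalComplex.isZero_single_obj_X (ComplexShape.up ℤ) 0 _ j (by omega),
      fun i => ?_, ⟨((DerivedCategory.singleFunctorIsoCompQ (ModuleCat.{u} R) 0).app F).symm⟩⟩
    by_cases hi : i = 0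
    · subst hi
      let e : (Fin n → R) ≃ₗ[R]
          ((HomologicalComplex.single (ModuleCat.{u} R) (ComplexShape.up ℤ) 0).obj F).X 0 :=
        (HomologicalComplex.singleObjXSelf (ComplexShape.up ℤ) 0 F).symm.toLinearEquiv
      exact ⟨Module.Finite.equiv e, Module.Projective.of_equiv e⟩
    · haveI := ModuleCat.subsingleton_of_isZero
        (HomologicalComplex.isZero_single_obj_X (ComplexShape.up ℤ) 0 F i hi)
      exact ⟨inferInstance, inferInstance⟩
  · choose N hN using fun j : Fin n => hL k le_rfl le_rfl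
      ((psiC k F L ψ).hom (Pi.single j 1))
    let N₀ := Finset.univ.sup N
    refine ⟨N₀, (bijective_psiC_of_projective (P := F) k L).1 ?_⟩
    refine ModuleCat.hom_ext ((Pi.basisFun R (Fin n)).ext fun j => ?_)
    simp only [psiC, Functor.map_smul, Functor.map_zero, comp_zero, Linear.comp_smul, Pi.basisFun_apply]
    obtain ⟨c, hc⟩ := Nat.exists_eq_add_of_le (Finset.le_sup (f := N) (Finset.mem_univ j) : N j ≤ N₀)
    show f ^ N₀ • (psiC k F L ψ).hom (Pi.single j 1) = 0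
    rw [show N₀ = N j + c from hc, add_comm, pow_add, mul_smul, hN j, smul_zero]
  · haveI : G.IsLE k := inferInstance
    exact DerivedCategory.isZero_of_isLE G k i hi
  · haveI : Epi ((hSingle k F).inv ≫ (Hn k).map φ) := by
      change Epi (psiC k F M φ)
      rw [hφ]; exact (ModuleCat.epi_iff_surjective _).2 hπ
    exact epi_of_epi (hSingle k F).inv _

/-- The class of approximations. -/
def Appr (fs : List R) (M : Dual.D R) (k : ℤ) : Prop :=
  ∃ (P : Dual.D R) (α : P ⟶ M) (C : Dual.D R) (g : M ⟶ C) (d : C ⟶ P⟦(1 : ℤ)⟧),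
    Triangle.mk α g d ∈ distTriang _ ∧ DRing.IsPerfect R P ∧ (∀ f ∈ fs, Tors f P) ∧
    ∀ i, k ≤ i → IsZero ((Hn i).obj C)

lemma appr_step (fs : List R) {M : Dual.D R} {m : ℤ} (hpc : DRing.IsPseudoCoherent R m M) (k : ℤ)
    (hmk : m ≤ k) (hM : ∀ f ∈ fs, ∀ i, m - fs.length + 1 ≤ i → TorsAt f M i)
    (h : Appr fs M (k + 1)) : Appr fs M k := by
  obtain ⟨P, α, C, g, d, hT, hP, hPT, hC⟩ := h
  have hCpc : DRing.IsPseudoCoherent R m C :=
    (Groth.Agent.S2067.result _ hT m).1 (pc_of_isPerfect hP (m + 1)) hpc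
  have hCfin : Module.Finite R ((Hn k).obj C) :=
    (Groth.Agent.S2068.result C k (DRingPC.mono hmk hCpc)).1 fun i hi => hC i (by omega)
  obtain ⟨n, π, hπ⟩ := Module.Finite.exists_fin' R ((Hn k).obj C)
  obtain ⟨G₀, φ₀, hG₀, hA₀, h0₀, he⟩ := exists_free_cover n k π hπ
  obtain ⟨G, q, φ, hG, hGT, hG0, -, hq⟩ := exists_factor_deg fs k (fun f hf i h1 h2 =>
    torsAt_obj₂ (rot_of_distTriang _ hT) (hM f hf i (by omega)) (((hPT f hf).shift 1) i))
    hG₀ hA₀ h0₀ φ₀
  haveI : Epi ((Hn k).map φ) := by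
    haveI : Epi ((Hn k).map q ≫ (Hn k).map φ) := by rw [← Functor.map_comp, hq]; exact he
    exact epi_of_epi ((Hn k).map q) _
  obtain ⟨C₂, g₂, d₂, hT₂⟩ := distinguished_cocone_triangle φ
  obtain ⟨Q₁, u₁, v₁, hQ₁⟩ := distinguished_cocone_triangle (g ≫ g₂)
  have o := Triangulated.someOctahedron (show g ≫ g₂ = g ≫ g₂ from rfl) (rot_of_distTriang _ hT)
    (rot_of_distTriang _ hT₂) hQ₁
  have hQp : DRing.IsPerfect R Q₁ :=
    DRingPC.isPerfect₂ _ o.mem (DRingPC.isPerfect_shift hP 1) (DRingPC.isPerfect_shift hG 1)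
  have hQT : ∀ f ∈ fs, Tors f Q₁ := fun f hf =>
    tors_obj₂ o.mem ((hPT f hf).shift 1) ((hGT f hf).shift 1)
  have hT' := inv_rot_of_distTriang _ hQ₁
  refine ⟨_, _, _, _, _, hT', DRingPC.isPerfect_shift hQp (-1), fun f hf => (hQT f hf).shift (-1),
    fun i hi => ?_⟩
  show IsZero ((Hn i).obj C₂)
  rcases eq_or_lt_of_le hi with rfl | hi
  · haveI : Epi ((Hn k).map g₂) :=
      (DerivedCategory.HomologySequence.exact₃ _ hT₂ k (k + 1) rfl).epi_f
        ((hG0 (k + 1) (by omega)).eq_of_tgt _ _)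
    refine IsZero.of_epi_eq_zero ((Hn k).map g₂) ?_
    rw [← cancel_epi ((Hn k).map φ), comp_zero, ← Functor.map_comp,
      show φ ≫ g₂ = 0 from comp_distTriang_mor_zero₁₂ _ hT₂, Functor.map_zero]
  · exact (DerivedCategory.HomologySequence.exact₃ _ hT₂ i (i + 1) rfl).isZero_of_both_zeros
      ((hC i (by omega)).eq_of_src _ _) ((hG0 (i + 1) (by omega)).eq_of_tgt _ _)

/-- Approximation over a ring. -/
theorem appr_ring (fs : List R) {M : Dual.D R} {m : ℤ} (hpc : DRing.IsPseudoCoherent R m M)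
    (hM : ∀ f ∈ fs, ∀ i, m - fs.length + 1 ≤ i → TorsAt f M i) : Appr fs M m := by
  obtain ⟨b, hb⟩ := DRingPC.exists_bound hpc
  have h : ∀ j : ℕ, m ≤ max b m + 1 - j → Appr fs M (max b m + 1 - j) := fun j => by
    induction j with
    | zero =>
      intro _
      exact ⟨0, 0, M, 𝟙 M, 0, isomorphic_distinguished _ (contractible_distinguished₁ M) _
        (Iso.refl _), DRingPC.isPerfect_of_isZero (isZero_zero _), fun f _ => Tors.of_isZero (isZero_zero _),
        fun i hi => hb i (by omega)⟩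
    | succ j ih =>
      intro hj
      refine appr_step fs hpc _ hj hM ?_
      rw [show max b m + 1 - ((j + 1 : ℕ) : ℤ) + 1 = max b m + 1 - (j : ℤ) by omega]
      exact ih (by omega)
  have := h (max b m + 1 - m).toNat (by omega)
  rwa [show max b m + 1 - ((max b m + 1 - m).toNat : ℤ) = m by omega] at this

end Groth.Agent.PerfGen7
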