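import Groth.Agent.PerfGen7.ChartRing
import Groth.Agent.PerfGen7.RelPCBasic

/-!
# Independence of charts for relative pseudo-coherence
-/

set_option linter.style.haveILetI false
set_option backward.isDefEq.respectTransparency false
set_option backward.isDefEq.respectTransparency.types false

universe u

open CategoryTheory CategoryTheory.Limits AlgebraicGeometry CategoryTheory.Pretriangulated TopologicalSpace

attribute [local instance] HasDerivedCategory.standard

namespace Groth.Agent.PerfGen7

open Groth.Agent.KFlatLib Groth.Agent.H9Misc.DRingRelPC MvPolynomial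

variable {X Y : Scheme.{u}}

/-- The morphism to a spectrum given by a map to sections. -/
noncomputable def imm (U : X.Opens) {P : Type u} [CommRing P] (φ : P →+* Γ(X, U)) :
    (U : Scheme.{u}) ⟶ Spec (CommRingCat.of P) :=
  U.toSpecΓ ≫ Spec.map (CommRingCat.ofHom φ)

lemma isClosedImmersion_imm {U : X.Opens} (hU : IsAffineOpen U) {P : Type u} [CommRing P]
    (φ : P →+* Γ(X, U)) (hφ : Function.Surjective φ) : IsClosedImmersion (imm U φ) := by
  haveI : IsClosedImmersion (Spec.map (CommRingCat.ofHom φ)) :=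
    IsClosedImmersion.spec_of_surjective _ hφ
  haveI : IsIso U.toSpecΓ := by
    have h := hU.isoSpec.isIso_hom
    rwa [hU.isoSpec_hom] at h
  unfold imm
  infer_instance

/-- The pseudo-coherence test along a surjection onto sections of an affine open. -/
def ImmPC (m : ℤ) (K : DCoh.D X) (U : X.Opens) {P : Type u} [CommRing P] (φ : P →+* Γ(X, U)) :
    Prop :=
  ∀ _ : IsClosedImmersion (imm U φ), LocPC m ((pushD (imm U φ)).obj ((rho U.ι).obj K))

variable {m : ℤ} {K : DCoh.D X} {U : X.Opens} {P P' : Type u} [CommRing P] [CommRing P']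

lemma immPC_iff (hU : IsAffineOpen U) (φ : P →+* Γ(X, U)) (hφ : Function.Surjective φ) :
    ImmPC m K U φ ↔ ∃ _ : IsClosedImmersion (imm U φ),
      LocPC m ((pushD (imm U φ)).obj ((rho U.ι).obj K)) :=
  ⟨fun h => ⟨isClosedImmersion_imm hU φ hφ, h _⟩, fun ⟨_, h⟩ _ => h⟩

/-- Composition with a pseudo-coherent surjection. -/
lemma immPC_comp_iff (hU : IsAffineOpen U) (φ' : P' →+* Γ(X, U)) (hφ' : Function.Surjective φ')
    (σ : P →+* P') (hσ : Function.Surjective σ) (hσ' : PCHom σ) (φ : P →+* Γ(X, U))
    (h : φ'.comp σ = φ) : ImmPC m K U φ ↔ ImmPC m K U φ' := by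
  subst h
  have hφ : Function.Surjective (φ'.comp σ) := hφ'.comp hσ
  haveI := isClosedImmersion_imm hU φ' hφ'
  haveI := isClosedImmersion_imm hU (φ'.comp σ) hφ
  haveI : IsClosedImmersion (Spec.map (CommRingCat.ofHom σ)) :=
    IsClosedImmersion.spec_of_surjective _ hσ
  have key := locPC_comp_iff (imm U φ') (Spec.map (CommRingCat.ofHom σ))
    (pcImm_spec (CommRingCat.ofHom σ) hσ') (imm U (φ'.comp σ))
    (by simp only [imm, Category.assoc, ← Spec.map_comp]; rfl) (m := m) ((rho U.ι).obj K)
  exact ⟨fun h _ => key.1 (h _), fun h _ => key.2 (h _)⟩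

lemma immPC_equiv_iff (hU : IsAffineOpen U) (φ' : P' →+* Γ(X, U)) (hφ' : Function.Surjective φ')
    (e : P ≃+* P') : ImmPC m K U (φ'.comp e.toRingHom) ↔ ImmPC m K U φ' :=
  immPC_comp_iff hU φ' hφ' e.toRingHom e.surjective (PCHom.of_bijective e.bijective) _ rfl

/-- Independence of the presentation. -/
theorem immPC_invariant {R : Type u} [CommRing R] (hU : IsAffineOpen U) {n k : ℕ}
    (φ : MvPolynomial (Fin n) R →+* Γ(X, U)) (hφ : Function.Surjective φ)
    (ψ : MvPolynomial (Fin k) R →+* Γ(X, U)) (hψ : Function.Surjective ψ)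
    (h : φ.comp MvPolynomial.C = ψ.comp MvPolynomial.C) :
    ImmPC m K U φ ↔ ImmPC m K U ψ := by
  choose p hp using fun j : Fin k => hφ (ψ (MvPolynomial.X j))
  choose q hq using fun i : Fin n => hψ (φ (MvPolynomial.X i))
  let χ : MvPolynomial (Fin k) (MvPolynomial (Fin n) R) →+* Γ(X, U) :=
    eval₂Hom φ fun j => ψ (MvPolynomial.X j)
  let χ' : MvPolynomial (Fin n) (MvPolynomial (Fin k) R) →+* Γ(X, U) :=
    eval₂Hom ψ fun i => φ (MvPolynomial.X i)
  let w : MvPolynomial (Fin n) (MvPolynomial (Fin k) R) ≃+*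
      MvPolynomial (Fin k) (MvPolynomial (Fin n) R) :=
    (MvPolynomial.commAlgEquiv R (Fin n) (Fin k)).toRingEquiv
  have h1 : ImmPC m K U χ ↔ ImmPC m K U φ :=
    immPC_comp_iff hU φ hφ (eval₂Hom (RingHom.id _) p) (pcHom_surjective_eval p) (pcHom_aeval k _ p) χ
      (MvPolynomial.ringHom_ext (fun r => by simp [χ]) fun j => by simp [χ, hp])
  have h2 : ImmPC m K U χ' ↔ ImmPC m K U ψ :=
    immPC_comp_iff hU ψ hψ (eval₂Hom (RingHom.id _) q) (pcHom_surjective_eval q) (pcHom_aeval n _ q) χ'
      (MvPolynomial.ringHom_ext (fun r => by simp [χ']) fun i => by simp [χ', hq])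
  have hχ : Function.Surjective χ := fun a => by
    obtain ⟨b, rfl⟩ := hφ a
    exact ⟨C b, by simp [χ]⟩
  have h3 : χ.comp w.toRingHom = χ' := by
    refine MvPolynomial.ringHom_ext (fun r => ?_) fun i => by simp [χ, χ', w]
    induction r using MvPolynomial.induction_on with
    | C a => simp [χ, χ', w]; exact RingHom.congr_fun h a
    | add a b ha hb => simp only [map_add, ha, hb]
    | mul_X a i ha => simp only [map_mul, ha]; simp [χ, χ', w]
  rw [← h1, ← h2, ← h3, immPC_equiv_iff hU χ hχ w]

/-- The localized map to sections of a basic open. -/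
noncomputable def awayMap (φ : P →+* Γ(X, U)) (G : P) :
    Localization.Away G →+* Γ(X, X.basicOpen (φ G)) :=
  Localization.awayLift
    ((X.presheaf.map (homOfLE (X.basicOpen_le (φ G))).op).hom.comp φ) G
    (RingedSpace.isUnit_res_basicOpen X.toRingedSpace (φ G))

lemma awayMap_algebraMap (φ : P →+* Γ(X, U)) (G : P) :
    (awayMap φ G).comp (algebraMap P (Localization.Away G)) =
      (X.presheaf.map (homOfLE (X.basicOpen_le (φ G))).op).hom.comp φ :=
  IsLocalization.Away.lift_comp G
    (g := (X.presheaf.map (homOfLE (X.basicOpen_le (φ G))).op).hom.comp φ)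
    (RingedSpace.isUnit_res_basicOpen X.toRingedSpace (φ G))

lemma awayMap_surjective (hU : IsAffineOpen U) (φ : P →+* Γ(X, U)) (hφ : Function.Surjective φ)
    (G : P) : Function.Surjective (awayMap φ G) := fun y => by
  haveI := hU.isLocalization_basicOpen (φ G)
  obtain ⟨k, a, hz⟩ := IsLocalization.Away.surj (φ G) y
  obtain ⟨b, rfl⟩ := hφ a
  refine ⟨algebraMap P _ b * IsLocalization.Away.invSelf G ^ k, ?_⟩
  have hinv : awayMap φ G (IsLocalization.Away.invSelf G) *
      (X.presheaf.map (homOfLE (X.basicOpen_le (φ G))).op).hom (φ G) = 1 := by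
    rw [← RingHom.comp_apply, ← awayMap_algebraMap, RingHom.comp_apply, ← map_mul, mul_comm,
      IsLocalization.Away.mul_invSelf, map_one]
  have ha : (X.presheaf.map (homOfLE (X.basicOpen_le (φ G))).op).hom (φ b) =
      y * (X.presheaf.map (homOfLE (X.basicOpen_le (φ G))).op).hom (φ G) ^ k := hz.symm
  rw [map_mul, map_pow, ← RingHom.comp_apply (awayMap φ G), awayMap_algebraMap, RingHom.comp_apply,
    ha, mul_assoc, ← mul_pow, mul_comm _ (awayMap φ G _), hinv, one_pow, mul_one]

/-- The test on a basic open, through the localized presentation. -/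
theorem immPC_away_iff (hU : IsAffineOpen U) (φ : P →+* Γ(X, U)) (hφ : Function.Surjective φ)
    (G : P) [IsClosedImmersion (imm U φ)] :
    LocPC m ((rho (Spec.map (CommRingCat.ofHom
        (algebraMap P (Localization.Away G)))).opensRange.ι).obj
          ((pushD (imm U φ)).obj ((rho U.ι).obj K))) ↔
      ImmPC m K (X.basicOpen (φ G)) (awayMap φ G) := by
  haveI : IsOpenImmersion (Spec.map (CommRingCat.ofHom (algebraMap P (Localization.Away G)))) :=
    IsOpenImmersion.of_isLocalization G
  have hV := hU.basicOpen (φ G)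
  haveI := isClosedImmersion_imm hV _ (awayMap_surjective hU φ hφ G)
  let l := Spec.map (CommRingCat.ofHom (algebraMap P (Localization.Away G)))
  have hle : X.basicOpen (φ G) ≤ U := X.basicOpen_le _
  have key := locPC_square (m := m) (imm U φ) U.ι (imm (X.basicOpen (φ G)) (awayMap φ G))
    (X.basicOpen (φ G)).ι l (X.homOfLE hle) (X.homOfLE_ι hle)
    (by
      simp only [imm, l, Category.assoc, ← Spec.map_comp, ← CommRingCat.ofHom_comp,
        awayMap_algebraMap]
      rw [CommRingCat.ofHom_comp, CommRingCat.ofHom_hom, Spec.map_comp,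
        Scheme.Opens.toSpecΓ_SpecMap_presheaf_map_assoc])
    (by
      have hl : l.opensRange = PrimeSpectrum.basicOpen G :=
        TopologicalSpace.Opens.ext (PrimeSpectrum.localization_away_comap_range _ G)
      rw [hl, imm, Scheme.Hom.comp_preimage, Scheme.opensRange_homOfLE]
      exact (Scheme.Opens.toSpecΓ_preimage_basicOpen U (φ G)).symm) K
  exact ⟨fun h _ => key.1 h, fun h => key.2 (h _)⟩

/-- The presentation of a basic open in one more variable. -/
noncomputable def basicChart {R : Type u} [CommRing R] {n : ℕ}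
    (φ : MvPolynomial (Fin n) R →+* Γ(X, U)) (G : MvPolynomial (Fin n) R) :
    MvPolynomial (Fin (n + 1)) R →+* Γ(X, X.basicOpen (φ G)) :=
  ((awayMap φ G).comp (eval₂Hom (algebraMap _ (Localization.Away G))
    fun _ : Fin 1 => IsLocalization.Away.invSelf G)).comp (splitVars R n 1).toRingEquiv.toRingHom

lemma basicChart_C {R : Type u} [CommRing R] {n : ℕ} (φ : MvPolynomial (Fin n) R →+* Γ(X, U))
    (G : MvPolynomial (Fin n) R) : (basicChart φ G).comp C =
      (X.presheaf.map (homOfLE (X.basicOpen_le (φ G))).op).hom.comp (φ.comp C) := by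
  ext r
  simp only [basicChart, RingHom.comp_apply]
  have : (splitVars R n 1).toRingEquiv.toRingHom (C r) = C (C r) := by simp [splitVars]
  rw [this, eval₂Hom_C, ← RingHom.comp_apply, awayMap_algebraMap]
  rfl

lemma away_surjective {A : Type u} [CommRing A] (G : A) :
    Function.Surjective (eval₂Hom (algebraMap A (Localization.Away G))
      fun _ : Fin 1 => IsLocalization.Away.invSelf G) := fun y => by
  obtain ⟨k, a, hz⟩ := IsLocalization.Away.surj G y
  refine ⟨C a * MvPolynomial.X 0 ^ k, ?_⟩
  rw [map_mul, map_pow, eval₂Hom_C, eval₂Hom_X', ← hz, mul_assoc, ← mul_pow,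
    IsLocalization.Away.mul_invSelf, one_pow, mul_one]

lemma basicChart_surjective (hU : IsAffineOpen U) {R : Type u} [CommRing R] {n : ℕ}
    (φ : MvPolynomial (Fin n) R →+* Γ(X, U)) (hφ : Function.Surjective φ)
    (G : MvPolynomial (Fin n) R) : Function.Surjective (basicChart φ G) :=
  ((awayMap_surjective hU φ hφ G).comp (away_surjective G)).comp (splitVars R n 1).surjective

theorem immPC_basicChart_iff (hU : IsAffineOpen U) {R : Type u} [CommRing R] {n : ℕ}
    (φ : MvPolynomial (Fin n) R →+* Γ(X, U)) (hφ : Function.Surjective φ)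
    (G : MvPolynomial (Fin n) R) [IsClosedImmersion (imm U φ)] :
    ImmPC m K (X.basicOpen (φ G)) (basicChart φ G) ↔
      LocPC m ((rho (Spec.map (CommRingCat.ofHom
        (algebraMap _ (Localization.Away G)))).opensRange.ι).obj
          ((pushD (imm U φ)).obj ((rho U.ι).obj K))) := by
  rw [immPC_away_iff hU φ hφ G]
  let σ : MvPolynomial (Fin 1) (MvPolynomial (Fin n) R) →+* Localization.Away G :=
    eval₂Hom (algebraMap _ (Localization.Away G)) fun _ : Fin 1 => IsLocalization.Away.invSelf G
  let φ₁ : MvPolynomial (Fin 1) (MvPolynomial (Fin n) R) →+* Γ(X, X.basicOpen (φ G)) :=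
    (awayMap φ G).comp σ
  have hφ₁ : Function.Surjective φ₁ := by
    simp only [φ₁, RingHom.coe_comp]
    exact (awayMap_surjective hU φ hφ G).comp (away_surjective G)
  have h1 := immPC_equiv_iff (m := m) (K := K) (hU.basicOpen (φ G)) φ₁ hφ₁ (splitVars R n 1).toRingEquiv
  have h2 := immPC_comp_iff (m := m) (K := K) (hU.basicOpen (φ G)) (awayMap φ G)
    (awayMap_surjective hU φ hφ G) σ (away_surjective G) (pcHom_away_mv G) φ₁ rfl
  exact h1.trans h2

/-- Presentations over a principal localization of the base. -/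
theorem immPC_baseAway (hU : IsAffineOpen U) {R R' : Type u} [CommRing R] [CommRing R'] [Algebra R R']
    (t : R) [IsLocalization.Away t R'] {n : ℕ} (ψ : MvPolynomial (Fin n) R' →+* Γ(X, U))
    (hψ : Function.Surjective ψ) :
    ∃ φ : MvPolynomial (Fin (1 + n)) R →+* Γ(X, U), Function.Surjective φ ∧
      φ.comp C = (ψ.comp C).comp (algebraMap R R') ∧ (ImmPC m K U φ ↔ ImmPC m K U ψ) := by
  let e : Localization.Away t ≃ₐ[R] R' := IsLocalization.algEquiv (Submonoid.powers t) _ _
  let σ₀ : MvPolynomial (Fin 1) R →+* R' := e.toRingEquiv.toRingHom.comp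
    (eval₂Hom (algebraMap R (Localization.Away t)) fun _ : Fin 1 => IsLocalization.Away.invSelf t)
  have hσ₀ : Function.Surjective σ₀ := e.surjective.comp (away_surjective t)
  have hσ₀' : PCHom σ₀ := (pcHom_away_mv t).comp (PCHom.of_bijective e.bijective)
  let σ := MvPolynomial.map (σ := Fin n) σ₀
  have hσ : Function.Surjective σ := MvPolynomial.map_surjective σ₀ hσ₀
  let φ₀ := ψ.comp σ
  have hφ₀ : Function.Surjective φ₀ := hψ.comp hσ
  refine ⟨φ₀.comp (splitVars R 1 n).toRingEquiv.toRingHom, hφ₀.comp (splitVars R 1 n).surjective, ?_, ?_⟩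
  · ext r
    simp only [RingHom.comp_apply]
    have : (splitVars R 1 n).toRingEquiv.toRingHom (C r) = C (C r) := by simp [splitVars]
    rw [this]
    simp [φ₀, σ, σ₀, e]
  · exact (immPC_equiv_iff hU φ₀ hφ₀ _).trans
      (immPC_comp_iff hU ψ hψ σ hσ (pcHom_map σ₀ hσ₀' n) φ₀ rfl)

end Groth.Agent.PerfGen7
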