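import Groth.Agent.PerfGen7.ClosedPC
import Groth.Agent.KFlatLib.Scheme.TildePush
import Groth.Agent.KFlatLib.Scheme.TildePC
import Groth.Agent.S1004
import Groth.Agent.H9Misc.DRingRelPC3

/-!
# Pseudo-coherent ring maps give pseudo-coherent closed immersions
-/

set_option linter.style.haveILetI false
set_option backward.isDefEq.respectTransparency false
set_option backward.isDefEq.respectTransparency.types false

universe u

open CategoryTheory CategoryTheory.Limits AlgebraicGeometry CategoryTheory.Pretriangulated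

attribute [local instance] HasDerivedCategory.standard

namespace Groth.Agent.PerfGen7

open Groth.Agent.KFlatLib Groth.Agent.H9Misc.DRingRelPC

variable {X X' T T' U : Scheme.{u}}

/-- The closed immersion of a surjective pseudo-coherent ring map is pseudo-coherent. -/
theorem pcImm_spec {A B : CommRingCat.{u}} (g : A ⟶ B) [IsClosedImmersion (Spec.map g)]
    (hg : PCHom g.hom) : PCImm (Spec.map g) := fun m => by
  let M := (ModuleCat.restrictScalars g.hom).obj (ModuleCat.of B B)
  let e : (Scheme.Modules.pushforward (Spec.map g)).obj (Coh.structureModule (Spec B)) ≅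
      (tilde.functor A).obj M :=
    (Scheme.Modules.pushforward (Spec.map g)).mapIso (tildeSelf (R := B)).symm ≪≫
      (pushTildeIso g).app (ModuleCat.of B B)
  refine LocPC.of_iso ((((tilde.functor A).mapDerivedCategorySingleFunctor 0).app M) ≪≫
    (DerivedCategory.singleFunctor _ 0).mapIso e.symm) ?_
  exact (isPseudoCoherentD_iff _ _).1
    ((Groth.Agent.S1004.result A _ m).2 ((Groth.Agent.H9Misc.DRingPC.pc'_iff _).1 hg m))

/-- Pushing the restriction along an isomorphism gives back the module. -/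
noncomputable def pushRestrictSelfIso (b : X' ⟶ X) [IsIso b] :
    Scheme.Modules.restrictFunctor b ⋙ Scheme.Modules.pushforward b ≅ 𝟭 X.Modules :=
  haveI : ∀ M, IsIso ((Scheme.Modules.restrictAdjunction b).unit.app M) := fun M => by
    refine Scheme.Modules.Hom.isIso_iff_isIso_app.2 fun W => ?_
    rw [Scheme.Modules.restrictAdjunction_unit_app_app]
    have h : W ≤ b ''ᵁ (b ⁻¹ᵁ W) := fun x hx => by
      obtain ⟨y, rfl⟩ := b.homeomorph.surjective x
      exact ⟨y, hx, rfl⟩
    haveI : IsIso (homOfLE (b.image_preimage_le W)) :=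
      ⟨homOfLE h, Subsingleton.elim _ _, Subsingleton.elim _ _⟩
    infer_instance
  haveI := NatIso.isIso_of_isIso_app (Scheme.Modules.restrictAdjunction b).unit
  (asIso (Scheme.Modules.restrictAdjunction b).unit).symm

/-- Isomorphisms are pseudo-coherent closed immersions. -/
theorem pcImm_of_isIso (b : X' ⟶ X) [IsIso b] : PCImm b := fun m => by
  refine LocPC.of_iso ((DerivedCategory.singleFunctor X.Modules 0).mapIso
    ((pushRestrictSelfIso b).app (Coh.structureModule X)).symm ≪≫
      (DerivedCategory.singleFunctor X.Modules 0).mapIso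
        ((Scheme.Modules.pushforward b).mapIso (restrictStructureIso b))) ?_
  refine LocPC.mono (m := m) (LocSP.locPC (fun x => ?_) m) le_rfl
  exact ⟨X, 𝟙 X, inferInstance, ⟨x, rfl⟩, _, isStrictlyPerfect_single 1,
    ⟨(singleQ 0 _).symm ≪≫ (DerivedCategory.singleFunctor X.Modules 0).mapIso
      (coproductUniqueIso (fun _ : Fin 1 => Coh.structureModule X) ≪≫
        ((Scheme.Modules.restrictFunctorId).app _).symm) ≪≫
      (((Scheme.Modules.restrictFunctor (𝟙 X)).mapDerivedCategorySingleFunctor 0).app _).symm⟩⟩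

/-- Direct image along an isomorphism of a restriction along it. -/
noncomputable def pushDRestrictSelf (b : X' ⟶ X) [IsIso b] (K : DCoh.D X) :
    (pushD b).obj ((rho b).obj K) ≅ K :=
  (pushD b).mapIso ((rho b).mapIso (repIso K).symm ≪≫ (rhoQ b).app _) ≪≫ pushDQ b _ ≪≫
    DerivedCategory.Q.mapIso ((NatIso.mapHomologicalComplex (pushRestrictSelfIso b)
      (ComplexShape.up ℤ)).app (DerivedCategory.Q.objPreimage K)) ≪≫
    DerivedCategory.Q.mapIso ((Functor.mapHomologicalComplexIdIso X.Modules (ComplexShape.up ℤ)).app _) ≪≫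
    repIso K

/-- Transport along a pseudo-coherent closed immersion. -/
theorem locPC_comp_iff (i : U ⟶ T) [IsClosedImmersion i] (s : T ⟶ T') [IsClosedImmersion s]
    (hs : PCImm s) (v : U ⟶ T') [IsClosedImmersion v] (h : i ≫ s = v) {m : ℤ} (K : DCoh.D U) :
    LocPC m ((pushD v).obj K) ↔ LocPC m ((pushD i).obj K) := by
  rw [← locPC_pushD_iff s hs ((pushD i).obj K)]
  exact ⟨fun hp => hp.of_iso (pushDComp i s v h K).symm, fun hp => hp.of_iso (pushDComp i s v h K)⟩

/-- Pseudo-coherence of a direct image on an open of the target. -/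
theorem locPC_square (i : U ⟶ T) [IsClosedImmersion i] (j : U ⟶ X) [IsOpenImmersion j]
    {U' : Scheme.{u}} (i' : U' ⟶ T') [IsClosedImmersion i'] (j' : U' ⟶ X) [IsOpenImmersion j']
    (l : T' ⟶ T) [IsOpenImmersion l] (k : U' ⟶ U) [IsOpenImmersion k]
    (hj : k ≫ j = j') (hsq : i' ≫ l = k ≫ i) (hr : k.opensRange = i ⁻¹ᵁ l.opensRange)
    {m : ℤ} (K : DCoh.D X) :
    LocPC m ((rho l.opensRange.ι).obj ((pushD i).obj ((rho j).obj K))) ↔
      LocPC m ((pushD i').obj ((rho j').obj K)) := by
  let W := l.opensRange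
  let a : (W : Scheme.{u}) ⟶ T' := (IsOpenImmersion.isoOfRangeEq W.ι l (by simp [W])).hom
  have ha : a ≫ l = W.ι := IsOpenImmersion.isoOfRangeEq_hom_fac _ _ _
  let V := i ⁻¹ᵁ W
  let b : U' ⟶ (V : Scheme.{u}) := (IsOpenImmersion.isoOfRangeEq k V.ι (by
    simp only [V, W, Scheme.Opens.range_ι, ← hr, Scheme.Hom.coe_opensRange])).hom
  have hb : b ≫ V.ι = k := IsOpenImmersion.isoOfRangeEq_hom_fac _ _ _
  haveI : IsIso a := inferInstance
  haveI : IsIso b := inferInstance
  let r := i ∣_ W
  let v : (V : Scheme.{u}) ⟶ T' := r ≫ a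
  have hv : b ≫ v = i' := by
    rw [← cancel_mono l, hsq, Category.assoc, Category.assoc, ha, morphismRestrict_ι, ← Category.assoc, hb]
  let L := (rho V.ι).obj ((rho j).obj K)
  let e : (rho j').obj K ≅ (rho b).obj L :=
    ((rho b).mapIso (rhoComp V.ι j _ rfl K) ≪≫ rhoComp b (V.ι ≫ j) j'
      (by rw [← Category.assoc, hb, hj]) K).symm
  let e' : (pushD i').obj ((rho j').obj K) ≅ (pushD v).obj L :=
    (pushD i').mapIso e ≪≫ (pushDComp b v i' hv _).symm ≪≫
      (pushD v).mapIso (pushDRestrictSelf b L)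
  constructor
  · intro h
    refine LocPC.of_iso e'.symm ((locPC_comp_iff r a (pcImm_of_isIso a) v rfl L).2 ?_)
    exact h.of_iso (pushDRestrict i W _)
  · intro h
    exact ((locPC_comp_iff r a (pcImm_of_isIso a) v rfl L).1 (h.of_iso e')).of_iso
      (pushDRestrict i W _).symm

/-- The splitting of the variables of a polynomial ring. -/
noncomputable def splitVars (R : Type u) [CommRing R] (n k : ℕ) :
    MvPolynomial (Fin (n + k)) R ≃ₐ[R] MvPolynomial (Fin k) (MvPolynomial (Fin n) R) :=
  (MvPolynomial.renameEquiv R ((finSumFinEquiv (m := n) (n := k)).symm.trans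
      (Equiv.sumComm (Fin n) (Fin k)))).trans (MvPolynomial.sumAlgEquiv R (Fin k) (Fin n))

lemma pcHom_surjective_eval {P : Type u} [CommRing P] {k : ℕ} (p : Fin k → P) :
    Function.Surjective (MvPolynomial.eval₂Hom (RingHom.id P) p) :=
  fun a => ⟨MvPolynomial.C a, MvPolynomial.eval₂Hom_C _ _ _⟩

end Groth.Agent.PerfGen7
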