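import Groth.Agent.KFlatLib.Scheme.ClosedPush
import Groth.Agent.KFlatLib.Scheme.RpushRestrict
import Groth.Agent.KFlatLib.Scheme.LocalDevissage
import Groth.Agent.KFlatLib.Perfect.Top
import Groth.Agent.KZ.ClosedDev
import Groth.Prelude.Def_DerSch2

/-!
# The derived pushforward along a closed immersion
-/

set_option linter.style.haveILetI false
set_option backward.isDefEq.respectTransparency false
set_option backward.isDefEq.respectTransparency.types false

universe u

open CategoryTheory CategoryTheory.Limits AlgebraicGeometry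

attribute [local instance] HasDerivedCategory.standard

namespace Groth.Agent.PerfGen7

open Groth.Agent.KFlatLib

variable {X Y Z : Scheme.{u}} (s : X ⟶ Y) [IsClosedImmersion s]

instance preservesFiniteColimits_push_closed :
    PreservesFiniteColimits (Scheme.Modules.pushforward s) :=
  ⟨fun J _ _ => preservesColimitsOfShape_push s J⟩

instance preservesFiniteLimits_push_closed :
    PreservesFiniteLimits (Scheme.Modules.pushforward s) := inferInstance

instance faithful_push_closed : (Scheme.Modules.pushforward s).Faithful :=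
  ⟨fun h => KZ.ClosedDev.push_map_injective s _ _ h⟩

/-- The direct image along a closed immersion, on the derived category. -/
noncomputable abbrev pushD : DCoh.D X ⥤ DCoh.D Y :=
  (Scheme.Modules.pushforward s).mapDerivedCategory

/-- It is computed termwise. -/
noncomputable def pushDQ (G : CochainComplex X.Modules ℤ) :
    (pushD s).obj (DerivedCategory.Q.obj G) ≅ DerivedCategory.Q.obj ((DerSch.pushCx s).obj G) :=
  (Scheme.Modules.pushforward s).mapDerivedCategoryFactors.app G

/-- Cohomology of a direct image. -/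
noncomputable def pushDHD (K : DCoh.D X) (i : ℤ) :
    DCoh.HD ((pushD s).obj K) i ≅ (Scheme.Modules.pushforward s).obj (DCoh.HD K i) :=
  (mapDCHomologyIso (Scheme.Modules.pushforward s) i).app K

/-- Zero objects are detected after direct image. -/
lemma isZero_of_isZero_push {M : X.Modules} (h : IsZero ((Scheme.Modules.pushforward s).obj M)) :
    IsZero M := by
  rw [IsZero.iff_id_eq_zero]
  exact (Scheme.Modules.pushforward s).map_injective (h.eq_of_src _ _)

/-- Finite type is detected after direct image. -/
lemma isFT_of_isFT_push {M : X.Modules}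
    (h : CohB1.IsFT ((Scheme.Modules.pushforward s).obj M)) : CohB1.IsFT M :=
  isFT_of_epi_free fun x => by
    obtain ⟨W, n, p, hx, hp⟩ := exists_epi_free_of_isFT h (s x)
    let r := s ∣_ W
    let e := (pushRestrictIso s W).app M
    let q : FlatMod.freeMod (W : Scheme.{u}) n ⟶
        (Scheme.Modules.pushforward r).obj (M.restrict (s ⁻¹ᵁ W).ι) := p ≫ e.hom
    haveI : Epi q := epi_comp' hp inferInstance
    haveI : Epi ((Scheme.Modules.pullbackPushforwardAdjunction r).counit.app
        (M.restrict (s ⁻¹ᵁ W).ι)) := inferInstance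
    exact ⟨s ⁻¹ᵁ W, n, (pullFreeIso r n).inv ≫ (Scheme.Modules.pullback r).map q ≫
        (Scheme.Modules.pullbackPushforwardAdjunction r).counit.app _, hx,
      epi_comp' inferInstance (epi_comp' inferInstance inferInstance)⟩

/-- Direct image commutes with restriction to an open. -/
noncomputable def pushDRestrict (W : Y.Opens) (K : DCoh.D X) :
    (rho W.ι).obj ((pushD s).obj K) ≅ (pushD (s ∣_ W)).obj ((rho (s ⁻¹ᵁ W).ι).obj K) :=
  (rho W.ι).mapIso ((pushD s).mapIso (repIso K).symm ≪≫ pushDQ s _) ≪≫
    (rhoQ W.ι).app _ ≪≫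
    DerivedCategory.Q.mapIso ((NatIso.mapHomologicalComplex (pushRestrictIso s W)
      (ComplexShape.up ℤ)).app (DerivedCategory.Q.objPreimage K)) ≪≫
    (pushDQ (s ∣_ W) ((rCx (s ⁻¹ᵁ W).ι).obj (DerivedCategory.Q.objPreimage K))).symm ≪≫
    (pushD (s ∣_ W)).mapIso (((rhoQ (s ⁻¹ᵁ W).ι).app _).symm ≪≫
      (rho (s ⁻¹ᵁ W).ι).mapIso (repIso K))

/-- Direct image of a composite. -/
noncomputable def pushDComp (t : Y ⟶ Z) [IsClosedImmersion t] (v : X ⟶ Z) [IsClosedImmersion v]
    (h : s ≫ t = v) (K : DCoh.D X) : (pushD t).obj ((pushD s).obj K) ≅ (pushD v).obj K :=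
  (pushD t).mapIso ((pushD s).mapIso (repIso K).symm ≪≫ pushDQ s _) ≪≫
    pushDQ t _ ≪≫
    DerivedCategory.Q.mapIso ((NatIso.mapHomologicalComplex
      (Scheme.Modules.pushforwardComp s t ≪≫ Scheme.Modules.pushforwardCongr h)
      (ComplexShape.up ℤ)).app (DerivedCategory.Q.objPreimage K)) ≪≫
    (pushDQ v (DerivedCategory.Q.objPreimage K)).symm ≪≫ (pushD v).mapIso (repIso K)

/-- A pseudo-coherent closed immersion: the direct image of the structure module is pseudo-coherent. -/
def PCImm : Prop :=
  ∀ m : ℤ, LocPC m (DCoh.inD Y ((Scheme.Modules.pushforward s).obj (Coh.structureModule X)))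

/-- Pseudo-coherent closed immersions restrict. -/
lemma PCImm.restrict {s : X ⟶ Y} [IsClosedImmersion s] (h : PCImm s) (W : Y.Opens) :
    PCImm (s ∣_ W) := fun m => by
  refine LocPC.of_iso ?_ ((h m).restrict W.ι)
  exact ((Scheme.Modules.restrictFunctor W.ι).mapDerivedCategorySingleFunctor 0).app _ ≪≫
    (DerivedCategory.singleFunctor (W : Scheme.{u}).Modules 0).mapIso
      ((pushRestrictIso s W).app (Coh.structureModule X) ≪≫
        (Scheme.Modules.pushforward (s ∣_ W)).mapIso (restrictStructureIso (s ⁻¹ᵁ W).ι))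

end Groth.Agent.PerfGen7
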