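import Groth.Agent.PerfGen7.TermsPC
import Groth.Agent.PerfGen7.PushD
import Groth.Agent.KFlatLib.Perfect.Spread

/-!
# Pseudo-coherence along a pseudo-coherent closed immersion
-/

set_option linter.style.haveILetI false
set_option backward.isDefEq.respectTransparency false
set_option backward.isDefEq.respectTransparency.types false

universe u

open CategoryTheory CategoryTheory.Limits AlgebraicGeometry CategoryTheory.Pretriangulated TopologicalSpace

attribute [local instance] HasDerivedCategory.standard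

namespace Groth.Agent.PerfGen7

open Groth.Agent.KFlatLib

set_option linter.unusedSectionVars false

variable {X Y : Scheme.{u}} (s : X ⟶ Y) [IsClosedImmersion s]

/-- An open neighbourhood of the image with preimage in a given open. -/
lemma exists_open_preimage_le (x : X) (U : X.Opens) (hx : x ∈ U) :
    ∃ W : Y.Opens, s x ∈ W ∧ s ⁻¹ᵁ W ≤ U := by
  obtain ⟨W, rfl⟩ := KZ.ClosedDev.exists_preimage_eq s U
  exact ⟨W, hx, le_rfl⟩

/-- Finite type transports along isomorphisms. -/
lemma isFT_iso {M N : X.Modules} (e : M ≅ N) (h : CohB1.IsFT M) : CohB1.IsFT N :=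
  isFT_of_epi_free fun x => by
    obtain ⟨W, n, p, hx, hp⟩ := exists_epi_free_of_isFT h x
    exact ⟨W, n, p ≫ (Scheme.Modules.restrictFunctor W.ι).map e.hom, hx, epi_comp' hp inferInstance⟩

/-- Finite sums of a pseudo-coherent direct image. -/
lemma locPC_push_freeMod (hs : PCImm s) : ∀ (n : ℕ) (m : ℤ),
    LocPC m (DCoh.inD Y ((Scheme.Modules.pushforward s).obj (FlatMod.freeMod X n))) := by
  intro n
  induction n with
  | zero =>
    intro m
    refine locPC_of_isZero _ _ fun i _ => ?_
    exact Functor.map_isZero _ (Functor.map_isZero (DerivedCategory.singleFunctor Y.Modules 0)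
      (Functor.map_isZero _ isZero_freeMod_zero))
  | succ n ih =>
    intro m
    let P := Scheme.Modules.pushforward s
    let A := FlatMod.freeMod X n
    let B := FlatMod.freeMod X 1
    let S := ShortComplex.mk (biprod.inl : A ⟶ A ⊞ B) biprod.snd biprod.inl_snd
    let σ : S.Splitting := ShortComplex.Splitting.ofHasBinaryBiproduct _ _
    have hS : (S.map P).ShortExact := (σ.map P).shortExact
    have h1 : LocPC m (DCoh.inD Y (P.obj B)) :=
      (hs m).of_iso ((DerivedCategory.singleFunctor Y.Modules 0).mapIso (P.mapIso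
        (coproductUniqueIso (fun _ : Fin 1 => Coh.structureModule X)).symm))
    refine LocPC.of_iso ((DerivedCategory.singleFunctor Y.Modules 0).mapIso
      (P.mapIso (biprodFreeIso n 1))) ?_
    exact (locPC_two_of_three m _ hS.singleTriangle_distinguished).2.1 (ih m) h1

/-- Direct images of bundles are pseudo-coherent. -/
lemma locPC_push_finLocFree (hs : PCImm s) {M : X.Modules} (hM : FlatMod.IsFinLocFree M) (m : ℤ) :
    LocPC m (DCoh.inD Y ((Scheme.Modules.pushforward s).obj M)) :=
  LocPC.of_local fun y => by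
    obtain ⟨W, n, hy, ⟨e⟩⟩ : ∃ (W : Y.Opens) (n : ℕ), y ∈ W ∧
        Nonempty (M.restrict (s ⁻¹ᵁ W).ι ≅ FlatMod.freeMod (s ⁻¹ᵁ W : Scheme.{u}) n) := by
      by_cases h : y ∈ Set.range s.base
      · obtain ⟨x, rfl⟩ := h
        obtain ⟨U, n, hxU, ⟨e⟩⟩ := hM x
        obtain ⟨W, hW, hle⟩ := exists_open_preimage_le s x U hxU
        exact ⟨W, n, hW, ⟨restrictFreeIso hle e⟩⟩
      · refine ⟨⟨(Set.range s.base)ᶜ, s.isClosedEmbedding.isClosed_range.isOpen_compl⟩, 0, h, ⟨?_⟩⟩
        refine IsZero.iso (isZero_of_stalk _ fun x => ?_) isZero_freeMod_zero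
        exact absurd ⟨x.1, rfl⟩ x.2
    refine ⟨_, W.ι, inferInstance, ⟨⟨y, hy⟩, rfl⟩, LocPC.of_iso ?_
      (locPC_push_freeMod (s ∣_ W) (hs.restrict W) n m)⟩
    exact (DerivedCategory.singleFunctor (W : Scheme.{u}).Modules 0).mapIso
      ((Scheme.Modules.pushforward (s ∣_ W)).mapIso e.symm ≪≫ ((pushRestrictIso s W).app M).symm) ≪≫
      (((Scheme.Modules.restrictFunctor W.ι).mapDerivedCategorySingleFunctor 0).app _).symm

/-- Direct images of strictly perfect complexes are pseudo-coherent. -/
lemma locPC_push_strictlyPerfect (hs : PCImm s) {P : CochainComplex X.Modules ℤ}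
    (hP : DCoh.IsStrictlyPerfect P) (m : ℤ) :
    LocPC m ((pushD s).obj (DerivedCategory.Q.obj P)) := by
  obtain ⟨⟨a, b, hab⟩, hfl⟩ := hP
  refine LocPC.of_iso (pushDQ s P).symm
    (locPC_of_terms (b + 1 - a).toNat _ a (fun i hi => ?_) (fun i m => ?_) m)
  · exact (Scheme.Modules.pushforward s).map_isZero (hab i (by omega))
  · exact locPC_push_finLocFree s hs (hfl i) m

/-- Direct image along a pseudo-coherent closed immersion preserves pseudo-coherence. -/
theorem locPC_pushD (hs : PCImm s) {m : ℤ} {K : DCoh.D X} (h : LocPC m K) :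
    LocPC m ((pushD s).obj K) :=
  LocPC.of_local fun y => by
    by_cases hy : y ∈ Set.range s.base
    · obtain ⟨x, rfl⟩ := hy
      obtain ⟨U, j, _, hx, P, α, hP, hα⟩ := h x
      obtain ⟨W, hW, hle⟩ := exists_open_preimage_le s x j.opensRange hx
      refine ⟨_, W.ι, inferInstance, ⟨⟨s x, hW⟩, rfl⟩, LocPC.of_iso (pushDRestrict s W K).symm ?_⟩
      let r := s ∣_ W
      let k : (s ⁻¹ᵁ W : Scheme.{u}) ⟶ U := X.homOfLE hle ≫ rangeHom j
      have hk : k ≫ j = (s ⁻¹ᵁ W).ι := by
        simp only [k, Category.assoc, rangeHom_fac]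
        exact X.homOfLE_ι hle
      let β := ((rho k).map α ≫ (rhoComp k j _ hk K).hom)
      have hβ : IsPcMap m ((pushD r).map β) :=
        IsPcMap.map_exact (F := Scheme.Modules.pushforward r)
          ((hα.map_exact _).comp (isPcMap_of_isIso m _))
      obtain ⟨C, u, w, hT⟩ := distinguished_cocone_triangle ((pushD r).map β)
      have h1 : ∀ n, LocPC n ((pushD r).obj ((rho k).obj (DerivedCategory.Q.obj P))) := fun n =>
        LocPC.of_iso ((pushD r).mapIso ((rhoQ k).app P).symm)
          (locPC_push_strictlyPerfect r (hs.restrict W) (isStrictlyPerfect_restrict k hP) n)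
      have hC : ∀ i, m ≤ i → IsZero ((DerivedCategory.homologyFunctor _ i).obj C) := fun i hi => by
        have h₁ : Epi ((DerivedCategory.homologyFunctor _ i).map ((pushD r).map β)) := by
          rcases eq_or_lt_of_le hi with e | e
          · subst e; exact hβ.2
          · haveI := hβ.1 i e; infer_instance
        have h₂ : Mono ((DerivedCategory.homologyFunctor _ (i + 1)).map ((pushD r).map β)) := by
          haveI := hβ.1 (i + 1) (by omega); infer_instance
        exact (DerivedCategory.HomologySequence.exact₃ _ hT i (i + 1) rfl).isZero_X₂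
          ((DerivedCategory.HomologySequence.epi_homologyMap_mor₁_iff _ hT i).1 h₁)
          ((DerivedCategory.HomologySequence.mono_homologyMap_mor₁_iff _ hT i (i + 1) rfl).1 h₂)
      exact (locPC_two_of_three m _ hT).2.1 (h1 m) (locPC_of_isZero m C hC)
    · let W : Y.Opens := ⟨(Set.range s.base)ᶜ, s.isClosedEmbedding.isClosed_range.isOpen_compl⟩
      refine ⟨_, W.ι, inferInstance, ⟨⟨y, hy⟩, rfl⟩, LocPC.of_iso (pushDRestrict s W K).symm ?_⟩
      refine locPC_of_isZero _ _ fun i _ => ?_
      refine IsZero.of_iso (Functor.map_isZero _ (isZero_of_stalk _ fun x => ?_)) (pushDHD _ _ i)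
      exact absurd ⟨x.1, rfl⟩ x.2

/-- A surjection from a free module onto top cohomology lifts to cocycles nearby. -/
lemma exists_top_lift (G : CochainComplex X.Modules ℤ) (b : ℤ)
    (hFT : CohB1.IsFT (G.homology b)) (x : X) :
    ∃ (V : X.Opens) (n : ℕ)
      (φ : (HomologicalComplex.single (V : Scheme.{u}).Modules (ComplexShape.up ℤ) b).obj
        (FlatMod.freeMod (V : Scheme.{u}) n) ⟶ (rCx V.ι).obj G),
      x ∈ V ∧ Epi (HomologicalComplex.homologyMap φ b) := by
  obtain ⟨V, n, p, hx, hp⟩ := exists_epi_free_of_isFT hFT x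
  let G' := (rCx V.ι).obj G
  let p' : FlatMod.freeMod (V : Scheme.{u}) n ⟶ G'.homology b :=
    p ≫ ((G.sc b).mapHomologyIso (Scheme.Modules.restrictFunctor V.ι)).inv
  haveI : Epi p' := epi_comp' hp inferInstance
  let D := (G'.sc b).leftHomologyData
  let q : FlatMod.freeMod (V : Scheme.{u}) n ⟶ D.H := p' ≫ D.homologyIso.hom
  haveI : Epi q := epi_comp' inferInstance inferInstance
  let x' : (V : Scheme.{u}) := ⟨x, hx⟩
  let S := DerSch.stalkFunctor (V : Scheme.{u}) x'
  have hπ : Function.Surjective (S.map D.π) := (ModuleCat.epi_iff_surjective _).1 inferInstance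
  choose v hv using fun i : Fin n => hπ (S.map q (eGerm x' i))
  obtain ⟨U, hU, hg⟩ := exists_of_germs D.K x' v
  obtain ⟨g, hgv⟩ := hg U hU le_rfl
  let R := Scheme.Modules.restrictFunctor U.ι
  have hzero : stalkAt hU (g ≫ R.map D.π - R.map q) = 0 := by
    rw [stalkAt_sub, sub_eq_zero, stalkAt_comp, stalkAt_map, stalkAt_map]
    refine free_stalk_ext fun i => ?_
    show S.map D.π (stalkAt hU g (eGerm _ i)) = S.map q (eGerm _ i)
    rw [hgv i, hv i]
  obtain ⟨U', hU', hres⟩ := exists_resHom_eq_zero _ hU hzero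
  let W := U ⊓ U'
  have e := hres W inf_le_left inf_le_right
  rw [sub_eq_add_neg] at e
  have e' : resHom (inf_le_left : W ≤ U) g ≫ (Scheme.Modules.restrictFunctor W.ι).map D.π =
      (Scheme.Modules.restrictFunctor W.ι).map q := by
    have := hres W inf_le_left inf_le_right
    rw [resHom_sub, sub_eq_zero, resHom_comp, resHom_map, resHom_map] at this
    exact this
  let k := W.ι ≫ V.ι
  let V' := k.opensRange
  let i := rangeHom k ≫ W.ι
  let F := Scheme.Modules.restrictFunctor i
  have hi : i ≫ V.ι = V'.ι := (Category.assoc _ _ _).trans (rangeHom_fac k)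
  let E := D.map F
  let eK : F.obj D.K ≅ E.K := Iso.refl _
  let g' : FlatMod.freeMod (V' : Scheme.{u}) n ⟶ E.K :=
    ((Scheme.Modules.restrictFunctorIsoPullback i).app _ ≪≫ pullFreeIso i n).inv ≫
      ((Scheme.Modules.restrictFunctorComp (rangeHom k) W.ι).app _).hom ≫
        (Scheme.Modules.restrictFunctor (rangeHom k)).map (resHom inf_le_left g) ≫
          ((Scheme.Modules.restrictFunctorComp (rangeHom k) W.ι).app _).inv
  have hepi : Epi (g' ≫ E.π) := by
    have h2 : ((Scheme.Modules.restrictFunctorComp (rangeHom k) W.ι).app _).hom ≫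
        (Scheme.Modules.restrictFunctor (rangeHom k)).map (resHom inf_le_left g) ≫
          ((Scheme.Modules.restrictFunctorComp (rangeHom k) W.ι).app _).inv ≫ E.π = F.map q := by
      have nat := (Scheme.Modules.restrictFunctorComp (rangeHom k) W.ι).inv.naturality D.π
      have nat' := (Scheme.Modules.restrictFunctorComp (rangeHom k) W.ι).hom.naturality q
      simp only [Iso.app_hom, Iso.app_inv, E, ShortComplex.LeftHomologyData.map_π]
      rw [← nat, Functor.comp_map, ← Functor.map_comp_assoc, e']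
      rw [← Functor.comp_map, ← Category.assoc, ← nat', Category.assoc, Iso.hom_inv_id_app,
        Category.comp_id]
    simp only [g', Category.assoc]
    rw [h2]
    exact epi_comp' inferInstance inferInstance
  let G'' := (rCx i).obj G'
  let φ₀ : (HomologicalComplex.single (V' : Scheme.{u}).Modules (ComplexShape.up ℤ) b).obj
      (FlatMod.freeMod (V' : Scheme.{u}) n) ⟶ G'' :=
    HomologicalComplex.mkHomFromSingle (g' ≫ E.i) (fun l hl => by
      obtain rfl : b + 1 = l := hl
      have hd : G''.d b (b + 1) = ((G'.sc b).map F).g ≫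
          (G''.XIsoOfEq (CochainComplex.next ℤ b)).hom := by
        change G''.d b (b + 1) = G''.dFrom b ≫ (G''.XIsoOfEq _).hom
        simp
      rw [hd, Category.assoc, ← Category.assoc E.i, E.wi, zero_comp, comp_zero])
  let c : G'' ⟶ (rCx V'.ι).obj G := (NatIso.mapHomologicalComplex
    ((Scheme.Modules.restrictFunctorComp i V.ι).symm ≪≫ Scheme.Modules.restrictFunctorCongr hi)
    (ComplexShape.up ℤ)).hom.app G
  haveI : IsIso c := inferInstance
  refine ⟨V', n, φ₀ ≫ c, ⟨⟨⟨x, hx⟩, hU, hU'⟩, rfl⟩, ?_⟩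
  rw [HomologicalComplex.homologyMap_comp]
  refine epi_comp' ?_ inferInstance
  let S₁ := ((HomologicalComplex.single (V' : Scheme.{u}).Modules (ComplexShape.up ℤ) b).obj
      (FlatMod.freeMod (V' : Scheme.{u}) n))
  let t : FlatMod.freeMod (V' : Scheme.{u}) n ⟶ S₁.homology b :=
    (HomologicalComplex.singleObjHomologySelfIso (ComplexShape.up ℤ) b _).inv
  have key : t ≫ HomologicalComplex.homologyMap φ₀ b ≫ E.homologyIso.hom = g' ≫ E.π := by
    let c₁ := HomologicalComplex.singleObjCyclesSelfIso (ComplexShape.up ℤ) b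
      (FlatMod.freeMod (V' : Scheme.{u}) n)
    have ht : t = c₁.inv ≫ S₁.homologyπ b := by simp [t, c₁, S₁]
    rw [ht, Category.assoc, HomologicalComplex.homologyπ_naturality_assoc]
    erw [E.homologyπ_comp_homologyIso_hom]
    simp only [← Category.assoc]
    refine congrArg (· ≫ E.π) ?_
    rw [← cancel_mono E.i, Category.assoc, ShortComplex.LeftHomologyData.cyclesIso_hom_comp_i,
      Category.assoc]
    erw [HomologicalComplex.cyclesMap_i φ₀ b]
    simp [φ₀, c₁]
    erw [← Category.assoc, HomologicalComplex.singleObjCyclesSelfIso_inv_iCycles, Iso.inv_hom_id_assoc]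
  have : Epi (t ≫ HomologicalComplex.homologyMap φ₀ b ≫ E.homologyIso.hom) := key ▸ hepi
  have h3 : Epi (HomologicalComplex.homologyMap φ₀ b ≫ E.homologyIso.hom) := epi_of_epi t _
  exact (epi_comp_iff_of_isIso (HomologicalComplex.homologyMap φ₀ b) E.homologyIso.hom).1 h3

/-- Pseudo-coherence descends along a pseudo-coherent closed immersion, given a bound. -/
lemma locPC_of_push_aux (m : ℤ) (k : ℕ) : ∀ {X Y : Scheme.{u}} (s : X ⟶ Y) [IsClosedImmersion s],
    PCImm s → ∀ (G : CochainComplex X.Modules ℤ), (∀ i, m + k ≤ i → IsZero (G.homology i)) →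
    LocPC m ((pushD s).obj (DerivedCategory.Q.obj G)) → LocPC m (DerivedCategory.Q.obj G) := by
  induction k with
  | zero =>
    intro X Y s _ _ G hz _
    exact locPC_of_isZero _ _ fun i hi =>
      (hz i (by omega)).of_iso ((DerivedCategory.homologyFunctorFactors _ i).app G)
  | succ k ih =>
    intro X Y s _ hs G hz hG
    let b : ℤ := m + k
    have hzH : ∀ i, b < i → IsZero (DCoh.HD ((pushD s).obj (DerivedCategory.Q.obj G)) i) := fun i hi =>
      (Functor.map_isZero _ ((hz i (by omega)).of_iso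
        ((DerivedCategory.homologyFunctorFactors _ i).app G))).of_iso (pushDHD s _ i)
    have hFT : CohB1.IsFT (G.homology b) := isFT_of_isFT_push s
      (isFT_iso (pushDHD s _ b ≪≫ (Scheme.Modules.pushforward s).mapIso
        ((DerivedCategory.homologyFunctorFactors _ b).app G))
        (isFT_top (hG.mono (by omega)) hzH))
    refine LocPC.of_local fun x => ?_
    obtain ⟨V, n, φ, hxV, hφ⟩ := exists_top_lift G b hFT x
    obtain ⟨W, rfl⟩ := KZ.ClosedDev.exists_preimage_eq s V
    refine ⟨_, (s ⁻¹ᵁ W).ι, inferInstance, ⟨⟨x, hxV⟩, rfl⟩, LocPC.of_iso ((rhoQ _).app G).symm ?_⟩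
    let r := s ∣_ W
    let G' := (rCx (s ⁻¹ᵁ W).ι).obj G
    let F₀ := (HomologicalComplex.single (s ⁻¹ᵁ W : Scheme.{u}).Modules (ComplexShape.up ℤ) b).obj
      (FlatMod.freeMod (s ⁻¹ᵁ W : Scheme.{u}) n)
    let C := CochainComplex.mappingCone φ
    let T : Triangle (DCoh.D (s ⁻¹ᵁ W : Scheme.{u})) :=
      DerivedCategory.Q.mapTriangle.obj (CochainComplex.mappingCone.triangle φ)
    have hT : T ∈ distinguishedTriangles :=
      (DerivedCategory.mem_distTriang_iff T).2 ⟨_, _, φ, ⟨Iso.refl _⟩⟩
    have hF₀ : DCoh.IsStrictlyPerfect F₀ :=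
      ⟨⟨b, b, fun i hi => HomologicalComplex.isZero_single_obj_X (ComplexShape.up ℤ) b _ i (by omega)⟩, fun i => by
        rcases eq_or_ne i b with h | h
        · subst h
          exact H23.PullPush.isFinLocFree_of_iso
            (HomologicalComplex.singleObjXSelf (ComplexShape.up ℤ) b _).symm (isFinLocFree_freeMod n)
        · exact isFinLocFree_of_isZero (HomologicalComplex.isZero_single_obj_X (ComplexShape.up ℤ) b _ i h)⟩
    have hG' : LocPC m ((pushD r).obj T.obj₂) :=
      (hG.restrict W.ι).of_iso (pushDRestrict s W _ ≪≫ (pushD r).mapIso ((rhoQ _).app G))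
    have hC : LocPC m ((pushD r).obj T.obj₃) :=
      (locPC_two_of_three m _ ((pushD r).map_distinguished T hT)).1
        (locPC_push_strictlyPerfect r (hs.restrict W) hF₀ _) hG'
    have hzC : ∀ i, m + k ≤ i → IsZero (C.homology i) := fun i hi => by
      have hpc : IsPcMap b (DerivedCategory.Q.map φ) := by
        refine isPcMap_of_homologyMap b _ (fun j hj => ?_) hφ
        have h1 : IsZero (F₀.homology j) := ShortComplex.isZero_homology_of_isZero_X₂ _
          (HomologicalComplex.isZero_single_obj_X (ComplexShape.up ℤ) b _ j (by omega))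
        have h2 : IsZero (G'.homology j) :=
          (Functor.map_isZero (Scheme.Modules.restrictFunctor (s ⁻¹ᵁ W).ι) (hz j (by omega))).of_iso
            ((G.sc j).mapHomologyIso (Scheme.Modules.restrictFunctor (s ⁻¹ᵁ W).ι))
        exact ⟨0, h1.eq_of_src _ _, h2.eq_of_src _ _⟩
      exact (isPcMap_iff_cone b φ).1 hpc i hi
    have hCpc : LocPC m T.obj₃ := ih r (hs.restrict W) C hzC hC
    exact (locPC_two_of_three m T hT).2.1
      (LocSP.locPC (fun y => ⟨_, 𝟙 _, inferInstance, ⟨y, rfl⟩, (rCx (𝟙 _)).obj F₀,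
        isStrictlyPerfect_restrict _ hF₀, ⟨((rhoQ (𝟙 _)).app F₀).symm⟩⟩) m) hCpc

/-- Pseudo-coherence along a pseudo-coherent closed immersion. -/
theorem locPC_pushD_iff (hs : PCImm s) {m : ℤ} (K : DCoh.D X) :
    LocPC m ((pushD s).obj K) ↔ LocPC m K := by
  refine ⟨fun h => LocPC.of_local fun x => ?_, locPC_pushD s hs⟩
  obtain ⟨U, j, _, ⟨w, hw⟩, P, α, hP, hα⟩ := h (s x)
  obtain ⟨a, b, hab⟩ := hP.1
  let W := j.opensRange
  refine ⟨_, (s ⁻¹ᵁ W).ι, inferInstance, ⟨⟨x, ⟨w, hw⟩⟩, rfl⟩, ?_⟩
  let r := s ∣_ W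
  let G := (rCx (s ⁻¹ᵁ W).ι).obj (DerivedCategory.Q.objPreimage K)
  let eG : (rho (s ⁻¹ᵁ W).ι).obj K ≅ DerivedCategory.Q.obj G :=
    (rho _).mapIso (repIso K).symm ≪≫ (rhoQ _).app _
  let eW : (rho (rangeHom j)).obj ((rho j).obj ((pushD s).obj K)) ≅
      (pushD r).obj (DerivedCategory.Q.obj G) :=
    rhoComp (rangeHom j) j W.ι (rangeHom_fac j) _ ≪≫ pushDRestrict s W K ≪≫ (pushD r).mapIso eG
  let c : ℤ := max (max m b + 1) m
  refine LocPC.of_iso eG.symm (locPC_of_push_aux m (c - m).toNat r (hs.restrict W) G (fun i hi => ?_)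
    ((((h.restrict j).restrict (rangeHom j))).of_iso eW))
  refine isZero_of_isZero_push r (IsZero.of_iso ?_
    ((Scheme.Modules.pushforward r).mapIso ((DerivedCategory.homologyFunctorFactors _ i).app G).symm ≪≫
      (pushDHD r _ i).symm ≪≫ (DerivedCategory.homologyFunctor _ i).mapIso eW.symm))
  haveI := (hα.map_exact (Scheme.Modules.restrictFunctor (rangeHom j))).1 i (by omega)
  exact IsZero.of_iso ((ShortComplex.isZero_homology_of_isZero_X₂ _
      (Functor.map_isZero (Scheme.Modules.restrictFunctor (rangeHom j)) (hab i (Or.inr (by omega))))))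
    ((asIso ((DerivedCategory.homologyFunctor _ i).map ((rho (rangeHom j)).map α))).symm ≪≫
      (DerivedCategory.homologyFunctor _ i).mapIso ((rhoQ (rangeHom j)).app P) ≪≫
      (DerivedCategory.homologyFunctorFactors _ i).app _)

end Groth.Agent.PerfGen7
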