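import Groth.Agent.KFlatLib.Scheme.PerfectCompact
import Groth.Agent.KFlatLib.Scheme.DQCohLimit
import Groth.Agent.KFlatLib.Scheme.LocalDevissage

/-!
# Dévissage of perfect complexes
-/

set_option linter.style.haveILetI false
set_option backward.isDefEq.respectTransparency false

universe u

open CategoryTheory CategoryTheory.Limits AlgebraicGeometry TopologicalSpace Pretriangulated

attribute [local instance] HasDerivedCategory.standard

namespace Groth.Agent.PerfGen7

open Groth.Agent.KFlatLib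

variable {X : Scheme.{u}}

variable (Φ : ObjectProperty (DCoh.D X)) [Φ.IsTriangulated] [Φ.IsClosedUnderIsomorphisms]

section Basic

variable {Φ}

omit [Φ.IsTriangulated] in
lemma prop_of_iso' {A B : DCoh.D X} (e : A ≅ B) (h : Φ A) : Φ B := Φ.prop_of_iso e h

lemma prop_of_isZero' {A : DCoh.D X} (h : IsZero A) : Φ A := Φ.prop_of_isZero h

lemma prop_obj₂' {T : Triangle (DCoh.D X)} (hT : T ∈ distTriang _) (h₁ : Φ T.obj₁)
    (h₃ : Φ T.obj₃) : Φ T.obj₂ := Φ.ext_of_isTriangulatedClosed₂ T hT h₁ h₃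

lemma prop_obj₃' {T : Triangle (DCoh.D X)} (hT : T ∈ distTriang _) (h₁ : Φ T.obj₁)
    (h₂ : Φ T.obj₂) : Φ T.obj₃ := Φ.ext_of_isTriangulatedClosed₃ T hT h₁ h₂

lemma prop_biprod' {A B : DCoh.D X} [HasBinaryBiproduct A B] (hA : Φ A) (hB : Φ B) : Φ (A ⊞ B) :=
  prop_obj₂' (binaryBiproductTriangle_distinguished A B) hA hB

end Basic

/-- The property propagates along finite unions. -/
lemma prop_finset_sup 
    (K : CochainComplex X.Modules ℤ) (B : Set X.Opens) (hB : ∀ a ∈ B, ∀ b ∈ B, a ⊓ b ∈ B)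
    (hbase : ∀ a ∈ B, Φ (DerivedCategory.Q.obj ((mapCx (lshRes a)).obj K))) :
    ∀ t : Finset X.Opens, (∀ a ∈ t, a ∈ B) →
      Φ (DerivedCategory.Q.obj ((mapCx (lshRes (t.sup id))).obj K)) := by
  classical
  suffices h : ∀ (n : ℕ) (t : Finset X.Opens), t.card ≤ n → (∀ a ∈ t, a ∈ B) →
      Φ (DerivedCategory.Q.obj ((mapCx (lshRes (t.sup id))).obj K)) from
    fun t ht => h t.card t le_rfl ht
  have hbot : Φ (DerivedCategory.Q.obj ((mapCx (lshRes (⊥ : X.Opens))).obj K)) := by
    refine prop_of_isZero' (DerivedCategory.Q.map_isZero ((IsZero.iff_id_eq_zero _).2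
      (HomologicalComplex.hom_ext _ _ fun m => IsZero.eq_of_src ?_ _ _)))
    refine isZero_of_stalk _ fun x => isZero_stalk_lsh (⊥ : X.Opens).ι x ?_ _
    rintro ⟨w, rfl⟩
    exact w.2.elim
  intro n
  induction n with
  | zero =>
    intro t ht _
    rw [Finset.card_eq_zero.1 (Nat.le_zero.1 ht), Finset.sup_empty]
    exact hbot
  | succ n ih =>
    intro t ht htB
    rcases t.eq_empty_or_nonempty with rfl | ⟨a, ha⟩
    · rw [Finset.sup_empty]
      exact hbot
    · let t' := t.erase a
      have hcard : t'.card ≤ n := by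
        have h0 := Finset.card_erase_of_mem ha
        show (t.erase a).card ≤ n
        omega
      have ht' : ∀ b ∈ t', b ∈ B := fun b hb => htB b (Finset.mem_of_mem_erase hb)
      have hs : t.sup id = a ⊔ t'.sup id := by
        conv_lhs => rw [← Finset.insert_erase ha]
        rw [Finset.sup_insert]
        rfl
      have hi : a ⊓ t'.sup id = (t'.image fun b => a ⊓ b).sup id := by
        rw [Finset.sup_inf_distrib_left, Finset.sup_image]
        rfl
      rw [hs]
      obtain ⟨f, g, c, hT⟩ := exists_mv_triangle' a (t'.sup id) (a ⊔ t'.sup id) le_sup_left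
        le_sup_right le_rfl K
      refine prop_obj₃' hT ?_ (prop_biprod' (hbase a (htB a ha)) (ih t' hcard ht'))
      change Φ (DerivedCategory.Q.obj ((mapCx (lshRes (a ⊓ t'.sup id))).obj K))
      rw [hi]
      refine ih _ (le_trans Finset.card_image_le hcard) fun b hb => ?_
      obtain ⟨c', hc', rfl⟩ := Finset.mem_image.1 hb
      exact hB a (htB a ha) c' (ht' c' hc')

/-- A quasi-compact open is a finite union of members of a basis. -/
lemma exists_finset_sup_eq {W : X.Opens} (hW : IsCompact (W : Set X)) (B : Set X.Opens)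
    (hB : ∀ x ∈ W, ∃ b ∈ B, x ∈ b ∧ b ≤ W) :
    ∃ t : Finset X.Opens, (∀ a ∈ t, a ∈ B) ∧ t.sup id = W := by
  classical
  choose b hbB hxb hbW using hB
  obtain ⟨s, hs⟩ := hW.elim_finite_subcover (fun x : W => (b x.1 x.2 : Set X)) (fun x => (b x.1 x.2).2)
    fun x hx => Set.mem_iUnion.2 ⟨⟨x, hx⟩, hxb x hx⟩
  refine ⟨s.image fun x => b x.1 x.2, fun a ha => ?_, le_antisymm ?_ fun x hx => ?_⟩
  · obtain ⟨x, -, rfl⟩ := Finset.mem_image.1 ha
    exact hbB _ _
  · refine Finset.sup_le fun a ha => ?_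
    obtain ⟨x, -, rfl⟩ := Finset.mem_image.1 ha
    exact hbW _ _
  · obtain ⟨y, hy, hxy⟩ := Set.mem_iUnion₂.1 (hs hx)
    have hmem : b y.1 y.2 ∈ s.image fun x => b x.1 x.2 := Finset.mem_image.2 ⟨y, hy, rfl⟩
    have hle : b y.1 y.2 ≤ (s.image fun x => b x.1 x.2).sup id := Finset.le_sup (f := id) hmem
    exact hle hxy

/-- `Q` of a single complex of `j_! O_W`. -/
noncomputable def lshResSingleIso (W : X.Opens) (m : ℤ) :
    (mapCx (lshRes W)).obj
        ((HomologicalComplex.single X.Modules (ComplexShape.up ℤ) m).obj (Coh.structureModule X)) ≅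
      (HomologicalComplex.single X.Modules (ComplexShape.up ℤ) m).obj (secObj W) :=
  (HomologicalComplex.singleMapHomologicalComplex (lshRes W) (ComplexShape.up ℤ) m).app _ ≪≫
    (HomologicalComplex.single _ _ m).mapIso ((lsh W.ι).mapIso (restrictStructureIso W.ι))

variable (hbaseΦ : ∀ V : X.Opens, IsAffineOpen V → Φ (DCoh.inD X (secObj V)))
include hbaseΦ

/-- Shifts of `j_! O_W`, `W` quasi-compact, only see finitely many summands. -/
lemma prop_secObj [QuasiSeparatedSpace X]  {W : X.Opens} (hW : IsCompact (W : Set X)) (m : ℤ) :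
    Φ (DerivedCategory.Q.obj ((HomologicalComplex.single X.Modules (ComplexShape.up ℤ) m).obj
      (secObj W))) := by
  let K := (HomologicalComplex.single X.Modules (ComplexShape.up ℤ) m).obj (Coh.structureModule X)
  let G := fun W : X.Opens => Φ (DerivedCategory.Q.obj ((mapCx (lshRes W)).obj K))
  have haff : ∀ V : X.Opens, IsAffineOpen V → G V := fun V hV => by
    refine prop_of_iso' ?_ (Φ.le_shift (-m) _ (hbaseΦ V hV))
    exact (shiftFunctor (DCoh.D X) (-m)).mapIso
        ((DerivedCategory.singleFunctorIsoCompQ X.Modules 0).app (secObj V)) ≪≫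
      ((DerivedCategory.Q.commShiftIso (-m)).app _).symm ≪≫ DerivedCategory.Q.mapIso
        (((CochainComplex.singleFunctors X.Modules).shiftIso (-m) m 0 (by omega)).app (secObj V) ≪≫
          (lshResSingleIso V m).symm)
  have hin : ∀ U : X.Opens, IsAffineOpen U → ∀ W : X.Opens, IsCompact (W : Set X) → W ≤ U → G W :=
    fun U hU W hWc hWU => by
    obtain ⟨t, ht, rfl⟩ := exists_finset_sup_eq hWc (Set.range fun f : Γ(X, U) => X.basicOpen f)
      fun x hx => by
        obtain ⟨f, hf, hxf⟩ := hU.exists_basicOpen_le ⟨x, hx⟩ (hWU hx)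
        exact ⟨_, ⟨f, rfl⟩, hxf, hf⟩
    refine prop_finset_sup Φ K _ ?_ ?_ t ht
    · rintro _ ⟨f, rfl⟩ _ ⟨g, rfl⟩
      exact ⟨f * g, X.basicOpen_mul f g⟩
    · rintro _ ⟨f, rfl⟩
      exact haff _ (hU.basicOpen f)
  refine prop_of_iso' (DerivedCategory.Q.mapIso (lshResSingleIso W m)) ?_
  obtain ⟨t, ht, rfl⟩ := exists_finset_sup_eq hW
    {V : X.Opens | IsCompact (V : Set X) ∧ ∃ U : X.Opens, IsAffineOpen U ∧ V ≤ U} fun x hx => by
      obtain ⟨_, ⟨U, hU, rfl⟩, hxU, hUW⟩ :=
        X.isBasis_affineOpens.exists_subset_of_mem_open hx W.2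
      exact ⟨U, ⟨hU.isCompact, U, hU, le_rfl⟩, hxU, hUW⟩
  refine prop_finset_sup Φ K _ ?_ ?_ t ht
  · rintro a ⟨ha, U, hU, haU⟩ b ⟨hb, -⟩
    exact ⟨QuasiSeparatedSpace.inter_isCompact _ _ a.2 ha b.2 hb, U, hU, inf_le_left.trans haU⟩
  · rintro a ⟨ha, U, hU, haU⟩
    exact hin U hU a ha haU

/-- Bounded complexes of free modules on a quasi-compact open, extended by zero. -/
lemma prop_lshCx_free [QuasiSeparatedSpace X]  {W : X.Opens} (hW : IsCompact (W : Set X))
    (P : CochainComplex (W : Scheme.{u}).Modules ℤ) (lo hi : ℤ) (hab : DCoh.VanishesOutside P lo hi)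
    (hfree : ∀ i, ∃ n, Nonempty (P.X i ≅ FlatMod.freeMod (W : Scheme.{u}) n)) :
    Φ (DerivedCategory.Q.obj ((lshCx W.ι).obj P)) := by
  let Ψ : ObjectProperty (CochainComplex (W : Scheme.{u}).Modules ℤ) :=
    fun P => Φ (DerivedCategory.Q.obj ((lshCx W.ι).obj P))
  haveI : Ψ.IsClosedUnderIsomorphisms :=
    ⟨fun e h => prop_of_iso' (DerivedCategory.Q.mapIso ((lshCx W.ι).mapIso e)) h⟩
  refine cx_devissage Ψ (fun P hP => prop_of_isZero' (DerivedCategory.Q.map_isZero
    ((lshCx W.ι).map_isZero hP))) (fun S hS _ h₁ h₃ => ?_) (fun n => ?_) lo ((hi + 1 - lo).toNat) P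
    (fun i hi' => hab i (by omega)) hfree
  · have hse : (S.map (lshCx W.ι)).ShortExact := HomologicalComplex.shortExact_of_degreewise_shortExact _
      fun n => ((hS n).some.map (lsh W.ι)).shortExact
    exact prop_obj₂' (DerivedCategory.triangleOfSES_distinguished hse) h₁ h₃
  · exact prop_of_iso' (DerivedCategory.Q.mapIso
      ((HomologicalComplex.singleMapHomologicalComplex (lsh W.ι) (ComplexShape.up ℤ) n).app
        (Coh.structureModule (W : Scheme.{u}))).symm) (prop_secObj Φ hbaseΦ hW n)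

/-- A triangulated property of all `j_! O_V`, `V` affine, holds for all perfect objects. -/
theorem perfect_devissage [CompactSpace X] [QuasiSeparatedSpace X] {E : DCoh.D X}
    (hE : DCoh.IsPerfect E)  : Φ E := by
  let F := DerivedCategory.Q.objPreimage E
  let eF := DerivedCategory.Q.objObjPreimageIso E
  choose V hxV hV using fun x => free_rep_range hE x
  choose P lo hi hab hfree eP using fun x => hV x F ⟨eF⟩
  have hex : ∀ x : X, ∃ U : X.Opens, IsAffineOpen U ∧ x ∈ U ∧ U ≤ V x := fun x => by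
    obtain ⟨_, ⟨U, hU, rfl⟩, hxU, hUV⟩ :=
      X.isBasis_affineOpens.exists_subset_of_mem_open (hxV x) (V x).2
    exact ⟨U, hU, hxU, hUV⟩
  choose U hU hxU hUV using hex
  obtain ⟨s, hs⟩ := isCompact_univ.elim_finite_subcover (fun x : X => (U x : Set X)) (fun x => (U x).2)
    fun x _ => Set.mem_iUnion.2 ⟨x, hxU x⟩
  let G : X.Opens → Prop := fun W => IsCompact (W : Set X) →
    Φ (DerivedCategory.Q.obj ((mapCx (lshRes W)).obj F))
  have hqs : ∀ W : X.Opens, IsQuasiSeparated (W : Set X) := fun W =>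
    IsQuasiSeparated.of_quasiSeparatedSpace _
  have hbase : ∀ x W, W ≤ V x → G W := fun x W hWV hW => by
    let i := X.homOfLE hWV
    let er : rCx W.ι ≅ rCx (V x).ι ⋙ rCx i :=
      NatIso.mapHomologicalComplex (Scheme.Modules.restrictFunctorCongr (X.homOfLE_ι hWV).symm ≪≫
        Scheme.Modules.restrictFunctorComp _ _) (ComplexShape.up ℤ) ≪≫
      (Functor.mapHomologicalComplexCompIso (Iso.refl _) (ComplexShape.up ℤ)).symm
    have hfree' : ∀ m, ∃ n, Nonempty (((rCx i).obj (P x)).X m ≅ FlatMod.freeMod (W : Scheme.{u}) n) :=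
      fun m => by
        obtain ⟨n, ⟨en⟩⟩ := hfree x m
        exact ⟨n, ⟨(Scheme.Modules.restrictFunctor i).mapIso en ≪≫
          (Scheme.Modules.restrictFunctorIsoPullback i).app _ ≪≫ pullFreeIso _ _⟩⟩
    refine prop_of_iso' ?_ (prop_lshCx_free Φ hbaseΦ hW ((rCx i).obj (P x)) (lo x) (hi x)
      (fun m hm => (Scheme.Modules.restrictFunctor i).map_isZero (hab x m hm)) hfree')
    exact ((lsh W.ι).mapDerivedCategoryFactors.app _).symm ≪≫ (lsh W.ι).mapDerivedCategory.mapIso
      (((Scheme.Modules.restrictFunctor i).mapDerivedCategoryFactors.app (P x)).symm ≪≫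
        (Scheme.Modules.restrictFunctor i).mapDerivedCategory.mapIso (eP x).some.symm ≪≫
        (Scheme.Modules.restrictFunctor i).mapDerivedCategoryFactors.app _ ≪≫
        DerivedCategory.Q.mapIso (er.app F).symm) ≪≫
      (lsh W.ι).mapDerivedCategoryFactors.app _ ≪≫
      DerivedCategory.Q.mapIso ((Functor.mapHomologicalComplexCompIso (Iso.refl (lshRes W))
        (ComplexShape.up ℤ)).app F)
  have hsup : ∀ t : Finset X, ∀ W : X.Opens, W ≤ t.sup U → G W := by
    classical
    intro t
    induction t using Finset.induction with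
    | empty =>
      intro W hW _
      refine prop_of_isZero' (DerivedCategory.Q.map_isZero ((IsZero.iff_id_eq_zero _).2
        (HomologicalComplex.hom_ext _ _ fun m => IsZero.eq_of_src ?_ _ _)))
      refine isZero_of_stalk _ fun x => isZero_stalk_lsh W.ι x ?_ _
      rintro ⟨w, rfl⟩
      exact (hW w.2 : W.ι.base w ∈ (∅ : Finset X).sup U).elim
    | insert x t hx ih =>
      intro W hW hWc
      rw [Finset.sup_insert] at hW
      have hWs : W ≤ (W ⊓ U x) ⊔ (W ⊓ t.sup U) := by rw [← inf_sup_left]; exact le_inf le_rfl hW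
      have htc : IsCompact ((t.sup U : X.Opens) : Set X) := by
        clear ih hW hWs hx
        induction t using Finset.induction with
        | empty => simp
        | insert y t _ ih => rw [Finset.sup_insert, Opens.coe_sup]; exact (hU y).isCompact.union ih
      have h1 : IsCompact ((W ⊓ U x : X.Opens) : Set X) :=
        QuasiSeparatedSpace.inter_isCompact _ _ W.2 hWc (U x).2 (hU x).isCompact
      have h2 : IsCompact ((W ⊓ t.sup U : X.Opens) : Set X) :=
        QuasiSeparatedSpace.inter_isCompact _ _ W.2 hWc (t.sup U).2 htc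
      have h3 : IsCompact (((W ⊓ U x) ⊓ (W ⊓ t.sup U) : X.Opens) : Set X) :=
        QuasiSeparatedSpace.inter_isCompact _ _ (W ⊓ U x).2 h1 (W ⊓ t.sup U).2 h2
      obtain ⟨f, g, c, hT⟩ := exists_mv_triangle' (W ⊓ U x) (W ⊓ t.sup U) W inf_le_left inf_le_left hWs F
      exact prop_obj₃' hT (hbase x _ (inf_le_left.trans (inf_le_right.trans (hUV x))) h3)
        (prop_biprod' (hbase x _ (inf_le_right.trans (hUV x)) h1) (ih _ inf_le_right h2))
  have htop : ⊤ ≤ s.sup U := fun x _ => by
    obtain ⟨y, hy, hxy⟩ := Set.mem_iUnion₂.1 (hs (Set.mem_univ x))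
    exact (Finset.le_sup (f := U) hy) hxy
  refine prop_of_iso' ?_ (hsup s ⊤ htop (by simpa using isCompact_univ))
  haveI : IsIso ((NatTrans.mapHomologicalComplex (lshAdj (⊤ : X.Opens).ι).counit (ComplexShape.up ℤ)).app F) :=
    haveI : ∀ m, IsIso (((NatTrans.mapHomologicalComplex (lshAdj (⊤ : X.Opens).ι).counit
        (ComplexShape.up ℤ)).app F).f m) := fun m =>
      isIso_of_stalk _ fun x => isIso_stalk_lsh_counit ⊤ (F.X m) x trivial
    HomologicalComplex.Hom.isIso_of_components _
  exact DerivedCategory.Q.mapIso (asIso ((NatTrans.mapHomologicalComplex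
      (lshAdj (⊤ : X.Opens).ι).counit (ComplexShape.up ℤ)).app F) ≪≫
    (Functor.mapHomologicalComplexIdIso X.Modules (ComplexShape.up ℤ)).app F) ≪≫ eF

end Groth.Agent.PerfGen7
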