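import Groth.Agent.PerfGen7.TorAmpFibre
import Groth.Agent.KFlatLib.Ring.DualizingFlat
import Groth.Agent.S13888

/-!
# The dual of an object of finite Tor dimension has finite injective dimension, and conversely
-/

set_option linter.style.haveILetI false
set_option backward.isDefEq.respectTransparency false

universe u

open CategoryTheory CategoryTheory.Limits MonoidalCategory

attribute [local instance] HasDerivedCategory.standard

namespace Groth.Agent.PerfGen7

open Groth.Agent.KFlatLib Groth.Agent.H9Misc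

variable {A : Type u} [CommRing A] [DTen.HasLTen A] [DTen.HasRHom A] [IsNoetherianRing A]

/-- A dual of finite injective dimension forces finite Tor dimension. -/
theorem hasFiniteTorDimCx_of_dual {ω : Dual.D A} (hω : Dual.IsDualizing A ω) {G : Dual.D A} (g' : ℤ) [G.IsLE g']
    (hfin : ∀ i : ℤ, Module.Finite A (Dual.HD A G i))
    (h : DRing.HasFiniteInjDim A ((DTen.RHomR A G).obj ω)) : DRing.HasFiniteTorDimCx A G := by
  haveI := hasLTen₃ A
  haveI := isSymMonoidal A
  obtain ⟨c, d, hcd⟩ := finiteInjDim_of_isDualizing hω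
  haveI := isGE_of_injAmplitude hcd
  obtain ⟨p, q, hpq⟩ := h
  let D := (DTen.RHomR A G).obj ω
  haveI : D.IsGE p := isGE_of_injAmplitude hpq
  obtain ⟨eG⟩ := nonempty_biduality hω hfin
  refine ⟨c - (q - 0), d - (p - 0), hasTorAmplitudeIn_of_maximal (pc'_of_finite_hd G g' hfin) _ _
    fun m hm i hi => ?_⟩
  let N := Dual.inD A (A ⧸ m)
  have hN : DRing.IsPseudoCoherent' A N := (Groth.Agent.S6942.result A 0 ω (A ⧸ m)).2.2 inferInstance
  haveI := isIso_evalHom_of_pseudoCoherent N D ω hN p inferInstance ⟨c, d, hcd⟩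
  let X := (DTen.RHomR A N).obj D
  haveI : X.IsLE (q - 0) := isLE_RHomR N D 0 p q hpq
  haveI : X.IsGE (p - 0) := isGE_RHomR N D 0 p
  haveI : ((DTen.RHomR A X).obj ω).IsGE (c - (q - 0)) := isGE_RHomR X ω (q - 0) c
  haveI : ((DTen.RHomR A X).obj ω).IsLE (d - (p - 0)) := isLE_RHomR X ω (p - 0) c d hcd
  let e : (DTen.LTen₂ A).obj (G, N) ≅ (DTen.RHomR A X).obj ω :=
    (DTen.LTen₂ A).mapIso (Iso.prod eG.symm (Iso.refl N)) ≪≫ asIso (DTen.evalHom N D ω)
  refine IsZero.of_iso ?_ ((DerivedCategory.homologyFunctor (ModuleCat.{u} A) i).mapIso e)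
  rcases hi with hi | hi
  · exact DerivedCategory.isZero_of_isGE _ (c - (q - 0)) i hi
  · exact DerivedCategory.isZero_of_isLE _ (d - (p - 0)) i hi

omit [IsNoetherianRing A] in
/-- Finite Tor dimension gives a dual of finite injective dimension. -/
theorem hasFiniteInjDim_dual {ω : Dual.D A} (hω : Dual.IsDualizing A ω) {G : Dual.D A}
    (h : DRing.HasFiniteTorDimCx A G) : DRing.HasFiniteInjDim A ((DTen.RHomR A G).obj ω) := by
  haveI := hasLTen₃ A
  haveI := isSymMonoidal A
  obtain ⟨c, d, hcd⟩ := finiteInjDim_of_isDualizing hω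
  haveI := isGE_of_injAmplitude hcd
  obtain ⟨a, b, hab⟩ := h
  haveI : ∀ M : ModuleCat.{u} A, DRing.HasLTensor A M := DRingTor.hasLTensor
  rw [DRingTor.iff_ltensor] at hab
  refine ⟨c - b, d - a, ((DRingInjAmp.tfae _ (c - b) (d - a)).out 1 0).1 ?_⟩
  intro N instN₁ instN₂ i hi
  let N' := ModuleCat.of A N
  let X := (DTen.LTen₂ A).obj (Dual.inD A N, G)
  have hX : ∀ j : ℤ, (j < a ∨ b < j) →
      IsZero ((DerivedCategory.homologyFunctor (ModuleCat.{u} A) j).obj X) := fun j hj => by
    obtain ⟨t⟩ := nonempty_LTen_inD N' G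
    haveI := hab N' j hj
    exact (ModuleCat.isZero_of_subsingleton
      ((DerivedCategory.homologyFunctor (ModuleCat.{u} A) j).obj ((DRing.LTensor A N').obj G))).of_iso
      ((DerivedCategory.homologyFunctor (ModuleCat.{u} A) j).mapIso (t ≪≫ DTen.braiding _ _)).symm
  haveI : X.IsLE b := (DerivedCategory.isLE_iff _ _).2 fun j hj => hX j (Or.inr hj)
  haveI : X.IsGE a := (DerivedCategory.isGE_iff _ _).2 fun j hj => hX j (Or.inl hj)
  haveI : ((DTen.RHomR A X).obj ω).IsGE (c - b) := isGE_RHomR X ω b c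
  haveI : ((DTen.RHomR A X).obj ω).IsLE (d - a) := isLE_RHomR X ω a c d hcd
  haveI := Groth.Agent.S13888.result A (Dual.inD A N) G ω
  obtain ⟨e₁⟩ := exists_hdRHomShiftLEquiv (Dual.inD A N) ((DTen.RHomR A G).obj ω) i
  have hz : IsZero ((DerivedCategory.homologyFunctor (ModuleCat.{u} A) i).obj
      ((DTen.RHomR A (Dual.inD A N)).obj ((DTen.RHomR A G).obj ω))) := by
    refine IsZero.of_iso ?_ ((DerivedCategory.homologyFunctor (ModuleCat.{u} A) i).mapIso
      (asIso (DTen.curryHom (Dual.inD A N) G ω))).symm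
    rcases hi with hi | hi
    · exact DerivedCategory.isZero_of_isGE _ (c - b) i hi
    · exact DerivedCategory.isZero_of_isLE _ (d - a) i hi
  haveI := ModuleCat.subsingleton_of_isZero hz
  exact e₁.symm.injective.subsingleton

end Groth.Agent.PerfGen7
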