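import Groth.Agent.PerfGen7.TorAmpFibre
import Groth.Agent.PerfGen7.RankOne
import Groth.Agent.KFlatLib.Ring.EvalPerfect
import Mathlib.Algebra.Homology.DerivedCategory.KProjective

/-!
# Perfectness from maps to the residue fields
-/

set_option linter.style.haveILetI false
set_option backward.isDefEq.respectTransparency false

universe u

open CategoryTheory CategoryTheory.Limits MonoidalCategory

open scoped TensorProduct

attribute [local instance] HasDerivedCategory.standard

namespace Groth.Agent.PerfGen7.EquivPerfect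

open Groth.Agent.KFlatLib Groth.Agent.H9Misc

variable {A : Type u} [CommRing A]

/-- A splitting at `i` moves exactness at `i - 1` to every base change. -/
lemma exactAt_of_split_succ {B : Type u} [CommRing B] (φ : A →+* B) {E : DRing.Cx A} (i : ℤ)
    [Module.Projective A (E.X (i - 1))]
    (h : E.X i →ₗ[A] E.X (i - 1)) (r : E.X (i + 1) →ₗ[A] E.X i)
    (e : (E.d (i - 1) i).hom ∘ₗ h + r ∘ₗ (E.d i (i + 1)).hom = LinearMap.id)
    (hex : E.ExactAt (i - 1)) : ((DRingLTensor.extC' φ).obj E).ExactAt (i - 1) := by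
  rw [HomologicalComplex.exactAt_iff' _ (i - 2) (i - 1) i (by simp; omega) (by simp),
    ShortComplex.moduleCat_exact_iff] at hex ⊢
  letI := φ.toAlgebra
  let d₀ := (E.d (i - 2) (i - 1)).hom
  let d₁ := (E.d (i - 1) i).hom
  let π : E.X (i - 1) →ₗ[A] E.X (i - 1) := LinearMap.id - h ∘ₗ d₁
  have h21 : ∀ x, (E.d i (i + 1)).hom (d₁ x) = 0 := fun x => by
    rw [← LinearMap.comp_apply, ← ModuleCat.hom_comp, E.d_comp_d, ModuleCat.hom_zero, LinearMap.zero_apply]
  have hπ : ∀ x, π x ∈ LinearMap.range d₀ := fun x => by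
    refine hex (π x) ?_
    show d₁ (x - h (d₁ x)) = 0
    have he := LinearMap.congr_fun e (d₁ x)
    simp only [LinearMap.add_apply, LinearMap.comp_apply, LinearMap.id_apply, h21, map_zero, add_zero] at he
    rw [map_sub, show d₁ (h (d₁ x)) = d₁ x from he, sub_self]
  obtain ⟨σ, hσ⟩ := Module.projective_lifting_property d₀.rangeRestrict (π.codRestrict _ hπ)
    (LinearMap.surjective_rangeRestrict _)
  have hσ' : d₀ ∘ₗ σ = π := LinearMap.ext fun x => congrArg Subtype.val (LinearMap.congr_fun hσ x)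
  intro (y : B ⊗[A] E.X (i - 1)) hy
  replace hy : d₁.baseChange B y = 0 := hy
  refine ⟨σ.baseChange B y, ?_⟩
  change d₀.baseChange B (σ.baseChange B y) = y
  rw [← LinearMap.comp_apply, ← LinearMap.baseChange_comp, hσ']
  simp only [π, LinearMap.baseChange_sub, LinearMap.sub_apply, LinearMap.baseChange_comp,
    LinearMap.comp_apply, hy, map_zero, sub_zero, LinearMap.baseChange_id, LinearMap.id_apply]

/-- Flat base change keeps exactness. -/
lemma exactAt_extC_of_flat {B : Type u} [CommRing B] (φ : A →+* B) (hφ : φ.Flat) {E : DRing.Cx A} (i : ℤ)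
    (hex : E.ExactAt i) : ((DRingLTensor.extC' φ).obj E).ExactAt i := by
  letI := φ.toAlgebra
  haveI : Module.Flat A B := hφ
  rw [HomologicalComplex.exactAt_iff' _ (i - 1) i (i + 1) (by simp) (by simp),
    ShortComplex.ShortExact.moduleCat_exact_iff_function_exact] at hex ⊢
  exact Module.Flat.lTensor_exact B hex

/-- Below the range of cohomology, two adjacent spots are not both nonexact in a closed fibre. -/
lemma exactAt_fibre_of_succ {E : DRing.Cx A} (hE : DRing.TermwiseFiniteFree E) (m : Ideal A) [m.IsMaximal]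
    (i : ℤ) (hex : E.ExactAt (i - 1))
    (h : ((DRingLTensor.extC' (Ideal.Quotient.mk m)).obj E).ExactAt i) :
    ((DRingLTensor.extC' (Ideal.Quotient.mk m)).obj E).ExactAt (i - 1) := by
  letI : Field (A ⧸ m) := Ideal.Quotient.field m
  let B := Localization.AtPrime m
  let φ := algebraMap A B
  let ψ : B →+* A ⧸ m := IsLocalization.lift (M := m.primeCompl)
    (g := Ideal.Quotient.mk m) fun s => IsUnit.mk0 _ fun h0 => s.2 (Ideal.Quotient.eq_zero_iff_mem.1 h0)
  have hψ : ψ.comp φ = Ideal.Quotient.mk m := IsLocalization.lift_comp _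
  have hψs : Function.Surjective ψ := fun y => by
    obtain ⟨x, rfl⟩ := Ideal.Quotient.mk_surjective y
    exact ⟨φ x, RingHom.congr_fun hψ x⟩
  let E' := (DRingLTensor.extC' φ).obj E
  have hE' : DRing.TermwiseFiniteFree E' := fun n => DRingRestrict.finFree_extendScalars φ _ (hE n).1 (hE n).2
  letI := ψ.toAlgebra
  have hfib := DRingFibre.exact_of_extC (B := A ⧸ m) i ((DRingFibre.exactAt_extC_comp φ ψ _ hψ.symm i).2 h)
  haveI : (RingHom.ker ψ).IsMaximal := RingHom.ker_isMaximal_of_surjective ψ hψs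
  have hker : RingHom.ker ψ = IsLocalRing.maximalIdeal B := IsLocalRing.eq_maximalIdeal inferInstance
  let e : IsLocalRing.ResidueField B ≃ₗ[B] A ⧸ m :=
    (Submodule.quotEquivOfEq _ _ hker.symm).trans
      ((Algebra.linearMap B (A ⧸ m)).quotKerEquivOfSurjective hψs)
  let g : ∀ X : ModuleCat.{u} B, IsLocalRing.ResidueField B ⊗[B] X ≃ₗ[B] (A ⧸ m) ⊗[B] X :=
    fun X => TensorProduct.congr e (LinearEquiv.refl B X)
  have hn : ∀ {X Y : ModuleCat.{u} B} (d : X →ₗ[B] Y), d.lTensor (A ⧸ m) ∘ₗ (g X).toLinearMap =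
      (g Y).toLinearMap ∘ₗ d.lTensor (IsLocalRing.ResidueField B) := fun d =>
    TensorProduct.ext' fun a b => rfl
  have hexk := (Function.Exact.iff_of_ladder_linearEquiv (hn _) (hn _)).1 hfib
  haveI := (hE' i).1
  haveI := (hE' i).2
  haveI := (hE' (i + 1)).1
  haveI := (hE' (i + 1)).2
  haveI := (hE' (i - 1)).2
  obtain ⟨h', r, e'⟩ := DRingFibre.exists_splitting (E'.d (i - 1) i).hom (E'.d i (i + 1)).hom
    (by rw [← ModuleCat.hom_comp, E'.d_comp_d, ModuleCat.hom_zero]) hexk
  refine (DRingFibre.exactAt_extC_comp φ ψ _ hψ.symm (i - 1)).1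
    (exactAt_of_split_succ ψ i h' r e' (exactAt_extC_of_flat φ ?_ (i - 1) hex))
  exact RingHom.flat_algebraMap_iff.2 (IsLocalization.flat _ m.primeCompl)

/-- A nonexact spot in a closed fibre gives a map to the residue field. -/
lemma exists_hom_ne_zero {E : DRing.Cx A} (hE : DRing.TermwiseFiniteFree E) {b : ℤ}
    (hz : DRing.VanishesAbove E b) (m : Ideal A) [m.IsMaximal] (j : ℤ)
    (h : ¬ ((DRingLTensor.extC' (Ideal.Quotient.mk m)).obj E).ExactAt j) :
    ∃ f : DerivedCategory.Q.obj E ⟶
      (DerivedCategory.singleFunctor (ModuleCat.{u} A) j).obj (ModuleCat.of A (A ⧸ m)), f ≠ 0 := by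
  letI : Field (A ⧸ m) := Ideal.Quotient.field m
  let k := A ⧸ m
  rw [HomologicalComplex.exactAt_iff' _ (j - 1) j (j + 1) (by simp) (by simp),
    ShortComplex.moduleCat_exact_iff] at h
  push_neg at h
  obtain ⟨c, hc, hcne⟩ := h
  letI := (Ideal.Quotient.mk m).toAlgebra
  let c' : k ⊗[A] E.X j := c
  let d₀ := (E.d (j - 1) j).hom.baseChange k
  let d₁ := (E.d j (j + 1)).hom.baseChange k
  have hc1 : d₁ c' = 0 := hc
  have hc2 : c' ∉ LinearMap.range d₀ := fun ⟨x, hx⟩ => hcne x hx
  obtain ⟨ψ, hψc, hψ⟩ := Submodule.exists_dual_map_eq_bot_of_notMem hc2 inferInstance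
  let φ : E.X j →ₗ[A] k := (ψ.restrictScalars A) ∘ₗ (TensorProduct.mk A k (E.X j) 1)
  have hφd : ∀ x, φ ((E.d (j - 1) j).hom x) = 0 := fun x => by
    have hx : ψ (d₀ ((1 : k) ⊗ₜ[A] x)) ∈ (LinearMap.range d₀).map ψ := ⟨_, ⟨_, rfl⟩, rfl⟩
    rw [hψ, Submodule.mem_bot] at hx
    exact hx
  have hrel : ∀ i, (ComplexShape.up ℤ).Rel i j → E.d i j ≫ ModuleCat.ofHom φ = 0 := fun i hi => by
    obtain rfl : i = j - 1 := by
      change i + 1 = j at hi
      omega
    exact ModuleCat.hom_ext (LinearMap.ext hφd)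
  let f := HomologicalComplex.mkHomToSingle (c := ComplexShape.up ℤ) (ModuleCat.ofHom φ) hrel
  refine ⟨DerivedCategory.Q.map f ≫
    ((DerivedCategory.singleFunctorIsoCompQ (ModuleCat.{u} A) j).app (ModuleCat.of A k)).inv, fun hf => ?_⟩
  have hf0 : DerivedCategory.Q.map f = 0 := by
    rw [← cancel_mono ((DerivedCategory.singleFunctorIsoCompQ (ModuleCat.{u} A) j).app (ModuleCat.of A k)).inv, hf,
      zero_comp]
  haveI : CochainComplex.IsStrictlyLE E b := (CochainComplex.isStrictlyLE_iff _ _).2 fun i hi => hz i hi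
  haveI : ∀ n, CategoryTheory.Projective (E.X n) := fun n => by
    haveI := (hE n).2
    exact (IsProjective.iff_projective (E.X n)).1 inferInstance
  haveI := CochainComplex.isKProjective_of_projective E b
  have hq : (HomotopyCategory.quotient (ModuleCat.{u} A) (ComplexShape.up ℤ)).map f = 0 := by
    refine (CochainComplex.IsKProjective.Qh_map_bijective _ _).1 ?_
    have := NatIso.naturality_2 (DerivedCategory.quotientCompQhIso (ModuleCat.{u} A)) f
    rw [Functor.map_zero]
    change (HomotopyCategory.quotient (ModuleCat.{u} A) (ComplexShape.up ℤ) ⋙ DerivedCategory.Qh).map f = 0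
    rw [← this, hf0, zero_comp, comp_zero]
  let H : Homotopy f 0 := HomotopyCategory.homotopyOfEq _ _ (hq.trans (Functor.map_zero _ _ _).symm)
  let e₀ := HomologicalComplex.singleObjXSelf (ComplexShape.up ℤ) j (ModuleCat.of A k)
  let η : E.X (j + 1) →ₗ[A] k := (H.hom (j + 1) j ≫ e₀.hom).hom
  have hη : φ = η ∘ₗ (E.d j (j + 1)).hom := by
    have hcomm := H.comm j
    rw [dNext_eq _ (show (ComplexShape.up ℤ).Rel j (j + 1) from rfl),
      prevD_eq _ (show (ComplexShape.up ℤ).Rel (j - 1) j from sub_add_cancel j 1)] at hcomm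
    simp only [HomologicalComplex.zero_f, add_zero, HomologicalComplex.single_obj_d, comp_zero] at hcomm
    have hfj : f.f j = ModuleCat.ofHom φ ≫ e₀.inv := HomologicalComplex.mkHomToSingle_f _ _
    rw [hfj] at hcomm
    have h2 : ModuleCat.ofHom φ = E.d j (j + 1) ≫ H.hom (j + 1) j ≫ e₀.hom := by
      rw [← Category.assoc, ← hcomm, Category.assoc, e₀.inv_hom_id, Category.comp_id]
    exact congrArg ModuleCat.Hom.hom h2
  apply hψc
  have hψ' : ψ = (η.liftBaseChange k) ∘ₗ d₁ := by
    refine TensorProduct.AlgebraTensorModule.ext fun a x => ?_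
    rw [LinearMap.comp_apply, LinearMap.baseChange_tmul, LinearMap.liftBaseChange_tmul,
      ← LinearMap.comp_apply η, ← hη]
    have ha : a ⊗ₜ[A] x = a • ((1 : k) ⊗ₜ[A] x) := by rw [TensorProduct.smul_tmul', smul_eq_mul, mul_one]
    rw [ha, map_smul]
    rfl
  rw [hψ', LinearMap.comp_apply, hc1, map_zero]

/-- A complex with finite bounded cohomology seen by each residue field in one degree is perfect. -/
theorem isPerfect_of_hom_residue [IsNoetherianRing A] [DTen.HasLTen A] (L : Dual.D A) (a b : ℤ) [L.IsGE a]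
    [L.IsLE b] (hfin : ∀ i : ℤ, Module.Finite A (Dual.HD A L i))
    (h : ∀ m : Ideal A, m.IsMaximal → ∃ t : ℤ, ∀ j : ℤ, j ≠ t →
      Subsingleton (L ⟶ (DerivedCategory.singleFunctor (ModuleCat.{u} A) j).obj (ModuleCat.of A (A ⧸ m)))) :
    DRing.IsPerfect A L := by
  haveI := hasRHom (A := A)
  have hpc := pc'_of_finite_hd L b hfin
  obtain ⟨E, b₀, hz, hE, ⟨e⟩⟩ := id hpc
  refine DRingFibre.isPerfect_of_amp hpc (a := a) (b := b₀) ?_
  obtain ⟨P, hP₁, hP₂, ⟨eP⟩⟩ := DRingFibre.amp_of_fibres hE hz a b₀ fun m hm i hi => by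
    rcases hi with hi | hi
    · by_contra hne
      obtain ⟨t, ht⟩ := h m inferInstance
      have key : ∀ j, ¬ ((DRingLTensor.extC' (Ideal.Quotient.mk m)).obj E).ExactAt j → j = t := fun j hj => by
        by_contra hjt
        obtain ⟨f, hf⟩ := exists_hom_ne_zero hE hz m j hj
        haveI := ht j hjt
        exact hf ((cancel_epi e.inv).1 (Subsingleton.elim _ _))
      have h1 : i = t := key i hne
      have h2 : ((DRingLTensor.extC' (Ideal.Quotient.mk m)).obj E).ExactAt (i + 1) := by
        by_contra hne'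
        have := key (i + 1) hne'
        omega
      have hex : E.ExactAt i := by
        rw [HomologicalComplex.exactAt_iff_isZero_homology]
        exact (DerivedCategory.isZero_of_isGE L a i hi).of_iso
          (((DerivedCategory.homologyFunctorFactors (ModuleCat.{u} A) i).app E).symm ≪≫
            (DerivedCategory.homologyFunctor (ModuleCat.{u} A) i).mapIso e)
      refine hne ?_
      have := exactAt_fibre_of_succ hE m (i + 1) (by rwa [add_sub_cancel_right]) h2
      rwa [add_sub_cancel_right] at this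
    · rw [HomologicalComplex.exactAt_iff' _ (i - 1) i (i + 1) (by simp) (by simp)]
      exact ShortComplex.exact_of_isZero_X₂ _ ((ModuleCat.extendScalars _).map_isZero (hz i hi))
  exact ⟨P, hP₁, hP₂, ⟨eP ≪≫ e⟩⟩

end Groth.Agent.PerfGen7.EquivPerfect
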