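import Groth.Agent.PerfGen7.GorFibre
import Groth.Agent.QFD.Invert
import Groth.Agent.KFlatLib.Ring.DualizingLocalExt
import Groth.Agent.KFlatLib.Ring.LocalInvertible

/-!
# `Ext` into the polynomial ring and the Gorenstein fibres
-/

set_option linter.style.haveILetI false
set_option backward.isDefEq.respectTransparency false

universe u

open CategoryTheory CategoryTheory.Limits

open scoped TensorProduct

attribute [local instance] HasDerivedCategory.standard

namespace Groth.Agent.PerfGen7.ExtFibre

open Groth.Agent.KFlatLib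

variable {P : Type u} [CommRing P] (I : Ideal P)

/-- The cohomology of the shriek of the ring along a quotient is `Ext` out of the quotient. -/
lemma exists_hd_equiv {R : Dual.D P ⥤ Dual.D (P ⧸ I)} (a : DRing.restrictD (Ideal.Quotient.mk I) ⊣ R) (j : ℕ) :
    ∃ e : Dual.HD (P ⧸ I) (R.obj (DTen.unit P)) j ≃+
        Abelian.Ext (ModuleCat.of P (P ⧸ I)) (ModuleCat.of P P) j,
      ∀ (p : P) x, e (Ideal.Quotient.mk I p • x) = p • e x := by
  let B := P ⧸ I
  let φ : P →+* B := Ideal.Quotient.mk I
  obtain ⟨e₁⟩ := exists_homRingLEquiv (R.obj (DTen.unit P)) (j : ℤ)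
  obtain ⟨e₂, hadd, hsmul⟩ := exists_shriekHomEquiv φ R a (Dual.inD B B) (DTen.unit P) (j : ℤ)
  let eM : (ModuleCat.restrictScalars φ).obj (ModuleCat.of B B) ≅ ModuleCat.of P B :=
    LinearEquiv.toModuleIso (m₁ := ((ModuleCat.restrictScalars φ).obj (ModuleCat.of B B)).isModule)
      { toFun := fun x => x
        invFun := fun x => x
        left_inv := fun _ => rfl
        right_inv := fun _ => rfl
        map_add' := fun _ _ => rfl
        map_smul' := fun p (x : B) => (Algebra.smul_def p x).symm }
  let c := Linear.homCongr P (H9Misc.DRingRestrict.restrictInDIso φ (ModuleCat.of B B) ≪≫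
    (DerivedCategory.singleFunctor (ModuleCat.{u} P) 0).mapIso eM)
    ((shiftFunctor (Dual.D P) (j : ℤ)).mapIso (RankOne.unitIso P).symm)
  let h : Abelian.Ext (ModuleCat.of P B) (ModuleCat.of P P) j ≃ₗ[P] (Dual.inD P B ⟶ (Dual.inD P P)⟦(j : ℤ)⟧) :=
    Abelian.Ext.homLinearEquiv
  refine ⟨{ toEquiv := e₁.symm.toEquiv.trans (e₂.trans (c.toEquiv.trans h.symm.toEquiv)),
            map_add' := fun x y => ?_ }, fun p x => ?_⟩
  · change h.symm (c (e₂ (e₁.symm (x + y)))) = _
    rw [map_add e₁.symm, hadd, map_add c, map_add h.symm]; rfl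
  · change h.symm (c (e₂ (e₁.symm (φ p • x)))) = _
    rw [map_smul e₁.symm, hsmul, map_smul c, map_smul h.symm]; rfl

/-- A complex in one degree is locally the shifted ring iff its cohomology is invertible. -/
theorem invertible_iff_rankOne {B : Type u} [CommRing B] [IsNoetherianRing B] (W : Dual.D B) (x y d : ℤ)
    [W.IsGE x] [W.IsLE y] (hfin : ∀ i : ℤ, Module.Finite B (Dual.HD B W i))
    (hzW : ∀ j : ℤ, j ≠ d → Subsingleton (Dual.HD B W j)) :
    Module.Invertible B (Dual.HD B W d) ↔
      ∀ q : PrimeSpectrum B, ∃ (f : B) (_ : f ∉ q.asIdeal) (m : ℤ),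
        ∀ [DTen.HasLBase (algebraMap B (Localization.Away f))],
          Nonempty ((DTen.LBase (algebraMap B (Localization.Away f))).obj W ≅ (DTen.unit _)⟦m⟧) := by
  constructor
  · intro hM q
    let B' := Localization.AtPrime q.asIdeal
    haveI := hasLBase (algebraMap B B')
    haveI : Module.Flat B B' := IsLocalization.flat B' q.asIdeal.primeCompl
    obtain ⟨i⟩ : Nonempty (B' ⊗[B] (Dual.HD B W d) ≃ₗ[B'] B') :=
      Module.Invertible.free_iff_linearEquiv.1 inferInstance
    have hW : Nonempty ((DTen.LBase (algebraMap B B')).obj W ≅ (DTen.unit B')⟦-d⟧) := by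
      obtain ⟨e⟩ := exists_hdLBaseLEquiv (B := B') W d
      refine RankOne.iso_of_hd _ (-d) (fun j hj => ?_) ?_
      · obtain ⟨e'⟩ := exists_hdLBaseLEquiv (B := B') W j
        haveI := hzW j (by omega)
        exact e'.injective.subsingleton
      · rw [neg_neg]
        exact e.trans i
    obtain ⟨f, hf, hh⟩ := RankOne.exists_away W x y hfin q.asIdeal hW
    exact ⟨f, hf, -d, fun {_} => hh⟩
  · intro h
    haveI := hfin d
    haveI := Module.finitePresentation_of_finite B (Dual.HD B W d)
    refine QFD.invertible_of_forall_maximal fun Q _ => ?_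
    let B' := Localization.AtPrime Q
    haveI := hasLBase (algebraMap B B')
    haveI : Module.Flat B B' := IsLocalization.flat B' Q.primeCompl
    obtain ⟨f, hf, m, hm⟩ := h ⟨Q, inferInstance⟩
    haveI := hasLBase (algebraMap B (Localization.Away f))
    have hu : IsUnit (algebraMap B B' f) := IsLocalization.map_units B' (⟨f, hf⟩ : Q.primeCompl)
    obtain ⟨w⟩ := RankOne.transport _ (IsLocalization.Away.lift f hu) (algebraMap B B')
      (IsLocalization.Away.lift_comp f hu) hm
    let w' := w ≪≫ (shiftFunctor _ m).mapIso (RankOne.unitIso B').symm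
    obtain ⟨-, ⟨e₁⟩⟩ := GorLocus.exists_hd_shift_inD (B := B') B' m
    have hmd : -m = d := by
      by_contra hne
      obtain ⟨e'⟩ := exists_hdLBaseLEquiv (B := B') W (-m)
      haveI := hzW (-m) hne
      haveI : Subsingleton (Dual.HD B' ((Dual.inD B' B')⟦m⟧) (-m)) :=
        haveI : Subsingleton (Dual.HD B' ((DTen.LBase (algebraMap B B')).obj W) (-m)) := e'.injective.subsingleton
        ((DerivedCategory.homologyFunctor (ModuleCat.{u} B') (-m)).mapIso w').toLinearEquiv.symm.toEquiv.subsingleton
      exact not_subsingleton B' e₁.symm.toEquiv.subsingleton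
    obtain ⟨e⟩ := exists_hdLBaseLEquiv (B := B') W d
    rw [← hmd] at e ⊢
    exact ⟨e.symm.trans ((((DerivedCategory.homologyFunctor (ModuleCat.{u} B') (-m)).mapIso w').toLinearEquiv).trans e₁)⟩

/-- The relative dualizing complex of a flat quotient of a polynomial ring with `Ext` in one degree is
locally free of rank one in that degree exactly when the fibres are Gorenstein. -/
theorem invertible_ext_iff {A : Type u} [CommRing A] [IsNoetherianRing A] (N c : ℕ)
    (I : Ideal (MvPolynomial (Fin N) A)) [Module.Flat A (MvPolynomial (Fin N) A ⧸ I)]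
    (hvan : ∀ j : ℕ, j ≠ c → Subsingleton (Abelian.Ext
      (ModuleCat.of (MvPolynomial (Fin N) A) (MvPolynomial (Fin N) A ⧸ I))
      (ModuleCat.of (MvPolynomial (Fin N) A) (MvPolynomial (Fin N) A)) j)) :
    (∃ (L : Type u) (_ : AddCommGroup L) (_ : Module (MvPolynomial (Fin N) A ⧸ I) L),
      Module.Invertible (MvPolynomial (Fin N) A ⧸ I) L ∧
      Nonempty (RestrictScalars (MvPolynomial (Fin N) A) (MvPolynomial (Fin N) A ⧸ I) L ≃ₗ[MvPolynomial (Fin N) A]
        Abelian.Ext (ModuleCat.of (MvPolynomial (Fin N) A) (MvPolynomial (Fin N) A ⧸ I))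
          (ModuleCat.of (MvPolynomial (Fin N) A) (MvPolynomial (Fin N) A)) c)) ↔
    ∀ p : PrimeSpectrum A, LocCoh.IsGorensteinRing ((MvPolynomial (Fin N) A ⧸ I) ⊗[A] p.asIdeal.ResidueField) := by
  let P := MvPolynomial (Fin N) A
  let B := P ⧸ I
  let φ : P →+* B := Ideal.Quotient.mk I
  have hR : φ.comp MvPolynomial.C = algebraMap A B := RingHom.ext fun _ => rfl
  obtain ⟨R, ⟨a⟩⟩ := exists_shriek φ
  let W₀ := R.obj (DTen.unit P)
  let W := W₀⟦(N : ℤ)⟧
  obtain ⟨⟨x, y, hxy⟩, hfin⟩ := bounded_finite_shriek_unit φ Ideal.Quotient.mk_surjective hR a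
  haveI : W.IsLE y := (DerivedCategory.isLE_iff _ _).2 fun i hi =>
    @ModuleCat.isZero_of_subsingleton _ _ _ (hxy i (Or.inr hi))
  haveI : W.IsGE x := (DerivedCategory.isGE_iff _ _).2 fun i hi =>
    @ModuleCat.isZero_of_subsingleton _ _ _ (hxy i (Or.inl hi))
  have hz : ∀ j : ℤ, j ≠ (c : ℤ) → Subsingleton (Dual.HD B W₀ j) := fun j hj => by
    by_cases h0 : 0 ≤ j
    · obtain ⟨k, rfl⟩ := Int.eq_ofNat_of_zero_le h0
      obtain ⟨e, -⟩ := exists_hd_equiv I a k
      haveI := hvan k (by omega)
      exact e.injective.subsingleton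
    · haveI : DerivedCategory.IsGE (DTen.unit P) 0 := (unit_bounds (A := P)).2.1
      haveI : W₀.IsGE 0 := isGE_shriek φ R a (DTen.unit P) 0
      exact ModuleCat.subsingleton_of_isZero (DerivedCategory.isZero_of_isGE W₀ 0 j (by omega))
  let M := Dual.HD B W₀ (c : ℤ)
  obtain ⟨eE, heE⟩ := exists_hd_equiv I a c
  let d : ℤ := (c : ℤ) - N
  obtain ⟨eM⟩ : Nonempty (Dual.HD B W d ≃ₗ[B] M) := exists_hdShiftLEquiv W₀ (N : ℤ) d (c : ℤ) (by omega)
  have hzW : ∀ j : ℤ, j ≠ d → Subsingleton (Dual.HD B W j) := fun j hj => by
    obtain ⟨e⟩ := exists_hdShiftLEquiv W₀ (N : ℤ) j (N + j) rfl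
    haveI := hz (N + j) (by omega)
    exact e.injective.subsingleton
  rw [GorFibre.gorenstein_fibres_iff φ Ideal.Quotient.mk_surjective hR a]
  refine Iff.trans ?_ (invertible_iff_rankOne W x y d hfin hzW)
  constructor
  · rintro ⟨L, _, _, hL, ⟨θ⟩⟩
    let σ : L ≃ₗ[B] M :=
      { toFun := fun l => eE.symm (θ ((RestrictScalars.addEquiv P B L).symm l))
        invFun := fun m => RestrictScalars.addEquiv P B L (θ.symm (eE m))
        left_inv := fun l => by simp
        right_inv := fun m => by simp
        map_add' := fun l l' => by simp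
        map_smul' := fun b l => by
          obtain ⟨p, rfl⟩ := Ideal.Quotient.mk_surjective b
          apply eE.injective
          rw [RingHom.id_apply, heE, AddEquiv.apply_symm_apply, AddEquiv.apply_symm_apply, ← map_smul θ]
          rfl }
    exact Module.Invertible.congr (σ.trans eM.symm)
  · intro hM
    haveI : Module.Invertible B M := Module.Invertible.congr eM
    refine ⟨M, inferInstance, inferInstance, inferInstance, ⟨{ toFun := fun m => eE (RestrictScalars.addEquiv P B M m)
                                                               invFun := fun z => (RestrictScalars.addEquiv P B M).symm (eE.symm z)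
                                                               left_inv := fun m => by simp
                                                               right_inv := fun z => by simp
                                                               map_add' := fun m m' => by simp
                                                               map_smul' := fun p m => ?_ }⟩⟩
    rw [RingHom.id_apply]
    exact (congrArg eE (rfl : RestrictScalars.addEquiv P B M (p • m) = φ p • RestrictScalars.addEquiv P B M m)).trans (heE p _)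

end Groth.Agent.PerfGen7.ExtFibre
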