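import Groth.Agent.LC.ExtDim
import Groth.Agent.LC.DepthExt
import Groth.Agent.LC.GorLoc
import Groth.Agent.KFlatLib.Ring.KerDepth
import Groth.Agent.Alg6.LocLoc

/-!
# The first `Ext` into a Cohen–Macaulay ring satisfies `(S₂)`
-/

set_option autoImplicit false
set_option linter.style.haveILetI false
set_option backward.isDefEq.respectTransparency false

universe u

open CategoryTheory IsLocalRing RingTheory.Sequence

namespace Groth.Agent.PerfGen7.ExtS2

variable {R : Type u} [CommRing R]

/-- The connecting isomorphism of multiplication by an element killing the source. -/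
theorem exists_extShift (N : ModuleCat.{u} R) (M : Type u) [AddCommGroup M] [Module R M] {x : R}
    (hreg : IsSMulRegular M x) (hx : x • 𝟙 N = 0) (k : ℕ)
    (h0 : Subsingleton (Abelian.Ext N (ModuleCat.of R M) k)) :
    Nonempty (Abelian.Ext N (ModuleCat.of R (QuotSMulTop x M)) k ≃ₗ[R]
      Abelian.Ext N (ModuleCat.of R M) (k + 1)) := by
  have hS := IsSMulRegular.smulShortComplex_shortExact (M := ModuleCat.of R M) hreg
  let δ : Abelian.Ext N (ModuleCat.of R (QuotSMulTop x M)) k →ₗ[R] Abelian.Ext N (ModuleCat.of R M) (k + 1) :=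
    { toFun := fun y => y.comp hS.extClass rfl
      map_add' := fun a b => Abelian.Ext.add_comp _ _ _ _
      map_smul' := fun r a => Abelian.Ext.smul_comp _ _ _ _ }
  refine ⟨LinearEquiv.ofBijective δ ⟨(injective_iff_map_eq_zero δ).2 fun z hz => ?_, fun z => ?_⟩⟩
  · obtain ⟨y, hy⟩ := Abelian.Ext.covariant_sequence_exact₃ N hS (n₁ := k + 1) z rfl hz
    rw [← hy, show y = 0 from Subsingleton.elim (α := Abelian.Ext N (ModuleCat.of R M) k) _ _,
      Abelian.Ext.zero_comp]
  · have h1 : z.comp (Abelian.Ext.mk₀ (x • 𝟙 (ModuleCat.of R M))) (add_zero (k + 1)) = 0 := by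
      rw [← Abelian.Ext.smul_eq_comp_mk₀,
        show x • z = (Abelian.Ext.mk₀ (x • 𝟙 N)).comp z (zero_add (k + 1)) by
          rw [Abelian.Ext.mk₀_smul, Abelian.Ext.smul_comp, Abelian.Ext.mk₀_id_comp],
        hx, Abelian.Ext.mk₀_zero, Abelian.Ext.zero_comp]
    exact Abelian.Ext.covariant_sequence_exact₁ N hS z (n₀ := k) (by
      rw [ModuleCat.smulShortComplex_f_eq_smul_id]; exact h1) rfl

variable [IsNoetherianRing R]

/-- `Ext` at the length of a regular sequence in the ideal is a module of maps into the quotient. -/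
theorem exists_ext_hom (J : Ideal R) : ∀ (rs : List R) (M : Type u) [AddCommGroup M] [Module R M]
    [Module.Finite R M], IsWeaklyRegular M rs → (∀ r ∈ rs, r ∈ J) →
      Nonempty (Abelian.Ext (ModuleCat.of R (R ⧸ J)) (ModuleCat.of R M) rs.length ≃ₗ[R]
        ((R ⧸ J) →ₗ[R] (M ⧸ (Ideal.ofList rs • ⊤ : Submodule R M)))) := by
  intro rs
  induction rs with
  | nil =>
    intro M _ _ _ _ _
    let q : (M ⧸ (Ideal.ofList ([] : List R) • ⊤ : Submodule R M)) ≃ₗ[R] M :=
      Submodule.quotEquivOfEqBot _ (by simp)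
    exact ⟨(Abelian.Ext.linearEquiv₀.trans ModuleCat.homLinearEquiv :
      Abelian.Ext (ModuleCat.of R (R ⧸ J)) (ModuleCat.of R M) 0 ≃ₗ[R] ((R ⧸ J) →ₗ[R] M)).trans
      (LinearEquiv.congrRight q.symm)⟩
  | cons r rs ih =>
    intro M _ _ _ hreg hmem
    rw [isWeaklyRegular_cons_iff] at hreg
    have hmem' : ∀ s ∈ rs, s ∈ J := fun s hs => hmem s (List.mem_cons_of_mem r hs)
    obtain ⟨e⟩ := ih (QuotSMulTop r M) hreg.2 hmem'
    have hr : r • 𝟙 (ModuleCat.of R (R ⧸ J)) = 0 := by
      refine ModuleCat.hom_ext (LinearMap.ext fun q => ?_)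
      obtain ⟨q, rfl⟩ := Ideal.Quotient.mk_surjective q
      show r • Ideal.Quotient.mk J q = 0
      rw [Algebra.smul_def, Ideal.Quotient.algebraMap_eq, ← map_mul,
        Ideal.Quotient.eq_zero_iff_mem.2 (Ideal.mul_mem_right _ _ (hmem r List.mem_cons_self))]
    have hlow : Subsingleton (Abelian.Ext (ModuleCat.of R (R ⧸ J)) (ModuleCat.of R M) rs.length) :=
      (LC.le_idealDepth_iff_ext J M (rs.length + 1)).1
        (Alg6.length_le_idealDepth (rs := r :: rs) (isWeaklyRegular_cons_iff M r rs |>.2 hreg) hmem)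
        rs.length (Nat.lt_succ_self _)
    obtain ⟨δ⟩ := exists_extShift (ModuleCat.of R (R ⧸ J)) M hreg.1 hr rs.length hlow
    exact ⟨δ.symm.trans (e.trans
      (LinearEquiv.congrRight (Submodule.quotOfListConsSMulTopEquivQuotSMulTopInner M r rs).symm))⟩

/-- Over a Cohen–Macaulay local ring the first `Ext` of a cyclic module into the ring has depth at least two,
or its dimension. -/
theorem skTwo_ext [IsLocalRing R] (hCM : LocCoh.IsCohenMacaulayModule R R) (J : Ideal R) (c : ℕ)
    (hc : (c : ℕ∞) ≤ LocCoh.idealDepth J R) :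
    min (2 : WithBot ℕ∞) (Module.supportDim R (Abelian.Ext (ModuleCat.of R (R ⧸ J)) (ModuleCat.of R R) c)) ≤
      ((LocCoh.depth R (Abelian.Ext (ModuleCat.of R (R ⧸ J)) (ModuleCat.of R R) c) : ℕ∞) : WithBot ℕ∞) := by
  let T₀ := Abelian.Ext (ModuleCat.of R (R ⧸ J)) (ModuleCat.of R R) c
  by_cases hJ : J = ⊤
  · subst hJ
    haveI : Subsingleton T₀ := by
      refine subsingleton_of_forall_eq 0 fun x => ?_
      rw [← Abelian.Ext.mk₀_id_comp x, show 𝟙 (ModuleCat.of R (R ⧸ (⊤ : Ideal R))) = 0 from
        ModuleCat.hom_ext (LinearMap.ext fun q => @Subsingleton.elim _ (Ideal.Quotient.subsingleton_iff.2 rfl) _ _),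
        Abelian.Ext.mk₀_zero, Abelian.Ext.zero_comp]
    rw [Module.supportDim_eq_bot_of_subsingleton]
    simp
  have hJne : J • (⊤ : Submodule R R) ≠ ⊤ := by simpa using hJ
  obtain ⟨rs₀, hreg₀, hmem₀, hlen₀⟩ := Alg6.exists_length_ge_of_le_idealDepth hJne hc
  let rs := rs₀.take c
  have hlen : rs.length = c := by rw [List.length_take]; omega
  have hreg : IsWeaklyRegular R rs := by
    have := hreg₀
    rw [← List.take_append_drop c rs₀, isWeaklyRegular_append_iff] at this
    exact this.1
  have hmem : ∀ r ∈ rs, r ∈ J := fun r hr => hmem₀ r (List.mem_of_mem_take hr)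
  have hJm : J ≤ maximalIdeal R := le_maximalIdeal hJ
  let C := R ⧸ (Ideal.ofList rs • ⊤ : Submodule R R)
  obtain ⟨e⟩ := exists_ext_hom J rs R hreg hmem
  rw [hlen] at e
  let T := (R ⧸ J) →ₗ[R] C
  let ev : T →ₗ[R] C := LinearMap.applyₗ (Ideal.Quotient.mk J 1)
  have hev : Function.Injective ev := fun f g h => LinearMap.ext fun q => by
    obtain ⟨q, rfl⟩ := Ideal.Quotient.mk_surjective q
    rw [show Ideal.Quotient.mk J q = q • Ideal.Quotient.mk J 1 by
      rw [Algebra.smul_def, Ideal.Quotient.algebraMap_eq, ← map_mul, mul_one], map_smul, map_smul]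
    exact congrArg (q • ·) h
  haveI : Module.Finite R T := Module.Finite.of_injective ev hev
  haveI : Module.Finite R T₀ := Module.Finite.equiv e.symm
  have hC : LocCoh.IsCohenMacaulayModule R C := LC.isCM_quot_ofList R hCM hreg fun r hr => hJm (hmem r hr)
  haveI := LC.nontrivial_of_isCM C hC
  obtain ⟨D, hD⟩ := LC.exists_depth_eq_nat (R := R) C
  rw [Module.supportDim_eq_of_equiv e, show LocCoh.depth R T₀ = LocCoh.idealDepth (maximalIdeal R) T from
    LC.idealDepth_congr (maximalIdeal R) e]
  have hdim : Module.supportDim R T ≤ ((D : ℕ∞) : WithBot ℕ∞) := by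
    refine (Module.supportDim_le_of_injective ev hev).trans ?_
    rw [hC, hD]
  have hD' : LocCoh.idealDepth (maximalIdeal R) C = (D : ℕ∞) := hD
  rcases D with _ | _ | D
  · exact (min_le_right _ _).trans (hdim.trans (WithBot.coe_le_coe.2 (zero_le)))
  · exact (min_le_right _ _).trans (hdim.trans (WithBot.coe_le_coe.2
      (KFlatLib.le_idealDepth_of_injective _ ev hev hD'.ge)))
  · refine (min_le_left _ _).trans (WithBot.coe_le_coe.2 ?_)
    obtain ⟨m, g, hg⟩ := Submodule.fg_iff_exists_fin_generating_family.1 (IsNoetherian.noetherian J)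
    let v : C →ₗ[R] (Fin m → C) := LinearMap.pi fun i => g i • LinearMap.id
    have hex : Function.Exact ev v := fun z => by
      constructor
      · intro hz
        have hle : J ≤ LinearMap.ker (LinearMap.toSpanSingleton R C z) := by
          rw [← hg, Submodule.span_le]
          rintro _ ⟨i, rfl⟩
          exact congrFun hz i
        refine ⟨J.liftQ (LinearMap.toSpanSingleton R C z) hle, ?_⟩
        exact one_smul R z
      · rintro ⟨f, rfl⟩
        funext i
        show g i • f (Ideal.Quotient.mk J 1) = 0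
        have hgi : g i ∈ J := hg.le (Submodule.subset_span ⟨i, rfl⟩)
        have h0 : g i • Ideal.Quotient.mk J 1 = 0 := by
          rw [map_one, Algebra.smul_def, mul_one]
          exact Ideal.Quotient.eq_zero_iff_mem.2 hgi
        exact ((f.map_smul (g i) _).symm.trans (congrArg f h0)).trans f.map_zero
    have hC2 : 2 ≤ LocCoh.idealDepth (maximalIdeal R) C := by
      rw [hD']; exact_mod_cast (by omega : 2 ≤ D + 1 + 1)
    refine KFlatLib.two_le_idealDepth_of_exact _ ev v hev hex hC2 ?_
    obtain ⟨ys, hys, hys', hys''⟩ := Alg6.exists_length_ge_of_le_idealDepth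
      (LC.smul_top_ne_top_of_le_maximal le_rfl) (n := 1) (le_trans (by norm_num) hC2)
    rcases ys with _ | ⟨y, ys⟩
    · simp at hys''
    rw [isWeaklyRegular_cons_iff] at hys
    have h1 : IsWeaklyRegular (Fin m → C) [y] :=
      (isWeaklyRegular_cons_iff _ _ _).2 ⟨fun a b hab => funext fun i => hys.1 (congrFun hab i),
        IsWeaklyRegular.nil R _⟩
    simpa using Alg6.length_le_idealDepth h1 (I := maximalIdeal R) (by simpa using hys' y List.mem_cons_self)

end Groth.Agent.PerfGen7.ExtS2
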