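import Groth.Agent.PerfGen7.FlatOverTensor
import Groth.Agent.KFlatLib.Scheme.QCohTensor
import Groth.Agent.QCoh.DevissageSum
import Groth.Agent.KFlatLib.Scheme.ProjModule

/-!
# Perfect objects tensored with a coherent module
-/

set_option linter.style.haveILetI false
set_option backward.isDefEq.respectTransparency false

universe u

open CategoryTheory CategoryTheory.Limits AlgebraicGeometry

attribute [local instance] HasDerivedCategory.standard

namespace Groth.Agent.PerfGen7

open Groth.Agent.KFlatLib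

variable {X : Scheme.{u}}

/-- `Oⁿ ⊗ G` is coherent. -/
lemma isCoh_free_tensor [IsLocallyNoetherian X] {G : X.Modules} (hG : Coh.IsCoh G) (n : ℕ) :
    Coh.IsCoh ((DCoh.tensorRightMod G).obj (FlatMod.freeMod X n)) := by
  haveI : ∀ M : X.Modules, PreservesColimitsOfShape (Discrete (Fin n)) (DCoh.tensorBi.obj M) :=
    fun M => inferInstance
  haveI : HasFiniteBiproducts X.Modules := HasFiniteBiproducts.of_hasFiniteProducts
  refine isCoh_of_iso ?_ (QCoh.isCoh_biproduct (fun _ : ULift.{u} (Fin n) => G) fun _ => hG)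
  exact biproduct.isoCoproduct _ ≪≫ Sigma.whiskerEquiv (f := fun _ : ULift.{u} (Fin n) => G) (g := fun _ : Fin n => G) Equiv.ulift (fun _ => Iso.refl _) ≪≫
    (Sigma.mapIso fun _ : Fin n => (tensorUnitIso G).symm) ≪≫
    (PreservesCoproduct.iso (DCoh.tensorBi.obj G) _).symm ≪≫
    (((tensorBiFlipIso X).app G).app (FlatMod.freeMod X n)).symm

/-- Homology of a complex with coherent terms is coherent. -/
lemma isCoh_homology_of_terms [IsLocallyNoetherian X] (K : CochainComplex X.Modules ℤ)
    (h : ∀ i, Coh.IsCoh (K.X i)) (i : ℤ) : Coh.IsCoh (K.homology i) := by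
  let S := K.sc i
  have hc : Coh.IsCoh S.cycles := isCoh_of_iso
    (IsLimit.conePointUniqueUpToIso S.cyclesIsKernel (kernelIsKernel S.g)).symm
    (QCoh.isCoh_kernel (h _) (h _) S.g)
  exact isCoh_of_iso
    (IsColimit.coconePointUniqueUpToIso (cokernelIsCokernel S.toCycles) S.homologyIsCokernel)
    (QCoh.isCoh_cokernel (h _).1 hc S.toCycles)

/-- The stalks of `E ⊗^L G` vanish outside the support of `G`. -/
lemma support_ltensor_degZero (G : X.Modules) [DCoh.HasLTensorCx (degZero G)] (E : DCoh.D X) (i : ℤ) :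
    CohB1.support (DCoh.HD ((DCoh.LTensorCx (degZero G)).obj E) i) ⊆ CohB1.support G := by
  intro x hx
  by_contra hxG
  obtain ⟨R, hR, ⟨e⟩⟩ := exists_kFlat_rep E
  have hzG : IsZero ((DerSch.stalkFunctor X x).obj G) := by
    haveI : Subsingleton ((DerSch.stalkFunctor X x).obj G : Type u) := not_not.1 hxG
    exact ModuleCat.isZero_of_subsingleton _
  let C := (DCoh.tensorCx.obj R).obj (degZero G)
  have hz : IsZero ((DerSch.stalkFunctor X x).obj (C.homology i)) := by
    refine IsZero.of_iso (ShortComplex.isZero_homology_of_isZero_X₂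
      ((C.sc i).map (DerSch.stalkFunctor X x)) ?_)
      ((C.sc i).mapHomologyIso (DerSch.stalkFunctor X x)).symm
    exact IsZero.of_iso (isZero_stalk_tensor_right x (R.X i) G hzG)
      ((DerSch.stalkFunctor X x).mapIso
        ((HomologicalComplex.eval X.Modules _ i).mapIso (tensorCxSingleIso G R))).symm
  have hz' := hz.of_iso ((DerSch.stalkFunctor X x).mapIso
    ((DerivedCategory.homologyFunctor X.Modules i).mapIso
      ((DCoh.LTensorCx (degZero G)).mapIso e.symm ≪≫ ltensorCxIso (degZero G) hR) ≪≫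
      (DerivedCategory.homologyFunctorFactors X.Modules i).app C))
  exact hx (ModuleCat.subsingleton_of_isZero hz')

/-- Restriction of `E ⊗^L G` to an open. -/
theorem nonempty_rho_ltensor_degZero {U : Scheme.{u}} (j : U ⟶ X) [IsOpenImmersion j] (G : X.Modules)
    [DCoh.HasLTensorCx (degZero G)] [DCoh.HasLTensorCx (degZero (G.restrict j))] (E : DCoh.D X) :
    Nonempty ((rho j).obj ((DCoh.LTensorCx (degZero G)).obj E) ≅
      (DCoh.LTensorCx (degZero (G.restrict j))).obj ((rho j).obj E)) := by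
  obtain ⟨R, hR, ⟨e⟩⟩ := exists_kFlat_rep E
  let c := restrictPullCxIso j
  let eC : (rCx j).obj ((DCoh.tensorCx.obj R).obj (degZero G)) ≅
      (DCoh.tensorCx.obj ((rCx j).obj R)).obj (degZero (G.restrict j)) :=
    c.app _ ≪≫ (pullTensorCxIso j R (degZero G)).symm ≪≫
      (DCoh.tensorCx.mapIso (c.app R).symm).app _ ≪≫
      (DCoh.tensorCx.obj ((rCx j).obj R)).mapIso ((c.app (degZero G)).symm ≪≫
        (HomologicalComplex.singleMapHomologicalComplex (Scheme.Modules.restrictFunctor j) _ 0).app G)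
  exact ⟨(rho j).mapIso ((DCoh.LTensorCx (degZero G)).mapIso e.symm ≪≫ ltensorCxIso (degZero G) hR) ≪≫
    (rhoQ j).app _ ≪≫ DerivedCategory.Q.mapIso eC ≪≫
    (ltensorCxIso (degZero (G.restrict j)) (isKFlat_restrict j hR)).symm ≪≫
    (DCoh.LTensorCx (degZero (G.restrict j))).mapIso (((rhoQ j).app R).symm ≪≫ (rho j).mapIso e)⟩

/-- A perfect object tensored with a coherent module has coherent cohomology. -/
theorem isCohD_ltensor_degZero [IsLocallyNoetherian X] (G : X.Modules) (hG : Coh.IsCoh G)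
    [DCoh.HasLTensorCx (degZero G)] {E : DCoh.D X} (hE : DCoh.IsPerfect E) :
    DCoh.IsCohD ((DCoh.LTensorCx (degZero G)).obj E) := fun i => by
  obtain ⟨R, hR, ⟨e⟩⟩ := exists_kFlat_rep E
  refine isCoh_of_local fun x => ?_
  obtain ⟨V, hx, hV⟩ := free_rep_range hE x
  obtain ⟨P, a, b, hab, hfree, ⟨eRP⟩⟩ := hV R ⟨e⟩
  let j : (V : Scheme.{u}) ⟶ X := V.ι
  refine ⟨_, j, inferInstance, ⟨⟨x, hx⟩, rfl⟩, ?_⟩
  haveI : IsLocallyNoetherian (V : Scheme.{u}) := isLocallyNoetherian_of_isOpenImmersion j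
  let G' := G.restrict j
  have hPflat : DCoh.IsKFlat P := isKFlat_of_vanishesOutside (a := a) (b := b) hab fun k => by
    obtain ⟨n, ⟨en⟩⟩ := hfree k
    exact IsFlat.of_iso en.symm (isFlat_freeMod n)
  have hrR : DCoh.IsKFlat ((rCx j).obj R) := isKFlat_restrict j hR
  haveI := hasLTensorCx (degZero G')
  let c := restrictPullCxIso j
  let C := (DCoh.tensorCx.obj R).obj (degZero G)
  let eC : (rCx j).obj C ≅ (DCoh.tensorCx.obj ((rCx j).obj R)).obj (degZero G') :=
    c.app C ≪≫ (pullTensorCxIso j R (degZero G)).symm ≪≫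
      (DCoh.tensorCx.mapIso (c.app R).symm).app _ ≪≫
      (DCoh.tensorCx.obj ((rCx j).obj R)).mapIso ((c.app (degZero G)).symm ≪≫
        (HomologicalComplex.singleMapHomologicalComplex (Scheme.Modules.restrictFunctor j) _ 0).app G)
  let eQ : DerivedCategory.Q.obj ((rCx j).obj C) ≅ DerivedCategory.Q.obj ((tensorModCx G').obj P) :=
    DerivedCategory.Q.mapIso eC ≪≫ (ltensorCxIso (degZero G') hrR).symm ≪≫
      (DCoh.LTensorCx (degZero G')).mapIso eRP ≪≫ ltensorCxIso (degZero G') hPflat ≪≫
      DerivedCategory.Q.mapIso (tensorCxSingleIso G' P).symm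
  let eH : (DCoh.HD ((DCoh.LTensorCx (degZero G)).obj E) i).restrict j ≅
      ((tensorModCx G').obj P).homology i :=
    (Scheme.Modules.restrictFunctor j).mapIso ((DerivedCategory.homologyFunctor X.Modules i).mapIso
      ((DCoh.LTensorCx (degZero G)).mapIso e.symm ≪≫ ltensorCxIso (degZero G) hR) ≪≫
      (DerivedCategory.homologyFunctorFactors X.Modules i).app C) ≪≫
    ((C.sc i).mapHomologyIso (Scheme.Modules.restrictFunctor j)).symm ≪≫
    ((DerivedCategory.homologyFunctorFactors _ i).app ((rCx j).obj C)).symm ≪≫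
    (DerivedCategory.homologyFunctor _ i).mapIso eQ ≪≫
    (DerivedCategory.homologyFunctorFactors _ i).app _
  refine isCoh_of_iso eH.symm (isCoh_homology_of_terms _ (fun k => ?_) i)
  obtain ⟨n, ⟨en⟩⟩ := hfree k
  exact isCoh_of_iso ((DCoh.tensorRightMod G').mapIso en).symm
    (isCoh_free_tensor (isCoh_restrict j hG) n)

end Groth.Agent.PerfGen7
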