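import Groth.Agent.PerfGen7.InnerHomCx
import Groth.Agent.KFlatLib.Ring.LTen3

/-!
# `RHom` of complexes as the internal hom of the derived category
-/

set_option linter.style.haveILetI false
set_option backward.isDefEq.respectTransparency false

universe u

open CategoryTheory CategoryTheory.Limits MonoidalCategory Opposite

attribute [local instance] HasDerivedCategory.standard

namespace Groth.Agent.PerfGen7

open Groth.Agent.KFlatLib Groth.Agent.H9Misc.DRingHomCx

variable {A : Type u} [CommRing A]

/-- The internal hom out of a K-flat complex into a K-injective one computes the derived internal hom. -/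
lemma nonempty_innerHom_iso_RHomR [DTen.HasLTen A] [DTen.HasRHom A] {P : DRing.Cx A}
    (hP : KFlat (curriedTensor (ModuleCat.{u} A)) P) (I : DRing.Cx A) [I.IsKInjective]
    [∀ n, Injective (I.X n)] :
    Nonempty (DerivedCategory.Q.obj ((innerHom P).obj I) ≅
      (DTen.RHomR A (DerivedCategory.Q.obj P)).obj (DerivedCategory.Q.obj I)) := by
  let F := DTen.tensorRightD A (DerivedCategory.Q.obj P)
  let R₁ : (F.op ⋙ yoneda.obj (DerivedCategory.Q.obj I)).RepresentableBy
      (DerivedCategory.Q.obj ((innerHom P).obj I)) :=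
    { homEquiv := fun {Z} => Equiv.ofBijective _ (bijective_innerEv hP I Z)
      homEquiv_comp := fun {Z Z'} f g => by
        change F.map (f ≫ g) ≫ _ = F.map f ≫ F.map g ≫ _
        rw [Functor.map_comp, Category.assoc] }
  let R₂ : (F.op ⋙ yoneda.obj (DerivedCategory.Q.obj I)).RepresentableBy
      ((DTen.RHomR A (DerivedCategory.Q.obj P)).obj (DerivedCategory.Q.obj I)) :=
    { homEquiv := fun {Z} => ((DTen.rhomAdj A _).homEquiv Z _).symm
      homEquiv_comp := fun {Z Z'} f g => Adjunction.homEquiv_naturality_left_symm _ f g }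
  exact ⟨R₁.uniqueUpToIso R₂⟩

/-- `RHom` of complexes is the derived internal hom. -/
theorem nonempty_RHomCx_iso_RHomR [DTen.HasLTen A] [DTen.HasRHom A] (K : DRing.Cx A) [DRing.HasRHomCx K]
    (L : Dual.D A) :
    Nonempty ((DRing.RHomCx K).obj L ≅ (DTen.RHomR A (DRing.toD K)).obj L) := by
  obtain ⟨I, s, hI, hs, -, hinj⟩ :=
    TriCat.exists_kInjective_resolution'.{u} (DerivedCategory.Q.objPreimage L)
  haveI := hI
  haveI := hinj
  haveI : QuasiIso s := hs
  let eI : L ≅ DerivedCategory.Q.obj I :=
    (DerivedCategory.Q.objObjPreimageIso L).symm ≪≫ asIso (DerivedCategory.Q.map s)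
  let P := (ringCover A).P.obj K
  let β : P ⟶ K := (ringCover A).ψ.app K
  haveI hβ : QuasiIso β := (ringCover A).quasiIso_ψ K
  haveI : IsIso (DerivedCategory.Q.map β) := (DerivedCategory.isIso_Q_map_iff_quasiIso _ _).2 hβ
  haveI := quasiIso_homCxPre_of_isKInjective β I
  haveI : IsIso (DerivedCategory.Q.map (homCxPre β I)) :=
    (DerivedCategory.isIso_Q_map_iff_quasiIso _ _).2 inferInstance
  obtain ⟨e⟩ := nonempty_innerHom_iso_RHomR (kFlat_ringRes K) I
  exact ⟨(DRing.RHomCx K).mapIso eI ≪≫ (isoOfKInjective K I).symm ≪≫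
    asIso (DerivedCategory.Q.map (homCxPre β I)) ≪≫
    DerivedCategory.Q.mapIso (homCxInnerIso P I) ≪≫ e ≪≫
    ((DTen.RHom A).mapIso (asIso (DerivedCategory.Q.map β)).symm.op).app _ ≪≫
    (DTen.RHomR A (DRing.toD K)).mapIso eI.symm⟩

end Groth.Agent.PerfGen7
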