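import Groth.Agent.PerfGen7.RelTensorPC
import Groth.Agent.PerfGen7.TensorCoh
import Groth.Agent.RHomO7.AffineDuality
import Groth.Agent.S6235

/-!
# The relative derived tensor product of relatively pseudo-coherent objects
-/

set_option linter.style.haveILetI false
set_option backward.isDefEq.respectTransparency false
set_option backward.isDefEq.respectTransparency.types false

universe u

open CategoryTheory CategoryTheory.Limits MonoidalCategory AlgebraicGeometry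

attribute [local instance] HasDerivedCategory.standard

namespace Groth.Agent.PerfGen7.LpullPC

open Groth.Agent.KFlatLib Groth.Agent.H9Misc Groth.Agent.H9Misc.DRingTor Groth.Agent.H9Misc.DRingLTensor

/-- A derived tensor product read on an affine open. -/
theorem nonempty_tilde_tensor {X : Scheme.{u}} {R : CommRingCat.{u}} [PreservesFiniteLimits (tilde.functor R)]
    (j : Spec R ⟶ X) [IsOpenImmersion j] (E : CochainComplex X.Modules ℤ) [DCoh.HasLTensorCx E] (K : DCoh.D X)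
    (CM CN : DRing.Cx R) (hCM : IsKF CM)
    (eK : (DCoh.tildeD R).obj (DRing.toD CM) ≅ (rho j).obj K)
    (eE : (DCoh.tildeD R).obj (DRing.toD CN) ≅ (rho j).obj (DCoh.toD X E)) :
    Nonempty ((DCoh.tildeD R).obj (DRing.toD (CM ⊗ CN)) ≅ (rho j).obj ((DCoh.LTensorCx E).obj K)) := by
  obtain ⟨R', hR', ⟨eR'⟩⟩ := exists_kFlat_rep K
  let c := restrictPullCxIso j
  let tA := RHomO7.AffineDuality.tA (R := R)
  haveI := hasLTensorCx ((rCx j).obj E)
  haveI := hasLTensorCx (tA.obj CN)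
  let eC : (rCx j).obj ((DCoh.tensorCx.obj R').obj E) ≅
      (DCoh.tensorCx.obj ((rCx j).obj R')).obj ((rCx j).obj E) :=
    c.app _ ≪≫ (pullTensorCxIso j R' E).symm ≪≫
      (DCoh.tensorCx.mapIso (c.app R').symm).app _ ≪≫
      (DCoh.tensorCx.obj ((rCx j).obj R')).mapIso (c.app E).symm
  have hK : DCoh.IsKFlat (tA.obj CM) := isKFlat_tilde (R := R) CM hCM
  obtain ⟨θ⟩ := nonempty_LTensorCx_congr_D
    ((tildeQ CN).symm ≪≫ eE ≪≫ (rhoQ j).app E : DCoh.toD _ (tA.obj CN) ≅ DCoh.toD _ ((rCx j).obj E))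
  let eA : (rho j).obj ((DCoh.LTensorCx E).obj K) ≅
      (DCoh.LTensorCx ((rCx j).obj E)).obj ((rho j).obj K) :=
    (rho j).mapIso ((DCoh.LTensorCx E).mapIso eR'.symm ≪≫ ltensorCxIso E hR') ≪≫
      (rhoQ j).app _ ≪≫ DerivedCategory.Q.mapIso eC ≪≫
      (ltensorCxIso ((rCx j).obj E) (isKFlat_restrict j hR')).symm ≪≫
      (DCoh.LTensorCx _).mapIso (((rhoQ j).app R').symm ≪≫ (rho j).mapIso eR')
  exact ⟨(eA ≪≫ (DCoh.LTensorCx _).mapIso (eK.symm ≪≫ tildeQ CM) ≪≫ (θ.app _).symm ≪≫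
    ltensorCxIso (tA.obj CN) hK ≪≫
    DerivedCategory.Q.mapIso ((RHomO7.AffineDuality.tensorTildeCxIso CN).app CM) ≪≫
    (tildeQ (CM ⊗ CN)).symm).symm⟩

variable {X Y Z : Scheme.{u}}

/-- `Lf^*F ⊗^L E` is pseudo-coherent relative to the composite. -/
theorem rel_ltensor_lpull (f : X ⟶ Y) (g : Y ⟶ Z) [LocallyOfFiniteType f] [LocallyOfFiniteType g]
    [DCoh.HasLpull f] (E : CochainComplex X.Modules ℤ) [DCoh.HasLTensorCx E]
    (hE : DerSch.IsPseudoCoherentRelAll f (DCoh.toD X E)) {F : DCoh.D Y}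
    (hF : DerSch.IsPseudoCoherentRelAll g F) :
    DerSch.IsPseudoCoherentRelAll (f ≫ g) ((DCoh.LTensorCx E).obj ((DCoh.Lpull f).obj F)) := by
  have hq : DCoh.IsQCohD F := Groth.Agent.S6235.result g _ hF
  have hqE : DCoh.IsQCohD (DCoh.toD X E) := Groth.Agent.S6235.result f _ hE
  intro m
  refine isPseudoCoherentRel_iff.2 fun x => ?_
  obtain ⟨W, hW, hxW, -⟩ := exists_isAffineOpen_mem_and_subset (x := g (f x)) (U := (⊤ : Z.Opens)) trivial
  obtain ⟨V, hV, hxV, hVW⟩ := exists_isAffineOpen_mem_and_subset (x := f x) (U := g ⁻¹ᵁ W) hxW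
  obtain ⟨U, hU, hxU, hUV⟩ := exists_isAffineOpen_mem_and_subset (x := x) (U := f ⁻¹ᵁ V) hxV
  obtain ⟨l, φ, hφ⟩ := exists_chart_of_affine (f := g) hV hW hVW
  obtain ⟨n, ψ, hψ⟩ := exists_chart_of_affine (f := f) hU hV hUV
  haveI := isClosedImmersion_toSpecΓ hV
  haveI := isClosedImmersion_toSpecΓ hU
  haveI : IsIso V.toSpecΓ := by
    have h := hV.isoSpec.isIso_hom
    rwa [hV.isoSpec_hom] at h
  haveI : IsIso U.toSpecΓ := by
    have h := hU.isoSpec.isIso_hom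
    rwa [hU.isoSpec_hom] at h
  let β := (f.appLE V U hUV).hom
  haveI := DRingLBase.hasLBaseChange β
  haveI := hasLpull (Spec.map (f.appLE V U hUV))
  haveI : DCoh.HasLpull (Spec.map (CommRingCat.ofHom β)) := hasLpull _
  obtain ⟨M, ⟨eM⟩⟩ := exists_tilde_rep hV hq
  obtain ⟨eT⟩ := nonempty_tildeD_lpull_iso β
  obtain ⟨eS⟩ := nonempty_lpull_square f (Spec.map (f.appLE V U hUV)) hV.fromSpec hU.fromSpec
    (hV.SpecMap_appLE_fromSpec f hU hUV).symm F
  let eK : (DCoh.tildeD Γ(X, U)).obj ((DRing.LBaseChange β).obj M) ≅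
      (rho hU.fromSpec).obj ((DCoh.Lpull f).obj F) :=
    eT.app M ≪≫ (DCoh.Lpull (Spec.map (f.appLE V U hUV))).mapIso (eM ≪≫ pushToSpecIso hV F) ≪≫ eS.symm
  have hM : ∀ k, DRing.IsPseudoCoherent (MvPolynomial (Fin l) Γ(Z, W)) k ((DRing.restrictD φ).obj M) := fun k =>
    (immPC_tilde_iff hV φ hφ.1 M eM).1 ((chartPC_iff hV φ hφ.1).1 (chartPC_of_rel (hF k) hV hW hVW φ hφ))
  obtain ⟨N, ⟨eN⟩⟩ := exists_tilde_rep hU hqE
  let CN := DerivedCategory.Q.objPreimage N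
  let eCN : DRing.toD CN ≅ N := DerivedCategory.Q.objObjPreimageIso N
  have hN : DRing.IsPseudoCoherent' (MvPolynomial (Fin n) Γ(Y, V)) ((DRing.restrictD ψ).obj (DRing.toD CN)) :=
    (DRingPC.pc'_iff _).2 fun k => DRingPC.of_iso ((DRing.restrictD ψ).mapIso eCN.symm)
      ((immPC_tilde_iff hU ψ hψ.1 N eN).1 ((chartPC_iff hU ψ hψ.1).1 (chartPC_of_rel (hE k) hU hV hUV ψ hψ)))
  obtain ⟨CM, hCM, hiso, hpc⟩ := pc_restrict_tensor_pc φ ψ M hM CN hN
  haveI : DRing.HasLBaseChange (ψ.comp MvPolynomial.C) := DRingLBase.hasLBaseChange _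
  obtain ⟨eβ⟩ : Nonempty ((DRing.LBaseChange β).obj M ≅ DRing.toD CM) := by
    have h := @hiso inferInstance
    simp only [hψ.2] at h
    exact h
  obtain ⟨eTen⟩ := nonempty_tilde_tensor hU.fromSpec E ((DCoh.Lpull f).obj F) CM CN hCM
    ((DCoh.tildeD _).mapIso eβ.symm ≪≫ eK) ((DCoh.tildeD _).mapIso eCN ≪≫ eN ≪≫ pushToSpecIso hU _)
  let e' := eTen ≪≫ (pushToSpecIso hU _).symm
  let e := PCMor.nestEquiv Γ(Z, W) n l
  let σ := (MvPolynomial.map (σ := Fin n) φ).comp e.toRingEquiv.toRingHom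
  have hσ : Function.Surjective σ := (MvPolynomial.map_surjective φ hφ.1).comp e.surjective
  have hθ : DerSch.IsChart (f ≫ g) U W (fun y hy => hVW (hUV hy)) (ψ.comp σ) := by
    refine ⟨hψ.1.comp hσ, ?_⟩
    ext r
    have : e.toRingEquiv.toRingHom (MvPolynomial.C r) = MvPolynomial.C (MvPolynomial.C r) := by
      simp [e, PCMor.nestEquiv]
    simp only [σ, RingHom.comp_apply]
    rw [this, MvPolynomial.map_C, ← RingHom.comp_apply ψ, hψ.2, ← RingHom.comp_apply φ, hφ.2,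
      ← RingHom.comp_apply, ← CommRingCat.hom_comp, Scheme.Hom.appLE_comp_appLE]
  exact ⟨U, W, hxU, hU, hW, fun y hy => hVW (hUV hy), n + l, ψ.comp σ, hθ,
    (immPC_tilde_iff hU (ψ.comp σ) hθ.1 _ e').2
      ((DRingRelPC.pc_iff_comp (DRingRelPC.PCHom.of_bijective e.bijective)
        (ψ.comp (MvPolynomial.map φ)) _ (RingHom.comp_assoc _ _ _) _ m).1 (hpc m))⟩

end Groth.Agent.PerfGen7.LpullPC
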