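import Groth.Agent.PerfGen7.TorAmpBC
import Groth.Agent.PerfGen7.RelTor.Stalk
import Groth.Agent.PerfGen7.RelPerfBC.Acyclic
import Groth.Agent.KFlatLib.Scheme.TildePull
import Groth.Agent.KFlatLib.Scheme.QCohDerived

/-!
# Flat base change of relative tor amplitude
-/

set_option backward.isDefEq.respectTransparency false
set_option linter.style.haveILetI false

universe u

open CategoryTheory CategoryTheory.Limits AlgebraicGeometry TopologicalSpace Opposite

attribute [local instance] HasDerivedCategory.standard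

namespace Groth.Agent.PerfGen7.TorAmpBC

open Groth.Agent.KFlatLib Groth.Agent.H9Misc Groth.Agent.PerfGen7.RelTor
  Groth.Agent.H9Misc.DRingLTensor

variable {X S X' S' : Scheme.{u}} {f : X ⟶ S} {f' : X' ⟶ S'} {g' : X' ⟶ X} {g : S' ⟶ S} {a b : ℤ}

/-- Stalkwise tor amplitude under flat base change, on complexes. -/
theorem torAmplitudeAt_pullCx [Flat g] (hc : IsPullback g' f' f g) (F : CochainComplex X.Modules ℤ)
    (x' : X') (hF : DerSch.HasTorAmplitudeAt f a b F (g'.base x')) :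
    DerSch.HasTorAmplitudeAt f' a b ((pullCx g').obj F) x' := by
  obtain ⟨U, hU, hxU, -⟩ := exists_isAffineOpen_mem_and_subset (x := f (g' x')) (U := ⊤) trivial
  obtain ⟨V, hV, hxV, hVU'⟩ := exists_isAffineOpen_mem_and_subset (x := g' x') (U := f ⁻¹ᵁ U) hxU
  have hVU : V ≤ f ⁻¹ᵁ U := hVU'
  have hyU : f' x' ∈ g ⁻¹ᵁ U := by
    show g (f' x') ∈ U
    rw [← Scheme.Hom.comp_apply, ← hc.w]; exact hxU
  obtain ⟨U', hU', hyU', hU'U'⟩ := exists_isAffineOpen_mem_and_subset (x := f' x') (U := g ⁻¹ᵁ U) hyU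
  have hU'U : U' ≤ g ⁻¹ᵁ U := hU'U'
  let W : X'.Opens := g' ⁻¹ᵁ V ⊓ f' ⁻¹ᵁ U'
  have hxW : x' ∈ W := ⟨hxV, hyU'⟩
  have hW : IsAffineOpen W := by
    haveI : IsAffine _ := hU
    haveI : IsAffine _ := hU'
    haveI : IsAffine _ := hV
    exact .of_isIso (Scheme.Hom.isPullback_resLE hc hU'U hVU (UY := W) rfl).isoPullback.hom
  have hpo := (isIso_pushoutSection_iff hc hU'U hVU (UY := W) rfl).mp
    (isIso_pushoutSection_of_isAffineOpen hc hU'U hVU rfl hU hU' hV)
  let π := (g.appLE U U' hU'U).hom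
  let φ := (f.appLE U V hVU).hom
  let φ' := (f'.appLE U' W inf_le_right).hom
  let β := (g'.appLE V W inf_le_left).hom
  let ψ := (X'.presheaf.germ W x' hxW).hom
  letI : Algebra Γ(S, U) (S.presheaf.stalk (f (g' x'))) := (S.presheaf.germ U (f (g' x')) hxU).hom.toAlgebra
  haveI := hU.isLocalization_stalk ⟨f (g' x'), hxU⟩
  letI : Algebra Γ(X, V) (X.presheaf.stalk (g' x')) := (X.presheaf.germ V (g' x') hxV).hom.toAlgebra
  haveI := hV.isLocalization_stalk ⟨g' x', hxV⟩
  letI : Algebra Γ(S', U') (S'.presheaf.stalk (f' x')) := (S'.presheaf.germ U' (f' x') hyU').hom.toAlgebra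
  haveI := hU'.isLocalization_stalk ⟨f' x', hyU'⟩
  letI : Algebra Γ(X', W) (X'.presheaf.stalk x') := ψ.toAlgebra
  haveI := hW.isLocalization_stalk ⟨x', hxW⟩
  let ιX := algebraMap Γ(X, V) (X.presheaf.stalk (g' x'))
  let C := (stalkCx (g'.base x')).obj F
  let K := (resCx ιX).obj C
  -- over `Γ(S, U)`
  have h1 : DRing.HasTorAmplitudeIn Γ(S, U) a b (DerivedCategory.Q.obj ((resCx φ).obj K)) := by
    refine torAmp_of_iso (DerivedCategory.Q.mapIso ?_)
      (res_flat (algebraMap Γ(S, U) (S.presheaf.stalk (f (g' x'))))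
        (RingHom.flat_algebraMap_iff.2
          (IsLocalization.flat _ (hU.primeIdealOf ⟨f (g' x'), hxU⟩).asIdeal.primeCompl)) hF)
    refine (resCx _).mapIso (RelTor.stalkCxOverIso f (g'.base x') F) ≪≫ (resCompIso rfl _).symm ≪≫
      resCompIso ?_ _
    refine RingHom.ext fun r => ?_
    show X.presheaf.germ V (g' x') hxV (f.appLE U V hVU r) =
      f.stalkMap (g' x') (S.presheaf.germ U (f (g' x')) hxU r)
    rw [Scheme.Hom.germ_stalkMap_apply f U (g' x') hxU r]
    exact X.presheaf.germ_res_apply (homOfLE hVU) (g' x') hxV _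
  -- over `Γ(S', U')`
  let γ := (g'.stalkMap x').hom.comp ιX
  have hγ : ψ.comp β = γ := RingHom.ext fun r => by
    show X'.presheaf.germ W x' hxW (g'.appLE V W inf_le_left r) =
      g'.stalkMap x' (X.presheaf.germ V (g' x') hxV r)
    rw [Scheme.Hom.germ_stalkMap_apply g' V x' hxV r]
    exact X'.presheaf.germ_res_apply (homOfLE inf_le_left) x' hxW _
  have hπ : π.Flat := Flat.flat_appLE g hU hU' hU'U
  have hψ : ψ.Flat := RingHom.flat_algebraMap_iff.2
    (IsLocalization.flat (X'.presheaf.stalk x') (hW.primeIdealOf ⟨x', hxW⟩).asIdeal.primeCompl)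
  have h2 := baseChange_flat (π := π) (φ := φ) (φ' := φ') (β := β) hpo.flip hπ ψ hψ hγ (θ := ψ.comp φ') rfl K h1
  obtain ⟨eC⟩ := nonempty_ext_res (P := Γ(X, V)) (hV.primeIdealOf ⟨g' x', hxV⟩).asIdeal.primeCompl C
  -- over the local ring
  refine of_res_localization (P := Γ(S', U')) (hU'.primeIdealOf ⟨f' x', hyU'⟩).asIdeal.primeCompl
    (torAmp_of_iso (DerivedCategory.Q.mapIso ?_) h2)
  refine (resCx (ψ.comp φ')).mapIso (extCompIso (φ := ιX) rfl K ≪≫ (extC' _).mapIso eC ≪≫
    (stalkPullCxIso g' x' F).symm) ≪≫ resCompIso ?_ _ ≪≫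
    (resCx _).mapIso (RelTor.stalkCxOverIso f' x' ((pullCx g').obj F)).symm
  refine RingHom.ext fun r => ?_
  show f'.stalkMap x' (S'.presheaf.germ U' (f' x') hyU' r) =
    X'.presheaf.germ W x' hxW (f'.appLE U' W inf_le_right r)
  rw [Scheme.Hom.germ_stalkMap_apply f' U' x' hyU' r]
  exact (X'.presheaf.germ_res_apply (homOfLE inf_le_right) x' hxW _).symm

/-- Relative tor amplitude under flat base change. -/
theorem torAmplitudeD_lpull [Flat g] (hc : IsPullback g' f' f g) [DCoh.HasLpull g']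
    (F : CochainComplex X.Modules ℤ) (hF : DerSch.HasTorAmplitude f a b F) :
    DerSch.HasTorAmplitudeD f' a b ((DCoh.Lpull g').obj (DCoh.toD X F)) := by
  let K : DCoh.D X := DCoh.toD X F
  exact RelTor.torAmplitudeD_of_rep f' (lpullRepIso g' K) fun x' =>
    torAmplitudeAt_pullCx hc (repK K) x'
      (RelTor.torAmplitudeAt_congr f (repKIso K).symm (hF (g'.base x')))

end Groth.Agent.PerfGen7.TorAmpBC
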