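import Groth.Agent.PerfGen7.TorIndepRing
import Groth.Agent.PerfGen7.TorAmpBCScheme
import Groth.Agent.PerfGen7.RelBC

/-!
# Relative tor amplitude under base change of the ground scheme, for flat ambient schemes
-/

set_option linter.style.haveILetI false
set_option backward.isDefEq.respectTransparency false
set_option backward.isDefEq.respectTransparency.types false

universe u

open CategoryTheory CategoryTheory.Limits AlgebraicGeometry

attribute [local instance] HasDerivedCategory.standard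

namespace Groth.Agent.PerfGen7.TorIndep

open Groth.Agent.KFlatLib Groth.Agent.H9Misc Groth.Agent.PerfGen7.RelTor Groth.Agent.PerfGen7.TorAmpBC
  Groth.Agent.H9Misc.DRingLTensor Groth.Agent.H9Misc.DRingTorLTensor Groth.Agent.H9Misc.DRingTorDescent

variable {X Y X' Y' S Z : Scheme.{u}} {f : X ⟶ Y} {f' : X' ⟶ Y'} {g' : X' ⟶ X} {g : Y' ⟶ Y}
  {q : Y ⟶ S} {q' : Y' ⟶ Z} {h : Z ⟶ S} {a b : ℤ}

/-- Stalkwise tor amplitude, on K-flat complexes. -/
theorem torAmplitudeAt_pullCx_of_flat (hc : IsPullback g' f' f g) (hq : IsPullback g q' q h)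
    [Flat q] [Flat (f ≫ q)] (F : CochainComplex X.Modules ℤ) (hFK : DCoh.IsKFlat F) (x' : X')
    (hF : DerSch.HasTorAmplitudeAt f a b F (g'.base x')) :
    DerSch.HasTorAmplitudeAt f' a b ((pullCx g').obj F) x' := by
  obtain ⟨S₀, hS, hxS, -⟩ := exists_isAffineOpen_mem_and_subset (x := h (q' (f' x'))) (U := (⊤ : S.Opens)) trivial
  obtain ⟨Z₀, hZ, hxZ, hZS⟩ := exists_isAffineOpen_mem_and_subset (x := q' (f' x')) (U := h ⁻¹ᵁ S₀) hxS
  have hfy : g (f' x') ∈ q ⁻¹ᵁ S₀ := by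
    show q (g (f' x')) ∈ S₀
    rw [← Scheme.Hom.comp_apply, hq.w, Scheme.Hom.comp_apply]
    exact hxS
  obtain ⟨V, hV, hxV, hVS⟩ := exists_isAffineOpen_mem_and_subset (x := g (f' x')) (U := q ⁻¹ᵁ S₀) hfy
  obtain ⟨hV', hpoS⟩ := exists_affine_square hq hV hS hZ hVS hZS
  let V' : Y'.Opens := g ⁻¹ᵁ V ⊓ q' ⁻¹ᵁ Z₀
  have hxV' : f' x' ∈ V' := ⟨hxV, hxZ⟩
  have hV'V : V' ≤ g ⁻¹ᵁ V := inf_le_left
  have hfx : f (g' x') ∈ V := by
    rw [← Scheme.Hom.comp_apply, hc.w, Scheme.Hom.comp_apply]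
    exact hxV
  obtain ⟨U, hU, hxU, hUV'⟩ := exists_isAffineOpen_mem_and_subset (x := g' x') (U := f ⁻¹ᵁ V) hfx
  have hUV : U ≤ f ⁻¹ᵁ V := hUV'
  obtain ⟨hW, hpo⟩ := exists_affine_square hc hU hV hV' hUV hV'V
  let W : X'.Opens := g' ⁻¹ᵁ U ⊓ f' ⁻¹ᵁ V'
  have hxW : x' ∈ W := ⟨hxU, hxV'⟩
  let π := (g.appLE V V' hV'V).hom
  let φ := (f.appLE V U hUV).hom
  let φ' := (f'.appLE V' W inf_le_right).hom
  let β := (g'.appLE U W inf_le_left).hom
  let ψ := (X'.presheaf.germ W x' hxW).hom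
  letI : Algebra Γ(Y, V) (Y.presheaf.stalk (f (g' x'))) := (Y.presheaf.germ V (f (g' x')) hfx).hom.toAlgebra
  haveI := hV.isLocalization_stalk ⟨f (g' x'), hfx⟩
  letI : Algebra Γ(X, U) (X.presheaf.stalk (g' x')) := (X.presheaf.germ U (g' x') hxU).hom.toAlgebra
  haveI := hU.isLocalization_stalk ⟨g' x', hxU⟩
  letI : Algebra Γ(Y', V') (Y'.presheaf.stalk (f' x')) := (Y'.presheaf.germ V' (f' x') hxV').hom.toAlgebra
  haveI := hV'.isLocalization_stalk ⟨f' x', hxV'⟩
  letI : Algebra Γ(X', W) (X'.presheaf.stalk x') := ψ.toAlgebra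
  haveI := hW.isLocalization_stalk ⟨x', hxW⟩
  let ιX := algebraMap Γ(X, U) (X.presheaf.stalk (g' x'))
  let C := (stalkCx (g'.base x')).obj F
  let K := (resCx ιX).obj C
  -- over `Γ(Y, V)`
  have h1 : DRing.HasTorAmplitudeIn Γ(Y, V) a b (DerivedCategory.Q.obj ((resCx φ).obj K)) := by
    refine torAmp_of_iso (DerivedCategory.Q.mapIso ?_)
      (res_flat (algebraMap Γ(Y, V) (Y.presheaf.stalk (f (g' x'))))
        (RingHom.flat_algebraMap_iff.2
          (IsLocalization.flat _ (hV.primeIdealOf ⟨f (g' x'), hfx⟩).asIdeal.primeCompl)) hF)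
    refine (resCx _).mapIso (RelTor.stalkCxOverIso f (g'.base x') F) ≪≫ (resCompIso rfl _).symm ≪≫
      resCompIso ?_ _
    refine RingHom.ext fun r => ?_
    show X.presheaf.germ U (g' x') hxU (f.appLE V U hUV r) =
      f.stalkMap (g' x') (Y.presheaf.germ V (f (g' x')) hfx r)
    rw [Scheme.Hom.germ_stalkMap_apply f V (g' x') hfx r]
    exact X.presheaf.germ_res_apply (homOfLE hUV) (g' x') hxU _
  -- a K-flat model over `Γ(X, U)`
  let P := (ringCover Γ(X, U)).P.obj K
  let s : P ⟶ K := (ringCover Γ(X, U)).ψ.app K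
  haveI hs : QuasiIso s := (ringCover Γ(X, U)).quasiIso_ψ K
  haveI : QuasiIso ((resCx φ).map s) := inferInstance
  haveI : IsIso (DerivedCategory.Q.map ((resCx φ).map s)) :=
    (DerivedCategory.isIso_Q_map_iff_quasiIso _ _).2 inferInstance
  have hP : IsKF P := kFlat_ringRes K
  have hbound : ∀ i, b < i → Subsingleton (Dual.HD Γ(X, U) (DRing.toD P) i) := fun i hi => by
    obtain ⟨E, hz, -, ⟨eE⟩⟩ := h1
    have hzero : IsZero (((resCx φ).obj P).homology i) := by
      refine IsZero.of_iso ?_ (((DerivedCategory.homologyFunctorFactors (ModuleCat.{u} Γ(Y, V)) i).app _).symm ≪≫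
        (DerivedCategory.homologyFunctor _ i).mapIso
          (asIso (DerivedCategory.Q.map ((resCx φ).map s)) ≪≫ eE.symm) ≪≫
        (DerivedCategory.homologyFunctorFactors (ModuleCat.{u} Γ(Y, V)) i).app E)
      exact ShortComplex.isZero_homology_of_isZero_X₂ _ (hz i (Or.inr hi))
    have hex : P.ExactAt i := (ShortComplex.exact_map_iff_of_faithful _ (ModuleCat.restrictScalars φ)).1
      (((HomologicalComplex.exactAt_iff_isZero_homology _ i).2 hzero))
    exact ModuleCat.subsingleton_of_isZero (((HomologicalComplex.exactAt_iff_isZero_homology _ i).1 hex).of_iso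
      ((DerivedCategory.homologyFunctorFactors (ModuleCat.{u} Γ(X, U)) i).app P))
  -- over `Γ(Y', V')`
  haveI := DRingLBase.hasLBaseChange β
  haveI := DRingLBase.hasLBaseChange π
  have hqfl : (q.appLE S₀ V hVS).hom.Flat := Flat.flat_appLE q hS hV hVS
  have hφfl : (φ.comp (q.appLE S₀ V hVS).hom).Flat := by
    have hfl := Flat.flat_appLE (f ≫ q) hS hU (show U ≤ (f ≫ q) ⁻¹ᵁ S₀ from fun y hy => hVS (hUV hy))
    rw [← Scheme.Hom.appLE_comp_appLE f q S₀ V U hVS hUV, CommRingCat.hom_comp] at hfl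
    exact hfl
  obtain ⟨eR⟩ := nonempty_restrict_lbase_flat (ι := (h.appLE S₀ Z₀ hZS).hom) (χ := (q.appLE S₀ V hVS).hom)
    (χ' := (q'.appLE Z₀ V' inf_le_right).hom) (π := π) (φ := φ) (φ' := φ') (β := β)
    hpoS hpo hqfl hφfl (DRing.toD P) b hbound
  obtain ⟨eβ⟩ := DRingLBase.nonempty_lbase_iso β hP
  have h2 : DRing.HasTorAmplitudeIn Γ(Y', V') a b
      (DerivedCategory.Q.obj ((resCx φ').obj ((extC' β).obj P))) := by
    refine torAmp_of_iso (eR.symm ≪≫ (DRing.restrictD φ').mapIso eβ ≪≫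
      (ModuleCat.restrictScalars.{u} φ').mapDerivedCategoryFactors.app _)
      (DRingLBase.hasTorAmplitudeIn_lbase π ?_)
    exact torAmp_of_iso ((asIso (DerivedCategory.Q.map ((resCx φ).map s))).symm ≪≫
      ((ModuleCat.restrictScalars.{u} φ).mapDerivedCategoryFactors.app P).symm) h1
  have hψ : ψ.Flat := RingHom.flat_algebraMap_iff.2
    (IsLocalization.flat (X'.presheaf.stalk x') (hW.primeIdealOf ⟨x', hxW⟩).asIdeal.primeCompl)
  haveI : Module.Flat Γ(X', W) (resB ψ) := hψ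
  let eT : (tensC (resB ψ)).obj ((extC' β).obj P) ≅ (resCx ψ).obj ((extC' ψ).obj ((extC' β).obj P)) :=
    HomologicalComplex.Hom.isoOfComponents
      (fun n => (DRingTorLocal.extResIso ψ).app (((extC' β).obj P).X n))
      (fun p r _ => ((DRingTorLocal.extResIso ψ).hom.naturality (((extC' β).obj P).d p r)).symm)
  have h3 := tens_flat φ' (resB ψ) _ h2
  -- compare with the stalk
  let σ := (g'.stalkMap x').hom
  have hσ : ψ.comp β = σ.comp ιX := RingHom.ext fun r => by
    show X'.presheaf.germ W x' hxW (g'.appLE U W inf_le_left r) =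
      g'.stalkMap x' (X.presheaf.germ U (g' x') hxU r)
    rw [Scheme.Hom.germ_stalkMap_apply g' U x' hxU r]
    exact X'.presheaf.germ_res_apply (homOfLE inf_le_left) x' hxW _
  have hC : IsKF C := (kFlat_iff_stalk F).1 hFK (g'.base x')
  have hιX : ιX.Flat := RingHom.flat_algebraMap_iff.2
    (IsLocalization.flat _ (hU.primeIdealOf ⟨g' x', hxU⟩).asIdeal.primeCompl)
  haveI := ModuleCat.preservesFiniteLimits_extendScalars_of_flat hιX
  haveI : PreservesFiniteColimits (ModuleCat.extendScalars.{u, u, u} ιX) := by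
    haveI : (ModuleCat.extendScalars.{u, u, u} ιX).IsLeftAdjoint :=
      (ModuleCat.extendRestrictScalarsAdj ιX).isLeftAdjoint
    infer_instance
  haveI : QuasiIso ((extC' ιX).map s) := inferInstance
  haveI : IsIso (DerivedCategory.Q.map ((extC' ιX).map s)) :=
    (DerivedCategory.isIso_Q_map_iff_quasiIso _ _).2 inferInstance
  haveI := DRingLBase.hasLBaseChange σ
  obtain ⟨eC⟩ := nonempty_ext_res (P := Γ(X, U)) (hU.primeIdealOf ⟨g' x', hxU⟩).asIdeal.primeCompl C
  obtain ⟨eσ⟩ := DRingLBase.nonempty_lbase_iso σ hC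
  obtain ⟨eσ'⟩ := DRingLBase.nonempty_lbase_iso σ (KFlatLib.kFlat_extendScalars ιX hP)
  let eX : DerivedCategory.Q.obj ((extC' ψ).obj ((extC' β).obj P)) ≅
      DerivedCategory.Q.obj ((stalkCx x').obj ((pullCx g').obj F)) :=
    DerivedCategory.Q.mapIso ((extCompIso hσ P).symm ≪≫ extCompIso rfl P) ≪≫ eσ'.symm ≪≫
      (DRing.LBaseChange σ).mapIso (asIso (DerivedCategory.Q.map ((extC' ιX).map s)) ≪≫
        DerivedCategory.Q.mapIso eC) ≪≫ eσ ≪≫
      DerivedCategory.Q.mapIso (stalkPullCxIso g' x' F).symm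
  refine of_res_localization (P := Γ(Y', V')) (hV'.primeIdealOf ⟨f' x', hxV'⟩).asIdeal.primeCompl
    (torAmp_of_iso ?_ h3)
  refine DerivedCategory.Q.mapIso ((resCx φ').mapIso eT ≪≫ (resCompIso rfl _).symm) ≪≫
    resQMapIso (ψ.comp φ') eX ≪≫
    DerivedCategory.Q.mapIso (resCompIso ?_ _ ≪≫
      (resCx _).mapIso (RelTor.stalkCxOverIso f' x' ((pullCx g').obj F)).symm)
  refine RingHom.ext fun r => ?_
  show f'.stalkMap x' (Y'.presheaf.germ V' (f' x') hxV' r) =
    X'.presheaf.germ W x' hxW (f'.appLE V' W inf_le_right r)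
  rw [Scheme.Hom.germ_stalkMap_apply f' V' x' hxV' r]
  exact (X'.presheaf.germ_res_apply (homOfLE inf_le_right) x' hxW _).symm

/-- Tor amplitude under base change of the ground scheme. -/
theorem torAmplitudeD_lpull_of_flat (hc : IsPullback g' f' f g) (hq : IsPullback g q' q h)
    [Flat q] [Flat (f ≫ q)] [DCoh.HasLpull g'] (F : CochainComplex X.Modules ℤ)
    (hF : DerSch.HasTorAmplitude f a b F) :
    DerSch.HasTorAmplitudeD f' a b ((DCoh.Lpull g').obj (DCoh.toD X F)) := by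
  let K : DCoh.D X := DCoh.toD X F
  exact RelTor.torAmplitudeD_of_rep f' (lpullRepIso g' K) fun x' =>
    torAmplitudeAt_pullCx_of_flat hc hq (repK K) (isKFlat_repK K) x'
      (RelTor.torAmplitudeAt_congr f (repKIso K).symm (hF (g'.base x')))

end Groth.Agent.PerfGen7.TorIndep
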