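import Groth.Agent.PerfGen7.TorIndepPC
import Groth.Agent.PerfGen7.TorIndepTor
import Groth.Agent.PerfGen7.RelTensorScheme
import Groth.Agent.PerfGen7.FlatTerms
import Groth.Agent.PerfGen7.RelTor.Stalk
import Groth.Agent.PerfGen7.UnitDetect

/-!
# External derived tensor products over a base
-/

set_option linter.style.haveILetI false
set_option backward.isDefEq.respectTransparency false
set_option backward.isDefEq.respectTransparency.types false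

universe u

open CategoryTheory CategoryTheory.Limits AlgebraicGeometry

attribute [local instance] HasDerivedCategory.standard

namespace Groth.Agent.PerfGen7.ExtTensor

open Groth.Agent.KFlatLib Groth.Agent.H9Misc Groth.Agent.PerfGen7

variable {S X₁ Y₁ X₂ Y₂ X Y : Scheme.{u}} {f₁ : X₁ ⟶ Y₁} {q₁ : Y₁ ⟶ S} {f₂ : X₂ ⟶ Y₂} {q₂ : Y₂ ⟶ S}
  {pX₁ : X ⟶ X₁} {pX₂ : X ⟶ X₂} {pY₁ : Y ⟶ Y₁} {pY₂ : Y ⟶ Y₂} {f : X ⟶ Y}

/-- A product morphism is a base change of each factor, one after the other. -/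
theorem exists_factor (hX : IsPullback pX₁ pX₂ (f₁ ≫ q₁) (f₂ ≫ q₂)) (hY : IsPullback pY₁ pY₂ q₁ q₂)
    (hf₁ : f ≫ pY₁ = pX₁ ≫ f₁) (hf₂ : f ≫ pY₂ = pX₂ ≫ f₂) :
    ∃ (T : Scheme.{u}) (a : X ⟶ T) (b : T ⟶ Y) (p₁ : T ⟶ X₁) (p₂ : T ⟶ Y₂),
      IsPullback pX₂ a f₂ p₂ ∧ IsPullback p₂ p₁ q₂ (f₁ ≫ q₁) ∧ IsPullback p₁ b f₁ pY₁ ∧
        a ≫ b = f ∧ a ≫ p₁ = pX₁ := by
  let p₁ := pullback.fst (f₁ ≫ q₁) q₂
  let p₂ := pullback.snd (f₁ ≫ q₁) q₂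
  let a : X ⟶ pullback (f₁ ≫ q₁) q₂ := pullback.lift pX₁ (pX₂ ≫ f₂) (by simpa using hX.w)
  let b : pullback (f₁ ≫ q₁) q₂ ⟶ Y := hY.lift (p₁ ≫ f₁) p₂ (by simpa [p₁, p₂] using pullback.condition)
  have hT : IsPullback p₁ p₂ (f₁ ≫ q₁) q₂ := IsPullback.of_hasPullback _ _
  have ha₁ : a ≫ p₁ = pX₁ := pullback.lift_fst _ _ _
  have ha₂ : a ≫ p₂ = pX₂ ≫ f₂ := pullback.lift_snd _ _ _
  have hb₁ : b ≫ pY₁ = p₁ ≫ f₁ := hY.lift_fst _ _ _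
  have hb₂ : b ≫ pY₂ = p₂ := hY.lift_snd _ _ _
  refine ⟨_, a, b, p₁, p₂, ?_, hT.flip, ?_, ?_, ha₁⟩
  · refine IsPullback.of_bot ?_ ha₂.symm hT.flip
    rw [ha₁]
    exact hX.flip
  · refine IsPullback.of_bot ?_ hb₁.symm hY
    rw [hb₂]
    exact hT
  · refine hY.hom_ext ?_ ?_
    · rw [Category.assoc, hb₁, ← Category.assoc, ha₁, hf₁]
    · rw [Category.assoc, hb₂, ha₂, hf₂]

/-- The external derived tensor product, along the factorisation. -/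
theorem nonempty_external {T : Scheme.{u}} {a : X ⟶ T} {p₁ : T ⟶ X₁} (h : a ≫ p₁ = pX₁)
    [DCoh.HasLpull pX₁] [DCoh.HasLpull a] [DCoh.HasLpull p₁] (K₂ : CochainComplex X.Modules ℤ) [DCoh.HasLTensorCx K₂]
    (E : DCoh.D X₁) :
    Nonempty ((DCoh.LTensorCx K₂).obj ((DCoh.Lpull a).obj ((DCoh.Lpull p₁).obj E)) ≅
      (DCoh.LTensorCx K₂).obj ((DCoh.Lpull pX₁).obj E)) :=
  ⟨(DCoh.LTensorCx K₂).mapIso (nonempty_lpull_comp a p₁ pX₁ h E).some⟩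

/-- Tor amplitude of an external tensor product. -/
theorem torAmplitudeD_external [Flat q₂] [Flat (f₂ ≫ q₂)] (hX : IsPullback pX₁ pX₂ (f₁ ≫ q₁) (f₂ ≫ q₂))
    (hY : IsPullback pY₁ pY₂ q₁ q₂) (hf₁ : f ≫ pY₁ = pX₁ ≫ f₁) (hf₂ : f ≫ pY₂ = pX₂ ≫ f₂)
    (E₁ : CochainComplex X₁.Modules ℤ) {a₁ b₁ : ℤ} (h₁ : DerSch.HasTorAmplitude f₁ a₁ b₁ E₁)
    (E₂ : CochainComplex X₂.Modules ℤ) {a₂ b₂ : ℤ} (h₂ : DerSch.HasTorAmplitude f₂ a₂ b₂ E₂)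
    [DCoh.HasLpull pX₁] [DCoh.HasLpull pX₂] (K₂ : CochainComplex X.Modules ℤ) [DCoh.HasLTensorCx K₂]
    (e₂ : DCoh.toD X K₂ ≅ (DCoh.Lpull pX₂).obj (DCoh.toD X₂ E₂)) :
    DerSch.HasTorAmplitudeD f (a₁ + a₂) (b₁ + b₂)
      ((DCoh.LTensorCx K₂).obj ((DCoh.Lpull pX₁).obj (DCoh.toD X₁ E₁))) := by
  obtain ⟨T, a, b, p₁, p₂, hA, hq, hB, hab, hap⟩ := exists_factor hX hY hf₁ hf₂
  haveI : Flat pY₁ := MorphismProperty.of_isPullback hY.flip ‹Flat q₂›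
  haveI := hasLpull a
  haveI := hasLpull p₁
  subst hab
  rintro K ⟨e⟩ x
  obtain ⟨c⟩ := nonempty_external hap K₂ (DCoh.toD X₁ E₁)
  let K₁ := DerivedCategory.Q.objPreimage ((DCoh.Lpull p₁).obj (DCoh.toD X₁ E₁))
  let eK₁ : DCoh.toD T K₁ ≅ _ := DerivedCategory.Q.objObjPreimageIso _
  have t₁ : DerSch.HasTorAmplitude b a₁ b₁ K₁ :=
    TorAmpBC.torAmplitudeD_lpull hB E₁ h₁ K₁ ⟨eK₁⟩
  have t₂ : DerSch.HasTorAmplitude a a₂ b₂ K₂ :=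
    TorIndep.torAmplitudeD_lpull_of_flat hA hq E₂ h₂ K₂ ⟨e₂⟩
  exact RelTor.torAmplitudeAt_mono _ (by omega) (by omega)
    (RelTor.torAmplitudeAt_ltensor_lpull a b (t₂ x) (t₁ (a.base x))
      (e ≪≫ c.symm ≪≫ (DCoh.LTensorCx K₂).mapIso ((DCoh.Lpull a).mapIso eK₁.symm)))

/-- Pseudo-coherence of an external tensor product. -/
theorem rel_external [Flat q₂] [Flat (f₂ ≫ q₂)] [LocallyOfFiniteType f₁] [LocallyOfFiniteType f₂]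
    (hX : IsPullback pX₁ pX₂ (f₁ ≫ q₁) (f₂ ≫ q₂))
    (hY : IsPullback pY₁ pY₂ q₁ q₂) (hf₁ : f ≫ pY₁ = pX₁ ≫ f₁) (hf₂ : f ≫ pY₂ = pX₂ ≫ f₂)
    {E₁ : DCoh.D X₁} (h₁ : DerSch.IsPseudoCoherentRelAll f₁ E₁)
    {E₂ : DCoh.D X₂} (h₂ : DerSch.IsPseudoCoherentRelAll f₂ E₂)
    [DCoh.HasLpull pX₁] [DCoh.HasLpull pX₂] (K₂ : CochainComplex X.Modules ℤ) [DCoh.HasLTensorCx K₂]
    (e₂ : DCoh.toD X K₂ ≅ (DCoh.Lpull pX₂).obj E₂) :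
    DerSch.IsPseudoCoherentRelAll f ((DCoh.LTensorCx K₂).obj ((DCoh.Lpull pX₁).obj E₁)) := by
  obtain ⟨T, a, b, p₁, p₂, hA, hq, hB, hab, hap⟩ := exists_factor hX hY hf₁ hf₂
  haveI : Flat pY₁ := MorphismProperty.of_isPullback hY.flip ‹Flat q₂›
  haveI : LocallyOfFiniteType b := MorphismProperty.of_isPullback hB ‹LocallyOfFiniteType f₁›
  haveI : LocallyOfFiniteType a := MorphismProperty.of_isPullback hA ‹LocallyOfFiniteType f₂›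
  haveI := hasLpull a
  haveI := hasLpull p₁
  subst hab
  intro m
  obtain ⟨c⟩ := nonempty_external hap K₂ E₁
  refine rel_of_iso c (LpullPC.rel_ltensor_lpull a b K₂ (fun k => ?_) (fun k => ?_) m)
  · exact rel_of_iso e₂.symm (TorIndep.rel_lpull_of_flat hA hq (Groth.Agent.S6235.result f₂ _ h₂) (h₂ k))
  · exact rel_lpull hB (Groth.Agent.S6235.result f₁ _ h₁) (h₁ k)

end Groth.Agent.PerfGen7.ExtTensor
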