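import Groth.Agent.PerfGen7.RpushFlatOver
import Groth.Agent.H9Misc.DRingTor
import Groth.Agent.PerfLocus7.RelFlatBasic
import Groth.Prelude.Def_DerSch

/-!
# Tensoring an object of finite relative tor amplitude with a pullback
-/

set_option linter.style.haveILetI false
set_option backward.isDefEq.respectTransparency false

universe u

open CategoryTheory CategoryTheory.Limits AlgebraicGeometry MonoidalCategory

attribute [local instance] HasDerivedCategory.standard

namespace Groth.Agent.PerfGen7

open Groth.Agent.KFlatLib Groth.Agent.H9Misc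

/-- `L ⊗^L M` for `L` of bounded flat amplitude. -/
lemma exactAt_tensor_of_amplitude {A : Type u} [CommRing A]
    {L P E : CochainComplex (ModuleCat.{u} A) ℤ} (hP : DRingLTensor.IsKF P) {M : ModuleCat.{u} A}
    (ψ : P ⟶ (HomologicalComplex.single (ModuleCat.{u} A) (ComplexShape.up ℤ) 0).obj M) [QuasiIso ψ]
    {a b : ℤ} (hz : DRing.VanishesOutside E a b) (hf : DRing.TermwiseFlat E)
    (e : DerivedCategory.Q.obj L ≅ DerivedCategory.Q.obj E) (i : ℤ) (hi : i < a ∨ b < i) :
    (((curriedTensor (ModuleCat.{u} A)).map₂CochainComplex.obj L).obj P).ExactAt i := by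
  let T := curriedTensor (ModuleCat.{u} A)
  obtain ⟨Z, s, hs, g, hg⟩ := DerivedCategory.right_fac e.hom
  haveI : IsIso (DerivedCategory.Q.map s) := hs
  haveI : IsIso (DerivedCategory.Q.map g) := by
    have h : DerivedCategory.Q.map g = DerivedCategory.Q.map s ≫ e.hom := by
      rw [hg, IsIso.hom_inv_id_assoc]
    rw [h]
    infer_instance
  haveI : QuasiIso s := (DerivedCategory.isIso_Q_map_iff_quasiIso _ _).1 inferInstance
  haveI : QuasiIso g := (DerivedCategory.isIso_Q_map_iff_quasiIso _ _).1 inferInstance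
  haveI : QuasiIso ((T.map₂CochainComplex.flip.obj P).map s) := hP.quasiIso_map s
  haveI : QuasiIso ((T.map₂CochainComplex.flip.obj P).map g) := hP.quasiIso_map g
  have hE : KFlat T E := DRingTor.isKF_of_flat hf (b := b) (fun k hk => hz k (Or.inr hk))
  haveI : QuasiIso ((T.map₂CochainComplex.obj E).map ψ) :=
    KFlat.quasiIso_map' curriedTensorFlipIso hE ψ
  rw [HomologicalComplex.exactAt_iff_isZero_homology]
  have h0 : IsZero (((T.map₂CochainComplex.obj E).obj
      ((HomologicalComplex.single (ModuleCat.{u} A) (ComplexShape.up ℤ) 0).obj M)).homology i) :=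
    IsZero.of_iso (ShortComplex.isZero_homology_of_isZero_X₂
      ((((T.flip.obj M).mapHomologicalComplex (ComplexShape.up ℤ)).obj E).sc i)
      ((T.flip.obj M).map_isZero (hz i hi)))
      ((HomologicalComplex.homologyFunctor _ _ i).mapIso ((singleIso T M).app E))
  exact h0.of_iso ((asIso (HomologicalComplex.homologyMap ((T.map₂CochainComplex.flip.obj P).map s) i)).symm ≪≫
    asIso (HomologicalComplex.homologyMap ((T.map₂CochainComplex.flip.obj P).map g) i) ≪≫
    asIso (HomologicalComplex.homologyMap ((T.map₂CochainComplex.obj E).map ψ) i))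

/-- Restriction of `L ⊗ (B ⊗ P)` on complexes. -/
noncomputable def cancelCxIso {A B : Type u} [CommRing A] [CommRing B] (φ : A →+* B)
    (L : CochainComplex (ModuleCat.{u} B) ℤ) (K : CochainComplex (ModuleCat.{u} A) ℤ) :
    ((ModuleCat.restrictScalars φ).mapHomologicalComplex (ComplexShape.up ℤ)).obj
      (((curriedTensor (ModuleCat.{u} B)).map₂CochainComplex.obj L).obj
        (((ModuleCat.extendScalars φ).mapHomologicalComplex (ComplexShape.up ℤ)).obj K)) ≅
      ((curriedTensor (ModuleCat.{u} A)).map₂CochainComplex.obj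
        (((ModuleCat.restrictScalars φ).mapHomologicalComplex (ComplexShape.up ℤ)).obj L)).obj K :=
  ((ModuleCat.restrictScalars φ).mapHomologicalComplex (ComplexShape.up ℤ)).mapIso
      (totalMapIso (Φ₁ := 𝟭 (ModuleCat.{u} B)) (Φ₂ := ModuleCat.extendScalars φ)
        (Ψ := 𝟭 (ModuleCat.{u} B)) (T := extT φ) (T' := curriedTensor (ModuleCat.{u} B))
        (Iso.refl _) L K) ≪≫
    (totalMapIso (extTIso φ) L K).symm

variable {X S : Scheme.{u}} (f : X ⟶ S)

/-- An object of relative tor amplitude `[a, b]` tensored with `Lf^*` of a module. -/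
theorem exists_tensor_lpull_of_torAmplitude [DCoh.HasLpull f] {a b : ℤ}
    {F : CochainComplex X.Modules ℤ} (hF : DerSch.HasTorAmplitude f a b F) (F₀ : S.Modules) :
    ∃ (M : CochainComplex X.Modules ℤ) (_ : DCoh.HasLTensorCx M),
      Nonempty (DCoh.toD X M ≅ (DCoh.Lpull f).obj (DCoh.toD S (degZero F₀))) ∧
      ∀ i, (i < a ∨ b < i) → IsZero (DCoh.HD ((DCoh.LTensorCx M).obj (DCoh.toD X F)) i) := by
  let P := (kRes S).obj (degZero F₀)
  let ψ : P ⟶ degZero F₀ := (flatCover S).ψ.app (degZero F₀)
  haveI : QuasiIso ψ := (flatCover S).quasiIso_ψ (degZero F₀)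
  haveI := isIso_Q_map ψ inferInstance
  have hP : DCoh.IsKFlat P := isKFlat_kRes _
  let M := (pullCx f).obj P
  haveI := hasLTensorCx M
  refine ⟨M, inferInstance, ⟨(lpullIso f hP).symm ≪≫
    (DCoh.Lpull f).mapIso (asIso (DerivedCategory.Q.map ψ))⟩, fun i hi => ?_⟩
  let C := (DCoh.tensorCx.obj F).obj M
  refine IsZero.of_iso ?_ ((DerivedCategory.homologyFunctor X.Modules i).mapIso
    (@asIso _ _ _ _ (((DCoh.tensorCxQ M).totalLeftDerivedCounit DerivedCategory.Q (qisX X)).app F)
      (isIso_LTensorCx_counit_of_isKFlat_right M (isKFlat_pullback f hP) F)) ≪≫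
    (DerivedCategory.homologyFunctorFactors X.Modules i).app C)
  change IsZero (C.homology i)
  rw [← HomologicalComplex.exactAt_iff_isZero_homology]
  refine (exact_iff_stalk (C.sc i)).2 fun x => ?_
  let φ := (f.stalkMap x).hom
  refine (ShortComplex.exact_map_iff_of_faithful _ (ModuleCat.restrictScalars φ)).1 ?_
  let e : ((ModuleCat.restrictScalars φ).mapHomologicalComplex (ComplexShape.up ℤ)).obj
      ((stalkCx x).obj C) ≅
      ((curriedTensor (ModuleCat.{u} (S.presheaf.stalk (f.base x)))).map₂CochainComplex.obj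
        (((ModuleCat.restrictScalars φ).mapHomologicalComplex (ComplexShape.up ℤ)).obj
          ((stalkCx x).obj F))).obj ((stalkCx (f.base x)).obj P) :=
    ((ModuleCat.restrictScalars φ).mapHomologicalComplex (ComplexShape.up ℤ)).mapIso
      ((stalkTensorCxIso x F M).symm ≪≫
        ((curriedTensor (ModuleCat.{u} (X.presheaf.stalk x))).map₂CochainComplex.obj
          ((stalkCx x).obj F)).mapIso (stalkPullCxIso f x P)) ≪≫
      cancelCxIso φ _ _
  obtain ⟨E, hz, hf, ⟨eE⟩⟩ := hF x
  let ψ' : (stalkCx (f.base x)).obj P ⟶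
      (HomologicalComplex.single _ (ComplexShape.up ℤ) 0).obj ((DerSch.stalkFunctor S (f.base x)).obj F₀) :=
    (stalkCx (f.base x)).map ψ ≫
      (HomologicalComplex.singleMapHomologicalComplex (DerSch.stalkFunctor S (f.base x)) _ 0).hom.app F₀
  haveI : QuasiIso ((stalkCx (f.base x)).map ψ) := inferInstance
  haveI : QuasiIso ψ' := quasiIso_comp _ _
  exact (exactAt_tensor_of_amplitude ((kFlat_iff_stalk P).1 hP (f.base x)) ψ' hz hf eE.symm i hi).of_iso
    e.symm

end Groth.Agent.PerfGen7
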