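import Groth.Agent.PerfGen7.ExtTensor
import Groth.Agent.PerfGen7.RelTorTensor
import Groth.Agent.H9Misc.DRingLTensorCx
import Groth.Agent.DerBC7.LpullFlat
import Groth.Agent.RGLib.Lim8Exact

/-!
# Bounds for external tensor products
-/

set_option linter.style.haveILetI false
set_option backward.isDefEq.respectTransparency false
set_option backward.isDefEq.respectTransparency.types false

universe u

open CategoryTheory CategoryTheory.Limits AlgebraicGeometry MonoidalCategory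

attribute [local instance] HasDerivedCategory.standard

namespace Groth.Agent.PerfGen7.ExtTensor

open Groth.Agent.KFlatLib Groth.Agent.H9Misc Groth.Agent.PerfGen7

/-- `L ⊗ P` for `L` of bounded flat amplitude and `P` K-flat with bounded cohomology. -/
lemma exactAt_tensor_of_bounded {A : Type u} [CommRing A] {L P E : DRing.Cx A}
    (hP : DRingLTensor.IsKF P) {a b c d : ℤ} (hz : DRing.VanishesOutside E a b) (hf : DRing.TermwiseFlat E)
    (e : DerivedCategory.Q.obj L ≅ DerivedCategory.Q.obj E)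
    (hc : ∀ i, i < c ∨ d < i → P.ExactAt i) (i : ℤ) (hi : i < a + c ∨ b + d < i) :
    (((curriedTensor (ModuleCat.{u} A)).map₂CochainComplex.obj L).obj P).ExactAt i := by
  let T := curriedTensor (ModuleCat.{u} A)
  have hHD : ∀ j, (j < c ∨ d < j) →
      IsZero ((DerivedCategory.homologyFunctor (ModuleCat.{u} A) j).obj (DerivedCategory.Q.obj P)) := fun j hj =>
    ((HomologicalComplex.exactAt_iff_isZero_homology _ j).1 (hc j hj)).of_iso
      ((DerivedCategory.homologyFunctorFactors (ModuleCat.{u} A) j).app P)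
  haveI : (DerivedCategory.Q.obj P).IsGE c := (DerivedCategory.isGE_iff _ c).2 fun j hj => hHD j (Or.inl hj)
  haveI : (DerivedCategory.Q.obj P).IsLE d := (DerivedCategory.isLE_iff _ d).2 fun j hj => hHD j (Or.inr hj)
  obtain ⟨G, hG₁, hG₂, ⟨eG⟩⟩ := DerivedCategory.exists_iso_Q_obj_of_isGE_of_isLE (DerivedCategory.Q.obj P) c d
  haveI := hG₁
  haveI := hG₂
  have hE : DRingLTensor.IsKF E := DRingTor.isKF_of_flat hf (b := b) (fun k hk => hz k (Or.inr hk))
  let R := (ringCover A).P.obj G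
  let r : R ⟶ G := (ringCover A).ψ.app G
  haveI hr : QuasiIso r := (ringCover A).quasiIso_ψ G
  haveI : IsIso (DerivedCategory.Q.map r) := (DerivedCategory.isIso_Q_map_iff_quasiIso _ _).2 hr
  have hR : DRingLTensor.IsKF R := kFlat_ringRes G
  haveI : DRing.HasLTensorCx A L := (DRingLTensorCx.resTensorCx L).hasLeftDerivedFunctor DerivedCategory.Q
  haveI : DRing.HasLTensorCx A E := (DRingLTensorCx.resTensorCx E).hasLeftDerivedFunctor DerivedCategory.Q
  obtain ⟨Z, s, hs, g, hg⟩ := DerivedCategory.right_fac e.hom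
  haveI : IsIso (DerivedCategory.Q.map s) := hs
  haveI : IsIso (DerivedCategory.Q.map g) := by
    have h : DerivedCategory.Q.map g = DerivedCategory.Q.map s ≫ e.hom := by
      rw [hg, IsIso.hom_inv_id_assoc]
    rw [h]
    infer_instance
  haveI : QuasiIso s := (DerivedCategory.isIso_Q_map_iff_quasiIso _ _).1 inferInstance
  haveI : QuasiIso g := (DerivedCategory.isIso_Q_map_iff_quasiIso _ _).1 inferInstance
  obtain ⟨e₁⟩ := DRingLTensorCx.nonempty_iso_right hP s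
  obtain ⟨e₂⟩ := DRingLTensorCx.nonempty_iso_right hP g
  obtain ⟨e₃⟩ := DRingLTensorCx.nonempty_iso E hP eG
  obtain ⟨e₄⟩ := DRingLTensorCx.nonempty_iso E hR (asIso (DerivedCategory.Q.map r))
  haveI : QuasiIso ((T.map₂CochainComplex.flip.obj E).map r) := hE.quasiIso_map r
  haveI : IsIso (DerivedCategory.Q.map ((T.map₂CochainComplex.flip.obj E).map r)) :=
    (DerivedCategory.isIso_Q_map_iff_quasiIso _ _).2 inferInstance
  let eAll : DerivedCategory.Q.obj ((T.map₂CochainComplex.obj L).obj P) ≅ DerivedCategory.Q.obj (G ⊗ E) :=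
    DerivedCategory.Q.mapIso (DTen.braidCx L P) ≪≫ e₁.symm ≪≫ e₂ ≪≫ e₃.symm ≪≫ e₄ ≪≫
      asIso (DerivedCategory.Q.map ((T.map₂CochainComplex.flip.obj E).map r))
  rw [HomologicalComplex.exactAt_iff_isZero_homology]
  refine IsZero.of_iso ?_ (((DerivedCategory.homologyFunctorFactors (ModuleCat.{u} A) i).app _).symm ≪≫
    (DerivedCategory.homologyFunctor (ModuleCat.{u} A) i).mapIso eAll ≪≫
    (DerivedCategory.homologyFunctorFactors (ModuleCat.{u} A) i).app _)
  refine ShortComplex.isZero_homology_of_isZero_X₂ _ ?_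
  rcases hi with hi | hi
  · exact DRingLTensorCx.vanishesBelow_tensor (fun j hj => G.isZero_of_isStrictlyGE c j hj)
      (fun j hj => hz j (Or.inl hj)) i (by omega)
  · exact DRingLTensorCx.vanishesAbove_tensor (fun j hj => G.isZero_of_isStrictlyLE d j hj)
      (fun j hj => hz j (Or.inr hj)) i (by omega)

variable {X T : Scheme.{u}} (f : X ⟶ T)

/-- An object of relative tor amplitude `[a, b]` tensored with `Lf^*` of a bounded complex. -/
theorem exists_tensor_lpull_bounded [DCoh.HasLpull f] {a b : ℤ}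
    {F : CochainComplex X.Modules ℤ} (hF : DerSch.HasTorAmplitude f a b F) (K : DCoh.D T) {c d : ℤ}
    [K.IsGE c] [K.IsLE d] :
    ∃ (M : CochainComplex X.Modules ℤ) (_ : DCoh.HasLTensorCx M),
      Nonempty (DCoh.toD X M ≅ (DCoh.Lpull f).obj K) ∧
      ∀ i, (i < a + c ∨ b + d < i) → IsZero (DCoh.HD ((DCoh.LTensorCx M).obj (DCoh.toD X F)) i) := by
  obtain ⟨P, hP, ⟨eP⟩⟩ := exists_kFlat_rep K
  let M := (pullCx f).obj P
  haveI := hasLTensorCx M
  refine ⟨M, inferInstance, ⟨(lpullIso f hP).symm ≪≫ (DCoh.Lpull f).mapIso eP⟩, fun i hi => ?_⟩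
  let C := (DCoh.tensorCx.obj F).obj M
  refine IsZero.of_iso ?_ ((DerivedCategory.homologyFunctor X.Modules i).mapIso
    (@asIso _ _ _ _ (((DCoh.tensorCxQ M).totalLeftDerivedCounit DerivedCategory.Q (qisX X)).app F)
      (isIso_LTensorCx_counit_of_isKFlat_right M (isKFlat_pullback f hP) F)) ≪≫
    (DerivedCategory.homologyFunctorFactors X.Modules i).app C)
  change IsZero (C.homology i)
  rw [← HomologicalComplex.exactAt_iff_isZero_homology]
  refine (exact_iff_stalk (C.sc i)).2 fun x => ?_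
  let φ := (f.stalkMap x).hom
  refine (ShortComplex.exact_map_iff_of_faithful _ (ModuleCat.restrictScalars φ)).1 ?_
  let e : ((ModuleCat.restrictScalars φ).mapHomologicalComplex (ComplexShape.up ℤ)).obj
      ((stalkCx x).obj C) ≅
      ((curriedTensor (ModuleCat.{u} (T.presheaf.stalk (f.base x)))).map₂CochainComplex.obj
        (((ModuleCat.restrictScalars φ).mapHomologicalComplex (ComplexShape.up ℤ)).obj
          ((stalkCx x).obj F))).obj ((stalkCx (f.base x)).obj P) :=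
    ((ModuleCat.restrictScalars φ).mapHomologicalComplex (ComplexShape.up ℤ)).mapIso
      ((stalkTensorCxIso x F M).symm ≪≫
        ((curriedTensor (ModuleCat.{u} (X.presheaf.stalk x))).map₂CochainComplex.obj
          ((stalkCx x).obj F)).mapIso (stalkPullCxIso f x P)) ≪≫
      cancelCxIso φ _ _
  obtain ⟨E, hz, hf, ⟨eE⟩⟩ := hF x
  refine (exactAt_tensor_of_bounded ((kFlat_iff_stalk P).1 hP (f.base x)) hz hf eE.symm (fun j hj => ?_) i hi).of_iso
    e.symm
  have hex : P.ExactAt j := by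
    rw [HomologicalComplex.exactAt_iff_isZero_homology]
    refine IsZero.of_iso ?_ (((DerivedCategory.homologyFunctorFactors T.Modules j).app P).symm ≪≫
      (DerivedCategory.homologyFunctor T.Modules j).mapIso eP)
    rcases hj with hj | hj
    · exact DerivedCategory.isZero_of_isGE K c j hj
    · exact DerivedCategory.isZero_of_isLE K d j hj
  exact (exact_iff_stalk (P.sc j)).1 hex (f.base x)

variable {S X₁ Y₁ X₂ Y₂ Y : Scheme.{u}} {f₁ : X₁ ⟶ Y₁} {q₁ : Y₁ ⟶ S} {f₂ : X₂ ⟶ Y₂} {q₂ : Y₂ ⟶ S}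
  {pX₁ : X ⟶ X₁} {pX₂ : X ⟶ X₂} {pY₁ : Y ⟶ Y₁} {pY₂ : Y ⟶ Y₂} {g : X ⟶ Y}

/-- Bounds of an external tensor product, flat first factor. -/
theorem external_bounded [Flat q₁] [Flat (f₁ ≫ q₁)] (hX : IsPullback pX₁ pX₂ (f₁ ≫ q₁) (f₂ ≫ q₂))
    (hY : IsPullback pY₁ pY₂ q₁ q₂) (hf₁ : g ≫ pY₁ = pX₁ ≫ f₁) (hf₂ : g ≫ pY₂ = pX₂ ≫ f₂)
    (E₁ : CochainComplex X₁.Modules ℤ) {a₁ b₁ : ℤ} (h₁ : DerSch.HasTorAmplitude f₁ a₁ b₁ E₁)
    (E₂ : DCoh.D X₂) {a₂ b₂ : ℤ} [E₂.IsGE a₂] [E₂.IsLE b₂]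
    [DCoh.HasLpull pX₁] [DCoh.HasLpull pX₂] (K₂ : CochainComplex X.Modules ℤ) [DCoh.HasLTensorCx K₂]
    (e₂ : DCoh.toD X K₂ ≅ (DCoh.Lpull pX₂).obj E₂) :
    ((DCoh.LTensorCx K₂).obj ((DCoh.Lpull pX₁).obj (DCoh.toD X₁ E₁))).IsGE (a₁ + a₂) ∧
      ((DCoh.LTensorCx K₂).obj ((DCoh.Lpull pX₁).obj (DCoh.toD X₁ E₁))).IsLE (b₁ + b₂) := by
  obtain ⟨T', a, b, p₁, p₂, hA, hq, -, -, hap⟩ := exists_factor hX.flip hY.flip hf₂ hf₁
  haveI : Flat p₁ := MorphismProperty.of_isPullback hq ‹Flat q₁›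
  haveI := RGLib.Lim8.preservesFiniteLimits_pullback p₁
  haveI := hasLpull a
  haveI := hasLpull p₁
  haveI := DerBC7.isGE_lpull p₁ E₂ a₂
  haveI := DerBC7.isLE_lpull' p₁ E₂ b₂
  let K₁ := DerivedCategory.Q.objPreimage ((DCoh.Lpull pX₁).obj (DCoh.toD X₁ E₁))
  let eK₁ : DCoh.toD X K₁ ≅ _ := DerivedCategory.Q.objObjPreimageIso _
  have t₁ : DerSch.HasTorAmplitude a a₁ b₁ K₁ :=
    TorIndep.torAmplitudeD_lpull_of_flat hA hq E₁ h₁ K₁ ⟨eK₁⟩
  obtain ⟨M, _, ⟨eM⟩, hM⟩ := exists_tensor_lpull_bounded a t₁ ((DCoh.Lpull p₁).obj E₂) (c := a₂) (d := b₂)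
  obtain ⟨c⟩ := nonempty_lpull_comp a p₁ pX₂ hap E₂
  obtain ⟨θ⟩ := nonempty_LTensorCx_congr_D (eM ≪≫ c ≪≫ e₂.symm : DCoh.toD X M ≅ DCoh.toD X K₂)
  let eT : (DCoh.LTensorCx M).obj (DCoh.toD X K₁) ≅
      (DCoh.LTensorCx K₂).obj ((DCoh.Lpull pX₁).obj (DCoh.toD X₁ E₁)) :=
    θ.app _ ≪≫ (DCoh.LTensorCx K₂).mapIso eK₁
  refine ⟨(DerivedCategory.isGE_iff _ _).2 fun i hi => ?_, (DerivedCategory.isLE_iff _ _).2 fun i hi => ?_⟩
  · exact (hM i (Or.inl hi)).of_iso ((DerivedCategory.homologyFunctor X.Modules i).mapIso eT).symm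
  · exact (hM i (Or.inr hi)).of_iso ((DerivedCategory.homologyFunctor X.Modules i).mapIso eT).symm

end Groth.Agent.PerfGen7.ExtTensor
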