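import Groth.Agent.H9Misc.DRingPCDescent
import Groth.Agent.H9Misc.DRingLBase
import Mathlib.Algebra.Category.Ring.Constructions
import Mathlib.RingTheory.TensorProduct.MvPolynomial

/-!
# Pseudo-coherence after restriction, along a flat pushout
-/

set_option linter.style.haveILetI false
set_option backward.isDefEq.respectTransparency false
set_option backward.isDefEq.respectTransparency.types false

universe u

open CategoryTheory CategoryTheory.Limits TensorProduct

attribute [local instance] HasDerivedCategory.standard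

namespace Groth.Agent.PerfGen7

open Groth.Agent.H9Misc Groth.Agent.H9Misc.DRingTor Groth.Agent.H9Misc.DRingLTensor

variable {P P' B B' : Type u} [CommRing P] [CommRing P'] [CommRing B] [CommRing B']
  {φ : P →+* B} {π : P →+* P'} {φ' : P' →+* B'} {β : B →+* B'}

/-- Base change commutes with restriction in a pushout. -/
theorem nonempty_restrict_extend (h : IsPushout (CommRingCat.ofHom π) (CommRingCat.ofHom φ)
      (CommRingCat.ofHom φ') (CommRingCat.ofHom β)) (C : CochainComplex (ModuleCat.{u} B) ℤ) :
    Nonempty ((extC' π).obj (((ModuleCat.restrictScalars.{u} φ).mapHomologicalComplex (ComplexShape.up ℤ)).obj C) ≅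
      ((ModuleCat.restrictScalars.{u} φ').mapHomologicalComplex (ComplexShape.up ℤ)).obj ((extC' β).obj C)) := by
  letI := φ.toAlgebra
  letI := π.toAlgebra
  letI := φ'.toAlgebra
  letI := β.toAlgebra
  letI : Algebra P B' := (φ'.comp π).toAlgebra
  haveI : IsScalarTower P P' B' := .of_algebraMap_eq fun _ => rfl
  haveI : IsScalarTower P B B' := .of_algebraMap_eq' congr(($h.w).hom)
  haveI : Algebra.IsPushout P P' B B' := CommRingCat.isPushout_iff_isPushout.1 h
  letI : ∀ i, Module P (C.X i) := fun i => Module.compHom (C.X i) φ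
  haveI : ∀ i, IsScalarTower P B (C.X i) := fun i => .of_algebraMap_smul fun _ _ => rfl
  let e : ∀ i, P' ⊗[P] (C.X i) ≃ₗ[P'] B' ⊗[B] (C.X i) := fun i =>
    (Algebra.IsPushout.cancelBaseChange P P' B B' (C.X i)).symm
  let E : ∀ i, (ModuleCat.extendScalars.{u, u, u} π).obj ((ModuleCat.restrictScalars.{u} φ).obj (C.X i)) ≅
      (ModuleCat.restrictScalars.{u} φ').obj ((ModuleCat.extendScalars.{u, u, u} β).obj (C.X i)) := fun i => by
    let eA : ((ModuleCat.extendScalars.{u, u, u} π).obj ((ModuleCat.restrictScalars.{u} φ).obj (C.X i)) : Type u) ≃+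
        ((ModuleCat.restrictScalars.{u} φ').obj ((ModuleCat.extendScalars.{u, u, u} β).obj (C.X i)) : Type u) :=
      (e i).toAddEquiv
    let eL : ((ModuleCat.extendScalars.{u, u, u} π).obj ((ModuleCat.restrictScalars.{u} φ).obj (C.X i)) : Type u) ≃ₗ[P']
        ((ModuleCat.restrictScalars.{u} φ').obj ((ModuleCat.extendScalars.{u, u, u} β).obj (C.X i)) : Type u) :=
      eA.toLinearEquiv fun r x =>
        ((e i).map_smul r x).trans (algebraMap_smul B' r (show B' ⊗[B] (C.X i) from e i x)).symm
    exact eL.toModuleIso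
  refine ⟨HomologicalComplex.Hom.isoOfComponents E fun i j _ => ModuleCat.hom_ext (LinearMap.ext fun x => ?_)⟩
  induction x using TensorProduct.induction_on with
  | zero => exact (map_zero _).trans (map_zero _).symm
  | add a b ha hb => exact (map_add _ a b).trans ((congrArg₂ (· + ·) ha hb).trans (map_add _ a b).symm)
  | tmul s x =>
    show (C.d i j).hom.lTensor B' (e i (s ⊗ₜ x)) = e j (s ⊗ₜ (C.d i j).hom x)
    rw [Algebra.IsPushout.cancelBaseChange_symm_tmul, Algebra.IsPushout.cancelBaseChange_symm_tmul,
      LinearMap.lTensor_tmul]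

/-- Pseudo-coherence over the base, after a flat pushout, and its descent. -/
theorem pc_restrict_lbase (h : IsPushout (CommRingCat.ofHom π) (CommRingCat.ofHom φ)
      (CommRingCat.ofHom φ') (CommRingCat.ofHom β)) [DRing.HasLBaseChange β] (M : Dual.D B) (m : ℤ) :
    (π.Flat → DRing.IsPseudoCoherent P m ((DRing.restrictD φ).obj M) →
        DRing.IsPseudoCoherent P' m ((DRing.restrictD φ').obj ((DRing.LBaseChange β).obj M))) ∧
      (π.FaithfullyFlat → DRing.IsPseudoCoherent P' m ((DRing.restrictD φ').obj ((DRing.LBaseChange β).obj M)) →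
        DRing.IsPseudoCoherent P m ((DRing.restrictD φ).obj M)) := by
  obtain ⟨C, hC, -, ⟨eC⟩⟩ := exists_rep M
  obtain ⟨eL⟩ := DRingLBase.nonempty_lbase_iso β hC
  obtain ⟨eX⟩ := nonempty_restrict_extend h C
  let R := ((ModuleCat.restrictScalars.{u} φ).mapHomologicalComplex (ComplexShape.up ℤ)).obj C
  let eR : (DRing.restrictD φ).obj M ≅ DerivedCategory.Q.obj R :=
    (DRing.restrictD φ).mapIso eC.symm ≪≫ (ModuleCat.restrictScalars.{u} φ).mapDerivedCategoryFactors.app C
  let eR' : (DRing.restrictD φ').obj ((DRing.LBaseChange β).obj M) ≅ DerivedCategory.Q.obj ((extC' π).obj R) :=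
    (DRing.restrictD φ').mapIso ((DRing.LBaseChange β).mapIso eC.symm ≪≫ eL) ≪≫
      (ModuleCat.restrictScalars.{u} φ').mapDerivedCategoryFactors.app _ ≪≫ DerivedCategory.Q.mapIso eX.symm
  constructor
  · intro hπ hM
    haveI := ModuleCat.preservesFiniteLimits_extendScalars_of_flat hπ
    haveI : PreservesFiniteColimits (ModuleCat.extendScalars.{u, u, u} π) := by
      haveI : (ModuleCat.extendScalars.{u, u, u} π).IsLeftAdjoint :=
        (ModuleCat.extendRestrictScalarsAdj π).isLeftAdjoint
      infer_instance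
    exact DRingPC.of_iso (((ModuleCat.extendScalars.{u, u, u} π).mapDerivedCategoryFactors.app R) ≪≫ eR'.symm)
      (DRingRestrict.pc_map _ (DRingRestrict.finFree_extendScalars π) (DRingPC.of_iso eR hM))
  · intro hπ hM
    refine DRingPC.of_iso eR.symm ?_
    letI := π.toAlgebra
    haveI : Module.FaithfullyFlat P P' := hπ
    exact DRingPCDescent.pc_descent R m (DRingPC.of_iso eR' hM)

end Groth.Agent.PerfGen7
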