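import Groth.Agent.PerfGen7.RelTor.Ring
import Groth.Agent.PerfGen7.RelLpullRing
import Groth.Agent.H9Misc.DRingTorLocal

/-!
# Tor amplitude under flat base change of rings
-/

set_option linter.style.haveILetI false
set_option backward.isDefEq.respectTransparency false

universe u

open CategoryTheory CategoryTheory.Limits MonoidalCategory

attribute [local instance] HasDerivedCategory.standard

namespace Groth.Agent.PerfGen7.TorAmpBC

open Groth.Agent.KFlatLib Groth.Agent.H9Misc Groth.Agent.H9Misc.DRingLTensor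
  Groth.Agent.H9Misc.DRingTorLTensor Groth.Agent.PerfGen7.RelTor Groth.Agent.H9Misc.DRingTorDescent

variable {P Q : Type u} [CommRing P] [CommRing Q] {a b : ℤ}

/-- Restriction of scalars along a flat map preserves tor amplitude. -/
theorem res_flat (ι : P →+* Q) (hι : ι.Flat) {X : DRing.Cx Q}
    (h : DRing.HasTorAmplitudeIn Q a b (DerivedCategory.Q.obj X)) :
    DRing.HasTorAmplitudeIn P a b (DerivedCategory.Q.obj ((resCx ι).obj X)) := by
  obtain ⟨E, hz, hf, ⟨e⟩⟩ := h
  refine ⟨(resCx ι).obj E, fun i hi => (ModuleCat.restrictScalars ι).map_isZero (hz i hi), fun i => ?_,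
    ⟨resQMapIso ι e⟩⟩
  letI := ι.toAlgebra
  letI : Module P (E.X i : Type u) := Module.compHom _ ι
  haveI : IsScalarTower P Q (E.X i : Type u) := IsScalarTower.of_algebraMap_smul fun _ _ => rfl
  haveI : Module.Flat P Q := hι
  haveI : Module.Flat Q (E.X i : Type u) := hf i
  exact Module.Flat.trans P Q (E.X i : Type u)

/-- Extension of scalars along a flat map preserves tor amplitude. -/
theorem ext_flat (π : P →+* Q) (hπ : π.Flat) {X : DRing.Cx P}
    (h : DRing.HasTorAmplitudeIn P a b (DerivedCategory.Q.obj X)) :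
    DRing.HasTorAmplitudeIn Q a b (DerivedCategory.Q.obj ((extC' π).obj X)) := by
  obtain ⟨E, hz, hf, ⟨e⟩⟩ := h
  haveI := ModuleCat.preservesFiniteLimits_extendScalars_of_flat hπ
  haveI : PreservesFiniteColimits (ModuleCat.extendScalars.{u, u, u} π) := by
    haveI : (ModuleCat.extendScalars.{u, u, u} π).IsLeftAdjoint :=
      (ModuleCat.extendRestrictScalarsAdj π).isLeftAdjoint
    infer_instance
  let F := ModuleCat.extendScalars.{u, u, u} π
  exact ⟨(extC' π).obj E, fun i hi => F.map_isZero (hz i hi),
    fun i => haveI := hf i; DRingLBase.flat_extendScalars π (E.X i),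
    ⟨(F.mapDerivedCategoryFactors.app E).symm ≪≫ F.mapDerivedCategory.mapIso e ≪≫
      F.mapDerivedCategoryFactors.app X⟩⟩

/-- Tensoring with a flat module preserves tor amplitude. -/
theorem tens_flat (φ : P →+* Q) (M : ModuleCat.{u} Q) [Module.Flat Q M] (K : DRing.Cx Q)
    (h : DRing.HasTorAmplitudeIn P a b (DerivedCategory.Q.obj ((resCx φ).obj K))) :
    DRing.HasTorAmplitudeIn P a b (DerivedCategory.Q.obj ((resCx φ).obj ((tensC M).obj K))) := by
  let E : DRing.Cx Q := (HomologicalComplex.single (ModuleCat.{u} Q) (ComplexShape.up ℤ) 0).obj M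
  have hz : DRing.VanishesOutside E 0 0 := fun i hi =>
    HomologicalComplex.isZero_single_obj_X (ComplexShape.up ℤ) _ _ _ (by omega)
  have hf : DRing.TermwiseFlat E := fun i => by
    by_cases h : i = 0
    · subst h
      exact Module.Flat.of_linearEquiv
        (HomologicalComplex.singleObjXSelf (ComplexShape.up ℤ) 0 M).toLinearEquiv
    · haveI := ModuleCat.subsingleton_of_isZero
        (HomologicalComplex.isZero_single_obj_X (ComplexShape.up ℤ) 0 M i h)
      exact inferInstanceAs (Module.Flat Q (E.X i : Type u))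
  have := hasTorAmplitudeIn_tensor φ E K hz hf h
  rw [zero_add, zero_add] at this
  exact torAmp_of_iso (DerivedCategory.Q.mapIso ((resCx φ).mapIso
    (((symmIso curriedTensorFlipIso E).app K).symm ≪≫ (singleIso (curriedTensor (ModuleCat.{u} Q)) M).app K))) this

theorem full_restrictScalars [Algebra P Q] (S : Submonoid P) [IsLocalization S Q] :
    (ModuleCat.restrictScalars (algebraMap P Q)).Full where
  map_surjective {M N} g := by
    letI : Module P M := Module.compHom M (algebraMap P Q)
    letI : Module P N := Module.compHom N (algebraMap P Q)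
    haveI : IsScalarTower P Q M := .of_algebraMap_smul fun _ _ => rfl
    haveI : IsScalarTower P Q N := .of_algebraMap_smul fun _ _ => rfl
    let g' : M →ₗ[P] N := g.hom
    exact ⟨ModuleCat.ofHom (g'.extendScalarsOfIsLocalization S Q), rfl⟩

/-- A complex over a localization, restricted and extended back. -/
theorem nonempty_ext_res [Algebra P Q] (S : Submonoid P) [IsLocalization S Q] (X : DRing.Cx Q) :
    Nonempty ((extC' (algebraMap P Q)).obj ((resCx (algebraMap P Q)).obj X) ≅ X) := by
  haveI := full_restrictScalars (Q := Q) S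
  let adj := ModuleCat.extendRestrictScalarsAdj.{u, u, u} (algebraMap P Q)
  haveI : IsIso adj.counit := adj.counit_isIso_of_R_fully_faithful
  exact ⟨HomologicalComplex.Hom.isoOfComponents (fun i => (asIso adj.counit).app (X.X i))
    (fun i j _ => ((asIso adj.counit).hom.naturality (X.d i j)).symm)⟩

/-- Tor amplitude over a localization. -/
theorem of_res_localization [Algebra P Q] (S : Submonoid P) [IsLocalization S Q] {X : DRing.Cx Q}
    (h : DRing.HasTorAmplitudeIn P a b (DerivedCategory.Q.obj ((resCx (algebraMap P Q)).obj X))) :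
    DRing.HasTorAmplitudeIn Q a b (DerivedCategory.Q.obj X) := by
  obtain ⟨e⟩ := nonempty_ext_res (Q := Q) S X
  exact torAmp_of_iso (DerivedCategory.Q.mapIso e)
    (ext_flat _ (RingHom.flat_algebraMap_iff.2 (IsLocalization.flat Q S)) h)

/-- Restriction of scalars along a composite. -/
noncomputable def resCompIso {R A B : Type u} [CommRing R] [CommRing A] [CommRing B] {φ : R →+* A} {ψ : A →+* B}
    {θ : R →+* B} (h : ψ.comp φ = θ) (X : DRing.Cx B) :
    (resCx θ).obj X ≅ (resCx φ).obj ((resCx ψ).obj X) :=
  HomologicalComplex.Hom.isoOfComponents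
    (fun i => (ModuleCat.restrictScalarsComp' φ ψ θ h.symm).app (X.X i)) (fun _ _ _ => rfl)

/-- Extension of scalars along a composite. -/
noncomputable def extCompIso {R A B : Type u} [CommRing R] [CommRing A] [CommRing B] {φ : R →+* A} {ψ : A →+* B}
    {θ : R →+* B} (h : ψ.comp φ = θ) (X : DRing.Cx R) :
    (extC' θ).obj X ≅ (extC' ψ).obj ((extC' φ).obj X) := by
  subst h
  exact HomologicalComplex.Hom.isoOfComponents (fun i => (ModuleCat.extendScalarsComp φ ψ).app (X.X i))
    (fun i j _ => ((ModuleCat.extendScalarsComp φ ψ).hom.naturality (X.d i j)).symm)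

/-- Flat base change of tor amplitude, followed by a flat map. -/
theorem baseChange_flat {R R' A B' L : Type u} [CommRing R] [CommRing R'] [CommRing A] [CommRing B'] [CommRing L]
    {π : R →+* R'} {φ : R →+* A} {φ' : R' →+* B'} {β : A →+* B'}
    (h : IsPushout (CommRingCat.ofHom π) (CommRingCat.ofHom φ)
      (CommRingCat.ofHom φ') (CommRingCat.ofHom β))
    (hπ : π.Flat) (ψ : B' →+* L) (hψ : ψ.Flat) {γ : A →+* L} (hγ : ψ.comp β = γ)
    {θ : R' →+* L} (hθ : ψ.comp φ' = θ) (K : DRing.Cx A)
    (hK : DRing.HasTorAmplitudeIn R a b (DerivedCategory.Q.obj ((resCx φ).obj K))) :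
    DRing.HasTorAmplitudeIn R' a b (DerivedCategory.Q.obj ((resCx θ).obj ((extC' γ).obj K))) := by
  obtain ⟨e⟩ := nonempty_restrict_extend h K
  have h1 : DRing.HasTorAmplitudeIn R' a b (DerivedCategory.Q.obj ((resCx φ').obj ((extC' β).obj K))) :=
    torAmp_of_iso (DerivedCategory.Q.mapIso e) (ext_flat π hπ hK)
  haveI : Module.Flat B' (resB ψ) := hψ
  let C' := (extC' β).obj K
  let eT : (tensC (resB ψ)).obj C' ≅ (resCx ψ).obj ((extC' ψ).obj C') :=
    HomologicalComplex.Hom.isoOfComponents (fun n => (DRingTorLocal.extResIso ψ).app (C'.X n))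
      (fun p q _ => ((DRingTorLocal.extResIso ψ).hom.naturality (C'.d p q)).symm)
  refine torAmp_of_iso (DerivedCategory.Q.mapIso ?_) (tens_flat φ' (resB ψ) _ h1)
  exact (resCx φ').mapIso eT ≪≫ (resCompIso hθ _).symm ≪≫ (resCx θ).mapIso (extCompIso hγ K).symm

end Groth.Agent.PerfGen7.TorAmpBC
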