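import Groth.Agent.H9Misc.DRingFibre
import Groth.Agent.H9Misc.DRingTorDevissage
import Groth.Agent.H9Misc.DRingTorDim
import Groth.Agent.H9Misc.DRingLBase
import Groth.Agent.PerfGen7.TorAmpBC

/-!
# Perfection from fibres of finite global dimension

A bounded above complex of finite free `B`-modules whose fibre over a residue field of the base has
bounded cohomology has bounded tor amplitude, the fibre ring having finite global dimension.
-/

set_option linter.style.haveILetI false
set_option backward.isDefEq.respectTransparency false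

universe u

open CategoryTheory CategoryTheory.Limits MonoidalCategory

attribute [local instance] HasDerivedCategory.standard

namespace Groth.Agent.PerfGen7.FibreRegular

open Groth.Agent.KFlatLib Groth.Agent.H9Misc Groth.Agent.H9Misc.DRingLTensor

variable {A B C k : Type u} [CommRing A] [CommRing B] [CommRing C] [CommRing k]

/-- Bounded cohomology over a ring of finite global dimension, after a further base change. -/
theorem exactAt_comp_of_globalDim (β : B →+* C) (φ : C →+* k) {χ : B →+* k} (hχ : φ.comp β = χ)
    {E : DRing.Cx B} (hE : DRing.TermwiseFiniteFree E) {b₀ : ℤ} (hz : DRing.VanishesAbove E b₀) (d : ℕ)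
    (hgl : ∀ M : ModuleCat.{u} C, HasProjectiveDimensionLT M (d + 1)) {a b : ℤ}
    (h : ∀ i : ℤ, (i < a ∨ b < i) → ((extC' β).obj E).ExactAt i) (i : ℤ) (hi : i < a - d ∨ b < i) :
    ((extC' χ).obj E).ExactAt i := by
  let F := (extC' β).obj E
  have hFH : ∀ j, (j < a ∨ b < j) → IsZero (F.homology j) := fun j hj =>
    (HomologicalComplex.exactAt_iff_isZero_homology _ _).1 (h j hj)
  have hamp : DRing.HasTorAmplitudeIn C (a - d) b (DRing.toD F) := by
    refine DRingTor.toD_of_homology (b - a + 1).toNat a b le_rfl F hFH fun j => ?_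
    by_cases hj : j < a ∨ b < j
    · exact DRingTor.of_isZero (Functor.map_isZero _ (hFH j hj))
    · exact DRingTor.mono (by omega) (by omega) (DRingTor.inD_of_projDim d _ (hgl _))
  have hFf : DRing.TermwiseFiniteFree F := fun j =>
    DRingRestrict.finFree_extendScalars β _ (hE j).1 (hE j).2
  have hFb : DRing.VanishesAbove F b₀ := fun j hj => (ModuleCat.extendScalars β).map_isZero (hz j hj)
  haveI := DRingLBase.hasLBaseChange φ
  obtain ⟨eL⟩ := DRingLBase.nonempty_lbase_iso φ (DRingFibre.isKF hFf hFb)
  have hk := DRingLBase.hasTorAmplitudeIn_lbase φ hamp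
  have hkKF : IsKF ((extC' φ).obj F) := DRingFibre.isKF
    (fun j => DRingRestrict.finFree_extendScalars φ _ (hFf j).1 (hFf j).2)
    (fun j hj => (ModuleCat.extendScalars φ).map_isZero (hFb j hj))
  exact (DRingFibre.exactAt_extC_comp β φ χ hχ.symm i).1
    (((DRingTor.iff_van hkKF eL.symm).1 hk).exactAt hi)

/-- Exactness of a fibre, read over the base. -/
theorem exactAt_fibre_iff {π : A →+* k} {φ : A →+* B} {φ' : k →+* C} {β : B →+* C}
    (h : IsPushout (CommRingCat.ofHom π) (CommRingCat.ofHom φ)
      (CommRingCat.ofHom φ') (CommRingCat.ofHom β)) (E : DRing.Cx B) (i : ℤ) :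
    ((extC' π).obj (((ModuleCat.restrictScalars.{u} φ).mapHomologicalComplex (ComplexShape.up ℤ)).obj E)).ExactAt i ↔
      ((extC' β).obj E).ExactAt i := by
  obtain ⟨e⟩ := nonempty_restrict_extend h E
  exact (DRingTorLTensor.exactAt_iff_of_iso e i).trans
    (ShortComplex.exact_map_iff_of_faithful (((extC' β).obj E).sc i) (ModuleCat.restrictScalars φ'))

/-- The restriction to the base of a complex of free modules along a flat map. -/
theorem termwiseFlat_res {φ : A →+* B} (hφ : φ.Flat) {E : DRing.Cx B} (hE : DRing.TermwiseFiniteFree E) :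
    DRing.TermwiseFlat (((ModuleCat.restrictScalars.{u} φ).mapHomologicalComplex (ComplexShape.up ℤ)).obj E) := fun i => by
  letI := φ.toAlgebra
  letI : Module A (E.X i) := Module.compHom (E.X i) φ
  haveI : IsScalarTower A B (E.X i) := IsScalarTower.of_algebraMap_smul fun _ _ => rfl
  haveI : Module.Flat A B := hφ
  haveI := (hE i).2
  exact (Module.Flat.trans A B (E.X i) :)

/-- Over a local ring: tor amplitude from the fibre. -/
theorem amp_of_fibre [IsLocalRing B] (β : B →+* C) (φ : C →+* IsLocalRing.ResidueField B)
    (hχ : φ.comp β = IsLocalRing.residue B) {E : DRing.Cx B} (hE : DRing.TermwiseFiniteFree E) {b₀ : ℤ}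
    (hz : DRing.VanishesAbove E b₀) (d : ℕ)
    (hgl : ∀ M : ModuleCat.{u} C, HasProjectiveDimensionLT M (d + 1)) {a b : ℤ}
    (h : ∀ i : ℤ, (i < a ∨ b < i) → ((extC' β).obj E).ExactAt i) :
    DRing.HasTorAmplitudeIn B (a - d) b (DerivedCategory.Q.obj E) :=
  DRingTor.hasTorAmplitudeIn_of_van (DRingFibre.isKF hE hz) (fun M i hi =>
    DRingFibre.exactAt_of_fibre (IsLocalRing.residue B) Ideal.Quotient.mk_surjective hE i
      (exactAt_comp_of_globalDim β φ hχ hE hz d hgl h i hi) M) (Iso.refl _)

/-- Projective dimensions over a localization. -/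
theorem pd_localization (S : Submonoid B) (d : ℕ)
    (hgl : ∀ M : ModuleCat.{u} B, HasProjectiveDimensionLT M (d + 1)) (M : ModuleCat.{u} (Localization S)) :
    HasProjectiveDimensionLT M (d + 1) := by
  letI : Module B M := Module.compHom M (algebraMap B (Localization S))
  haveI : IsScalarTower B (Localization S) M := IsScalarTower.of_algebraMap_smul fun _ _ => rfl
  let N : ModuleCat.{u} B := ModuleCat.of B M
  haveI : HasProjectiveDimensionLE N d := hgl N
  haveI : IsLocalizedModule S (LinearMap.id : M →ₗ[B] M) := isLocalizedModule_id S M (Localization S)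
  haveI := ModuleCat.localizedModule_hasProjectiveDimensionLE d S N
  let e : (N.localizedModule S : Type u) ≃ₗ[B] M :=
    IsLocalizedModule.linearEquiv S (N.localizedModuleMkLinearMap S) (LinearMap.id : M →ₗ[B] M)
  let e' : (N.localizedModule S) ≅ M :=
    (e.extendScalarsOfIsLocalization S (Localization S)).toModuleIso
  exact hasProjectiveDimensionLT_of_iso e' (d + 1)

end Groth.Agent.PerfGen7.FibreRegular
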