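import Groth.Agent.PerfGen7.RelLocal

/-!
# Relative pseudo-coherence of the structure sheaf
-/

set_option linter.style.haveILetI false
set_option backward.isDefEq.respectTransparency false
set_option backward.isDefEq.respectTransparency.types false

universe u

open CategoryTheory CategoryTheory.Limits AlgebraicGeometry

attribute [local instance] HasDerivedCategory.standard

namespace Groth.Agent.PerfGen7

open Groth.Agent.KFlatLib

variable {X : Scheme.{u}} {m : ℤ} {U : X.Opens}

/-- The structure sheaf placed in degree zero. -/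
noncomputable def toDUnitIso (X : Scheme.{u}) :
    DCoh.toD X (DerSch.unitCx X) ≅ DCoh.inD X (Coh.structureModule X) :=
  ((DerivedCategory.singleFunctorIsoCompQ X.Modules 0).app _).symm

/-- The restricted unit pushed forward. -/
noncomputable def pushUnitIso {T : Scheme.{u}} (i : (U : Scheme.{u}) ⟶ T) [IsClosedImmersion i] :
    (pushD i).obj ((rho U.ι).obj (DCoh.toD X (DerSch.unitCx X))) ≅
      DCoh.inD T ((Scheme.Modules.pushforward i).obj (Coh.structureModule (U : Scheme.{u}))) :=
  (pushD i).mapIso ((rho U.ι).mapIso (toDUnitIso X) ≪≫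
    ((Scheme.Modules.restrictFunctor U.ι).mapDerivedCategorySingleFunctor 0).app _ ≪≫
    (DerivedCategory.singleFunctor (U : Scheme.{u}).Modules 0).mapIso (restrictStructureIso U.ι)) ≪≫
  ((Scheme.Modules.pushforward i).mapDerivedCategorySingleFunctor 0).app _

lemma pcImm_iff_immPC_unit {P : Type u} [CommRing P] (φ : P →+* Γ(X, U))
    [IsClosedImmersion (imm U φ)] :
    (∀ m, ImmPC m (DCoh.toD X (DerSch.unitCx X)) U φ) ↔ PCImm (imm U φ) :=
  ⟨fun h m => (h m _).of_iso (pushUnitIso _), fun h m _ => (h m).of_iso (pushUnitIso _).symm⟩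

/-- The test for the structure sheaf, along a map of spectra. -/
lemma locPC_push_unit_iff {A : CommRingCat.{u}} (g : A ⟶ Γ(X, U)) [IsIso U.toSpecΓ]
    [IsClosedImmersion (U.toSpecΓ ≫ Spec.map g)] :
    LocPC m ((pushD (U.toSpecΓ ≫ Spec.map g)).obj ((rho U.ι).obj (DCoh.toD X (DerSch.unitCx X)))) ↔
      DRing.IsPseudoCoherent A m ((DerivedCategory.singleFunctor (ModuleCat.{u} A) 0).obj
        ((ModuleCat.restrictScalars g.hom).obj (ModuleCat.of Γ(X, U) Γ(X, U)))) := by
  let M := (ModuleCat.restrictScalars g.hom).obj (ModuleCat.of Γ(X, U) Γ(X, U))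
  let e₀ : (Scheme.Modules.pushforward U.toSpecΓ).obj (Coh.structureModule (U : Scheme.{u})) ≅
      Coh.structureModule (Spec Γ(X, U)) :=
    (Scheme.Modules.pushforward U.toSpecΓ).mapIso (restrictStructureIso U.toSpecΓ).symm ≪≫
      (pushRestrictSelfIso U.toSpecΓ).app _
  let e : (Scheme.Modules.pushforward (U.toSpecΓ ≫ Spec.map g)).obj
      (Coh.structureModule (U : Scheme.{u})) ≅ (tilde.functor A).obj M :=
    ((Scheme.Modules.pushforwardComp U.toSpecΓ (Spec.map g)).app _).symm ≪≫
      (Scheme.Modules.pushforward (Spec.map g)).mapIso e₀ ≪≫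
      (Scheme.Modules.pushforward (Spec.map g)).mapIso (tildeSelf (R := Γ(X, U))).symm ≪≫
      (pushTildeIso g).app (ModuleCat.of Γ(X, U) Γ(X, U))
  let e' : (pushD (U.toSpecΓ ≫ Spec.map g)).obj ((rho U.ι).obj (DCoh.toD X (DerSch.unitCx X))) ≅
      (DCoh.tildeD A).obj ((DerivedCategory.singleFunctor _ 0).obj M) :=
    pushUnitIso _ ≪≫ (DerivedCategory.singleFunctor _ 0).mapIso e ≪≫
      (((tilde.functor A).mapDerivedCategorySingleFunctor 0).app M).symm
  constructor
  · intro h
    exact (Groth.Agent.S1004.result A _ m).1 ((isPseudoCoherentD_iff _ _).2 (h.of_iso e'))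
  · intro h
    exact ((isPseudoCoherentD_iff _ _).1 ((Groth.Agent.S1004.result A _ m).2 h)).of_iso e'.symm

/-- On an affine open the test is one on modules over the polynomial ring. -/
theorem immPC_unit_iff (hU : IsAffineOpen U) {P : Type u} [CommRing P] (φ : P →+* Γ(X, U))
    (hφ : Function.Surjective φ) :
    ImmPC m (DCoh.toD X (DerSch.unitCx X)) U φ ↔ DRing.IsPseudoCoherent P m
      ((DerivedCategory.singleFunctor (ModuleCat.{u} P) 0).obj
        ((ModuleCat.restrictScalars φ).obj (ModuleCat.of Γ(X, U) Γ(X, U)))) := by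
  haveI := isClosedImmersion_imm hU φ hφ
  haveI : IsIso U.toSpecΓ := by
    have h := hU.isoSpec.isIso_hom
    rwa [hU.isoSpec_hom] at h
  haveI : IsClosedImmersion (U.toSpecΓ ≫ Spec.map (CommRingCat.ofHom φ)) :=
    isClosedImmersion_imm hU φ hφ
  have key := locPC_push_unit_iff (m := m) (CommRingCat.ofHom φ)
  exact ⟨fun h => key.1 (h _), fun h _ => key.2 h⟩

end Groth.Agent.PerfGen7
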