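import Groth.Agent.PerfGen7.RelTilde
import Groth.Agent.PerfGen7.RelUnit
import Groth.Agent.KFlatLib.Scheme.AffinePush
import Groth.Agent.KFlatLib.Scheme.ProjLocFree
import Groth.Agent.H9Misc.DRingRelPC

/-!
# Pseudo-coherence and direct images along finite morphisms
-/

set_option linter.style.haveILetI false
set_option backward.isDefEq.respectTransparency false
set_option backward.isDefEq.respectTransparency.types false

universe u

open CategoryTheory CategoryTheory.Limits AlgebraicGeometry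

attribute [local instance] HasDerivedCategory.standard

namespace Groth.Agent.PerfGen7

open Groth.Agent.KFlatLib Groth.Agent.H9Misc

variable {X Y : Scheme.{u}} (f : X ⟶ Y) {m : ℤ}

/-- A direct image computed termwise. -/
lemma nonempty_rpush_Q [IsAffineHom f] [DCoh.HasRpush f] (F : CochainComplex X.Modules ℤ)
    (hq : ∀ n, Coh.IsQCoh (F.X n)) :
    Nonempty ((DCoh.Rpush f).obj (DerivedCategory.Q.obj F) ≅ DerivedCategory.Q.obj ((DerSch.pushCx f).obj F)) := by
  haveI := isIso_unit_of_isAffineHom f F hq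
  exact ⟨(DCoh.Rpush f).mapIso ((DerivedCategory.quotientCompQhIso _).app F).symm ≪≫
    (asIso (((DCoh.pushKh f).totalRightDerivedUnit DerivedCategory.Qh
      (HomotopyCategory.quasiIso X.Modules (ComplexShape.up ℤ))).app
        ((HomotopyCategory.quotient X.Modules (ComplexShape.up ℤ)).obj F))).symm ≪≫
    DerivedCategory.Qh.mapIso (((Scheme.Modules.pushforward f).mapHomotopyCategoryFactors (ComplexShape.up ℤ)).app F) ≪≫
    (DerivedCategory.quotientCompQhIso _).app _⟩

/-- Restriction undoes direct image along an isomorphism. -/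
noncomputable def restrictPushSelfD (b : X ⟶ Y) [IsIso b] (L : DCoh.D X) :
    (rho b).obj ((pushD b).obj L) ≅ L :=
  haveI : ∀ M, IsIso ((Scheme.Modules.restrictAdjunction b).counit.app M) := fun _ => inferInstance
  haveI : IsIso (Scheme.Modules.restrictAdjunction b).counit := NatIso.isIso_of_isIso_app _
  (rho b).mapIso ((pushD b).mapIso (repIso L).symm ≪≫ pushDQ b _) ≪≫ (rhoQ b).app _ ≪≫
    DerivedCategory.Q.mapIso ((NatIso.mapHomologicalComplex
      (asIso (Scheme.Modules.restrictAdjunction b).counit) (ComplexShape.up ℤ)).app (DerivedCategory.Q.objPreimage L) ≪≫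
      (Functor.mapHomologicalComplexIdIso X.Modules (ComplexShape.up ℤ)).app _) ≪≫ repIso L

lemma isIso_toSpecΓ {U : X.Opens} (hU : IsAffineOpen U) : IsIso U.toSpecΓ := by
  have h := hU.isoSpec.isIso_hom
  rwa [hU.isoSpec_hom] at h

lemma morphismRestrict_toSpecΓ [IsAffineHom f] {W : Y.Opens} (hW : IsAffineOpen W) :
    (f ∣_ W) ≫ W.toSpecΓ = (f ⁻¹ᵁ W).toSpecΓ ≫ Spec.map (f.app W) := by
  rw [← cancel_mono hW.fromSpec, Category.assoc, Category.assoc, IsAffineOpen.toSpecΓ_fromSpec,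
    morphismRestrict_ι, Scheme.Hom.app_eq_appLE, hW.SpecMap_appLE_fromSpec f (hW.preimage f),
    IsAffineOpen.toSpecΓ_fromSpec_assoc]

variable [IsFinite f] {W : Y.Opens} (hW : IsAffineOpen W)

include hW in
/-- The module structure of a pseudo-coherent direct image of the structure sheaf. -/
lemma pcHom_app (hO : ∀ m : ℤ, LocPC m (DCoh.inD Y ((Scheme.Modules.pushforward f).obj (Coh.structureModule X)))) :
    DRingRelPC.PCHom (f.app W).hom := by
  refine (DRingPC.pc'_iff _).2 fun m => ?_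
  haveI := isIso_toSpecΓ hW
  haveI := isIso_toSpecΓ (hW.preimage f)
  let V := f ⁻¹ᵁ W
  let N := (ModuleCat.restrictScalars (f.app W).hom).obj (ModuleCat.of Γ(X, V) Γ(X, V))
  let e₀ : (Scheme.Modules.pushforward V.toSpecΓ).obj (Coh.structureModule (V : Scheme.{u})) ≅
      Coh.structureModule (Spec Γ(X, V)) :=
    (Scheme.Modules.pushforward V.toSpecΓ).mapIso (restrictStructureIso V.toSpecΓ).symm ≪≫
      (pushRestrictSelfIso V.toSpecΓ).app _
  let e : (Scheme.Modules.pushforward W.toSpecΓ).obj ((Scheme.Modules.pushforward (f ∣_ W)).obj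
      (Coh.structureModule (V : Scheme.{u}))) ≅ (tilde.functor Γ(Y, W)).obj N :=
    (Scheme.Modules.pushforwardComp (f ∣_ W) W.toSpecΓ).app _ ≪≫
      (Scheme.Modules.pushforwardCongr (morphismRestrict_toSpecΓ f hW)).app _ ≪≫
    ((Scheme.Modules.pushforwardComp V.toSpecΓ (Spec.map (f.app W))).app _).symm ≪≫
      (Scheme.Modules.pushforward (Spec.map (f.app W))).mapIso e₀ ≪≫
      (Scheme.Modules.pushforward (Spec.map (f.app W))).mapIso (tildeSelf (R := Γ(X, V))).symm ≪≫
      (pushTildeIso (f.app W)).app (ModuleCat.of Γ(X, V) Γ(X, V))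
  let e' : (pushD W.toSpecΓ).obj ((rho W.ι).obj
      (DCoh.inD Y ((Scheme.Modules.pushforward f).obj (Coh.structureModule X)))) ≅
      (DCoh.tildeD Γ(Y, W)).obj ((DerivedCategory.singleFunctor _ 0).obj N) :=
    (pushD W.toSpecΓ).mapIso (((Scheme.Modules.restrictFunctor W.ι).mapDerivedCategorySingleFunctor 0).app _ ≪≫
      (DerivedCategory.singleFunctor (W : Scheme.{u}).Modules 0).mapIso
        ((pushRestrictIso f W).app _ ≪≫ (Scheme.Modules.pushforward (f ∣_ W)).mapIso (restrictStructureIso V.ι))) ≪≫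
    ((Scheme.Modules.pushforward W.toSpecΓ).mapDerivedCategorySingleFunctor 0).app _ ≪≫
    (DerivedCategory.singleFunctor _ 0).mapIso e ≪≫
    (((tilde.functor Γ(Y, W)).mapDerivedCategorySingleFunctor 0).app N).symm
  have h := ((locPC_pushD_iff W.toSpecΓ (pcImm_of_isIso _) _).2 ((hO m).restrict W.ι)).of_iso e'
  exact (Groth.Agent.S1004.result Γ(Y, W) _ m).1 ((isPseudoCoherentD_iff _ _).2 h)

include hW in
/-- The statement over an affine open of the base. -/
lemma locPC_rpush_affine_iff [DCoh.HasRpush f]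
    (hO : ∀ m : ℤ, LocPC m (DCoh.inD Y ((Scheme.Modules.pushforward f).obj (Coh.structureModule X))))
    {E : DCoh.D X} (hE : DCoh.IsQCohD E) :
    LocPC m ((rho (f ⁻¹ᵁ W).ι).obj E) ↔ LocPC m ((rho W.ι).obj ((DCoh.Rpush f).obj E)) := by
  haveI := isIso_toSpecΓ hW
  haveI := isIso_toSpecΓ (hW.preimage f)
  let V := f ⁻¹ᵁ W
  let φ := f.app W
  let L := (rho V.ι).obj E
  obtain ⟨M, ⟨e⟩⟩ := exists_tilde_rep (hW.preimage f) hE
  let C := DerivedCategory.Q.objPreimage M
  let eC : DerivedCategory.Q.obj C ≅ M := DerivedCategory.Q.objObjPreimageIso M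
  let c := ComplexShape.up ℤ
  let T := ((tilde.functor Γ(X, V)).mapHomologicalComplex c).obj C
  let eT : DerivedCategory.Q.obj T ≅ (pushD V.toSpecΓ).obj L :=
    (tildeQ C).symm ≪≫ (DCoh.tildeD _).mapIso eC ≪≫ e
  let F := (rCx V.toSpecΓ).obj T
  let eF : L ≅ DerivedCategory.Q.obj F :=
    (restrictPushSelfD V.toSpecΓ L).symm ≪≫ (rho V.toSpecΓ).mapIso eT.symm ≪≫ (rhoQ V.toSpecΓ).app T
  have hq : ∀ n, Coh.IsQCoh (F.X n) := fun n =>
    QCoh.isQCoh_restrict V.toSpecΓ (QCoh.isQCoh_spec_iff.2 ⟨C.X n, ⟨Iso.refl _⟩⟩)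
  haveI := hasRpush_scheme (f ∣_ W)
  obtain ⟨eR⟩ := nonempty_rpush_Q (f ∣_ W) F hq
  obtain ⟨eN⟩ := nonempty_rpush_restrictD_iso f W
  haveI : (ModuleCat.restrictScalars.{u} φ.hom ⋙ tilde.functor Γ(Y, W)).PreservesZeroMorphisms :=
    ⟨fun _ _ => by simp only [Functor.comp_map, Functor.map_zero]⟩
  let η : Scheme.Modules.restrictFunctor V.toSpecΓ ⋙ Scheme.Modules.pushforward (f ∣_ W) ⋙
      Scheme.Modules.pushforward W.toSpecΓ ≅ Scheme.Modules.pushforward (Spec.map φ) :=
    Functor.isoWhiskerLeft _ (Scheme.Modules.pushforwardComp _ _ ≪≫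
      Scheme.Modules.pushforwardCongr (morphismRestrict_toSpecΓ f hW) ≪≫
      (Scheme.Modules.pushforwardComp _ _).symm) ≪≫ (Functor.associator _ _ _).symm ≪≫
      Functor.isoWhiskerRight (pushRestrictSelfIso V.toSpecΓ) _ ≪≫ Functor.leftUnitor _
  let eA : (pushD W.toSpecΓ).obj ((rho W.ι).obj ((DCoh.Rpush f).obj E)) ≅
      (DCoh.tildeD Γ(Y, W)).obj ((DRing.restrictD φ.hom).obj M) :=
    (pushD W.toSpecΓ).mapIso (eN.app E ≪≫ (DCoh.Rpush (f ∣_ W)).mapIso eF ≪≫ eR) ≪≫
    pushDQ _ _ ≪≫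
    DerivedCategory.Q.mapIso ((NatIso.mapHomologicalComplex η c).app T) ≪≫
    DerivedCategory.Q.mapIso ((NatIso.mapHomologicalComplex (pushTildeIso φ) c).app C) ≪≫
    (tildeQ (((ModuleCat.restrictScalars.{u} φ.hom).mapHomologicalComplex c).obj C)).symm ≪≫
    (DCoh.tildeD Γ(Y, W)).mapIso (((ModuleCat.restrictScalars.{u} φ.hom).mapDerivedCategoryFactors.app C).symm ≪≫
      (DRing.restrictD φ.hom).mapIso eC)
  rw [← locPC_pushD_iff W.toSpecΓ (pcImm_of_isIso _) ((rho W.ι).obj ((DCoh.Rpush f).obj E)),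
    ← locPC_pushD_iff V.toSpecΓ (pcImm_of_isIso _) L]
  have hA := Groth.Agent.S1004.result Γ(Y, W) ((DRing.restrictD φ.hom).obj M) m
  have hB := Groth.Agent.S1004.result Γ(X, V) M m
  rw [isPseudoCoherentD_iff] at hA hB
  have key := DRingRestrict.pc_restrict_iff φ.hom (pcHom_app f hW hO) m M
  exact ⟨fun h => (hA.2 (key.1 (hB.1 (h.of_iso e.symm)))).of_iso eA.symm,
    fun h => (hB.2 (key.2 (hA.1 (h.of_iso eA)))).of_iso e⟩

/-- Finite pseudo-coherent direct images detect pseudo-coherence. -/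
theorem locPC_rpush_iff [DCoh.HasRpush f]
    (hO : ∀ m : ℤ, LocPC m (DCoh.inD Y ((Scheme.Modules.pushforward f).obj (Coh.structureModule X))))
    {E : DCoh.D X} (hE : DCoh.IsQCohD E) :
    LocPC m E ↔ LocPC m ((DCoh.Rpush f).obj E) := by
  constructor
  · intro h
    refine LocPC.of_local fun y => ?_
    obtain ⟨W, hW, hy, -⟩ := exists_isAffineOpen_mem_and_subset (x := y) (U := (⊤ : Y.Opens)) trivial
    exact ⟨_, W.ι, inferInstance, ⟨⟨y, hy⟩, rfl⟩, (locPC_rpush_affine_iff f hW hO hE).1 (h.restrict _)⟩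
  · intro h
    refine LocPC.of_local fun x => ?_
    obtain ⟨W, hW, hy, -⟩ := exists_isAffineOpen_mem_and_subset (x := f x) (U := (⊤ : Y.Opens)) trivial
    exact ⟨_, (f ⁻¹ᵁ W).ι, inferInstance, ⟨⟨x, hy⟩, rfl⟩, (locPC_rpush_affine_iff f hW hO hE).2 (h.restrict _)⟩

end Groth.Agent.PerfGen7
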