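import Groth.Agent.PerfGen7.Generator

/-!
# Perfect generators on quasi-compact quasi-separated schemes; extending perfect objects
-/

set_option linter.style.haveILetI false
set_option backward.isDefEq.respectTransparency false

universe u

open CategoryTheory CategoryTheory.Limits AlgebraicGeometry Pretriangulated ZeroObject

attribute [local instance] HasDerivedCategory.standard

namespace Groth.Agent.PerfGen7

open Groth.Agent.KFlatLib

variable {X : Scheme.{u}}

lemma quasiSeparatedSpace_of_openImmersion {Y : Scheme.{u}} (j : Y ⟶ X) [IsOpenImmersion j]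
    [QuasiSeparatedSpace X] : QuasiSeparatedSpace Y :=
  j.isOpenEmbedding.quasiSeparatedSpace

lemma range_ι_comp {Y : Scheme.{u}} (j : Y ⟶ X) (S : X.Opens) :
    Set.range ((j ⁻¹ᵁ S).ι ≫ j).base = (S : Set X) ∩ Set.range j.base := by
  rw [Scheme.Hom.comp_base, TopCat.coe_comp, Set.range_comp, Scheme.Opens.range_ι]
  exact Set.image_preimage_eq_inter_range

lemma isCompact_preimage_of_range {Y : Scheme.{u}} (j : Y ⟶ X) [IsOpenImmersion j] {S : X.Opens}
    (hS : IsCompact (S : Set X)) (hle : (S : Set X) ⊆ Set.range j.base) :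
    IsCompact ((j ⁻¹ᵁ S : Y.Opens) : Set Y) :=
  j.isOpenEmbedding.isInducing.isCompact_preimage' hS hle

/-- Perfect generators with supports exist. -/
theorem hasGen [CompactSpace X] [QuasiSeparatedSpace X] : HasGen X := by
  suffices h : ∀ S : X.Opens, IsCompact (S : Set X) → ∀ (Y : Scheme.{u}) (j : Y ⟶ X)
      [IsOpenImmersion j], Set.range j.base = S → HasGen Y from
    h ⊤ (by simpa using CompactSpace.isCompact_univ) X (𝟙 X) (by simp)
  intro S hS
  refine compact_open_induction_on (P := fun S => ∀ (Y : Scheme.{u}) (j : Y ⟶ X)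
      [IsOpenImmersion j], Set.range j.base = S → HasGen Y) S hS ?_ ?_
  · intro Y j _ hj T _ _
    refine ⟨0, isPerfect_of_isZero' (isZero_zero _), supp_of_isZero (isZero_zero _) T,
      fun E _ _ _ => isZero_of_supp_empty (supp_iff.2 fun y _ i => ?_)⟩
    have : j.base y ∈ Set.range j.base := ⟨y, rfl⟩
    rw [hj] at this
    exact this.elim
  · intro S hS V ih Y j _ hj
    haveI := quasiSeparatedSpace_of_openImmersion j
    have hS' : (S : Set X) ⊆ Set.range j.base := hj ▸ Set.subset_union_left
    have hV' : (V.1 : Set X) ⊆ Set.range j.base := hj ▸ Set.subset_union_right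
    refine hasGen_step (j ⁻¹ᵁ S) (j ⁻¹ᵁ V.1) ?_ (isCompact_preimage_of_range j hS hS')
      (V.2.preimage_of_isOpenImmersion j hV')
      (ih _ ((j ⁻¹ᵁ S).ι ≫ j) (by rw [range_ι_comp]; exact Set.inter_eq_left.2 hS'))
    rw [← top_le_iff]
    intro y _
    have : j.base y ∈ Set.range j.base := ⟨y, rfl⟩
    rw [hj] at this
    exact this

/-- A perfect object on a quasi-compact open is a retract of the restriction of a perfect object. -/
theorem exists_extend_retract [CompactSpace X] [QuasiSeparatedSpace X] (U : X.Opens)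
    (hU : IsCompact (U : Set X)) {T : Set X} (hT : IsClosed T) (hTc : IsCompact Tᶜ)
    {P : DCoh.D (U : Scheme.{u})} (hP : DCoh.IsPerfect P) (hPT : Supp P (U.ι.base ⁻¹' T)) :
    ∃ Q : DCoh.D X, DCoh.IsPerfect Q ∧ Supp Q T ∧ Nonempty (Retract P ((rho U.ι).obj Q)) := by
  let Motive : X.Opens → Prop := fun S => ∀ (Y : Scheme.{u}) (j : Y ⟶ X) [IsOpenImmersion j],
    Set.range j.base = (U : Set X) ∪ S → ∀ (k : (U : Scheme.{u}) ⟶ Y) [IsOpenImmersion k],
      k ≫ j = U.ι → ∃ Q : DCoh.D Y, DCoh.IsPerfect Q ∧ Supp Q (j.base ⁻¹' T) ∧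
        Nonempty (Retract P ((rho k).obj Q))
  suffices h : ∀ S : X.Opens, IsCompact (S : Set X) → Motive S by
    obtain ⟨Q, hQ, hQT, hr⟩ := h ⊤ (by simpa using CompactSpace.isCompact_univ) X (𝟙 X)
      (by simp) U.ι (Category.comp_id _)
    exact ⟨Q, hQ, by simpa using hQT, hr⟩
  intro S hS
  refine compact_open_induction_on (P := Motive) S hS ?_ ?_
  · intro Y j _ hj k _ hk
    have hks : Function.Surjective k.base := fun y => by
      have : j.base y ∈ Set.range j.base := ⟨y, rfl⟩
      rw [hj] at this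
      obtain ⟨w, hw⟩ : ∃ w : (U : Scheme.{u}), U.ι.base w = j.base y :=
        ⟨⟨j.base y, this.elim id fun h => h.elim⟩, rfl⟩
      exact ⟨w, j.isOpenEmbedding.injective (by rw [← hw, ← hk]; rfl)⟩
    haveI := hasRpush_scheme k
    let e : (rho k).obj ((DCoh.Rpush k).obj P) ≅ P := asIso ((adjR k).counit.app P)
    refine ⟨(DCoh.Rpush k).obj P, isPerfect_of_surjective k hks (isPerfect_of_iso' e.symm hP),
      supp_rpush k (hT.preimage j.continuous) ?_, ⟨Retract.ofIso e.symm⟩⟩
    rwa [← Set.preimage_comp, ← TopCat.coe_comp, ← Scheme.Hom.comp_base, hk]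
  · intro S hS V ih Y j _ hj k _ hk
    haveI := quasiSeparatedSpace_of_openImmersion j
    let S₀ : X.Opens := U ⊔ S
    have hS₀ : (S₀ : Set X) ⊆ Set.range j.base := by
      rw [hj]
      exact Set.union_subset Set.subset_union_left (Set.subset_union_left.trans Set.subset_union_right)
    have hV' : (V.1 : Set X) ⊆ Set.range j.base := by
      rw [hj]; exact Set.subset_union_right.trans Set.subset_union_right
    let Y' := j ⁻¹ᵁ S₀
    have hk' : Set.range k.base ⊆ Set.range Y'.ι.base := by
      rintro _ ⟨w, rfl⟩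
      rw [Scheme.Opens.range_ι]
      show (k ≫ j).base w ∈ (S₀ : Set X)
      rw [hk]
      exact Or.inl w.2
    let k' := IsOpenImmersion.lift Y'.ι k hk'
    have hk'' : k' ≫ Y'.ι = k := IsOpenImmersion.lift_fac _ _ _
    haveI : IsOpenImmersion k' := by
      haveI : IsOpenImmersion (k' ≫ Y'.ι) := by rw [hk'']; infer_instance
      exact IsOpenImmersion.of_comp k' Y'.ι
    obtain ⟨Q', hQ', hQ'T, ⟨r'⟩⟩ := ih _ (Y'.ι ≫ j)
      (by rw [range_ι_comp]; exact Set.inter_eq_left.2 hS₀) k'
      (by rw [← Category.assoc, hk'', hk])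
    have hTY : IsCompact (j.base ⁻¹' T)ᶜ := by
      rw [j.isOpenEmbedding.isEmbedding.isCompact_iff, ← Set.preimage_compl,
        Set.image_preimage_eq_inter_range]
      refine QuasiSeparatedSpace.inter_isCompact _ _ hT.isOpen_compl hTc
        j.isOpenEmbedding.isOpen_range ?_
      rw [hj]
      exact hU.union (hS.union V.2.isCompact)
    obtain ⟨Q, hQ, hQT, ⟨r⟩⟩ := exists_extend_step Y' (j ⁻¹ᵁ V.1) (by
        rw [← top_le_iff]
        intro y _
        have : j.base y ∈ Set.range j.base := ⟨y, rfl⟩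
        rw [hj] at this
        exact or_assoc.2 this)
      (isCompact_preimage_of_range j (hU.union hS) hS₀)
      (V.2.preimage_of_isOpenImmersion j hV') (hT.preimage j.continuous) hTY hQ'
      (by rwa [← Set.preimage_comp, ← TopCat.coe_comp, ← Scheme.Hom.comp_base])
    exact ⟨Q, hQ, hQT, ⟨(r'.trans (r.map (rho k'))).trans
      (Retract.ofIso (rhoComp k' Y'.ι k hk'' Q))⟩⟩

end Groth.Agent.PerfGen7
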