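import Groth.Agent.PerfGen7.RankOne
import Groth.Agent.KFlatLib.Ring.RelDualizing
import Groth.Agent.LC.GorRing
import Mathlib.RingTheory.LocalRing.ResidueField.Fiber
import Groth.Prelude.Def_DualSh

/-!
# Gorenstein fibres and invertibility of the relative dualizing complex
-/

set_option linter.style.haveILetI false
set_option backward.isDefEq.respectTransparency false

universe u

open CategoryTheory CategoryTheory.Limits

open scoped TensorProduct

attribute [local instance] HasDerivedCategory.standard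

namespace Groth.Agent.PerfGen7.GorFibre

open Groth.Agent.KFlatLib

/-- The comparison through a common residue field. -/
lemma gorenstein_iff_aux {A F L : Type u} [CommRing A] [IsNoetherianRing A] [CommRing F] [Field L]
    (inc : A →+* F) [DTen.HasLBase inc] (W : Dual.D A) (y : ℤ) [W.IsLE y]
    (hfin : ∀ i : ℤ, Module.Finite A (Dual.HD A W i))
    (hW : Dual.IsDualizing F ((DTen.LBase inc).obj W)) (q' : Ideal F) [q'.IsPrime]
    [DTen.HasLBase (algebraMap A (Localization.AtPrime (q'.comap inc)))]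
    (π : Localization.AtPrime q' →+* L) (hπ : Function.Surjective π)
    (π₀ : Localization.AtPrime (q'.comap inc) →+* L) (hπ₀ : Function.Surjective π₀) (χ : A →+* L)
    (h1 : (π.comp (algebraMap F (Localization.AtPrime q'))).comp inc = χ)
    (h2 : π₀.comp (algebraMap A _) = χ) :
    LocCoh.IsGorensteinLocalRing (Localization.AtPrime q') ↔
      ∃ m : ℤ, Nonempty ((DTen.LBase (algebraMap A (Localization.AtPrime (q'.comap inc)))).obj W ≅
        (DTen.unit _)⟦m⟧) := by
  let B := Localization.AtPrime q'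
  haveI := hW.isNoetherianRing
  haveI := hasLBase (algebraMap F B)
  haveI : Module.Flat F B := IsLocalization.flat B q'.primeCompl
  haveI : IsNoetherianRing B := IsLocalization.isNoetherianRing q'.primeCompl B inferInstance
  have hWB : Dual.IsDualizing B ((DTen.LBase (algebraMap F B)).obj ((DTen.LBase inc).obj W)) :=
    isDualizing_LBase hW fun m hm =>
      ⟨q', by rw [IsLocalRing.eq_maximalIdeal hm, Localization.AtPrime.map_eq_maximalIdeal]⟩
  haveI := hasLBase χ
  haveI := hasLBase π
  haveI := hasLBase ((algebraMap F B).comp inc)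
  obtain ⟨c⟩ := nonempty_LBase_comp inc (algebraMap F B) _ rfl
  have h1' : π.comp ((algebraMap F B).comp inc) = χ := h1
  rw [LC.gorenstein_iff_isDualizing]
  constructor
  · intro hg
    haveI := hasLTen B
    haveI := hasRHom (A := B)
    obtain ⟨m, ⟨e⟩⟩ := exists_iso_shift_of_isDualizing hg hWB
    refine ⟨m, (RankOne.atPrime_iff W y hfin _ π₀ hπ₀ χ h2 m).2 (RankOne.transport _ π χ h1' ?_)⟩
    exact ⟨(c.app W).symm ≪≫ e ≪≫ (shiftFunctor _ m).mapIso (RankOne.unitIso B)⟩
  · rintro ⟨m, hm⟩
    obtain ⟨e⟩ := RankOne.transport _ π₀ χ h2 hm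
    obtain ⟨c₂⟩ := nonempty_LBase_comp ((algebraMap F B).comp inc) π χ h1'
    obtain ⟨x', y', -, _, _⟩ := exists_bounds_of_isDualizing hWB
    let K := (DTen.LBase (algebraMap F B)).obj ((DTen.LBase inc).obj W)
    obtain ⟨u⟩ := RankOne.nakayama π hπ K y' hWB.finite_cohomology
      ⟨(DTen.LBase π).mapIso (c.app W) ≪≫ c₂.app W ≪≫ e⟩
    refine isDualizing_of_iso ?_ (isDualizing_shift hWB (-m))
    exact (shiftFunctor _ (-m)).mapIso (u ≪≫ (shiftFunctor _ m).mapIso (RankOne.unitIso B).symm) ≪≫
      ((shiftEquiv _ m).unitIso.app _).symm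

variable {R A : Type u} [CommRing R] [CommRing A] [Algebra R A] [IsNoetherianRing A]

/-- The fibre local ring and the local ring have the same residue field. -/
lemma exists_residue_surjections (p : Ideal R) [p.IsPrime] (q' : Ideal (p.Fiber A)) [q'.IsPrime] :
    ∃ (L : Type u) (_ : Field L) (χ : A →+* L) (ψ : Localization.AtPrime q' →+* L)
      (ψ₀ : Localization.AtPrime (q'.comap (incRight R p.ResidueField A)) →+* L),
      Function.Surjective ψ ∧ Function.Surjective ψ₀ ∧
      (ψ.comp (algebraMap (p.Fiber A) (Localization.AtPrime q'))).comp (incRight R p.ResidueField A) = χ ∧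
      ψ₀.comp (algebraMap A _) = χ := by
  let q := q'.comap (incRight R p.ResidueField A)
  let ψ := IsLocalRing.residue (Localization.AtPrime q')
  let θ := ψ.comp (algebraMap (p.Fiber A) (Localization.AtPrime q'))
  let χ := θ.comp (incRight R p.ResidueField A)
  have hθ : ∀ x, θ x = 0 ↔ x ∈ q' := fun x => by
    change IsLocalRing.residue _ (algebraMap _ _ x) = 0 ↔ _
    rw [IsLocalRing.residue_eq_zero_iff, IsLocalization.AtPrime.to_map_mem_maximal_iff _ q']
  have hu : ∀ y : q.primeCompl, IsUnit (χ y) := fun y =>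
    IsUnit.mk0 _ fun h0 => y.2 ((hθ _).1 h0)
  let ψ₀ : Localization.AtPrime q →+* IsLocalRing.ResidueField (Localization.AtPrime q') :=
    IsLocalization.lift (M := q.primeCompl) (g := χ) hu
  have hcomp : ψ₀.comp (algebraMap A _) = χ := IsLocalization.lift_comp _
  have hinv : ∀ y, y ∈ ψ₀.range → y⁻¹ ∈ ψ₀.range := fun y ⟨s, hs⟩ => by
    by_cases hy : y = 0
    · rw [hy, inv_zero]; exact Subring.zero_mem _
    obtain ⟨w, rfl⟩ : IsUnit s := by
      by_contra hns
      refine hy ?_
      obtain ⟨⟨a, b⟩, rfl⟩ := IsLocalization.mk'_surjective q.primeCompl s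
      rw [IsLocalization.AtPrime.isUnit_mk'_iff _ q] at hns
      rw [← hs, IsLocalization.lift_mk'_spec, mul_zero]
      exact (hθ _).2 (not_not.1 hns)
    refine ⟨↑w⁻¹, ?_⟩
    rw [← hs]
    exact eq_inv_of_mul_eq_one_left (by rw [← map_mul, Units.inv_mul, map_one])
  have hF : ∀ x, θ x ∈ ψ₀.range := fun x => by
    obtain ⟨r, hr, s, hs⟩ := Ideal.Fiber.exists_smul_eq_one_tmul p x
    have hrs : incRight R p.ResidueField A (algebraMap R A r) = algebraMap R (p.Fiber A) r :=
      AlgHom.commutes _ r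
    have h1 : θ (algebraMap R (p.Fiber A) r) * θ x = χ s := by
      rw [← map_mul, ← Algebra.smul_def, hs]; rfl
    have h2 : θ (algebraMap R (p.Fiber A) r) ≠ 0 := by
      refine (IsUnit.map θ ?_).ne_zero
      rw [IsScalarTower.algebraMap_apply R p.ResidueField]
      exact IsUnit.map (algebraMap p.ResidueField (p.Fiber A))
        (IsUnit.mk0 _ fun h0 => hr (Ideal.algebraMap_residueField_eq_zero.1 h0))
    rw [show θ x = (θ (algebraMap R (p.Fiber A) r))⁻¹ * χ s by rw [← h1, inv_mul_cancel_left₀ h2], ← hrs]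
    exact Subring.mul_mem _ (hinv _ ⟨_, IsLocalization.lift_eq _ _⟩) ⟨_, IsLocalization.lift_eq _ _⟩
  refine ⟨_, inferInstance, χ, ψ, ψ₀, IsLocalRing.residue_surjective, fun y => ?_, rfl, hcomp⟩
  obtain ⟨z, rfl⟩ := IsLocalRing.residue_surjective y
  obtain ⟨⟨x, t⟩, rfl⟩ := IsLocalization.mk'_surjective q'.primeCompl z
  have ht : θ t ≠ 0 := fun h0 => t.2 ((hθ _).1 h0)
  have h : ψ (IsLocalization.mk' _ x t) = θ x * (θ t)⁻¹ := by
    rw [eq_mul_inv_iff_mul_eq₀ ht]
    change ψ _ * ψ (algebraMap _ _ _) = ψ (algebraMap _ _ _)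
    rw [← map_mul, IsLocalization.mk'_spec]
  change ψ _ ∈ ψ₀.range
  rw [h]
  exact Subring.mul_mem _ (hF x) (hinv _ (hF t))

variable [IsNoetherianRing R] [Module.Flat R A] {n : ℕ} (ψ : MvPolynomial (Fin n) R →+* A)
  {Rψ : Dual.D (MvPolynomial (Fin n) R) ⥤ Dual.D A}
  (hψ : Function.Surjective ψ) (hR : ψ.comp MvPolynomial.C = algebraMap R A)
  (a : DRing.restrictD ψ ⊣ Rψ)

include hψ hR a

/-- The fibre local ring is Gorenstein iff the relative dualizing complex is the shifted ring there. -/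
theorem gorenstein_iff (p : Ideal R) [p.IsPrime] (q' : Ideal (p.Fiber A)) [q'.IsPrime]
    [DTen.HasLBase (algebraMap A (Localization.AtPrime (q'.comap (incRight R p.ResidueField A))))] :
    LocCoh.IsGorensteinLocalRing (Localization.AtPrime q') ↔
      ∃ m : ℤ, Nonempty ((DTen.LBase (algebraMap A (Localization.AtPrime (q'.comap
        (incRight R p.ResidueField A))))).obj ((Rψ.obj (DTen.unit _))⟦(n : ℤ)⟧) ≅ (DTen.unit _)⟦m⟧) := by
  let k := p.ResidueField
  let W := (Rψ.obj (DTen.unit _))⟦(n : ℤ)⟧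
  haveI := hasLBase (incRight R k A)
  haveI : IsNoetherianRing (p.Fiber A) :=
    isNoetherianRing_of_surjective (MvPolynomial (Fin n) k) (k ⊗[R] A) (presBC k ψ)
      (surjective_presBC ψ hψ hR)
  have hW := isDualizing_fibre_shriek_unit ψ hψ hR a k
  obtain ⟨⟨x, y, hxy⟩, hfin⟩ := bounded_finite_shriek_unit ψ hψ hR a
  haveI : W.IsLE y := (DerivedCategory.isLE_iff _ _).2 fun i hi =>
    @ModuleCat.isZero_of_subsingleton _ _ _ (hxy i (Or.inr hi))
  obtain ⟨L, _, χ, π, π₀, hπ, hπ₀, h1, h2⟩ := exists_residue_surjections p q'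
  exact gorenstein_iff_aux (incRight R k A) W y hfin hW q' π hπ π₀ hπ₀ χ h1 h2

/-- Gorenstein fibres mean an invertible relative dualizing complex. -/
theorem gorenstein_fibres_iff :
    (∀ p : PrimeSpectrum R, LocCoh.IsGorensteinRing (A ⊗[R] p.asIdeal.ResidueField)) ↔
      ∀ q : PrimeSpectrum A, ∃ (f : A) (_ : f ∉ q.asIdeal) (m : ℤ),
        ∀ [DTen.HasLBase (algebraMap A (Localization.Away f))],
          Nonempty ((DTen.LBase (algebraMap A (Localization.Away f))).obj
            ((Rψ.obj (DTen.unit _))⟦(n : ℤ)⟧) ≅ (DTen.unit _)⟦m⟧) := by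
  let W := (Rψ.obj (DTen.unit _))⟦(n : ℤ)⟧
  obtain ⟨⟨x, y, hxy⟩, hfin⟩ := bounded_finite_shriek_unit ψ hψ hR a
  haveI : W.IsLE y := (DerivedCategory.isLE_iff _ _).2 fun i hi =>
    @ModuleCat.isZero_of_subsingleton _ _ _ (hxy i (Or.inr hi))
  haveI : W.IsGE x := (DerivedCategory.isGE_iff _ _).2 fun i hi =>
    @ModuleCat.isZero_of_subsingleton _ _ _ (hxy i (Or.inl hi))
  constructor
  · intro h q
    let p : PrimeSpectrum R := PrimeSpectrum.comap (algebraMap R A) q
    let q' := PrimeSpectrum.preimageEquivFiber R A p ⟨q, rfl⟩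
    have hq : q'.asIdeal.comap (incRight R p.asIdeal.ResidueField A) = q.asIdeal :=
      congrArg (fun z => (Subtype.val z).asIdeal)
        ((PrimeSpectrum.preimageEquivFiber R A p).symm_apply_apply ⟨q, rfl⟩)
    haveI := LC.gorensteinRing_of_ringEquiv
      (Algebra.TensorProduct.comm R A p.asIdeal.ResidueField).toRingEquiv (h p)
    haveI := hasLBase (algebraMap A (Localization.AtPrime (q'.asIdeal.comap (incRight R p.asIdeal.ResidueField A))))
    obtain ⟨m, hm⟩ := (gorenstein_iff ψ hψ hR a p.asIdeal q'.asIdeal).1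
      (LocCoh.IsGorensteinRing.isGorensteinLocalRing_localization q'.asIdeal)
    obtain ⟨f, hf, hh⟩ := RankOne.exists_away W x y hfin _ hm
    exact ⟨f, fun h' => hf (hq ▸ h'), m, fun {_} => hh⟩
  · intro h p
    refine LC.gorensteinRing_of_ringEquiv
      (Algebra.TensorProduct.comm R p.asIdeal.ResidueField A).toRingEquiv ?_
    haveI : IsNoetherianRing (p.asIdeal.Fiber A) :=
      isNoetherianRing_of_surjective (MvPolynomial (Fin n) p.asIdeal.ResidueField) _
        (presBC p.asIdeal.ResidueField ψ) (surjective_presBC ψ hψ hR)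
    refine @LocCoh.IsGorensteinRing.mk _ _ _ fun q' _ => ?_
    let q := q'.comap (incRight R p.asIdeal.ResidueField A)
    haveI := hasLBase (algebraMap A (Localization.AtPrime q))
    obtain ⟨f, hf, m, hm⟩ := h ⟨q, inferInstance⟩
    haveI := hasLBase (algebraMap A (Localization.Away f))
    refine (gorenstein_iff ψ hψ hR a p.asIdeal q').2 ⟨m, ?_⟩
    have hu : IsUnit (algebraMap A (Localization.AtPrime q) f) :=
      IsLocalization.map_units (Localization.AtPrime q) (⟨f, hf⟩ : q.primeCompl)
    exact RankOne.transport _ (IsLocalization.Away.lift f hu) _ (IsLocalization.Away.lift_comp f hu) hm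

end Groth.Agent.PerfGen7.GorFibre
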