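import Groth.Agent.H9Misc.DRingHomTensorKI
import Groth.Agent.KFlatLib.Ring.HasRHom

/-!
# The Hom complex is the internal hom
-/

set_option linter.style.haveILetI false
set_option backward.isDefEq.respectTransparency false

universe u

open CategoryTheory CategoryTheory.Limits MonoidalCategory
open CochainComplex CochainComplex.HomComplex

attribute [local instance] HasDerivedCategory.standard

namespace Groth.Agent.PerfGen7

open Groth.Agent.KFlatLib Groth.Agent.H9Misc.DRingHomTensor

variable {A : Type u} [CommRing A] {K P M : DRing.Cx A}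

lemma comp₂_eq {n : ℤ} (z : Cochain K (DRing.homCx P M) n) (p s q b : ℤ) (hs : p + n = s) (hb : q + s = b)
    (h : q + (p + n) = b) (x : K.X p) (y : P.X q) :
    comp₂ z p q b h x y = ((show Cochain P M s from (z.v p s hs).hom x).v q b hb).hom y := by
  subst hs
  rfl

/-- Uncurrying a map of complexes. -/
noncomputable def uncurryHom (f : K ⟶ DRing.homCx P M) : K ⊗ P ⟶ M :=
  Cocycle.homOf (Cocycle.mk (uncurry (Cochain.ofHom f)) 1 rfl (by
    have h := δ_uncurry (Cochain.ofHom f)
    rw [show δ (0 : ℤ) (0 + 1) (Cochain.ofHom f) = 0 from δ_ofHom f] at h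
    change δ 0 (0 + 1) (uncurry (Cochain.ofHom f)) = 0
    refine h.trans ?_
    exact (curryEquiv K P M (0 + 1)).map_zero))

lemma uncurryHom_pure (f : K ⟶ DRing.homCx P M) (p q a : ℤ) (h : p + q = a) (x : K.X p) (y : P.X q) :
    ((uncurryHom f).f a).hom (pure K P p q a h x y) =
      ((show Cochain P M p from (f.f p).hom x).v q a (by omega)).hom y := by
  change ((uncurry (Cochain.ofHom f)).v a a (add_zero a)).hom (pure K P p q a h x y) = _
  rw [uncurry_pure, comp₂_eq (Cochain.ofHom f) p p q a (add_zero p) (by omega) (by omega), Cochain.ofHom_v]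

lemma uncurryHom_injective : Function.Injective (uncurryHom (K := K) (P := P) (M := M)) := by
  intro f g h
  ext p x
  refine Cochain.ext (show Cochain P M p from (f.f p).hom x) (show Cochain P M p from (g.f p).hom x)
    fun q b hqb => ModuleCat.hom_ext (LinearMap.ext fun y => ?_)
  have h' := congrArg (fun φ => (φ.f b).hom (pure K P p q b (by omega) x y)) h
  simpa only [uncurryHom_pure] using h'

lemma uncurryHom_surjective : Function.Surjective (uncurryHom (K := K) (P := P) (M := M)) := by
  intro w
  let z : Cochain K (DRing.homCx P M) 0 := curry (Cochain.ofHom (F := K ⊗ P) w)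
  have hz : δ 0 1 z = 0 := by
    apply (curryEquiv K P M (0 + 1)).injective
    rw [(curryEquiv K P M (0 + 1)).map_zero]
    refine (δ_uncurry z).symm.trans ?_
    rw [uncurry_curry]
    exact δ_ofHom _
  refine ⟨Cocycle.homOf (Cocycle.mk z 1 rfl hz), ?_⟩
  apply Cochain.ofHom_injective
  simp only [uncurryHom, Cocycle.cochain_ofHom_homOf_eq_coe, Cocycle.mk_coe]
  exact uncurry_curry _

lemma uncurryHom_comp {K' : DRing.Cx A} (f : K ⟶ K') (g : K' ⟶ DRing.homCx P M) :
    uncurryHom (f ≫ g) = (tenCx P).map f ≫ uncurryHom g := by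
  refine HomologicalComplex.hom_ext _ _ fun a => ?_
  refine hom_ext fun p q h x y => ?_
  have hmap : (((tenCx P).map f).f a).hom (pure K P p q a h x y) =
      pure K' P p q a h ((f.f p).hom x) y :=
    ConcreteCategory.congr_hom (HomologicalComplex.ι_mapBifunctorMap f (𝟙 P)
      (curriedTensor (ModuleCat.{u} A)) (ComplexShape.up ℤ) p q a h) (x ⊗ₜ[A] y)
  refine (uncurryHom_pure (f ≫ g) p q a h x y).trans ?_
  exact ((congrArg ((uncurryHom g).f a).hom hmap).trans (uncurryHom_pure g p q a h _ _)).symm

/-- The Hom complex is the internal hom. -/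
noncomputable def homCxInnerIso (P M : DRing.Cx A) : DRing.homCx P M ≅ (innerHom P).obj M where
  hom := (innerAdj P).homEquiv _ _ (uncurryHom (𝟙 _))
  inv := (Equiv.ofBijective _ ⟨uncurryHom_injective, uncurryHom_surjective⟩).symm ((innerAdj P).counit.app M)
  hom_inv_id := by
    apply uncurryHom_injective
    refine (uncurryHom_comp _ _).trans ?_
    refine (congrArg (_ ≫ ·) (Equiv.ofBijective_apply_symm_apply _
      ⟨uncurryHom_injective, uncurryHom_surjective⟩ _)).trans ?_
    exact ((innerAdj P).homEquiv_counit _ _ _).symm.trans (((innerAdj P).homEquiv _ _).symm_apply_apply _)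
  inv_hom_id := by
    apply ((innerAdj P).homEquiv _ _).symm.injective
    rw [Adjunction.homEquiv_counit, Adjunction.homEquiv_counit, Functor.map_comp, CategoryTheory.Functor.map_id,
      Category.id_comp, Category.assoc]
    refine Eq.trans (congrArg (_ ≫ ·) (((innerAdj P).homEquiv_counit _ _ _).symm.trans
      (((innerAdj P).homEquiv _ _).symm_apply_apply _))) ?_
    rw [← uncurryHom_comp, Category.comp_id]
    exact Equiv.ofBijective_apply_symm_apply _ ⟨uncurryHom_injective, uncurryHom_surjective⟩ _

end Groth.Agent.PerfGen7
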