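import Groth.Agent.PerfGen7.AffineOpen
import Groth.Prelude.Def_Koszul
import Groth.Prelude.Def_Wider

/-!
# The Koszul object detects supported objects, degree by degree
-/

set_option linter.style.haveILetI false
set_option backward.isDefEq.respectTransparency false

universe u

open CategoryTheory CategoryTheory.Limits Pretriangulated AlgebraicGeometry

attribute [local instance] HasDerivedCategory.standard

namespace Groth.Agent.PerfGen7

open Groth.Agent.KFlatLib Groth.Agent.H9Misc

variable {R : CommRingCat.{u}}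

/-- The Koszul object. -/
noncomputable abbrev kosz (fs : List R) : Dual.D R := DerivedCategory.Q.obj (Koszul.koszul R fs)

/-- The triangle of a Koszul object. -/
lemma exists_kosz_triangle (f : R) (l : List R) :
    ∃ (q : kosz l ⟶ kosz (f :: l)) (d : kosz (f :: l) ⟶ (kosz l)⟦(1 : ℤ)⟧),
      Triangle.mk (f • 𝟙 (kosz l)) q d ∈ distTriang _ := by
  let T := DerivedCategory.Q.mapTriangle.obj
    (CochainComplex.mappingCone.triangle (f • 𝟙 (Koszul.koszul R l)))
  have hT : T ∈ distTriang (Dual.D R) :=
    (DerivedCategory.mem_distTriang_iff _).2 ⟨_, _, _, ⟨Iso.refl _⟩⟩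
  have h : T.mor₁ = f • 𝟙 (kosz l) :=
    (DerivedCategory.Q.map_smul f (𝟙 (Koszul.koszul R l))).trans
      (congrArg (f • ·) (DerivedCategory.Q.map_id _))
  exact ⟨T.mor₂, T.mor₃, h ▸ hT⟩

/-- The Koszul object of the empty list in degree zero. -/
noncomputable def koszNilIso :
    kosz ([] : List R) ≅ (DerivedCategory.singleFunctor (ModuleCat.{u} R) 0).obj (ModuleCat.of R R) :=
  (((SingleFunctors.evaluation _ _ 0).mapIso
    (DerivedCategory.singleFunctorsPostcompQIso (ModuleCat.{u} R))).app (ModuleCat.of R R)).symm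

lemma isPerfect_kosz : ∀ fs : List R, DRing.IsPerfect R (kosz fs)
  | [] => by
    refine ⟨Koszul.koszul R [], 0, 0, fun i hi => ?_, fun i => ?_, ⟨Iso.refl _⟩⟩
    · exact HomologicalComplex.isZero_single_obj_X (ComplexShape.up ℤ) 0 _ i (by omega)
    · by_cases hi : i = 0
      · subst hi
        let e := (HomologicalComplex.singleObjXSelf (ComplexShape.up ℤ) (0 : ℤ)
          (ModuleCat.of R R)).toLinearEquiv
        exact ⟨Module.Finite.equiv (M := (R : Type u)) e.symm, Module.Projective.of_equiv (M := (R : Type u)) e.symm⟩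
      · haveI : Subsingleton ((Koszul.koszul R ([] : List R)).X i : Type u) :=
          ModuleCat.subsingleton_of_isZero
            (HomologicalComplex.isZero_single_obj_X (ComplexShape.up ℤ) 0 (ModuleCat.of R R) i hi)
        exact ⟨Module.Finite.of_finite, Module.Projective.of_free⟩
  | f :: l => by
    obtain ⟨q, d, hT⟩ := exists_kosz_triangle f l
    exact isPerfect_obj₃ hT (isPerfect_kosz l) (isPerfect_kosz l)

lemma tors_kosz : ∀ (fs : List R), ∀ f ∈ fs, Tors f (kosz fs)
  | [] => by simp
  | f :: l => fun g hg => by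
    obtain ⟨q, d, hT⟩ := exists_kosz_triangle f l
    rcases List.mem_cons.1 hg with rfl | hg
    · exact tors_cone 1 q d (by rwa [pow_one])
    · exact tors_obj₃ hT (tors_kosz l g hg) (tors_kosz l g hg)

/-- Vanishing maps from shifted Koszul objects kill the top cohomology of a torsion object. -/
theorem kosz_detects : ∀ (fs : List R) (M : Dual.D R), (∀ f ∈ fs, Tors f M) → ∀ n : ℤ,
    (∀ φ : (kosz fs)⟦n⟧ ⟶ M, φ = 0) → IsZero ((Hn (-n)).obj M)
  | [] => fun M _ n h => by
    haveI : Subsingleton ((Hn (-n)).obj M) := by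
      refine ⟨fun a b => sub_eq_zero.1 ?_⟩
      haveI : Projective (ModuleCat.of R R) := inferInstance
      obtain ⟨φ, hφ⟩ := (bijective_psiC_of_projective (P := ModuleCat.of R R) (-n) M).2
        (ModuleCat.ofHom (LinearMap.toSpanSingleton R _ (a - b)))
      let e : (kosz ([] : List R))⟦n⟧ ≅
          (DerivedCategory.singleFunctor (ModuleCat.{u} R) (-n)).obj (ModuleCat.of R R) :=
        (shiftFunctor _ n).mapIso koszNilIso ≪≫
          ((DerivedCategory.singleFunctors (ModuleCat.{u} R)).shiftIso n (-n) 0 (by omega)).app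
            (ModuleCat.of R R)
      have hφ0 : φ = 0 := by rw [← cancel_epi e.hom, comp_zero]; exact h (e.hom ≫ φ)
      have := congrArg (fun t => t.hom (1 : R)) hφ
      simpa [hφ0, psiC] using this.symm
    exact ModuleCat.isZero_of_subsingleton _
  | f :: l => fun M hM n h => by
    obtain ⟨q, d, hC⟩ := exists_kosz_triangle f l
    refine kosz_detects l M (fun g hg => hM g (List.mem_cons_of_mem f hg)) n fun ψ => ?_
    let T := (Triangle.shiftFunctor (Dual.D R) n).obj (Triangle.mk (f • 𝟙 (kosz l)) q d)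
    have hT' : T ∈ distTriang _ := Triangle.shift_distinguished _ hC n
    have key : ∀ χ : (kosz l)⟦n⟧ ⟶ M, f • χ = 0 → χ = 0 := fun χ hχ => by
      obtain ⟨χ', hχ'⟩ := Triangle.yoneda_exact₂ _ hT' χ (by
        show (n.negOnePow • (f • 𝟙 (kosz l))⟦n⟧') ≫ χ = 0
        rw [Functor.map_smul, CategoryTheory.Functor.map_id, Linear.units_smul_comp,
          Linear.smul_comp, Category.id_comp, hχ, smul_zero])
      rw [show χ' = 0 from h χ', comp_zero] at hχ'
      exact hχ'
    obtain ⟨N, hN⟩ := hom_tors (DRingPC.isPerfect_shift (isPerfect_kosz l) n)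
      (hM f List.mem_cons_self) ψ
    induction N with
    | zero => simpa using hN
    | succ N ihN => exact ihN (key _ (by rwa [smul_smul, ← pow_succ']))

/-- Maps out of a Koszul object on `r` elements only see degrees `[-r, 0]`. -/
theorem kosz_hom_zero : ∀ (fs : List R) (M : Dual.D R),
    (∀ i : ℤ, -(fs.length : ℤ) ≤ i → i ≤ 0 → IsZero ((Hn i).obj M)) → ∀ φ : kosz fs ⟶ M, φ = 0
  | [] => fun M h φ => by
    rw [← cancel_epi koszNilIso.inv, comp_zero]
    haveI : Projective (ModuleCat.of R R) := inferInstance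
    exact (bijective_psiC_of_projective (P := ModuleCat.of R R) 0 M).1
      ((h 0 (by simp) le_rfl).eq_of_tgt _ _)
  | f :: l => fun M h φ => by
    simp only [List.length_cons, Nat.cast_add, Nat.cast_one] at h
    obtain ⟨q, d, hC⟩ := exists_kosz_triangle f l
    obtain ⟨χ, hχ⟩ := Triangle.yoneda_exact₂ _ (rot_of_distTriang _ hC) φ
      (kosz_hom_zero l M (fun i h₁ h₂ => h i (by omega) h₂) (q ≫ φ))
    change (kosz l)⟦(1 : ℤ)⟧ ⟶ M at χ
    change φ = d ≫ χ at hχ
    let ε := (shiftFunctorCompIsoId (Dual.D R) (1 : ℤ) (-1) (by omega)).app (kosz l)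
    have h0 : ε.inv ≫ χ⟦(-1 : ℤ)⟧' = 0 := kosz_hom_zero l _ (fun i h₁ h₂ =>
      (h (-1 + i) (by omega) (by omega)).of_iso
        (((DerivedCategory.homologyFunctor (ModuleCat.{u} R) 0).shiftIso (-1) i (-1 + i) rfl).app M)) _
    have hχ0 : χ = 0 := (shiftFunctor (Dual.D R) (-1 : ℤ)).map_injective (by
      rw [Functor.map_zero, ← cancel_epi ε.inv, comp_zero]; exact h0)
    rw [hχ, hχ0, comp_zero]

end Groth.Agent.PerfGen7
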