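import Groth.Agent.PerfGen7.KoszulOrth
import Groth.Agent.PerfGen7.TruncHom

/-!
# Truncations of the unit and orthogonality to the Koszul object
-/

set_option linter.style.haveILetI false
set_option backward.isDefEq.respectTransparency false

universe u

open CategoryTheory CategoryTheory.Limits Pretriangulated AlgebraicGeometry

attribute [local instance] HasDerivedCategory.standard

namespace Groth.Agent.PerfGen7

open Groth.Agent.KFlatLib Groth.Agent.H9Misc

variable {A : Type u} [CommRing A] (fs : List A) [DCoh.HasRpush (jPunct fs)]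

local notation "τ" =>
  (DerivedCategory.TStructure.t : Triangulated.TStructure (DCoh.D (Spec (CommRingCat.of A))))

variable (adj : KFlatLib.rho (jPunct fs) ⊣ DCoh.Rpush (jPunct fs))

omit [DCoh.HasRpush (jPunct fs)] in
/-- The shifted Koszul object is bounded above. -/
lemma isLE_koszS_shift (n m : ℤ) (h : n ≤ m) : (τ).IsLE ((koszS fs)⟦-n⟧) m := by
  haveI : (koszS fs).IsLE 0 := (DerivedCategory.isLE_iff _ _).2 fun i hi =>
    ((tilde.functor (CommRingCat.of A)).map_isZero
      (isZero_hn_kosz (R := CommRingCat.of A) fs i hi)).of_iso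
      ((mapDCHomologyIso (tilde.functor (CommRingCat.of A)) i).app _)
  haveI : (τ).IsLE (koszS fs) 0 := inferInstance
  haveI : (τ).IsLE ((koszS fs)⟦-n⟧) n := (τ).isLE_shift (koszS fs) 0 (-n) n (by omega)
  exact (τ).isLE_of_le _ n m h

theorem isIso_truncLT_unit {E : DCoh.D (Spec (CommRingCat.of A))} (hE : DCoh.IsQCohD E) (a : ℤ)
    (h : ∀ n : ℤ, n ≤ a → ∀ φ : (koszS fs)⟦-n⟧ ⟶ E, φ = 0) :
    IsIso (((τ).truncLT a).map (adj.unit.app E)) := by
  obtain ⟨C, i, d, hT, hC⟩ := exists_unit_fibre fs adj hE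
  refine isIso_truncLT_map _ a fun k hk => ?_
  haveI : Mono ((DerivedCategory.homologyFunctor _ k).map (adj.unit.app E)) :=
    (DerivedCategory.HomologySequence.exact₂ _ hT k).mono_g
    ((hC k (h k (by omega))).eq_of_src _ _)
  haveI : Epi ((DerivedCategory.homologyFunctor _ k).map (adj.unit.app E)) :=
    (DerivedCategory.HomologySequence.exact₃ _ hT k (k + 1) rfl).epi_f
    ((hC (k + 1) (h (k + 1) (by omega))).eq_of_tgt _ _)
  exact isIso_of_mono_of_epi ((DerivedCategory.homologyFunctor _ k).map (adj.unit.app E))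

theorem isIso_truncGE_unit {E : DCoh.D (Spec (CommRingCat.of A))} (hE : DCoh.IsQCohD E) (a : ℤ)
    (h : ∀ n : ℤ, a ≤ n → ∀ φ : (koszS fs)⟦-n⟧ ⟶ E, φ = 0) :
    IsIso (((τ).truncGE a).map (adj.unit.app E)) := by
  obtain ⟨C, i, d, hT, hC⟩ := exists_unit_fibre fs adj hE
  refine isIso_truncGE_map _ a fun k hk => ?_
  haveI : Mono ((DerivedCategory.homologyFunctor _ k).map (adj.unit.app E)) :=
    (DerivedCategory.HomologySequence.exact₂ _ hT k).mono_g
    ((hC k (h k (by omega))).eq_of_src _ _)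
  haveI : Epi ((DerivedCategory.homologyFunctor _ k).map (adj.unit.app E)) :=
    (DerivedCategory.HomologySequence.exact₃ _ hT k (k + 1) rfl).epi_f
    ((hC (k + 1) (h (k + 1) (by omega))).eq_of_tgt _ _)
  exact isIso_of_mono_of_epi ((DerivedCategory.homologyFunctor _ k).map (adj.unit.app E))

theorem hom_eq_zero_of_isIso_truncLT (E : DCoh.D (Spec (CommRingCat.of A))) (a : ℤ)
    [IsIso (((τ).truncLT a).map (adj.unit.app E))] (n : ℤ) (hn : n ≤ a - 1)
    (φ : (koszS fs)⟦-n⟧ ⟶ E) : φ = 0 := by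
  haveI := isLE_koszS_shift fs n (a - 1) hn
  let ψ := (τ).liftTruncLT φ (a - 1) a (by omega)
  have hψ : ψ ≫ ((τ).truncLTι a).app E = φ := (τ).liftTruncLT_ι φ (a - 1) a (by omega)
  have h0 : ψ ≫ ((τ).truncLT a).map (adj.unit.app E) = 0 := by
    refine (τ).to_truncLT_obj_ext ?_
    rw [zero_comp]
    exact kosz_hom_rpush₀ fs (-n) _
  rw [← hψ, (cancel_mono (((τ).truncLT a).map (adj.unit.app E))).1 (h0.trans zero_comp.symm),
    zero_comp]

theorem hom_eq_zero_of_isIso_truncGE {E : DCoh.D (Spec (CommRingCat.of A))} (hE : DCoh.IsQCohD E)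
    (a : ℤ) [IsIso (((τ).truncGE a).map (adj.unit.app E))] (n : ℤ) (hn : a + fs.length ≤ n)
    (φ : (koszS fs)⟦-n⟧ ⟶ E) : φ = 0 := by
  have h0 : φ ≫ ((τ).truncGEπ a).app E = 0 := by
    rw [← cancel_mono (((τ).truncGE a).map (adj.unit.app E)), zero_comp, Category.assoc]
    erw [← ((τ).truncGEπ a).naturality (adj.unit.app E), ← Category.assoc,
      kosz_hom_rpush₀ fs (-n) (φ ≫ adj.unit.app E), zero_comp]
  obtain ⟨ψ, hψ⟩ := Triangle.coyoneda_exact₂ _ ((τ).triangleLTGE_distinguished a E) φ h0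
  haveI : (((τ).truncLT a).obj E).IsLE (a - 1) := (τ).isLE_truncLT_obj ..
  refine hψ.trans ?_
  rw [show ψ = 0 from kosz_spec_hom_zero fs (isQCohD_obj₁ ((τ).triangleLTGE_distinguished a E) hE
    (isQCohD_truncGE' hE a)) n (fun i h₁ _ => DerivedCategory.isZero_of_isLE _ (a - 1) i (by omega)) ψ]
  exact zero_comp

end Groth.Agent.PerfGen7
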