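import Groth.Agent.KFlatLib.Ring.DualizingFlat
import Groth.Agent.KFlatLib.Ring.RHomTriangle
import Groth.Agent.KFlatLib.Ring.ProjPair

/-!
# Base change of derived homs and the projection formula for the shriek
-/

set_option linter.style.haveILetI false
set_option backward.isDefEq.respectTransparency false

universe u

open CategoryTheory CategoryTheory.Limits CategoryTheory.Pretriangulated MonoidalCategory

attribute [local instance] HasDerivedCategory.standard

namespace Groth.Agent.PerfGen7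

open Groth.Agent.KFlatLib

variable {A B : Type u} [CommRing A] [CommRing B]

/-- A map whose fibre is concentrated in low degrees is invertible on high cohomology. -/
lemma isIso_homologyMap_mor₂ {T : Triangle (Dual.D A)} (hT : T ∈ distTriang _) (m i : ℤ) [T.obj₁.IsLE m]
    (hi : m < i) : IsIso ((DerivedCategory.homologyFunctor (ModuleCat.{u} A) i).map T.mor₂) := by
  haveI : Mono ((DerivedCategory.homologyFunctor (ModuleCat.{u} A) i).map T.mor₂) :=
    (DerivedCategory.HomologySequence.mono_homologyMap_mor₂_iff _ hT i).2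
      ((DerivedCategory.isZero_of_isLE T.obj₁ m i hi).eq_of_src _ _)
  haveI : Mono ((DerivedCategory.homologyFunctor (ModuleCat.{u} A) (i + 1)).map T.mor₁) :=
    ⟨fun _ _ _ => (DerivedCategory.isZero_of_isLE T.obj₁ m (i + 1) (by omega)).eq_of_tgt _ _⟩
  haveI : Epi ((DerivedCategory.homologyFunctor (ModuleCat.{u} A) i).map T.mor₂) :=
    (DerivedCategory.HomologySequence.epi_homologyMap_mor₂_iff _ hT i (i + 1) rfl).2
      ((DerivedCategory.HomologySequence.mono_homologyMap_mor₁_iff _ hT i (i + 1) rfl).1 inferInstance)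
  exact isIso_of_mono_of_epi _

section Flat

variable [Algebra A B] [Module.Flat A B] [IsNoetherianRing A] [DTen.HasLBase (algebraMap A B)]

omit [IsNoetherianRing A] in
/-- Flat base change preserves upper bounds. -/
lemma isLE_LBase_flat (X : Dual.D A) (n : ℤ) [X.IsLE n] :
    ((DTen.LBase (algebraMap A B)).obj X).IsLE n := by
  refine (DerivedCategory.isLE_iff _ _).2 fun i hi => ?_
  obtain ⟨e⟩ := exists_hdLBaseLEquiv (B := B) X i
  haveI : Subsingleton (Dual.HD A X i) :=
    ModuleCat.subsingleton_of_isZero (DerivedCategory.isZero_of_isLE X n i hi)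
  exact @ModuleCat.isZero_of_subsingleton _ _ _ e.injective.subsingleton

/-- Derived hom out of an object with finite cohomology into one of finite injective dimension commutes
with flat base change, when the base change of the target has finite injective dimension. -/
theorem nonempty_LBase_RHom [DTen.HasLTen A] [DTen.HasRHom A] [DTen.HasLTen B] [DTen.HasRHom B]
    {D : Dual.D A} (hD : ∀ i : ℤ, Module.Finite A (Dual.HD A D i)) {ω : Dual.D A} {a b : ℤ}
    (hω : DRing.HasInjAmplitudeIn A a b ω) {a' b' : ℤ}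
    (hω' : DRing.HasInjAmplitudeIn B a' b' ((DTen.LBase (algebraMap A B)).obj ω)) :
    Nonempty ((DTen.LBase (algebraMap A B)).obj ((DTen.RHomR A D).obj ω) ≅
      (DTen.RHomR B ((DTen.LBase (algebraMap A B)).obj D)).obj ((DTen.LBase (algebraMap A B)).obj ω)) := by
  let φ := algebraMap A B
  haveI := hasResTen φ
  haveI := resLegIso φ
  haveI := hasLTen₃ A
  haveI := hasLTen₃ B
  haveI := isSymMonoidal A
  haveI := isSymMonoidal B
  haveI := isGE_of_injAmplitude hω
  haveI hbc : ∀ (K : Dual.D A) (M : Dual.D B), IsIso (DTen.rhomBC φ K M) := isIso_rhomBC φ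
  obtain ⟨eR⟩ := nonempty_resUnit_iso A B
  obtain ⟨E, h1, h2, ⟨j⟩⟩ := H9Misc.DRingTor.inD_of_flat (A := A) (ModuleCat.of A B)
  have hP : ∀ T : Dual.D A, DRing.IsPseudoCoherent' A T → IsIso (DTen.bcRHom φ T ω) := fun T hT =>
    isIso_bcRHom_of_pseudoCoherent (φ := φ) ⟨E, h1, h2, ⟨j ≪≫ eR⟩⟩ T ω hT a inferInstance
  suffices h : ∀ i, IsIso ((DerivedCategory.homologyFunctor (ModuleCat.{u} B) i).map (DTen.bcRHom φ D ω)) by
    haveI : IsIso (DTen.bcRHom φ D ω) := (DerivedCategory.isIso_iff _ (DTen.bcRHom φ D ω)).2 h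
    exact ⟨asIso (DTen.bcRHom φ D ω)⟩
  intro i
  let N : ℤ := max (b - i) (b' - i) + 1
  obtain ⟨T, hT, hpc, _, h₂, hB, -⟩ := exists_trunc hD N
  subst h₂
  haveI := hB
  obtain ⟨c, hc⟩ := exists_triangle_RHomMap T hT ω
  obtain ⟨c', hc'⟩ := exists_triangle_LBase (φ := φ) _ hc
  obtain ⟨c₁, hc₁⟩ := exists_triangle_LBase (φ := φ) T hT
  obtain ⟨c₂, hc₂⟩ := exists_triangle_RHomMap _ hc₁ ((DTen.LBase φ).obj ω)
  haveI := isLE_RHomR T.obj₃ ω (N + 1) a b hω
  haveI := isLE_LBase_flat (B := B) ((DTen.RHomR A T.obj₃).obj ω) (b - (N + 1))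
  haveI := isGE_LBase_flat (B := B) T.obj₃ (N + 1)
  haveI := isLE_RHomR ((DTen.LBase φ).obj T.obj₃) ((DTen.LBase φ).obj ω) (N + 1) a' b' hω'
  let H := DerivedCategory.homologyFunctor (ModuleCat.{u} B) i
  haveI hF : IsIso (H.map ((DTen.LBase φ).map (DTen.RHomMap T.mor₁ ω))) :=
    @isIso_homologyMap_mor₂ _ _ _ hc' (b - (N + 1)) i
      (inferInstanceAs (DerivedCategory.IsLE ((DTen.LBase φ).obj ((DTen.RHomR A T.obj₃).obj ω)) _)) (by omega)
  haveI hG : IsIso (H.map (DTen.RHomMap ((DTen.LBase φ).map T.mor₁) ((DTen.LBase φ).obj ω))) :=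
    @isIso_homologyMap_mor₂ _ _ _ hc₂ (b' - (N + 1)) i
      (inferInstanceAs (DerivedCategory.IsLE ((DTen.RHomR B ((DTen.LBase φ).obj T.obj₃)).obj
        ((DTen.LBase φ).obj ω)) _)) (by omega)
  haveI := hP T.obj₁ hpc
  have hsq := congrArg H.map (rhom_map_bcRHom hbc ω T.mor₁)
  rw [Functor.map_comp, Functor.map_comp] at hsq
  haveI : IsIso (H.map (DTen.bcRHom φ T.obj₂ ω) ≫
      H.map (DTen.RHomMap ((DTen.LBase φ).map T.mor₁) ((DTen.LBase φ).obj ω))) := by
    rw [hsq]; infer_instance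
  exact IsIso.of_isIso_comp_right (H.map (DTen.bcRHom φ T.obj₂ ω))
    (H.map (DTen.RHomMap ((DTen.LBase φ).map T.mor₁) ((DTen.LBase φ).obj ω)))

end Flat

/-- The right adjoint of restriction turns derived homs into derived homs out of the base change. -/
theorem nonempty_shriek_RHom (φ : A →+* B) [DTen.HasLTen A] [DTen.HasRHom A] [DTen.HasLTen B]
    [DTen.HasRHom B] [DTen.HasLBase φ] {R : Dual.D A ⥤ Dual.D B} (adj : DRing.restrictD φ ⊣ R)
    (X Y : Dual.D A) :
    Nonempty (R.obj ((DTen.RHomR A X).obj Y) ≅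
      (DTen.RHomR B ((DTen.LBase φ).obj X)).obj (R.obj Y)) := by
  haveI := hasResTen φ
  haveI := resLegIso φ
  haveI := hasLTen₃ A
  haveI := hasLTen₃ B
  haveI := isSymMonoidal A
  haveI := isSymMonoidal B
  haveI := fun Z : Dual.D B => isIso_piD φ X Z
  let p : DRing.restrictD φ ⋙ (DTen.LTen A).obj X ≅
      (DTen.LTen B).obj ((DTen.LBase φ).obj X) ⋙ DRing.restrictD φ :=
    NatIso.ofComponents (fun Z => asIso (piD φ X Z)) fun {Z Z'} g => by
      have h := piD_natural φ (𝟙 X) g
      rw [CategoryTheory.Functor.map_id] at h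
      exact h
  let θ : DRing.restrictD φ ⋙ DTen.tensorRightD A X ≅
      DTen.tensorRightD B ((DTen.LBase φ).obj X) ⋙ DRing.restrictD φ :=
    Functor.isoWhiskerLeft _ (tenFlipIso X).symm ≪≫ p ≪≫
      Functor.isoWhiskerRight (tenFlipIso ((DTen.LBase φ).obj X)) _
  exact ⟨(Adjunction.rightAdjointUniq ((adj.comp (DTen.rhomAdj A X)).ofNatIsoLeft θ)
    ((DTen.rhomAdj B ((DTen.LBase φ).obj X)).comp adj)).app Y⟩

end Groth.Agent.PerfGen7
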