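import Groth.Agent.PerfGen7.CompactPerfect
import Groth.Agent.KFlatLib.Scheme.RpushRestrict

/-!
# Lifting maps over quasi-compact opens of quasi-compact quasi-separated schemes
-/

set_option linter.style.haveILetI false
set_option backward.isDefEq.respectTransparency false

universe u

open CategoryTheory CategoryTheory.Limits AlgebraicGeometry Pretriangulated ZeroObject

attribute [local instance] HasDerivedCategory.standard

namespace Groth.Agent.PerfGen7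

open Groth.Agent.KFlatLib

variable {X : Scheme.{u}}

lemma quasiCompact_ι [QuasiSeparatedSpace X] (U : X.Opens) (hU : IsCompact (U : Set X)) :
    QuasiCompact U.ι := ⟨fun W hW₁ hW => by
  rw [U.ι.isOpenEmbedding.isEmbedding.isCompact_iff, Set.image_preimage_eq_inter_range,
    Scheme.Opens.range_ι]
  exact QuasiSeparatedSpace.inter_isCompact _ _ hW₁ hW U.2 hU⟩

/-- Lifting maps between supported objects after changing the source away from the open. -/
theorem exists_lift_supp [CompactSpace X] [QuasiSeparatedSpace X] (U : X.Opens)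
    (hU : IsCompact (U : Set X)) {T : Set X} (hT : IsClosed T) (hTc : IsCompact Tᶜ)
    {G E : DCoh.D X} (hG : DCoh.IsPerfect G) (hGT : Supp G T) (hE : QT T E)
    (α : (rho U.ι).obj G ⟶ (rho U.ι).obj E) :
    ∃ (G₁ : DCoh.D X) (β : G₁ ⟶ G) (γ : G₁ ⟶ E), DCoh.IsPerfect G₁ ∧ Supp G₁ T ∧
      IsIso ((rho U.ι).map β) ∧ (rho U.ι).map β ≫ α = (rho U.ι).map γ := by
  haveI := quasiCompact_ι U hU
  haveI := hasRpush_scheme U.ι
  haveI : HasInjectiveResolutions (U : Scheme.{u}).Modules := hasInjectiveResolutions_modules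
  obtain ⟨C, g, d, hd, hC⟩ := exists_unit_triangle U.ι E
  rw [Scheme.Opens.range_ι] at hC
  let a : G ⟶ (DCoh.Rpush U.ι).obj ((rho U.ι).obj E) := (adjR U.ι).homEquiv _ _ α
  have hCT : Supp C T := supp_obj₃ hd hE.2 (supp_rpush U.ι hT (hE.2.rho U.ι))
  have hCZ : Supp C (T ∩ (U : Set X)ᶜ) := supp_iff.2 fun x hx i => by
    by_cases hxT : x ∈ T
    · exact supp_iff.1 hC x (fun hc => hx ⟨hxT, hc⟩) i
    · exact supp_iff.1 hCT x hxT i
  have hCq : DCoh.IsQCohD C := isQCohD_obj₃ hd hE.1 (isQCohD_rpush U.ι (isQCohD_rho U.ι hE.1))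
  obtain ⟨G', q, φ', hG', hG'T, hq⟩ := exists_factor_compact (hT.inter U.2.isClosed_compl)
    (by rw [Set.compl_inter, compl_compl]; exact hTc.union hU) ⟨hCq, hCZ⟩
    (cpt_of_isPerfect _ hG) (a ≫ g)
  obtain ⟨G₁, β, δ, hβ⟩ := distinguished_cocone_triangle₁ q
  have h0 : β ≫ q = 0 := comp_distTriang_mor_zero₁₂ _ hβ
  obtain ⟨γ, hγ⟩ := Triangle.coyoneda_exact₂ _ hd (β ≫ a)
    (show (β ≫ a) ≫ g = 0 by rw [Category.assoc, ← hq, reassoc_of% h0, zero_comp])
  refine ⟨G₁, β, γ, isPerfect_tri₁ hβ hG hG',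
    supp_obj₁ hβ hGT (hG'T.mono Set.inter_subset_left), ?_, ?_⟩
  · exact (Triangle.isZero₃_iff_isIso₁ _ ((rho U.ι).map_distinguished _ hβ)).1
      ((isZero_rho_iff U.ι G').2 (by
        rw [Scheme.Opens.range_ι]; exact hG'T.mono Set.inter_subset_right))
  · have h1 := congrArg (fun x => (rho U.ι).map x ≫ (adjR U.ι).counit.app ((rho U.ι).obj E)) hγ
    simp only [Functor.map_comp, Category.assoc] at h1
    erw [homEquiv_back] at h1
    change (rho U.ι).map β ≫ α = (rho U.ι).map γ ≫ (rho U.ι).map ((adjR U.ι).unit.app E) ≫ _ at h1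
    rw [h1]
    erw [(adjR U.ι).left_triangle_components E, Category.comp_id]

/-- The part of an object supported in `T`. -/
theorem exists_coloc [QuasiSeparatedSpace X] {T : Set X} (hT : IsClosed T) (hTc : IsCompact Tᶜ)
    {E : DCoh.D X} (hE : DCoh.IsQCohD E) :
    ∃ (E' : DCoh.D X) (ε : E' ⟶ E), QT T E' ∧ ∀ (U : X.Opens) (Q : DCoh.D (U : Scheme.{u})),
      Supp Q (U.ι.base ⁻¹' T) → ∀ α : Q ⟶ (rho U.ι).obj E, ∃ α', α' ≫ (rho U.ι).map ε = α := by
  let W : X.Opens := ⟨Tᶜ, hT.isOpen_compl⟩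
  haveI := quasiCompact_ι W hTc
  haveI := hasRpush_scheme W.ι
  haveI : HasInjectiveResolutions (W : Scheme.{u}).Modules := hasInjectiveResolutions_modules
  let η := (adjR W.ι).unit.app E
  obtain ⟨E', ε, δ, hε⟩ := distinguished_cocone_triangle₁ η
  have hq : DCoh.IsQCohD E' := isQCohD_obj₁ hε hE (isQCohD_rpush W.ι (isQCohD_rho W.ι hE))
  have hs : Supp E' T := by
    have := (isZero_rho_iff W.ι E').1 ((Triangle.isZero₁_iff_isIso₂ _
      ((rho W.ι).map_distinguished _ hε)).2 (isIso_rho_unit W.ι E))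
    rwa [Scheme.Opens.range_ι, show ((W : Set X))ᶜ = T from compl_compl T] at this
  refine ⟨E', ε, ⟨hq, hs⟩, fun U Q hQ α => ?_⟩
  obtain ⟨α', hα'⟩ := Triangle.coyoneda_exact₂ _ ((rho U.ι).map_distinguished _ hε) α (by
    show α ≫ (rho U.ι).map η = 0
    haveI := hasRpush_scheme (W.ι ∣_ U)
    obtain ⟨e⟩ := nonempty_rpush_restrictD_iso W.ι U
    refine (cancel_mono (e.hom.app ((rho W.ι).obj E))).1 ?_
    rw [zero_comp]
    refine eq_zero_of_rho_isZero (W.ι ∣_ U) ?_ _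
    refine (isZero_rho_iff (W.ι ∣_ U) Q).2 (hQ.mono fun y hy ⟨w, hw⟩ => ?_)
    have h1 : U.ι.base ((W.ι ∣_ U).base w) = W.ι.base ((W.ι ⁻¹ᵁ U).ι.base w) := by
      rw [← Scheme.Hom.comp_apply, morphismRestrict_ι, Scheme.Hom.comp_apply]
    rw [Set.mem_preimage, ← hw, h1] at hy
    exact ((W.ι ⁻¹ᵁ U).ι.base w).2 hy)
  exact ⟨α', hα'.symm⟩

/-- Extending a perfect object together with a map. -/
theorem exists_extend_map [CompactSpace X] [QuasiSeparatedSpace X] (U : X.Opens)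
    (hU : IsCompact (U : Set X)) {T : Set X} (hT : IsClosed T) (hTc : IsCompact Tᶜ) {E : DCoh.D X}
    (hE : DCoh.IsQCohD E) {P : DCoh.D (U : Scheme.{u})} (hP : DCoh.IsPerfect P)
    (hPT : Supp P (U.ι.base ⁻¹' T)) (α : P ⟶ (rho U.ι).obj E) :
    ∃ (R : DCoh.D X) (β : R ⟶ E) (i : P ⟶ (rho U.ι).obj R) (p : (rho U.ι).obj R ⟶ P),
      DCoh.IsPerfect R ∧ Supp R T ∧ i ≫ p = 𝟙 P ∧ i ≫ (rho U.ι).map β = α := by
  obtain ⟨Q, hQ, hQT, ⟨r⟩⟩ := exists_extend_retract U hU hT hTc hP hPT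
  obtain ⟨E', ε, hE', hlift⟩ := exists_coloc hT hTc hE
  obtain ⟨α', hα'⟩ := hlift U _ hPT α
  obtain ⟨G₁, β, γ, h₁, h₁T, hβ, hγ⟩ := exists_lift_supp U hU hT hTc hQ hQT hE' (r.r ≫ α')
  refine ⟨G₁, γ ≫ ε, r.i ≫ inv ((rho U.ι).map β), (rho U.ι).map β ≫ r.r, h₁, h₁T, by simp, ?_⟩
  rw [Functor.map_comp, ← hγ]
  simp [hα']

end Groth.Agent.PerfGen7
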