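import Groth.Agent.PerfGen7.LocalDualityTower
import Groth.Agent.KFlatLib.Ring.Dualizing

/-!
Local duality in the derived category: for `K` bounded below with finite cohomology, the pairing
`colim_k Hom(A/𝔪^(k+1), K[i]) × Hom(K[i], ω) → E` is perfect on the left.
-/

set_option autoImplicit false
set_option backward.isDefEq.respectTransparency false
universe u

open CategoryTheory CategoryTheory.Limits Pretriangulated IsLocalRing

attribute [local instance] HasDerivedCategory.standard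

namespace Groth.Agent.PerfGen7.LocalDualityD

open Groth.Agent.KFlatLib

variable {A : Type u} [CommRing A] [IsLocalRing A] [IsNoetherianRing A] {ω : Dual.D A}
  {E : Type u} [AddCommGroup E] [Module A E]

/-- Classes pairing to zero die at a later level. -/
def Inj (ω L : Dual.D A) : Prop :=
  ∀ (k : ℕ) (ψ : X A k ⟶ L), (∀ φ : L ⟶ ω, ψ ≫ φ = 0) → ∃ (m : ℕ) (h : k ≤ m), q h ≫ ψ = 0

/-- Every functional is a pairing. -/
def Surj (T : Tower ω E) (L : Dual.D A) : Prop :=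
  ∀ Λ : (L ⟶ ω) →ₗ[A] E, ∃ (k : ℕ) (ψ : X A k ⟶ L), ∀ φ, T.j k (ψ ≫ φ) = Λ φ

variable (T : Tower ω E)

lemma pair_zero {L : Dual.D A} {k : ℕ} {ψ : X A k ⟶ L} (h : ∀ φ, T.j k (ψ ≫ φ) = 0) (φ : L ⟶ ω) :
    ψ ≫ φ = 0 := T.inj k ((h φ).trans (map_zero _).symm)

lemma pair_q {L : Dual.D A} {k m : ℕ} (h : k ≤ m) (ψ : X A k ⟶ L) (φ : L ⟶ ω) :
    T.j m ((q h ≫ ψ) ≫ φ) = T.j k (ψ ≫ φ) := by rw [Category.assoc, T.compat]

omit E in
lemma Inj.of_iso {L L' : Dual.D A} (e : L ≅ L') (hL : Inj ω L) : Inj ω L' := by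
  intro k ψ hψ
  obtain ⟨m, h, hm⟩ := hL k (ψ ≫ e.inv) fun φ => by
    have := hψ (e.inv ≫ φ)
    rwa [← Category.assoc] at this
  exact ⟨m, h, by rwa [← Category.assoc, Preadditive.IsIso.comp_right_eq_zero] at hm⟩

variable {T}

lemma Surj.of_iso {L L' : Dual.D A} (e : L ≅ L') (hL : Surj T L) : Surj T L' := by
  intro Λ
  obtain ⟨k, ψ, hψ⟩ := hL (Λ ∘ₗ Linear.leftComp A ω e.inv)
  refine ⟨k, ψ ≫ e.hom, fun φ => ?_⟩
  rw [Category.assoc, hψ]
  exact congrArg Λ (e.inv_hom_id_assoc φ)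

omit E in
lemma Inj.of_retract {L L' : Dual.D A} (i : L ⟶ L') (r : L' ⟶ L) (hir : i ≫ r = 𝟙 L) (hL : Inj ω L') :
    Inj ω L := by
  intro k ψ hψ
  obtain ⟨m, h, hm⟩ := hL k (ψ ≫ i) fun φ => by rw [Category.assoc]; exact hψ _
  refine ⟨m, h, ?_⟩
  have := congrArg (· ≫ r) hm
  simpa [hir] using this

lemma Surj.of_retract {L L' : Dual.D A} (i : L ⟶ L') (r : L' ⟶ L) (hir : i ≫ r = 𝟙 L) (hL : Surj T L') :
    Surj T L := by
  intro Λ
  obtain ⟨k, ψ, hψ⟩ := hL (Λ ∘ₗ Linear.leftComp A ω i)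
  refine ⟨k, ψ ≫ r, fun φ => ?_⟩
  rw [Category.assoc, hψ]
  exact congrArg Λ (by simp [reassoc_of% hir])

omit E in
lemma inj_of_zero {L : Dual.D A} (h : ∀ k, Subsingleton (X A k ⟶ L)) : Inj ω L :=
  fun k ψ _ => ⟨k, le_rfl, (h k).elim _ _⟩

lemma surj_of_zero {L : Dual.D A} [Subsingleton (L ⟶ ω)] : Surj T L :=
  fun Λ => ⟨0, 0, fun φ => by rw [zero_comp, map_zero, Subsingleton.elim φ 0, map_zero]⟩

/-- Functionals vanishing on a kernel factor. -/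
lemma exists_factor [Module.Injective A E] {V W : Type (u + 1)} [AddCommGroup V] [Module A V] [AddCommGroup W]
    [Module A W] (F : V →ₗ[A] W) (Λ : V →ₗ[A] E) (h : ∀ v, F v = 0 → Λ v = 0) :
    ∃ Λ' : W →ₗ[A] E, ∀ v, Λ' (F v) = Λ v := by
  obtain ⟨Λ', hΛ'⟩ := (Module.Baer.of_injective (inferInstance : Module.Injective A E)).extension_property
    ((LinearMap.ker F).liftQ F le_rfl) (LinearMap.ker_eq_bot.1 (Submodule.ker_liftQ_eq_bot _ _ _ le_rfl))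
    ((LinearMap.ker F).liftQ Λ fun v hv => h v hv)
  exact ⟨Λ', fun v => LinearMap.congr_fun hΛ' (Submodule.Quotient.mk v)⟩

variable (T) in
/-- Five lemma: injectivity in the middle. -/
lemma inj_mid [Module.Injective A E] {D : Triangle (Dual.D A)} (hD : D ∈ distTriang _)
    (h₁ : Inj ω D.obj₁) (h₃ : Inj ω D.obj₃) (h₀ : Surj T (D.obj₃⟦(-1 : ℤ)⟧)) : Inj ω D.obj₂ := by
  intro k ψ hψ
  obtain ⟨m, hm, h3⟩ := h₃ k (ψ ≫ D.mor₂) fun φ => by rw [Category.assoc]; exact hψ _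
  rw [← Category.assoc] at h3
  obtain ⟨ψ₁, hψ₁⟩ := Triangle.coyoneda_exact₂ D hD (q hm ≫ ψ) h3
  let D' := D.invRotate
  have hD' : D' ∈ distTriang _ := inv_rot_of_distTriang _ hD
  let g : D.obj₃⟦(-1 : ℤ)⟧ ⟶ D.obj₁ := D'.mor₁
  obtain ⟨Λ₀, hΛ₀⟩ := exists_factor (Linear.leftComp A ω g) (T.j m ∘ₗ Linear.leftComp A ω ψ₁)
    fun φ hφ => by
      obtain ⟨φ₂, hφ₂⟩ := Triangle.yoneda_exact₂ D' hD' φ hφ
      have h2 : ψ₁ ≫ φ = 0 := by
        rw [hφ₂, show D'.mor₂ = D.mor₁ from rfl, ← Category.assoc, ← hψ₁, Category.assoc, hψ, comp_zero]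
      exact (congrArg (T.j m) h2).trans (map_zero _)
  obtain ⟨l, ψ₀, hψ₀⟩ := h₀ Λ₀
  let δ : X A (max m l) ⟶ D.obj₁ :=
    q (le_max_left m l) ≫ ψ₁ - (q (le_max_right m l) ≫ ψ₀) ≫ g
  obtain ⟨p, hp, hδ⟩ := h₁ _ δ (pair_zero T fun φ => by
    have e1 : Λ₀ (g ≫ φ) = T.j m (ψ₁ ≫ φ) := hΛ₀ φ
    simp only [δ]
    rw [Preadditive.sub_comp, map_sub, pair_q, Category.assoc (q (le_max_right m l) ≫ ψ₀), pair_q, hψ₀, e1,
      sub_self])
  refine ⟨p, hm.trans ((le_max_left m l).trans hp), ?_⟩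
  simp only [δ, Preadditive.comp_sub, sub_eq_zero] at hδ
  have h4 := congrArg (· ≫ D.mor₁) hδ
  have hz : g ≫ D.mor₁ = 0 := comp_distTriang_mor_zero₁₂ _ hD'
  simp only [Category.assoc, hz, comp_zero] at h4
  rw [← q_q hm ((le_max_left m l).trans hp), ← q_q (le_max_left m l) hp, Category.assoc, Category.assoc,
    hψ₁]
  exact h4

/-- Five lemma: surjectivity in the middle. -/
lemma surj_mid [Module.Injective A E] {D : Triangle (Dual.D A)} (hD : D ∈ distTriang _)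
    (h₁ : Surj T D.obj₁) (h₃ : Surj T D.obj₃) (h₁' : Inj ω (D.obj₁⟦(1 : ℤ)⟧)) : Surj T D.obj₂ := by
  intro Λ
  obtain ⟨k, ψ₃, hψ₃⟩ := h₃ (Λ ∘ₗ Linear.leftComp A ω D.mor₂)
  obtain ⟨m, hm, h3⟩ := h₁' k (ψ₃ ≫ D.mor₃) (pair_zero T fun φ => by
    rw [Category.assoc, hψ₃]
    show Λ (D.mor₂ ≫ D.mor₃ ≫ φ) = 0
    rw [← Category.assoc, comp_distTriang_mor_zero₂₃ _ hD, zero_comp, map_zero])
  rw [← Category.assoc] at h3
  obtain ⟨ψ₂, hψ₂⟩ := Triangle.coyoneda_exact₃ D hD (q hm ≫ ψ₃) h3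
  obtain ⟨Λ₁, hΛ₁⟩ := exists_factor (Linear.leftComp A ω D.mor₁) (Λ - T.j m ∘ₗ Linear.leftComp A ω ψ₂)
    fun φ hφ => by
      obtain ⟨φ₃, rfl⟩ := Triangle.yoneda_exact₂ D hD φ hφ
      show Λ (D.mor₂ ≫ φ₃) - T.j m (ψ₂ ≫ D.mor₂ ≫ φ₃) = 0
      rw [← Category.assoc ψ₂, ← hψ₂, pair_q, hψ₃]
      exact sub_self _
  obtain ⟨l, ψ₁, hψ₁⟩ := h₁ Λ₁
  refine ⟨max m l, q (le_max_left m l) ≫ ψ₂ + (q (le_max_right m l) ≫ ψ₁) ≫ D.mor₁, fun φ => ?_⟩
  have e1 : Λ₁ (D.mor₁ ≫ φ) = Λ φ - T.j m (ψ₂ ≫ φ) := hΛ₁ φ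
  rw [Preadditive.add_comp, map_add, pair_q, Category.assoc (q (le_max_right m l) ≫ ψ₁), pair_q, hψ₁, e1,
    add_sub_cancel]

variable (T)

/-- All shifts pair perfectly. -/
def Perfectly (K : Dual.D A) : Prop := ∀ i : ℤ, Inj ω (K⟦i⟧) ∧ Surj T (K⟦i⟧)

lemma perfectly_dualizing {f : ResidueField A →ₗ[A] E} (hω : Dual.IsDualizing A ω)
    (hN : Dual.IsNormalized A ω) (_hf : InjHull.IsInjectiveHull f) : Perfectly T ω := by
  intro i
  by_cases hi : i = 0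
  · subst hi
    let e := ((shiftFunctorZero (Dual.D A) ℤ).app ω).symm
    refine ⟨Inj.of_iso e fun k ψ hψ => ⟨k, le_rfl, ?_⟩, Surj.of_iso e fun Λ => ?_⟩
    · have h0 : ψ = 0 := (Category.comp_id ψ).symm.trans (hψ (𝟙 ω))
      rw [h0, comp_zero]
    · obtain ⟨k, x, hx⟩ := T.surj (Λ (𝟙 ω))
      refine ⟨k, x, fun φ => ?_⟩
      obtain ⟨a, rfl⟩ := hω.toEnd_bijective.2 φ
      show T.j k (x ≫ (a • 𝟙 ω)) = Λ (a • 𝟙 ω)
      rw [Linear.comp_smul, Category.comp_id, map_smul, map_smul, hx]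
  · haveI : Subsingleton (ω⟦i⟧ ⟶ ω) :=
      @Equiv.subsingleton _ _ ((shiftEquiv' (Dual.D A) i (-i) (by omega)).toAdjunction.homEquiv ω ω)
        (hω.ext_self_subsingleton (-i) (by omega))
    exact ⟨inj_of_zero fun k => DualFinLen.subsingleton_hom_finiteLength hN _
      (Groth.Agent.S0362.isFiniteLength_quot A (k + 1)) i hi, surj_of_zero⟩

variable {T}

lemma Perfectly.of_iso {K K' : Dual.D A} (e : K ≅ K') (h : Perfectly T K) : Perfectly T K' := fun i =>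
  ⟨(h i).1.of_iso ((shiftFunctor (Dual.D A) i).mapIso e), (h i).2.of_iso ((shiftFunctor (Dual.D A) i).mapIso e)⟩

lemma Perfectly.of_retract {K K' : Dual.D A} (p : K ⟶ K') (r : K' ⟶ K) (hpr : p ≫ r = 𝟙 K)
    (h : Perfectly T K') : Perfectly T K := fun i => by
  have hh : p⟦i⟧' ≫ r⟦i⟧' = 𝟙 (K⟦i⟧) := by rw [← Functor.map_comp, hpr, CategoryTheory.Functor.map_id]
  exact ⟨(h i).1.of_retract _ _ hh, (h i).2.of_retract _ _ hh⟩

lemma Perfectly.shift {K : Dual.D A} (h : Perfectly T K) (n : ℤ) : Perfectly T (K⟦n⟧) := fun i =>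
  ⟨(h (n + i)).1.of_iso ((shiftFunctorAdd' (Dual.D A) n i (n + i) rfl).app K),
    (h (n + i)).2.of_iso ((shiftFunctorAdd' (Dual.D A) n i (n + i) rfl).app K)⟩

/-- Five lemma at one degree. -/
lemma good_mid [Module.Injective A E] {D : Triangle (Dual.D A)} (hD : D ∈ distTriang _) (i : ℤ)
    (h₁ : Inj ω (D.obj₁⟦i⟧) ∧ Surj T (D.obj₁⟦i⟧)) (h₁' : Inj ω (D.obj₁⟦i + 1⟧))
    (h₃ : Inj ω (D.obj₃⟦i⟧) ∧ Surj T (D.obj₃⟦i⟧)) (h₀ : Surj T (D.obj₃⟦i - 1⟧)) :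
    Inj ω (D.obj₂⟦i⟧) ∧ Surj T (D.obj₂⟦i⟧) := by
  have hD' := Triangle.shift_distinguished D hD i
  exact ⟨inj_mid T hD' h₁.1 h₃.1 (h₀.of_iso ((shiftFunctorAdd' (Dual.D A) i (-1) (i - 1) (by omega)).app D.obj₃)),
    surj_mid hD' h₁.2 h₃.2 (h₁'.of_iso ((shiftFunctorAdd' (Dual.D A) i 1 (i + 1) rfl).app D.obj₁))⟩

lemma perfectly_mid [Module.Injective A E] {D : Triangle (Dual.D A)} (hD : D ∈ distTriang _)
    (h₁ : Perfectly T D.obj₁) (h₃ : Perfectly T D.obj₃) : Perfectly T D.obj₂ :=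
  fun i => good_mid hD i (h₁ i) (h₁ (i + 1)).1 (h₃ i) (h₃ (i - 1)).2

variable (T)

/-- The pairing is perfect for objects bounded below with finite cohomology. -/
theorem perfectly_of_finite {f : ResidueField A →ₗ[A] E} (hω : Dual.IsDualizing A ω)
    (hN : Dual.IsNormalized A ω) (hf : InjHull.IsInjectiveHull f) {K : Dual.D A} (n : ℤ) [K.IsGE n]
    (hK : ∀ i : ℤ, Module.Finite A (Dual.HD A K i)) : Perfectly T K := by
  have := hf.isInjective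
  haveI := hasLTen A
  haveI := hasRHom (A := A)
  obtain ⟨a, b, hab, _, _⟩ := exists_bounds_of_isDualizing hω
  obtain ⟨eK⟩ := nonempty_biduality hω hK
  refine Perfectly.of_iso eK ?_
  let Y := (DTen.RHomR A K).obj ω
  haveI hY : Y.IsLE (b - n) := isLE_RHomR K ω n a b hab
  have hpc := pc'_of_finite_hd Y (b - n) fun i =>
    finite_hd_RHom_of_finite_hd hK hω.finite_cohomology (finiteInjDim_of_isDualizing hω) i
  intro i
  let m₀ : ℤ := a - (i + 1) - max b 0 - 1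
  obtain ⟨D, hD, hperf, h₂, h₃⟩ := exists_perfect_approx hpc m₀
  obtain ⟨c, hc⟩ := exists_triangle_RHomMap D hD ω
  have hP : Perfectly T ((DTen.RHomR A D.obj₁).obj ω) := by
    refine perfect_induction (fun Z => Perfectly T ((DTen.RHomR A Z).obj ω)) ?_ ?_ ?_ ?_ hperf
    · intro Z Z' e h
      exact h.of_iso (((DTen.RHom A).mapIso e.symm.op).app ω)
    · intro D' hD' h₁' h₃'
      obtain ⟨c', hc'⟩ := exists_triangle_RHomMap D' hD' ω
      exact perfectly_mid hc' h₃' h₁'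
    · intro Z Z' p r hpr h
      refine h.of_retract (DTen.RHomMap r ω) (DTen.RHomMap p ω) ?_
      show ((DTen.RHom A).map r.op).app ω ≫ ((DTen.RHom A).map p.op).app ω = _
      rw [← NatTrans.comp_app, ← Functor.map_comp, ← op_comp, hpr, op_id, CategoryTheory.Functor.map_id]
      rfl
    · intro l
      obtain ⟨e⟩ := nonempty_RHomR_unit_iso (A := A) l
      exact ((perfectly_dualizing T hω hN hf).shift (-l)).of_iso (e.app ω).symm
  have hlow : ∀ i' : ℤ, i' ≤ i + 1 → Inj ω (((DTen.RHomR A D.obj₃).obj ω)⟦i'⟧) ∧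
      Surj T (((DTen.RHomR A D.obj₃).obj ω)⟦i'⟧) := by
    intro i' hi'
    haveI := h₃
    haveI := isGE_RHomR D.obj₃ ω m₀ a
    haveI hG : DerivedCategory.IsGE (((DTen.RHomR A D.obj₃).obj ω)⟦i'⟧) (a - m₀ - i') :=
      DerivedCategory.TStructure.t.isGE_shift _ (a - m₀) i' (a - m₀ - i') (by omega)
    haveI : Subsingleton (((DTen.RHomR A D.obj₃).obj ω)⟦i'⟧ ⟶ ω) :=
      subsingleton_of_forall_eq 0 fun φ => eq_zero_of_injAmplitude (a - m₀ - i') a b (by omega) hab φ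
    exact ⟨inj_of_zero fun k => subsingleton_of_forall_eq 0 fun ψ =>
      DerivedCategory.TStructure.t.zero ψ 0 (a - m₀ - i') (by omega), surj_of_zero⟩
  have h := good_mid hc i (hlow i (by omega)) (hlow (i + 1) le_rfl).1 (hP i) (hP (i - 1)).2
  have h' := h
  dsimp only [Triangle.mk] at h'
  rw [h₂] at h'
  exact h'

/-- The colimit of the maps `A/𝔪^(k+1) → L` is the dual of the maps `L → ω`. -/
theorem exists_equiv_of_colim [Module.Injective A E] {L : Dual.D A} (hI : Inj ω L) (hS : Surj T L)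
    {H : Type*} [AddCommGroup H] [Module A H] (ι : ∀ k, (X A k ⟶ L) →ₗ[A] H)
    (hcompat : ∀ {k m : ℕ} (h : k ≤ m) ψ, ι m (q h ≫ ψ) = ι k ψ) (hrep : ∀ z, ∃ k ψ, ι k ψ = z)
    (hzero : ∀ k ψ, ι k ψ = 0 → ∃ (m : ℕ) (h : k ≤ m), q h ≫ ψ = 0) :
    Nonempty (H ≃ₗ[A] ((L ⟶ ω) →ₗ[A] E)) := by
  choose K P hP using hrep
  let pr : ∀ k, (X A k ⟶ L) →ₗ[A] ((L ⟶ ω) →ₗ[A] E) := fun k =>
    { toFun := fun ψ => T.j k ∘ₗ Linear.leftComp A ω ψ
      map_add' := fun ψ ψ' => LinearMap.ext fun φ => by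
        show T.j k ((ψ + ψ') ≫ φ) = T.j k (ψ ≫ φ) + T.j k (ψ' ≫ φ)
        rw [Preadditive.add_comp, map_add]
      map_smul' := fun c ψ => LinearMap.ext fun φ => by
        show T.j k ((c • ψ) ≫ φ) = c • T.j k (ψ ≫ φ)
        rw [Linear.smul_comp, map_smul] }
  have hpq : ∀ {k m : ℕ} (h : k ≤ m) ψ, pr m (q h ≫ ψ) = pr k ψ := fun h ψ =>
    LinearMap.ext fun φ => pair_q T h ψ φ
  have key : ∀ z k ψ, ι k ψ = z → pr k ψ = pr (K z) (P z) := by
    intro z k ψ hz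
    obtain ⟨m, h, hm⟩ := hzero (max k (K z)) (q (le_max_left _ _) ≫ ψ - q (le_max_right _ _) ≫ P z)
      (by rw [map_sub, hcompat, hcompat, hz, hP, sub_self])
    have h1 := congrArg (pr m) hm
    rwa [hpq, map_zero, map_sub, hpq, hpq, sub_eq_zero] at h1
  let Φ : H →ₗ[A] ((L ⟶ ω) →ₗ[A] E) :=
    { toFun := fun z => pr (K z) (P z)
      map_add' := fun z z' => by
        rw [← key (z + z') (max (K z) (K z')) (q (le_max_left _ _) ≫ P z + q (le_max_right _ _) ≫ P z')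
          (by rw [map_add, hcompat, hcompat, hP, hP]), map_add, hpq, hpq]
      map_smul' := fun c z => by
        rw [RingHom.id_apply, ← key (c • z) (K z) (c • P z) (by rw [map_smul, hP]), map_smul] }
  refine ⟨LinearEquiv.ofBijective Φ ⟨(injective_iff_map_eq_zero Φ).2 fun z hz => ?_, fun Λ => ?_⟩⟩
  · obtain ⟨m, h, hm⟩ := hI (K z) (P z) (pair_zero T fun φ => LinearMap.congr_fun hz φ)
    rw [← hP z, ← hcompat h, hm, map_zero]
  · obtain ⟨k, ψ, hψ⟩ := hS Λ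
    exact ⟨ι k ψ, (key _ k ψ rfl).symm.trans (LinearMap.ext hψ)⟩

end Groth.Agent.PerfGen7.LocalDualityD
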