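import Groth.Agent.PerfGen7.DualFinLen
import Groth.Agent.LC.MatlisExtra

/-!
A compatible system of embeddings `Hom(A/𝔪^(k+1), ω) → E` exhausting the injective hull `E`.
-/

set_option autoImplicit false
set_option backward.isDefEq.respectTransparency false
universe u

open CategoryTheory CategoryTheory.Limits IsLocalRing

attribute [local instance] HasDerivedCategory.standard

namespace Groth.Agent.PerfGen7.LocalDualityD

open Groth.Agent.KFlatLib (inDMap)
open Groth.Agent.PerfGen7.DualFinLen (B)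

variable {A : Type u} [CommRing A] [IsLocalRing A] [IsNoetherianRing A]

/-- The projection `A/𝔪^(m+1) → A/𝔪^(k+1)`. -/
noncomputable def proj {k m : ℕ} (h : k ≤ m) : B A m →ₗ[A] B A k :=
  Submodule.factor (Ideal.pow_le_pow_right (Nat.succ_le_succ h))

lemma proj_surjective {k m : ℕ} (h : k ≤ m) : Function.Surjective (proj (A := A) h) :=
  Submodule.factor_surjective (Ideal.pow_le_pow_right (Nat.succ_le_succ h))

lemma proj_refl (k : ℕ) : proj (A := A) (le_refl k) = LinearMap.id :=
  DualFinLen.linearMap_ext_one rfl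

lemma proj_proj {k m l : ℕ} (h : k ≤ m) (h' : m ≤ l) :
    (proj (A := A) h).comp (proj h') = proj (h.trans h') := DualFinLen.linearMap_ext_one rfl

/-- `A/𝔪^(k+1)` in degree zero. -/
noncomputable abbrev X (A : Type u) [CommRing A] [IsLocalRing A] (k : ℕ) : Dual.D A := Dual.inD A (B A k)

/-- The transition map. -/
noncomputable def q {k m : ℕ} (h : k ≤ m) : X A m ⟶ X A k := inDMap (proj h)

lemma q_refl (k : ℕ) : q (A := A) (le_refl k) = 𝟙 _ := by
  rw [q, proj_refl, DualFinLen.inDMap_id]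

lemma q_q {k m l : ℕ} (h : k ≤ m) (h' : m ≤ l) : q (A := A) h' ≫ q h = q (h.trans h') := by
  rw [q, q, q, ← DualFinLen.inDMap_comp, proj_proj]

/-- Maps out of `A/𝔪^(k+1)` are killed by `𝔪^(k+1)`. -/
lemma smul_hom_eq_zero {k : ℕ} {L : Dual.D A} (ψ : X A k ⟶ L) {a : A} (ha : a ∈ maximalIdeal A ^ (k + 1)) :
    a • ψ = 0 := by
  have h0 : a • (LinearMap.id : B A k →ₗ[A] B A k) = 0 :=
    LinearMap.ext fun x => DualFinLen.killed_B k a ha x
  rw [← Category.id_comp ψ, ← DualFinLen.inDMap_id, ← Linear.smul_comp, ← DualFinLen.inDMap_smul, h0,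
    show inDMap (0 : B A k →ₗ[A] B A k) = 0 from Functor.map_zero _ _ _, zero_comp]

variable {ω : Dual.D A}

/-- Restriction along the projections is injective. -/
lemma eq_zero_of_q (hN : Dual.IsNormalized A ω) {k m : ℕ} (h : k ≤ m) (x : X A k ⟶ ω)
    (hx : q h ≫ x = 0) : x = 0 := by
  have h1 := DualFinLen.res_injective hN (Groth.Agent.S0362.isFiniteLength_quot A (m + 1)) (proj h)
    (proj_surjective h) (a₁ := x ≫ ((shiftFunctorZero (Dual.D A) ℤ).app ω).inv) (a₂ := 0) (by
      rw [map_zero, DualFinLen.res_apply, ← Category.assoc, show inDMap (proj h) = q h from rfl, hx, zero_comp])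
  rw [← cancel_mono ((shiftFunctorZero (Dual.D A) ℤ).app ω).inv, h1, zero_comp]

/-- A compatible system of embeddings of `Hom(A/𝔪^(k+1), ω)` into `E`, exhausting `E`. -/
structure Tower (ω : Dual.D A) (E : Type u) [AddCommGroup E] [Module A E] where
  /-- the embeddings -/
  j : ∀ k, (X A k ⟶ ω) →ₗ[A] E
  inj : ∀ k, Function.Injective (j k)
  compat : ∀ {k m : ℕ} (h : k ≤ m) (x : X A k ⟶ ω), j m (q h ≫ x) = j k x
  surj : ∀ e : E, ∃ k x, j k x = e

variable {E : Type u} [AddCommGroup E] [Module A E] {f : ResidueField A →ₗ[A] E}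

/-- An injective map `Hom(A/𝔪^(k+1), ω) → E` has as image everything killed by `𝔪^(k+1)`. -/
lemma range_eq_torsion (hω : Dual.IsDualizing A ω) (hN : Dual.IsNormalized A ω)
    (hf : InjHull.IsInjectiveHull f) {k : ℕ} (g : (X A k ⟶ ω) →ₗ[A] E) (hg : Function.Injective g)
    (e : E) (he : ∀ a ∈ maximalIdeal A ^ (k + 1), a • e = 0) : ∃ x, g x = e := by
  obtain ⟨φ⟩ := DualFinLen.exists_matlis hω hN E f hf (B A k) (Groth.Agent.S0362.isFiniteLength_quot A (k + 1))
  let T : Submodule A E :=
    { carrier := {e | ∀ a ∈ maximalIdeal A ^ (k + 1), a • e = 0}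
      zero_mem' := fun a _ => smul_zero a
      add_mem' := fun {x y} hx hy a ha => by rw [smul_add, hx a ha, hy a ha, add_zero]
      smul_mem' := fun c x hx a ha => by rw [smul_comm, hx a ha, smul_zero] }
  let mk : T →ₗ[A] (B A k →ₗ[A] E) :=
    { toFun := fun t => Submodule.liftQ _ (LinearMap.toSpanSingleton A E t.1) fun a ha => t.2 a ha
      map_add' := fun s t => DualFinLen.linearMap_ext_one (smul_add (1 : A) (s : E) (t : E))
      map_smul' := fun c t => DualFinLen.linearMap_ext_one (smul_comm (1 : A) c (t : E)) }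
  have hmk : Function.Injective mk := fun s t h => Subtype.ext (by
    have h1 : (1 : A) • (s : E) = (1 : A) • (t : E) := LinearMap.congr_fun h (Submodule.Quotient.mk 1)
    rwa [one_smul, one_smul] at h1)
  let g' : (X A k ⟶ ω) →ₗ[A] T := g.codRestrict T fun x a ha => by
    rw [← map_smul, smul_hom_eq_zero x ha, map_zero]
  let F : T →ₗ[A] T := g' ∘ₗ φ.symm.toLinearMap ∘ₗ mk
  have hF : Function.Injective F := by
    intro s t h
    exact hmk (φ.symm.injective (hg (congrArg Subtype.val h)))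
  haveI : IsArtinian A E := LC.hull_isArtinian hf
  obtain ⟨t, ht⟩ := IsArtinian.surjective_of_injective_endomorphism F hF ⟨e, he⟩
  exact ⟨φ.symm (mk t), congrArg Subtype.val ht⟩

/-- Every element killed by `𝔪^(k+1)` comes from level `k`. -/
lemma exists_q_eq (hω : Dual.IsDualizing A ω) (hN : Dual.IsNormalized A ω)
    (hf : InjHull.IsInjectiveHull f) {k m : ℕ} (h : k ≤ m) (x : X A m ⟶ ω)
    (hx : ∀ a ∈ maximalIdeal A ^ (k + 1), a • x = 0) : ∃ y, q h ≫ y = x := by
  obtain ⟨φ⟩ := DualFinLen.exists_matlis hω hN E f hf (B A m) (Groth.Agent.S0362.isFiniteLength_quot A (m + 1))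
  let g : (X A k ⟶ ω) →ₗ[A] E :=
    (LinearMap.applyₗ (Submodule.Quotient.mk (1 : A) : B A m)) ∘ₗ φ.toLinearMap ∘ₗ Linear.leftComp A ω (q h)
  have hev : Function.Injective fun l : B A m →ₗ[A] E => l (Submodule.Quotient.mk 1) :=
    fun l l' h => DualFinLen.linearMap_ext_one h
  have hg : Function.Injective g := by
    refine (injective_iff_map_eq_zero g).2 fun y hy => eq_zero_of_q hN h y ?_
    exact φ.injective ((hev (hy.trans (LinearMap.zero_apply _).symm)).trans φ.map_zero.symm)
  obtain ⟨y, hy⟩ := range_eq_torsion hω hN hf g hg (φ x (Submodule.Quotient.mk 1)) fun a ha => by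
    rw [← LinearMap.smul_apply, ← map_smul, hx a ha, map_zero, LinearMap.zero_apply]
  exact ⟨y, φ.injective (hev hy)⟩

/-- The tower exists. -/
theorem exists_tower (hω : Dual.IsDualizing A ω) (hN : Dual.IsNormalized A ω)
    (hf : InjHull.IsInjectiveHull f) : Nonempty (Tower ω E) := by
  classical
  have := hf.isInjective
  have hbase : ∃ g : (X A 0 ⟶ ω) →ₗ[A] E, Function.Injective g := by
    obtain ⟨φ⟩ := DualFinLen.exists_matlis hω hN E f hf (B A 0) (Groth.Agent.S0362.isFiniteLength_quot A 1)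
    exact ⟨(LinearMap.applyₗ (Submodule.Quotient.mk (1 : A) : B A 0)) ∘ₗ φ.toLinearMap,
      fun x y h => φ.injective (DualFinLen.linearMap_ext_one h)⟩
  have hstep : ∀ k (g : (X A k ⟶ ω) →ₗ[A] E), Function.Injective g →
      ∃ g' : (X A (k + 1) ⟶ ω) →ₗ[A] E, Function.Injective g' ∧ ∀ x, g' (q (Nat.le_succ k) ≫ x) = g x := by
    intro k g hg
    let r : (X A k ⟶ ω) →ₗ[A] (X A (k + 1) ⟶ ω) := Linear.leftComp A ω (q (Nat.le_succ k))
    have hr : Function.Injective r := (injective_iff_map_eq_zero r).2 fun y hy => eq_zero_of_q hN _ y hy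
    obtain ⟨g', hg'⟩ := (Module.Baer.of_injective hf.isInjective).extension_property r hr g
    refine ⟨g', (injective_iff_map_eq_zero g').2 fun x hx => ?_, fun x => LinearMap.congr_fun hg' x⟩
    by_contra hne
    obtain ⟨c, hc, hsoc⟩ := DualFinLen.exists_socle x hne (k + 2) fun a ha => smul_hom_eq_zero x ha
    obtain ⟨y, hy⟩ := exists_q_eq hω hN hf (Nat.le_succ k) (c • x) fun a ha =>
      hsoc a (Ideal.pow_le_self (Nat.succ_ne_zero k) ha)
    have h1 : g y = 0 := by
      rw [← LinearMap.congr_fun hg' y]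
      show g' (q (Nat.le_succ k) ≫ y) = 0
      rw [hy, map_smul, hx, smul_zero]
    have h2 : y = 0 := hg (h1.trans g.map_zero.symm)
    exact hc (by rw [← hy, h2, comp_zero])
  choose g₀ hg₀ using hbase
  choose next hnext hcomp using hstep
  let J : ∀ k, {g : (X A k ⟶ ω) →ₗ[A] E // Function.Injective g} :=
    fun k => Nat.rec ⟨g₀, hg₀⟩ (fun k g => ⟨next k g.1 g.2, hnext k g.1 g.2⟩) k
  refine ⟨{ j := fun k => (J k).1, inj := fun k => (J k).2, compat := ?_, surj := fun e => ?_ }⟩
  · intro k m h x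
    induction h with
    | refl => rw [q_refl, Category.id_comp]
    | @step m h ih =>
      rw [← q_q h (Nat.le_succ m), Category.assoc]
      exact (hcomp m (J m).1 (J m).2 _).trans ih
  · obtain ⟨n, hn⟩ := LC.hull_isPowerTorsion hf e
    exact ⟨n, range_eq_torsion hω hN hf (J n).1 (J n).2 e fun a ha =>
      hn a (Ideal.pow_le_pow_right (Nat.le_succ n) ha)⟩

end Groth.Agent.PerfGen7.LocalDualityD
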