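import Groth.Agent.PerfGen7.FibreRegular
import Groth.Agent.H9Misc.DRingRelPC
import Groth.Agent.FlatSyz5.PC
import Groth.Agent.GrLib8.PdPoly
import Groth.Agent.CAlgGlobalDim.Basic
import Mathlib.RingTheory.TensorProduct.MvPolynomial

/-!
# Tor amplitude at a prime from the fibre
-/

set_option linter.style.haveILetI false
set_option backward.isDefEq.respectTransparency false

universe u

open CategoryTheory CategoryTheory.Limits MonoidalCategory

attribute [local instance] HasDerivedCategory.standard

namespace Groth.Agent.PerfGen7.LocalFibre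

open Groth.Agent.KFlatLib Groth.Agent.H9Misc Groth.Agent.H9Misc.DRingLTensor
  Groth.Agent.PerfGen7.RelTor Groth.Agent.H9Misc.DRingTorDescent

variable {R A : Type u} [CommRing R] [CommRing A] [Algebra R A]

/-- A flat algebra of finite presentation is pseudo-coherent over a polynomial ring surjecting on it. -/
theorem pcHom_of_surjective [Module.Flat R A] [Algebra.FinitePresentation R A] {d : ℕ}
    (ψ : MvPolynomial (Fin d) R →ₐ[R] A) (hψ : Function.Surjective ψ) :
    DRingRelPC.PCHom ψ.toRingHom := by
  letI : Algebra (MvPolynomial (Fin d) R) A := ψ.toRingHom.toAlgebra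
  haveI : IsScalarTower R (MvPolynomial (Fin d) R) A :=
    IsScalarTower.of_algebraMap_eq fun r => (ψ.commutes r).symm
  haveI : Module.FinitePresentation (MvPolynomial (Fin d) R) A :=
    Module.finitePresentation_of_surjective (Algebra.linearMap (MvPolynomial (Fin d) R) A) hψ
      (Algebra.FinitePresentation.ker_fG_of_surjective ψ hψ)
  exact FlatSyz5.pc' R (MvPolynomial (Fin d) R) A

/-- The derived tensor product with an algebra, read off the extension of scalars. -/
theorem exactAt_extC_of_ltensor {S k : Type u} [CommRing S] [CommRing k] [Algebra S k]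
    [DRing.HasLTensor S (ModuleCat.of S k)] {G : DRing.Cx S} (hG : IsKF G) {K : Dual.D S}
    (e : DerivedCategory.Q.obj G ≅ K) (i : ℤ)
    (h : Subsingleton (Dual.HD S ((DRing.LTensor S (ModuleCat.of S k)).obj K) i)) :
    ((extC' (algebraMap S k)).obj G).ExactAt i := by
  have h1 := (DRingTor.exactAt_tensC_iff (ModuleCat.of S k) hG e i).1 h
  let eM : (tensC (resB (algebraMap S k))).obj G ≅ (tensC (ModuleCat.of S k)).obj G :=
    HomologicalComplex.Hom.isoOfComponents (fun n => whiskerLeftIso (G.X n) (resBIso k))
      (fun p q _ => whisker_exchange (G.d p q) (resBIso k).hom)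
  let eX : (tensC (resB (algebraMap S k))).obj G ≅
      (resCx (algebraMap S k)).obj ((extC' (algebraMap S k)).obj G) :=
    HomologicalComplex.Hom.isoOfComponents (fun n => (DRingTorLocal.extResIso (algebraMap S k)).app (G.X n))
      (fun p q _ => ((DRingTorLocal.extResIso (algebraMap S k)).hom.naturality (G.d p q)).symm)
  let eT := eM.symm ≪≫ eX
  exact (ShortComplex.exact_map_iff_of_faithful (((extC' (algebraMap S k)).obj G).sc i)
    (ModuleCat.restrictScalars (algebraMap S k))).1
      ((DRingTorLTensor.exactAt_iff_of_iso eT i).1 h1)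

/-- A map out of a localization is flat when the composite is. -/
theorem flat_of_comp_localization {S T : Type u} [CommRing S] [CommRing T] [Algebra R S] (M : Submonoid R)
    [IsLocalization M S] [Algebra R T] (ρ : S →+* T) (h : ρ.comp (algebraMap R S) = algebraMap R T)
    [Module.Flat R T] : ρ.Flat := by
  letI : Algebra S T := ρ.toAlgebra
  haveI : IsScalarTower R S T := IsScalarTower.of_algebraMap_eq fun x => (RingHom.congr_fun h x).symm
  exact (Module.flat_iff_of_isLocalization S M T).2 inferInstance

variable (R) in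
/-- The fibre ring of a localized polynomial ring has finite global dimension. -/
theorem exists_fibre_ring (d : ℕ) (q' : Ideal (MvPolynomial (Fin d) R)) [q'.IsPrime]
    (p : Ideal R) [p.IsPrime] (ρ : Localization.AtPrime p →+* Localization.AtPrime q') [IsLocalHom ρ]
    (hρR : ρ.comp (algebraMap R (Localization.AtPrime p)) = algebraMap R (Localization.AtPrime q')) :
    ∃ (C : Type u) (_ : CommRing C) (η : p.ResidueField →+* C) (β : Localization.AtPrime q' →+* C)
      (φC : C →+* IsLocalRing.ResidueField (Localization.AtPrime q')),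
      IsPushout (CommRingCat.ofHom (algebraMap R p.ResidueField))
        (CommRingCat.ofHom (algebraMap R (Localization.AtPrime q')))
        (CommRingCat.ofHom η) (CommRingCat.ofHom β) ∧
      φC.comp β = IsLocalRing.residue (Localization.AtPrime q') ∧
      (∀ M : ModuleCat.{u} C, HasProjectiveDimensionLT M (d + 1)) ∧
      ∃ ι : MvPolynomial (Fin d) p.ResidueField →+* C, ι.Flat ∧
        ι.comp (MvPolynomial.map (algebraMap R p.ResidueField)) =
          β.comp (algebraMap (MvPolynomial (Fin d) R) (Localization.AtPrime q')) := by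
  let P := MvPolynomial (Fin d) R
  let P' := Localization.AtPrime q'
  let D := MvPolynomial (Fin d) p.ResidueField
  let mp : P →+* D := MvPolynomial.map (algebraMap R p.ResidueField)
  let C := Localization (Submonoid.map mp q'.primeCompl)
  let β : P' →+* C := IsLocalization.map (M := q'.primeCompl) (T := Submonoid.map mp q'.primeCompl)
    C mp (Submonoid.le_comap_map _)
  have hβ : β.comp (algebraMap P P') = (algebraMap D C).comp mp :=
    RingHom.ext fun x => IsLocalization.map_eq (M := q'.primeCompl) (T := Submonoid.map mp q'.primeCompl) (S := P') (Q := C) (Submonoid.le_comap_map _) x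
  have h2 := CommRingCat.isPushout_of_isLocalization mp β hβ q'.primeCompl
  letI : Algebra P D := mp.toAlgebra
  haveI : IsScalarTower R P D :=
    IsScalarTower.of_algebraMap_eq fun r => (MvPolynomial.map_C _ r).symm
  have h1 := CommRingCat.isPushout_of_isPushout R p.ResidueField P D
  have hR : CommRingCat.ofHom (algebraMap R P) ≫ CommRingCat.ofHom (algebraMap P P') =
      CommRingCat.ofHom (algebraMap R P') := by
    rw [← CommRingCat.ofHom_comp, ← IsScalarTower.algebraMap_eq]
  have h3 := h1.paste_vert h2
  rw [hR, ← CommRingCat.ofHom_comp] at h3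
  let l : p.ResidueField →+* IsLocalRing.ResidueField P' := IsLocalRing.ResidueField.map ρ
  have hl : l.comp (algebraMap R p.ResidueField) =
      (IsLocalRing.residue P').comp (algebraMap R P') := by
    rw [← hρR]
    rfl
  refine ⟨C, inferInstance, _, β, (h3.desc (CommRingCat.ofHom l) (CommRingCat.ofHom (IsLocalRing.residue P'))
      (CommRingCat.hom_ext hl)).hom, h3,
    congrArg CommRingCat.Hom.hom (h3.inr_desc (CommRingCat.ofHom l)
      (CommRingCat.ofHom (IsLocalRing.residue P')) (CommRingCat.hom_ext hl)), ?_,
    algebraMap D C, RingHom.flat_algebraMap_iff.2 (IsLocalization.flat C (Submonoid.map mp q'.primeCompl)),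
    hβ.symm⟩
  exact FibreRegular.pd_localization _ d fun M =>
    CAlgGlobalDim.hasProjectiveDimensionLT_of_forall_cyclic d
      (fun I => GrLib8.hasProjectiveDimensionLE_mvPolynomial p.ResidueField d _) M

/-- Tor amplitude over a localized polynomial ring from the fibre. -/
theorem amp_poly (d : ℕ) (q' : Ideal (MvPolynomial (Fin d) R)) [q'.IsPrime]
    (p : Ideal R) [p.IsPrime] (ρ : Localization.AtPrime p →+* Localization.AtPrime q') [IsLocalHom ρ]
    (hρR : ρ.comp (algebraMap R (Localization.AtPrime p)) = algebraMap R (Localization.AtPrime q'))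
    [DRing.HasLTensor (Localization.AtPrime p) (ModuleCat.of (Localization.AtPrime p) p.ResidueField)]
    {E : DRing.Cx (Localization.AtPrime q')} (hEf : DRing.TermwiseFiniteFree E) {c : ℤ}
    (hEz : DRing.VanishesAbove E c) {K : Dual.D (Localization.AtPrime p)}
    (e : DerivedCategory.Q.obj ((resCx ρ).obj E) ≅ K) (a b : ℤ)
    (hfib : ∀ i : ℤ, i < a ∨ b < i → Subsingleton (Dual.HD (Localization.AtPrime p)
      ((DRing.LTensor (Localization.AtPrime p)
        (ModuleCat.of (Localization.AtPrime p) p.ResidueField)).obj K) i)) :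
    DRing.HasTorAmplitudeIn (Localization.AtPrime q') (a - d) b (DerivedCategory.Q.obj E) := by
  obtain ⟨C, _, η, β, φC, h3, hφC, hgl, -⟩ := exists_fibre_ring R d q' p ρ hρR
  haveI : Module.Flat R (Localization.AtPrime q') :=
    haveI : Module.Flat (MvPolynomial (Fin d) R) (Localization.AtPrime q') :=
      IsLocalization.flat _ q'.primeCompl
    Module.Flat.trans R (MvPolynomial (Fin d) R) _
  have hρ : ρ.Flat := flat_of_comp_localization p.primeCompl ρ hρR
  let G0 : DRing.Cx (Localization.AtPrime p) := (resCx ρ).obj E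
  have hG0 : IsKF G0 := DRingTor.isKF_of_flat (FibreRegular.termwiseFlat_res hρ hEf)
    (fun j hj => (ModuleCat.restrictScalars ρ).map_isZero (hEz j hj))
  refine FibreRegular.amp_of_fibre β φC hφC hEf hEz d hgl fun i hi => ?_
  refine (FibreRegular.exactAt_fibre_iff h3 E i).1 ?_
  have hk := exactAt_extC_of_ltensor hG0 e i (hfib i hi)
  obtain ⟨er⟩ := TorAmpBC.nonempty_ext_res (Q := Localization.AtPrime p) p.primeCompl G0
  refine (DRingTorLTensor.exactAt_iff_of_iso ?_ i).2 hk
  exact (extC' (algebraMap R p.ResidueField)).mapIso (TorAmpBC.resCompIso hρR E) ≪≫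
    TorAmpBC.extCompIso (IsScalarTower.algebraMap_eq R (Localization.AtPrime p) p.ResidueField).symm _ ≪≫
    (extC' (algebraMap (Localization.AtPrime p) p.ResidueField)).mapIso er

open TensorProduct in
/-- Tor amplitude over the base of a localization of a pseudo-coherent complex, from the fibre. -/
theorem amp_at_prime [Module.Flat R A] [Algebra.FinitePresentation R A] (d : ℕ)
    (ψ : MvPolynomial (Fin d) R →ₐ[R] A) (hψ : Function.Surjective ψ)
    (q : Ideal A) [q.IsPrime] (p : Ideal R) [p.IsPrime] (hpq : p = Ideal.comap (algebraMap R A) q)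
    [DRing.HasLBaseChange (algebraMap A (Localization.AtPrime q))]
    [DRing.HasLTensor (Localization.AtPrime p) (ModuleCat.of (Localization.AtPrime p) p.ResidueField)]
    (K : Dual.D A) (hK : DRing.IsPseudoCoherent' A K) (a b : ℤ)
    (hfib : ∀ i : ℤ, i < a ∨ b < i → Subsingleton (Dual.HD (Localization.AtPrime p)
      ((DRing.LTensor (Localization.AtPrime p) (ModuleCat.of (Localization.AtPrime p) p.ResidueField)).obj
        ((DRing.restrictD (Localization.localRingHom p q (algebraMap R A) hpq)).obj
          ((DRing.LBaseChange (algebraMap A (Localization.AtPrime q))).obj K))) i)) :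
    DRing.HasTorAmplitudeIn R (a - d) b
      ((DRing.restrictD (algebraMap R (Localization.AtPrime q))).obj
        ((DRing.LBaseChange (algebraMap A (Localization.AtPrime q))).obj K)) := by
  let ψr : MvPolynomial (Fin d) R →+* A := ψ.toRingHom
  let q' : Ideal (MvPolynomial (Fin d) R) := q.comap ψr
  haveI : q'.IsPrime := Ideal.comap_isPrime ψr q
  let Rp := Localization.AtPrime p
  let P' := Localization.AtPrime q'
  let Aq := Localization.AtPrime q
  let iP : MvPolynomial (Fin d) R →+* P' := algebraMap _ P'
  let iA : A →+* Aq := algebraMap A Aq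
  let lam : P' →+* Aq := Localization.localRingHom q' q ψr rfl
  have hψC : ψr.comp (algebraMap R (MvPolynomial (Fin d) R)) = algebraMap R A := ψ.comp_algebraMap
  have hp : p = q'.comap (algebraMap R (MvPolynomial (Fin d) R)) := by
    rw [hpq, ← hψC, ← Ideal.comap_comap]
  let ρ : Rp →+* P' := Localization.localRingHom p q' (algebraMap R (MvPolynomial (Fin d) R)) hp
  have hlamiP : lam.comp iP = iA.comp ψr := RingHom.ext fun x => Localization.localRingHom_to_map q' q ψr rfl x
  have hθ : lam.comp (algebraMap R P') = algebraMap R Aq := by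
    rw [IsScalarTower.algebraMap_eq R (MvPolynomial (Fin d) R) P', ← RingHom.comp_assoc, hlamiP,
      RingHom.comp_assoc, hψC, ← IsScalarTower.algebraMap_eq]
  have hσ : lam.comp ρ = Localization.localRingHom p q (algebraMap R A) hpq := by
    refine IsLocalization.ringHom_ext p.primeCompl (RingHom.ext fun x => ?_)
    refine ((congrArg lam (Localization.localRingHom_to_map p q' _ hp x)).trans
      (Localization.localRingHom_to_map q' q ψr rfl _)).trans
      ((congrArg (algebraMap A Aq) (RingHom.congr_fun hψC x)).trans
        (Localization.localRingHom_to_map p q _ hpq x).symm)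
  -- the localization square
  haveI : IsLocalization (Submonoid.map ψr q'.primeCompl) Aq := by
    have hm : Submonoid.map ψr q'.primeCompl = q.primeCompl := by
      ext x
      constructor
      · rintro ⟨y, hy, rfl⟩
        exact hy
      · intro hx
        obtain ⟨y, rfl⟩ := hψ x
        exact ⟨y, hx, rfl⟩
    rw [hm]
    infer_instance
  have hsq : IsPushout (CommRingCat.ofHom iP) (CommRingCat.ofHom ψr)
      (CommRingCat.ofHom lam) (CommRingCat.ofHom iA) :=
    (CommRingCat.isPushout_of_isLocalization ψr lam hlamiP q'.primeCompl).flip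
  -- the representative over the polynomial ring
  have hKpc : DRing.IsPseudoCoherent' (MvPolynomial (Fin d) R) ((DRing.restrictD ψr).obj K) :=
    (DRingPC.pc'_iff _).2 fun m =>
      (DRingRestrict.pc_restrict_iff ψr (pcHom_of_surjective ψ hψ) m K).1 ((DRingPC.pc'_iff _).1 hK m)
  obtain ⟨F, bF, hFz, hFf, ⟨eF⟩⟩ := hK
  obtain ⟨E, bE, hEz, hEf, ⟨eE⟩⟩ := hKpc
  let G : DRing.Cx (MvPolynomial (Fin d) R) := (resCx ψr).obj F
  let eG : DerivedCategory.Q.obj E ≅ DerivedCategory.Q.obj G :=
    eE ≪≫ ((DRing.restrictD ψr).mapIso eF).symm ≪≫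
      (ModuleCat.restrictScalars ψr).mapDerivedCategoryFactors.app F
  have hiP : iP.Flat := RingHom.flat_algebraMap_iff.2 (IsLocalization.flat P' q'.primeCompl)
  haveI := ModuleCat.preservesFiniteLimits_extendScalars_of_flat hiP
  haveI : PreservesFiniteColimits (ModuleCat.extendScalars.{u, u, u} iP) := by
    haveI : (ModuleCat.extendScalars.{u, u, u} iP).IsLeftAdjoint :=
      (ModuleCat.extendRestrictScalarsAdj iP).isLeftAdjoint
    infer_instance
  let Φ := ModuleCat.extendScalars.{u, u, u} iP
  let E' : DRing.Cx P' := (extC' iP).obj E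
  let F' : DRing.Cx Aq := (extC' iA).obj F
  have hE'f : DRing.TermwiseFiniteFree E' := fun j =>
    DRingRestrict.finFree_extendScalars iP _ (hEf j).1 (hEf j).2
  have hE'z : DRing.VanishesAbove E' bE := fun j hj => Φ.map_isZero (hEz j hj)
  obtain ⟨ee⟩ := nonempty_restrict_extend hsq F
  let eE' : DerivedCategory.Q.obj E' ≅ DerivedCategory.Q.obj ((resCx lam).obj F') :=
    (Φ.mapDerivedCategoryFactors.app E).symm ≪≫ Φ.mapDerivedCategory.mapIso eG ≪≫
      Φ.mapDerivedCategoryFactors.app G ≪≫ DerivedCategory.Q.mapIso ee
  obtain ⟨eL⟩ := DRingLBase.nonempty_lbase_iso iA (DRingFibre.isKF hFf hFz)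
  let eK : DerivedCategory.Q.obj F' ≅ (DRing.LBaseChange iA).obj K :=
    eL.symm ≪≫ (DRing.LBaseChange iA).mapIso eF
  -- restriction along a map through the localized polynomial ring
  have hres : ∀ {T : Type u} [CommRing T] (α : T →+* P') (θ : T →+* Aq), lam.comp α = θ →
      Nonempty (DerivedCategory.Q.obj ((resCx α).obj E') ≅
        (DRing.restrictD θ).obj ((DRing.LBaseChange iA).obj K)) := fun α θ h =>
    ⟨resQMapIso α eE' ≪≫ DerivedCategory.Q.mapIso (TorAmpBC.resCompIso h F').symm ≪≫
      ((ModuleCat.restrictScalars θ).mapDerivedCategoryFactors.app F').symm ≪≫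
        (DRing.restrictD θ).mapIso eK⟩
  have hRP : (algebraMap R P').Flat := by
    rw [IsScalarTower.algebraMap_eq R (MvPolynomial (Fin d) R) P']
    exact RingHom.Flat.comp (RingHom.flat_algebraMap_iff.2 inferInstance) hiP
  obtain ⟨eR⟩ := hres (algebraMap R P') (algebraMap R Aq) hθ
  refine torAmp_of_iso eR (TorAmpBC.res_flat _ hRP ?_)
  obtain ⟨e0⟩ := hres ρ _ hσ
  haveI : IsLocalHom ρ := Localization.isLocalHom_localRingHom _ _ _ _
  exact amp_poly d q' p ρ (RingHom.ext fun x =>
    (Localization.localRingHom_to_map p q' _ hp x).trans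
      (IsScalarTower.algebraMap_apply R (MvPolynomial (Fin d) R) P' x).symm) hE'f hE'z e0 a b hfib

end Groth.Agent.PerfGen7.LocalFibre
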