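import Groth.Agent.H9Misc.DRingPCModule
import Groth.Agent.PCMor.Ring
import Groth.Agent.S7000

/-!
# Pseudo-coherent modules over a tower, with degrees
-/

set_option linter.style.haveILetI false

universe u

open CategoryTheory CategoryTheory.Limits MvPolynomial TensorProduct

attribute [local instance] HasDerivedCategory.standard

attribute [local instance] MvPolynomial.algebraMvPolynomial

namespace Groth.Agent.PerfGen7

open Groth.Agent.H9Misc Groth.Agent.H9Misc.DRingTor Groth.Agent.H9Misc.DRingRelPC

variable {P Q : Type u} [CommRing P] [CommRing Q]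

lemma modulePC_iso {m : ℤ} {M N : Type u} [AddCommGroup M] [Module P M] [AddCommGroup N] [Module P N]
    (e : M ≃ₗ[P] N) (h : DRing.IsPseudoCoherentModule P m M) : DRing.IsPseudoCoherentModule P m N :=
  DRingPC.of_iso ((DerivedCategory.singleFunctor (ModuleCat.{u} P) 0).mapIso e.toModuleIso) h

/-- Finite powers of an `m`-pseudo-coherent module. -/
lemma modulePC_pow {m : ℤ} {M : Type u} [AddCommGroup M] [Module P M]
    (h : DRing.IsPseudoCoherentModule P m M) : ∀ k : ℕ, DRing.IsPseudoCoherentModule P m (Fin k → M) := by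
  intro k
  induction k with
  | zero => exact DRingPC.module_of_subsingleton m _
  | succ k ih =>
    let e : (M × (Fin k → M)) ≃ₗ[P] (Fin (k + 1) → M) := Fin.consLinearEquiv P (fun _ : Fin (k + 1) => M)
    refine modulePC_iso e ?_
    let S : ShortComplex (ModuleCat.{u} P) := ShortComplex.mk
      (ModuleCat.ofHom (LinearMap.inl P M (Fin k → M)))
      (ModuleCat.ofHom (LinearMap.snd P M (Fin k → M))) (by ext x; rfl)
    have hS : S.ShortExact :=
      { exact := (ShortComplex.moduleCat_exact_iff S).2 fun x hx => ⟨x.1, Prod.ext rfl hx.symm⟩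
        mono_f := (ModuleCat.mono_iff_injective _).2 LinearMap.inl_injective
        epi_g := (ModuleCat.epi_iff_surjective _).2 fun y => ⟨(0, y), rfl⟩ }
    exact (Groth.Agent.S2067.result hS.singleTriangle hS.singleTriangle_distinguished m).2.1 h ih

/-- A module which is `m`-pseudo-coherent over `Q` is so over `P` if `Q` is. -/
theorem modulePC_tower [Algebra P Q] : ∀ (d : ℕ) (m : ℤ), m + d = 1 →
    DRing.IsPseudoCoherentModule P m Q → ∀ (N : Type u) [AddCommGroup N] [Module Q N] [Module P N]
      [IsScalarTower P Q N], DRing.IsPseudoCoherentModule Q m N → DRing.IsPseudoCoherentModule P m N := by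
  intro d
  induction d with
  | zero => intro m hm _ N _ _ _ _ _; exact Triage.NoethPC.pc_of_pos _ _ (by omega)
  | succ d ih =>
    intro m hm hQ N _ _ _ _ hN
    haveI : Module.Finite Q N := DRingPC.finite_of_pc (DRingPC.module_mono (by omega : m ≤ 0) hN)
    obtain ⟨k, π, hπ⟩ := Module.Finite.exists_fin' Q N
    let S : ShortComplex (ModuleCat.{u} Q) := ShortComplex.mk (ModuleCat.ofHom (LinearMap.ker π).subtype)
      (ModuleCat.ofHom π) (by ext x; exact x.2)
    have hS : S.ShortExact :=
      { exact := (ShortComplex.moduleCat_exact_iff S).2 fun x hx => ⟨⟨x, hx⟩, rfl⟩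
        mono_f := (ModuleCat.mono_iff_injective _).2 Subtype.val_injective
        epi_g := (ModuleCat.epi_iff_surjective _).2 hπ }
    have hker : DRing.IsPseudoCoherentModule Q (m + 1) (LinearMap.ker π) :=
      (Groth.Agent.S2067.result hS.singleTriangle hS.singleTriangle_distinguished m).2.2
        (Triage.NoethPC.pc_of_free (A := Q) (Fin k → Q) (m + 1)) hN
    have hkerP : DRing.IsPseudoCoherentModule P (m + 1) (LinearMap.ker π) :=
      ih (m + 1) (by omega) (DRingPC.module_mono (by omega : m ≤ m + 1) hQ) _ hker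
    let S' : ShortComplex (ModuleCat.{u} P) := ShortComplex.mk
      (ModuleCat.ofHom ((LinearMap.ker π).subtype.restrictScalars P))
      (ModuleCat.ofHom (π.restrictScalars P)) (by ext x; exact x.2)
    have hS' : S'.ShortExact :=
      { exact := (ShortComplex.moduleCat_exact_iff S').2 fun x hx => ⟨⟨x, hx⟩, rfl⟩
        mono_f := (ModuleCat.mono_iff_injective _).2 Subtype.val_injective
        epi_g := (ModuleCat.epi_iff_surjective _).2 hπ }
    exact (Groth.Agent.S2067.result hS'.singleTriangle hS'.singleTriangle_distinguished m).1 hkerP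
      (modulePC_pow hQ k)

/-- Composition of presentations. -/
theorem exists_presentation_comp {R A B : Type u} [CommRing R] [CommRing A] [CommRing B] (g : R →+* A)
    (f : A →+* B) {k n : ℕ} (φ : MvPolynomial (Fin k) R →+* A) (hφ : Function.Surjective φ)
    (hφC : φ.comp C = g) (ψ : MvPolynomial (Fin n) A →+* B) (hψ : Function.Surjective ψ)
    (hψC : ψ.comp C = f) {m : ℤ}
    (h1 : letI := φ.toAlgebra; DRing.IsPseudoCoherentModule (MvPolynomial (Fin k) R) m A)
    (h2 : letI := ψ.toAlgebra; DRing.IsPseudoCoherentModule (MvPolynomial (Fin n) A) m B) :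
    ∃ θ : MvPolynomial (Fin (n + k)) R →+* B, Function.Surjective θ ∧ θ.comp C = f.comp g ∧
      (letI := θ.toAlgebra; DRing.IsPseudoCoherentModule (MvPolynomial (Fin (n + k)) R) m B) := by
  let e := PCMor.nestEquiv R n k
  let μ := MvPolynomial.map (σ := Fin n) φ
  let θ : MvPolynomial (Fin (n + k)) R →+* B := (ψ.comp μ).comp e.toRingEquiv.toRingHom
  refine ⟨θ, (hψ.comp (MvPolynomial.map_surjective φ hφ)).comp e.surjective, ?_, ?_⟩
  · ext r
    have : e.toRingEquiv.toRingHom (C r) = C (C r) := by simp [e, PCMor.nestEquiv]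
    simp only [θ, μ, RingHom.comp_apply]
    rw [this, MvPolynomial.map_C, ← RingHom.comp_apply ψ, hψC, ← RingHom.comp_apply φ, hφC]
  letI := φ.toAlgebra
  letI := ψ.toAlgebra
  letI := θ.toAlgebra
  let Rk := MvPolynomial (Fin k) R
  haveI : IsScalarTower Rk (MvPolynomial (Fin n) Rk) (MvPolynomial (Fin n) A) :=
    .of_algebraMap_eq fun a => (MvPolynomial.map_C _ a).symm
  have hAn : DRing.IsPseudoCoherentModule (MvPolynomial (Fin n) Rk) m (MvPolynomial (Fin n) A) :=
    modulePC_iso (Algebra.IsPushout.equiv Rk (MvPolynomial (Fin n) Rk) A (MvPolynomial (Fin n) A)).toLinearEquiv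
      ((Groth.Agent.S7000.result (A := Rk) (B := MvPolynomial (Fin n) Rk) m A).1 h1)
  letI : Algebra (MvPolynomial (Fin (n + k)) R) (MvPolynomial (Fin n) A) :=
    (μ.comp e.toRingEquiv.toRingHom).toAlgebra
  haveI : IsScalarTower (MvPolynomial (Fin (n + k)) R) (MvPolynomial (Fin n) A) B :=
    .of_algebraMap_eq fun _ => rfl
  have hQ : DRing.IsPseudoCoherentModule (MvPolynomial (Fin (n + k)) R) m (MvPolynomial (Fin n) A) := by
    letI : Algebra (MvPolynomial (Fin (n + k)) R) (MvPolynomial (Fin n) Rk) :=
      e.toRingEquiv.toRingHom.toAlgebra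
    haveI : IsScalarTower (MvPolynomial (Fin (n + k)) R) (MvPolynomial (Fin n) Rk) (MvPolynomial (Fin n) A) :=
      .of_algebraMap_eq fun _ => rfl
    by_cases hm : 1 ≤ m
    · exact Triage.NoethPC.pc_of_pos _ _ (by omega)
    refine modulePC_tower (1 - m).toNat m (by omega) ?_ _ hAn
    have hf := PCHom.of_bijective (φ := algebraMap (MvPolynomial (Fin (n + k)) R) (MvPolynomial (Fin n) Rk))
      e.bijective
    exact (DRingPC.pc'_iff _).1 (PCMor.pcHom_iff.1 hf) m
  by_cases hm : 1 ≤ m
  · exact Triage.NoethPC.pc_of_pos _ _ (by omega)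
  exact modulePC_tower (1 - m).toNat m (by omega) hQ _ h2

end Groth.Agent.PerfGen7
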