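import Groth.Agent.PerfGen7.PerfectCriterion
import Groth.Agent.PerfGen7.TorAmpBC
import Groth.Agent.PerfGen7.RelTor.Abs
import Groth.Agent.H9Misc.DRingTorDevissage
import Groth.Agent.H9Misc.DRingTorDim
import Groth.Agent.H9Misc.DRingTorTriangle
import Groth.Agent.KFlatLib.Perfect.Tri

/-!
# Perfection from finite tor dimension at the local rings
-/

set_option linter.style.haveILetI false
set_option backward.isDefEq.respectTransparency false

universe u

open CategoryTheory CategoryTheory.Limits AlgebraicGeometry Pretriangulated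

attribute [local instance] HasDerivedCategory.standard

namespace Groth.Agent.PerfGen7.PerfectCriterion

open Groth.Agent.KFlatLib Groth.Agent.H9Misc Groth.Agent.PerfGen7.RelTor

section Ring

variable {A : Type u} [CommRing A]

/-- Bounded cohomology and modules of finite tor dimension give finite tor amplitude. -/
theorem exists_torAmp_of_finite_torDim (C : DRing.Cx A) (c d : ℤ)
    (hz : ∀ i, (i < c ∨ d < i) → IsZero (C.homology i))
    (hfin : ∀ M : ModuleCat.{u} A, DRing.HasFiniteTorDim A M) :
    ∃ a b : ℤ, DRing.HasTorAmplitudeIn A a b (DRing.toD C) := by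
  choose n hn using fun i => hfin (C.homology i)
  let N : ℕ := (Finset.Icc c d).sup n
  refine ⟨c - N, d, DRingTor.toD_of_homology (d - c + 1).toNat c d le_rfl C hz fun i => ?_⟩
  by_cases hi : i ∈ Finset.Icc c d
  · have hN : n i ≤ N := Finset.le_sup hi
    rw [Finset.mem_Icc] at hi
    exact DRingTor.mono (by omega) (by omega) ((DRingTor.torDimLE_iff (n i) (C.homology i)).1 (hn i))
  · rw [Finset.mem_Icc] at hi
    exact DRingTor.of_isZero (Functor.map_isZero _ (hz i (by omega)))

/-- A complex of flat modules approximating one of tor amplitude `≥ a` has flat cokernel at `a`. -/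
theorem flat_opcycles_of_approx {P : DRing.Cx A} (hP : DRingLTensor.IsKF P)
    (hf : ∀ i, Module.Flat A (P.X i)) {L : Dual.D A} {a b : ℤ} (hL : DRing.HasTorAmplitudeIn A a b L)
    (α : DerivedCategory.Q.obj P ⟶ L) {m : ℤ} (hm : m < a - 1) (hα : IsPcMap m α) :
    Module.Flat A (P.opcycles a) := by
  obtain ⟨C, g, h, hT⟩ := distinguished_cocone_triangle α
  haveI : ∀ M : ModuleCat.{u} A, DRing.HasLTensor A M := DRingTor.hasLTensor
  let H := DerivedCategory.homologyFunctor (ModuleCat.{u} A)
  have hC : ∀ i, m ≤ i → IsZero ((H i).obj C) := fun i hi => by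
    haveI : Epi ((H i).map α) := by
      rcases eq_or_lt_of_le hi with h' | h'
      · subst h'; exact hα.2
      · haveI := hα.1 i h'; infer_instance
    haveI : Mono ((H (i + 1)).map α) := by
      haveI := hα.1 (i + 1) (by omega); infer_instance
    exact (DerivedCategory.HomologySequence.exact₃ _ hT i (i + 1) rfl).isZero_X₂
      ((DerivedCategory.HomologySequence.epi_homologyMap_mor₁_iff _ hT i).1 (inferInstanceAs (Epi ((H i).map α))))
      ((DerivedCategory.HomologySequence.mono_homologyMap_mor₁_iff _ hT i (i + 1) rfl).1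
        (inferInstanceAs (Mono ((H (i + 1)).map α))))
  let C₀ := DerivedCategory.Q.objPreimage C
  obtain ⟨R, ψ, hψ, hflat, hRb⟩ := (ringCover A).exists_bounded_resolution C₀ (m - 1)
    fun i hi => (hC i (by omega)).of_iso (((DerivedCategory.homologyFunctorFactors _ i).app C₀).symm ≪≫
      (H i).mapIso (DerivedCategory.Q.objObjPreimageIso C))
  haveI := hψ
  haveI : IsIso (DerivedCategory.Q.map ψ) := (DerivedCategory.isIso_Q_map_iff_quasiIso _ _).2 inferInstance
  refine DRingTor.flat_opcycles hf a fun M => ?_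
  refine (DRingTor.exactAt_tensC_iff M hP (Iso.refl _) (a - 1)).1 ?_
  refine (DRingTor.two_of_three _ hT M (a - 2) (a - 1) (by omega)).2.2 ?_
    ((DRingTor.iff_ltensor L a b).1 hL M (a - 1) (Or.inl (by omega)))
  refine (DRingTor.exactAt_tensC_iff M (DRingTor.isKF_of_flat hflat hRb)
    (asIso (DerivedCategory.Q.map ψ) ≪≫ DerivedCategory.Q.objObjPreimageIso C) (a - 2)).2 ?_
  rw [HomologicalComplex.exactAt_iff_isZero_homology]
  exact ShortComplex.isZero_homology_of_isZero_X₂ _
    ((MonoidalCategory.tensorRight M).map_isZero (hRb (a - 2) (by omega)))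

end Ring

variable {X : Scheme.{u}}

/-- Pseudo-coherent with bounded cohomology over local rings of finite tor dimension: perfect. -/
theorem isPerfect_of_stalks_finiteTorDim
    (hX : ∀ (x : X) (M : Type u) [AddCommGroup M] [Module (X.presheaf.stalk x) M],
      DRing.HasFiniteTorDim (X.presheaf.stalk x) M)
    (F : CochainComplex X.Modules ℤ) (c d : ℤ) [(DCoh.toD X F).IsGE c] [(DCoh.toD X F).IsLE d]
    (hpc : ∀ m, LocPC m (DCoh.toD X F)) : DCoh.IsPerfect (DCoh.toD X F) := by
  refine isPerfect_of_flat_cokernel hpc fun x => ?_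
  let st := DerSch.stalkFunctor X x
  haveI : st.PreservesHomology :=
    Functor.preservesHomology_of_map_exact _ fun S hS => (exact_iff_stalk S).1 hS x
  have hF : ∀ i, (i < c ∨ d < i) → IsZero (F.homology i) := fun i hi =>
    (hi.elim (fun h => DerivedCategory.isZero_of_isGE (DCoh.toD X F) c i h)
      (fun h => DerivedCategory.isZero_of_isLE (DCoh.toD X F) d i h)).of_iso
      ((DerivedCategory.homologyFunctorFactors _ i).app F).symm
  obtain ⟨a₀, b, hamp⟩ := exists_torAmp_of_finite_torDim ((stalkCx x).obj F) c d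
    (fun i hi => (st.map_isZero (hF i hi)).of_iso ((F.sc i).mapHomologyIso st))
    (fun M => hX x M)
  let a := min a₀ c
  have hid : DerSch.HasTorAmplitudeAt (𝟙 X) a b F x :=
    torAmp_of_iso (DerivedCategory.Q.mapIso (RelTor.stalkCxOverIso (𝟙 X) x F)).symm
      (torAmp_res_of_bijective ((𝟙 X : X ⟶ X).stalkMap x).hom
        (ConcreteCategory.bijective_of_isIso ((𝟙 X : X ⟶ X).stalkMap x))
        (torAmp_mono (min_le_left _ _) le_rfl hamp))
  refine ⟨X, 𝟙 X, inferInstance, a, ⟨x, rfl⟩, fun i hi => ?_, ?_⟩
  · exact (((Scheme.Modules.restrictFunctor (𝟙 X)).map_isZero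
      (DerivedCategory.isZero_of_isGE (DCoh.toD X F) c i (by omega))).of_iso (hdRhoIso (𝟙 X) _ i))
  intro V k _ z hz P hP n e α m hm hα
  subst hz
  let T := DerSch.stalkFunctor V z
  haveI : T.PreservesHomology :=
    Functor.preservesHomology_of_map_exact _ fun S hS => (exact_iff_stalk S).1 hS z
  haveI : PreservesFiniteLimits T := T.preservesFiniteLimits_of_preservesHomology
  haveI : PreservesFiniteColimits T := T.preservesFiniteColimits_of_preservesHomology
  have hampV : DRing.HasTorAmplitudeIn (V.presheaf.stalk z) a b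
      (DerivedCategory.Q.obj ((stalkCx z).obj ((rCx k).obj F))) := by
    have h2 := torAmplitudeAt_of_comp_openImmersion (𝟙 V) k
      (torAmplitudeAt_of_eq ((Category.comp_id k).trans (Category.id_comp k).symm)
        (torAmplitudeAt_restrict (𝟙 X) k z hid))
    exact torAmp_of_bijective ((𝟙 V : V ⟶ V).stalkMap z).hom
      (ConcreteCategory.bijective_of_isIso ((𝟙 V : V ⟶ V).stalkMap z))
      (torAmp_of_iso (DerivedCategory.Q.mapIso (RelTor.stalkCxOverIso (𝟙 V) z _)) h2)
  let β : DerivedCategory.Q.obj ((stalkCx z).obj P) ⟶ DerivedCategory.Q.obj ((stalkCx z).obj ((rCx k).obj F)) :=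
    T.mapDerivedCategoryFactors.inv.app P ≫ T.mapDerivedCategory.map (α ≫ ((rhoQ k).app F).hom) ≫
      T.mapDerivedCategoryFactors.hom.app _
  have hβ : IsPcMap m β := ((hα.comp (isPcMap_of_isIso m _)).map_exact T).comp_iso _ _
  haveI : Module.Flat (V.presheaf.stalk z) ((P.sc a).map T).opcycles :=
    flat_opcycles_of_approx ((kFlat_iff_stalk P).1 hP z) (fun i => by
      haveI := (finite_free_stalk_freeMod (U := V) z (n i)).1
      exact Module.Flat.of_linearEquiv (T.mapIso (e i)).toLinearEquiv) hampV β hm hβ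
  exact Module.Flat.of_linearEquiv ((T.mapIso ((cokernelIsCokernel (P.d (a - 1) a)).coconePointUniqueUpToIso
    (P.opcyclesIsCokernel (a - 1) a (by simp)))) ≪≫ ((P.sc a).mapOpcyclesIso T).symm).toLinearEquiv

end Groth.Agent.PerfGen7.PerfectCriterion
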