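import Groth.Agent.PerfGen7.TorAmpTilde
import Groth.Agent.PerfGen7.RelTor.Abs
import Groth.Agent.PerfLocus7.RelFlat
import Groth.Agent.H9Misc.DRingPC
import Groth.Prelude.Def_DualSh

/-!
# Finite relative tor dimension through stalks; the affine case
-/

set_option backward.isDefEq.respectTransparency false
set_option linter.style.haveILetI false

universe u

open CategoryTheory CategoryTheory.Limits AlgebraicGeometry

attribute [local instance] HasDerivedCategory.standard

namespace Groth.Agent.PerfGen7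

open Groth.Agent.KFlatLib Groth.Agent.H9Misc Groth.Agent.PerfGen7.RelTor

variable {X S : Scheme.{u}} (f : X ⟶ S)

lemma relTorAt_iff (F : CochainComplex X.Modules ℤ) (a b : ℤ) (x : X) :
    PerfLocus7.RelTorAt f a b x (DCoh.toD X F) ↔ DerSch.HasTorAmplitudeAt f a b F x :=
  ⟨torAmp_of_iso ((DerSch.stalkOver f x).mapDerivedCategoryFactors.app F),
    torAmp_of_iso ((DerSch.stalkOver f x).mapDerivedCategoryFactors.app F).symm⟩

/-- Being locally of finite relative tor dimension, through stalks. -/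
theorem locHasFiniteRelTorDim_iff_stalks [Flat f] (K : DCoh.D X) (F : CochainComplex X.Modules ℤ)
    (e : DCoh.toD X F ≅ K) :
    DCoh.LocHasFiniteRelTorDim f K ↔ DerSch.LocFiniteTorAmplitude f F := by
  constructor
  · intro h x
    obtain ⟨V, a, b, hx, hV⟩ := h x
    exact ⟨V, a, b, hx, fun y hy => torAmplitudeAt_unrestrict f V.ι ⟨y, hy⟩
      ((relTorAt_iff _ _ a b _).1 (PerfLocus7.relTorAt_of_rep (hV F ⟨e⟩) ⟨y, hy⟩))⟩
  · intro h x
    obtain ⟨V, a, b, hx, hV⟩ := h x
    refine ⟨V, a, b, hx, fun F' ⟨e'⟩ => PerfLocus7.rep_of_relTorAt fun z => ?_⟩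
    exact (relTorAt_iff _ ((rCx V.ι).obj F') a b z).2
      (torAmplitudeAt_restrict f V.ι z (torAmplitudeAt_congr f (e ≪≫ e'.symm) (hV _ z.2)))

/-- The affine case. -/
theorem locHasFiniteRelTorDim_tilde_iff {R A : CommRingCat.{u}} (φ : R ⟶ A) [Flat (Spec.map φ)]
    [PreservesFiniteLimits (tilde.functor A)] (M : Dual.D A) :
    DCoh.LocHasFiniteRelTorDim (Spec.map φ) ((DCoh.tildeD A).obj M) ↔
      ∃ a b : ℤ, DRing.HasTorAmplitudeIn R a b ((DRing.restrictD φ.hom).obj M) := by
  let F := DerivedCategory.Q.objPreimage ((DCoh.tildeD A).obj M)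
  let e : DCoh.toD (Spec A) F ≅ (DCoh.tildeD A).obj M := DerivedCategory.Q.objObjPreimageIso _
  rw [locHasFiniteRelTorDim_iff_stalks _ _ F e]
  constructor
  · intro h
    obtain ⟨a, b, -, hab⟩ := exists_interval_of_isCompact _ h (isCompact_univ (X := ↥(Spec A)))
    exact ⟨a, b, (TorAmpBC.torAmplitude_tilde_iff φ M F e).1 fun x => hab x trivial⟩
  · rintro ⟨a, b, h⟩ x
    exact ⟨⊤, a, b, trivial, fun y _ => (TorAmpBC.torAmplitude_tilde_iff φ M F e).2 h y⟩

end Groth.Agent.PerfGen7
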