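import Groth.Agent.PerfGen7.TensorTri
import Groth.Agent.PerfGen7.RelTorBridge
import Groth.Agent.KFlatLib.Perfect.Basic
import Groth.Agent.KFlatLib.Perfect.Tensor
import Groth.Agent.KFlatLib.Perfect.Retract
import Groth.Agent.PerfLocus7.RelTor

/-!
# Tensoring pseudo-coherent and relatively perfect objects with perfect objects
-/

set_option backward.isDefEq.respectTransparency false
set_option linter.style.haveILetI false

universe u

open CategoryTheory CategoryTheory.Limits AlgebraicGeometry Pretriangulated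

attribute [local instance] HasDerivedCategory.standard

namespace Groth.Agent.PerfGen7

open Groth.Agent.KFlatLib Groth.Agent.H9Misc Groth.Agent.PerfGen7.RelTor

variable {X S : Scheme.{u}}

/-- The cone of a `pc` map has no homology in degrees `≥ m`. -/
lemma isZero_hd_obj₃_of_isPcMap {m : ℤ} (T : Triangle (DCoh.D X)) (hT : T ∈ distTriang _)
    (h : IsPcMap m T.mor₁) (i : ℤ) (hi : m ≤ i) : IsZero (DCoh.HD T.obj₃ i) := by
  let H := DerivedCategory.homologyFunctor X.Modules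
  haveI : Epi ((H i).map T.mor₁) := by
    rcases eq_or_lt_of_le hi with h' | h'
    · subst h'; exact h.2
    · haveI := h.1 i h'; infer_instance
  haveI : Mono ((H (i + 1)).map T.mor₁) := by
    haveI := h.1 (i + 1) (by omega); infer_instance
  exact (DerivedCategory.HomologySequence.exact₃ T hT i (i + 1) rfl).isZero_X₂
    ((DerivedCategory.HomologySequence.epi_homologyMap_mor₁_iff T hT i).1 inferInstance)
    ((DerivedCategory.HomologySequence.mono_homologyMap_mor₁_iff T hT i (i + 1) rfl).1 inferInstance)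

lemma locPC_of_strictlyPerfect {P : CochainComplex X.Modules ℤ} (hP : DCoh.IsStrictlyPerfect P) (m : ℤ) :
    LocPC m (DerivedCategory.Q.obj P) := fun x =>
  ⟨X, 𝟙 X, inferInstance, ⟨x, rfl⟩, _, ((rhoQ (𝟙 X)).app P).inv, isStrictlyPerfect_restrict (𝟙 X) hP,
    isPcMap_of_isIso m _⟩

/-- Tensoring a pseudo-coherent object with a strictly perfect complex. -/
theorem locPC_tensor_strictlyPerfect {R P : CochainComplex X.Modules ℤ} (hP : DCoh.IsStrictlyPerfect P)
    {b : ℤ} (hb : ∀ i, b < i → IsZero (P.X i))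
    {P' : CochainComplex X.Modules ℤ} (hP' : DCoh.IsStrictlyPerfect P') {m : ℤ}
    (α : DerivedCategory.Q.obj P' ⟶ DerivedCategory.Q.obj R) (hα : IsPcMap (m - b) α)
    [DCoh.HasLTensorCx P] : LocPC m ((DCoh.LTensorCx P).obj (DerivedCategory.Q.obj R)) := by
  obtain ⟨C, g, h, hT⟩ := distinguished_cocone_triangle α
  let T := Triangle.mk α g h
  obtain ⟨T', hT', ⟨e₁⟩, ⟨e₂⟩, ⟨e₃⟩⟩ := exists_ltensor_triangle P T hT
  have hC : C.IsLE (m - b - 1) := by
    rw [DerivedCategory.isLE_iff]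
    exact fun i hi => isZero_hd_obj₃_of_isPcMap T hT hα i (by omega)
  haveI : (DCoh.toD X P).IsLE b := by
    rw [DerivedCategory.isLE_iff]
    exact fun i hi => (ShortComplex.isZero_homology_of_isZero_X₂ (P.sc i) (hb i hi)).of_iso
      ((DerivedCategory.homologyFunctorFactors X.Modules i).app P)
  haveI := hC
  have h2 : LocPC m T'.obj₂ := by
    refine LocPC.of_iso e₂.symm (locPC_of_isZero m _ fun i hi => ?_)
    haveI : ((DCoh.LTensorCx P).obj T.obj₃).IsLE (m - b - 1 + b) := isLE_ltensor P b C (m - b - 1)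
    exact DerivedCategory.isZero_of_isLE _ (m - b - 1 + b) i (by omega)
  have h3 : LocPC (m - 1) T'.obj₃ :=
    LocPC.of_iso e₃.symm (((locPC_of_strictlyPerfect (isStrictlyPerfect_tensorCx hP' hP) m).of_iso
      (ltensorCxIso P (isKFlat_of_isStrictlyPerfect hP')).symm).shift 1)
  have := (locPC_two_of_three (m - 1) T' hT').2.2 (by rwa [sub_add_cancel]) h3
  rw [sub_add_cancel] at this
  exact this.of_iso e₁

/-- A perfect object tensored with a pseudo-coherent one. -/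
theorem locPC_tensorCx_of_perfect {K₀ M₀ : CochainComplex X.Modules ℤ} (hK₀ : DCoh.IsKFlat K₀)
    (hM₀ : DCoh.IsKFlat M₀) (hK : DCoh.IsPerfect (DCoh.toD X K₀)) (hM : ∀ m, LocPC m (DCoh.toD X M₀))
    (m : ℤ) : LocPC m (DCoh.toD X ((DCoh.tensorCx.obj K₀).obj M₀)) := by
  refine LocPC.of_local fun x => ?_
  obtain ⟨U, j, _, ⟨u', hu'⟩, P, hP, ⟨e⟩⟩ := (KFlatLib.isPerfect_iff _).1 hK x
  obtain ⟨⟨a, b, hz⟩, -⟩ := id hP
  obtain ⟨V, i, _, ⟨v, hv⟩, P', α, hP', hα⟩ := (hM (m - b)).restrict j u'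
  let k := i ≫ j
  have hk : i ≫ j = k := rfl
  refine ⟨V, k, inferInstance, ⟨v, by rw [← hu', ← hv]; rfl⟩, ?_⟩
  let PV := ((Scheme.Modules.restrictFunctor i).mapHomologicalComplex (ComplexShape.up ℤ)).obj P
  let RV := (pullCx k).obj M₀
  have hPV : DCoh.IsStrictlyPerfect PV := isStrictlyPerfect_restrict i hP
  haveI := hasLTensorCx PV
  let eK : DCoh.toD V ((pullCx k).obj K₀) ≅ DCoh.toD V PV :=
    DerivedCategory.Q.mapIso ((restrictPullCxIso k).app K₀).symm ≪≫ ((rhoQ k).app K₀).symm ≪≫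
      (rhoComp i j k hk _).symm ≪≫ (rho i).mapIso e.symm ≪≫ (rhoQ i).app P
  let eM : (rho i).obj ((rho j).obj (DCoh.toD X M₀)) ≅ DerivedCategory.Q.obj RV :=
    rhoComp i j k hk _ ≪≫ (rhoQ k).app M₀ ≪≫ DerivedCategory.Q.mapIso ((restrictPullCxIso k).app M₀)
  have hR : DCoh.IsKFlat RV := isKFlat_pullback k hM₀
  refine (locPC_tensor_strictlyPerfect (R := RV) hPV
    (fun n hn => (Scheme.Modules.restrictFunctor i).map_isZero (hz n (Or.inr hn))) hP' (α ≫ eM.hom)
    (hα.comp (isPcMap_of_isIso _ _))).of_iso ?_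
  exact ltensorCxIso PV hR ≪≫
    DerivedCategory.Q.mapIso ((symmIso (tensorBiFlipIso V) PV).app RV) ≪≫
    (tensorQIso (isKFlat_pullback k hK₀) (isKFlat_of_isStrictlyPerfect hPV) hR hR eK (Iso.refl _)).symm ≪≫
    DerivedCategory.Q.mapIso (pullTensorCxIso k K₀ M₀ ≪≫ ((restrictPullCxIso k).app _).symm) ≪≫
    ((rhoQ k).app _).symm

/-- A relatively perfect object stays so after tensoring with a perfect one. -/
theorem relPerfect_ltensor_of_perfect (f : X ⟶ S) [Flat f] (K : DCoh.D X) (hK : DCoh.IsPerfect K)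
    (M : CochainComplex X.Modules ℤ) (hMpc : ∀ m : ℤ, DCoh.IsPseudoCoherentD m (DCoh.toD X M))
    (hMtor : DCoh.LocHasFiniteRelTorDim f (DCoh.toD X M)) [DCoh.HasLTensorCx M] :
    (∀ m : ℤ, DCoh.IsPseudoCoherentD m ((DCoh.LTensorCx M).obj K)) ∧
      DCoh.LocHasFiniteRelTorDim f ((DCoh.LTensorCx M).obj K) := by
  let K₀ := repK K
  let M₀ := repK (DCoh.toD X M)
  have hK₀ : DCoh.IsKFlat K₀ := isKFlat_repK _
  have hM₀ : DCoh.IsKFlat M₀ := isKFlat_repK _
  haveI := hasLTensorCx M₀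
  obtain ⟨c⟩ := nonempty_LTensorCx_congr_D (repKIso (DCoh.toD X M))
  let e : DCoh.toD X ((DCoh.tensorCx.obj K₀).obj M₀) ≅ (DCoh.LTensorCx M).obj K :=
    (ltensorCxIso M₀ hK₀).symm ≪≫ c.app _ ≪≫ (DCoh.LTensorCx M).mapIso (repKIso K)
  have hKp : DCoh.IsPerfect (DCoh.toD X K₀) :=
    (KFlatLib.isPerfect_iff _).2 (((KFlatLib.isPerfect_iff _).1 hK).of_iso (repKIso K).symm)
  refine ⟨fun m => (isPseudoCoherentD_iff m _).2 ((locPC_tensorCx_of_perfect hK₀ hM₀ hKp
    (fun n => ((isPseudoCoherentD_iff n _).1 (hMpc n)).of_iso (repKIso _).symm) m).of_iso e), ?_⟩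
  refine (locHasFiniteRelTorDim_iff_stalks f _ _ e).2 fun x => ?_
  have h1 := (locHasFiniteRelTorDim_iff_stalks (𝟙 X) (DCoh.toD X K₀) K₀ (Iso.refl _)).1
    (PerfLocus7.locHasFiniteRelTorDim_of_isPerfect (𝟙 X) hKp)
  obtain ⟨V, a, b, hxV, hV⟩ := h1 x
  obtain ⟨W, c', d, hxW, hW⟩ := (locHasFiniteRelTorDim_iff_stalks f _ M₀ (repKIso _)).1 hMtor x
  refine ⟨V ⊓ W, a + c', b + d, ⟨hxV, hxW⟩, fun y hy => ?_⟩
  refine torAmp_of_iso (DerivedCategory.Q.mapIso ((resCx (f.stalkMap y).hom).mapIso (stalkTensorCxIso y K₀ M₀) ≪≫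
    (RelTor.stalkCxOverIso f y _).symm)) ?_
  exact torAmp_tensor _ ((kFlat_iff_stalk M₀).1 hM₀ y)
    (torAmp_of_bijective ((𝟙 X : X ⟶ X).stalkMap y).hom
      (ConcreteCategory.bijective_of_isIso ((𝟙 X : X ⟶ X).stalkMap y))
      (torAmp_of_iso (DerivedCategory.Q.mapIso (RelTor.stalkCxOverIso (𝟙 X) y K₀)) (hV y hy.1)))
    (torAmp_of_iso (DerivedCategory.Q.mapIso (RelTor.stalkCxOverIso f y M₀)) (hW y hy.2))

end Groth.Agent.PerfGen7
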