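import Groth.Agent.FlatLoc6.RegCM
import Groth.Agent.Alg6.AssDepth
import Groth.Agent.S0322
import Groth.Agent.S5150

/-!
Vanishing of `Ext^i_A(M, A)` below the codimension, for `A` a regular local ring.
-/

set_option autoImplicit false
universe u

open CategoryTheory IsLocalRing

namespace Groth.Agent.PerfGen7.RegGrade

variable (A : Type u) [CommRing A] [IsRegularLocalRing A]

/-- An ideal of codimension at least `p` contains a regular sequence of length `p`. -/
lemma exists_seq (J : Ideal A) (hJ : J ≠ ⊤) (p : ℕ)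
    (hdim : ringKrullDim (A ⧸ J) + p ≤ ringKrullDim A) :
    ∃ rs : List A, RingTheory.Sequence.IsWeaklyRegular A rs ∧ (∀ r ∈ rs, r ∈ J) ∧ p ≤ rs.length := by
  have := LC.gorenstein_of_isRegularLocalRing (R := A)
  have hCMl : LocCoh.IsCohenMacaulayLocalRing A := LC.isCohenMacaulayLocalRing_of_gorenstein
  have hCM : LocCoh.IsCohenMacaulayModule A A := hCMl.supportDim_eq_depth
  have h := S0322.result A J hJ A hCM
  rw [Module.supportDim_self_eq_ringKrullDim] at h
  have hsd : Module.supportDim A (A ⧸ (J • (⊤ : Submodule A A))) = ringKrullDim (A ⧸ J) := by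
    rw [Module.supportDim_eq_of_equiv (Submodule.quotEquivOfEq (J • (⊤ : Submodule A A)) J
      (by rw [smul_eq_mul, Ideal.mul_top]))]
    exact Module.supportDim_quotient_eq_ringKrullDim J
  rw [hsd] at h
  refine (fun ⟨rs, h1, h2, h3⟩ => ⟨rs, h1, h2, h3⟩) (Alg6.exists_length_ge_of_le_idealDepth (M := A) (I := J)
    (by rw [smul_eq_mul, Ideal.mul_top]; exact hJ) (n := p) ?_)
  have : Nontrivial (A ⧸ J) := Ideal.Quotient.nontrivial_iff.2 hJ
  have : IsLocalRing (A ⧸ J) := IsLocalRing.of_surjective' (Ideal.Quotient.mk J) Ideal.Quotient.mk_surjective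
  have hne : ringKrullDim (A ⧸ J) ≠ ⊥ := ringKrullDim_ne_bot
  have hfin : ringKrullDim (A ⧸ J) ≠ ⊤ := ringKrullDim_ne_top
  obtain ⟨e, he⟩ := WithBot.ne_bot_iff_exists.1 hne
  rw [← he] at hfin hdim h
  obtain ⟨n, rfl⟩ := ENat.ne_top_iff_exists.1 (show e ≠ ⊤ from fun hh => hfin (by rw [hh]; rfl))
  rw [h] at hdim
  have h2 : ((n : ℕ∞) + (p : ℕ∞) : ℕ∞) ≤ (n : ℕ∞) + LocCoh.idealDepth J A := by exact_mod_cast hdim
  exact (ENat.add_le_add_iff_left (ENat.natCast_ne_top n)).1 h2

/-- `Ext^i_A(M, A) = 0` for `i < p`. -/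
lemma ext_subsingleton (J : Ideal A) (p : ℕ) (hdim : ringKrullDim (A ⧸ J) + p ≤ ringKrullDim A)
    (M : Type u) [AddCommGroup M] [Module A M] (hJM : J • (⊤ : Submodule A M) = ⊥) (i : ℕ) (hi : i < p) :
    Subsingleton (Abelian.Ext (ModuleCat.of A M) (ModuleCat.of A A) i) := by
  rcases eq_or_ne J ⊤ with rfl | hJ
  · rw [Submodule.top_smul] at hJM
    have : Subsingleton M := (Submodule.subsingleton_iff A).1 (subsingleton_of_top_le_bot hJM.le) 
    refine subsingleton_of_forall_eq 0 fun x => ?_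
    rw [← Abelian.Ext.mk₀_id_comp x, (ModuleCat.isZero_of_subsingleton (ModuleCat.of A M)).eq_of_src (𝟙 _) 0,
      Abelian.Ext.mk₀_zero, Abelian.Ext.zero_comp]
  · obtain ⟨rs, h1, h2, h3⟩ := exists_seq A J hJ p hdim
    exact S5150.result A J A M rs h1 h2 1 (by rwa [pow_one]) i (by omega)

end Groth.Agent.PerfGen7.RegGrade
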