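import Groth.Agent.PerfGen7.RankOne
import Groth.Agent.KFlatLib.Ring.ShriekVia
import Groth.Agent.KFlatLib.Ring.BaseChangeShriekVia
import Groth.Agent.KRegLib.Closed
import Groth.Agent.KRegLib.Perfect
import Groth.Agent.KFlatLib.Ring.RelDualizing
import Groth.Agent.KFlatLib.Ring.FiniteShriek
import Groth.Prelude.Def_LCI2
import Groth.Prelude.Def_DualSh

/-!
# The shriek along a quotient by a regular sequence
-/

set_option linter.style.haveILetI false
set_option backward.isDefEq.respectTransparency false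

universe u

open CategoryTheory CategoryTheory.Limits RingTheory.Sequence

open scoped Pointwise

attribute [local instance] HasDerivedCategory.standard

namespace Groth.Agent.PerfGen7.RegShriek

open Groth.Agent.KFlatLib

/-- A regular sequence descends to the quotient by its first element. -/
lemma isWeaklyRegular_tail {P : Type u} [CommRing P] (r : P) (rs : List P)
    (h : IsWeaklyRegular P (r :: rs)) :
    IsWeaklyRegular (P ⧸ Ideal.span {r}) (rs.map (Ideal.Quotient.mk (Ideal.span {r}))) := by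
  have h2 := ((isWeaklyRegular_cons_iff P r rs).1 h).2
  let e : QuotSMulTop r P ≃ₗ[P] P ⧸ Ideal.span {r} :=
    Submodule.quotEquivOfEq _ _ (by
      ext x
      simp [Submodule.mem_smul_pointwise_iff_exists, Ideal.mem_span_singleton', mul_comm, eq_comm])
  have h3 := (e.isWeaklyRegular_congr rs).1 h2
  rw [← Ideal.Quotient.algebraMap_eq]
  exact (isWeaklyRegular_map_algebraMap_iff (P ⧸ Ideal.span {r}) _ rs).2 h3

/-- Trivial duality along a quotient by a regular sequence. -/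
theorem nonempty_shriek_unit_iso : ∀ (c : ℕ) {P B : Type u} [CommRing P] [CommRing B] (φ : P →+* B)
    (_ : Function.Surjective φ) (l : List P) (_ : l.length = c) (_ : IsWeaklyRegular P l)
    (_ : RingHom.ker φ = Ideal.ofList l) {R : Dual.D P ⥤ Dual.D B} (_ : DRing.restrictD φ ⊣ R),
    Nonempty (R.obj (DTen.unit P) ≅ (DTen.unit B)⟦(-(c : ℤ))⟧) := by
  intro c
  induction c with
  | zero =>
    intro P B _ _ φ hs l hl _ hker R a
    obtain rfl : l = [] := List.length_eq_zero_iff.1 hl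
    rw [Ideal.ofList_nil, ← RingHom.injective_iff_ker_eq_bot] at hker
    let e := RingEquiv.ofBijective φ ⟨hker, hs⟩
    haveI := hasLBase φ
    obtain ⟨i⟩ := nonempty_iso_of_inverse φ e.symm.toRingHom (RingHom.ext e.symm_apply_apply)
      (RingHom.ext e.apply_symm_apply) a
    obtain ⟨u⟩ := nonempty_LBase_unit φ
    exact ⟨i.app _ ≪≫ u ≪≫ ((shiftFunctorZero' (Dual.D B) (-((0 : ℕ) : ℤ)) (by simp)).app _).symm⟩
  | succ c ih =>
    intro P B _ _ φ hs l hl hreg hker R a
    obtain _ | ⟨r, rs⟩ := l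
    · simp at hl
    let P₁ := P ⧸ Ideal.span {r}
    have hr : r ∈ RingHom.ker φ := by
      rw [hker]; exact Ideal.subset_span (List.mem_cons_self ..)
    have hle : Ideal.span {r} ≤ RingHom.ker φ := (Ideal.span_singleton_le_iff_mem _).2 hr
    let φ₂ : P₁ →+* B := Ideal.Quotient.lift _ φ hle
    have hker₂ : RingHom.ker φ₂ = Ideal.ofList (rs.map (Ideal.Quotient.mk (Ideal.span {r}))) := by
      rw [Ideal.ker_quotient_lift, hker, Ideal.ofList_cons, Ideal.map_sup, Ideal.map_quotient_self, bot_sup_eq,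
        Ideal.map_ofList]
    obtain ⟨R₁, ⟨a₁⟩⟩ := exists_shriek (algebraMap P P₁)
    obtain ⟨R₂, ⟨a₂⟩⟩ := exists_shriek φ₂
    haveI := hasLBase (algebraMap P P₁)
    have hsm := ((isWeaklyRegular_cons_iff P r rs).1 hreg).1
    obtain ⟨p⟩ := nonempty_shriek_iso_of_principal (A := P) (B := P₁) Ideal.Quotient.mk_surjective r
      (mem_nonZeroDivisors_iff_right.2 fun x hx => hsm.right_eq_zero_of_smul ((mul_comm r x).trans hx)) (Ideal.mk_ker) a₁
    obtain ⟨q⟩ := ih φ₂ (Ideal.Quotient.lift_surjective_of_surjective _ _ hs)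
      (rs.map (Ideal.Quotient.mk (Ideal.span {r}))) (by simpa using hl) (isWeaklyRegular_tail r rs hreg) hker₂ a₂
    obtain ⟨k⟩ := nonempty_shriek_comp (φ := algebraMap P P₁) (ψ := φ₂) (χ := φ) (RingHom.ext fun _ => rfl) a₁ a₂ a
    obtain ⟨u⟩ := nonempty_LBase_unit (algebraMap P P₁)
    obtain ⟨s⟩ := nonempty_shriek_shift a₂ (-1 : ℤ)
    exact ⟨(k.app _).symm ≪≫ R₂.mapIso (p.app _ ≪≫ (shiftFunctor _ (-1 : ℤ)).mapIso u) ≪≫ s.app _ ≪≫
      (shiftFunctor _ (-1 : ℤ)).mapIso q ≪≫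
      ((shiftFunctorAdd' (Dual.D B) (-(c : ℤ)) (-1) (-((c + 1 : ℕ) : ℤ)) (by omega)).app _).symm⟩

section Local

variable {P A : Type u} [CommRing P] [CommRing A] [IsNoetherianRing P]

/-- The shriek of the ring of a surjection with Koszul regular kernel is a shifted ring at every prime. -/
theorem exists_atPrime_iso (φ : P →+* A) (hφ : Function.Surjective φ)
    (hI : LCI.IsKoszulRegularIdeal (RingHom.ker φ)) {R : Dual.D P ⥤ Dual.D A}
    (a : DRing.restrictD φ ⊣ R) (q : Ideal A) [q.IsPrime]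
    [DTen.HasLBase (algebraMap A (Localization.AtPrime q))] :
    ∃ m : ℤ, Nonempty ((DTen.LBase (algebraMap A (Localization.AtPrime q))).obj (R.obj (DTen.unit P)) ≅
      (DTen.unit _)⟦m⟧) := by
  let Q := q.comap φ
  let S := Localization.AtPrime Q
  let Aq := Localization.AtPrime q
  have hIQ : RingHom.ker φ ≤ Q := fun x hx => by
    change φ x ∈ q
    rw [show φ x = 0 from hx]; exact q.zero_mem
  obtain ⟨g, hg, hon⟩ := (((KRegLib.isKoszulRegularIdeal_iff (RingHom.ker φ)).1 hI) Q inferInstance hIQ).exists_on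
  haveI : Module.Flat P S := IsLocalization.flat S Q.primeCompl
  obtain ⟨c, f, hf, hspan⟩ := hon S (IsLocalization.map_units S (⟨g, hg⟩ : Q.primeCompl))
  haveI : IsNoetherianRing S := IsLocalization.isNoetherianRing Q.primeCompl S inferInstance
  have hmem : ∀ i, f i ∈ IsLocalRing.maximalIdeal S := fun i => by
    rw [← IsLocalization.AtPrime.map_eq_maximalIdeal Q S]
    exact Ideal.map_mono hIQ (hspan ▸ Ideal.subset_span ⟨i, rfl⟩)
  have hreg := KRegLib.isWeaklyRegular_of_isExact_local f hmem hf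
  let φ' : S →+* Aq := Localization.localRingHom Q q φ rfl
  letI := φ.toAlgebra
  letI := φ'.toAlgebra
  haveI : IsScalarTower P S Aq := IsScalarTower.of_algebraMap_eq fun x =>
    (Localization.localRingHom_to_map Q q φ rfl x).symm
  have hsub : Algebra.algebraMapSubmonoid A Q.primeCompl = q.primeCompl := by
    ext y
    constructor
    · rintro ⟨x, hx, rfl⟩; exact hx
    · intro hy
      obtain ⟨x, rfl⟩ := hφ y
      exact ⟨x, hy, rfl⟩
  haveI : IsLocalization (Algebra.algebraMapSubmonoid A Q.primeCompl) Aq := by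
    rw [hsub]; infer_instance
  haveI : Algebra.IsPushout P A S Aq := Algebra.isPushout_of_isLocalization Q.primeCompl S A Aq
  haveI : Algebra.IsPushout P S A Aq := Algebra.IsPushout.symm inferInstance
  haveI := hasLBase (algebraMap P S)
  have h : (algebraMap A Aq).comp φ = φ'.comp (algebraMap P S) :=
    RingHom.ext fun x => (Localization.localRingHom_to_map Q q φ rfl x).symm
  haveI := isIso_sqMod (i₁ := φ.toAlgebra) (i₂ := inferInstance) (i₃ := inferInstance) (i₄ := φ'.toAlgebra)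
    h rfl rfl rfl rfl (ModuleCat.of A A)
  have hflat : (algebraMap P S).Flat := RingHom.flat_algebraMap_iff.2 inferInstance
  have hc := isIso_cmpBC h (fun k => isIso_baseCmp_of_flat (algebraMap P S) hflat _)
  obtain ⟨eR⟩ := nonempty_resUnit_iso P S
  obtain ⟨E, h1, h2, ⟨j⟩⟩ := H9Misc.DRingTor.inD_of_flat (A := P) (ModuleCat.of P S)
  obtain ⟨R', ⟨a'⟩⟩ := exists_shriek φ'
  haveI : DerivedCategory.IsGE (DTen.unit P) 0 := (unit_bounds (A := P)).2.1
  obtain ⟨t⟩ := nonempty_shriek_baseChange_of_pseudoCoherent h hc a a'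
    (isPseudoCoherent_res_unit φ (RingHom.Finite.of_surjective φ hφ))
    (a := 0) ⟨E, h1, h2, ⟨j ≪≫ eR⟩⟩ (DTen.unit P) 0
  have hsurj : Function.Surjective φ' := fun y => by
    obtain ⟨⟨b, s⟩, rfl⟩ := IsLocalization.mk'_surjective q.primeCompl y
    obtain ⟨x, rfl⟩ := hφ b
    obtain ⟨w, hw⟩ := hφ s
    exact ⟨IsLocalization.mk' S x (⟨w, fun hq => s.2 (hw ▸ hq)⟩ : Q.primeCompl), by
      rw [Localization.localRingHom_mk']; congr⟩
  have hker : RingHom.ker φ' = Ideal.ofList (List.ofFn f) := by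
    have := IsLocalization.ker_map (S := S) (M := Q.primeCompl) Aq φ (T := q.primeCompl) hsub
    change RingHom.ker φ' = Ideal.span {x | x ∈ List.ofFn f}
    rw [show {x | x ∈ List.ofFn f} = Set.range f by ext; simp, ← hspan, ← this]
    congr 1
  obtain ⟨e⟩ := nonempty_shriek_unit_iso c φ' hsurj (List.ofFn f) (List.length_ofFn ..) hreg hker a'
  obtain ⟨u⟩ := nonempty_LBase_unit (algebraMap P S)
  exact ⟨-(c : ℤ), ⟨t ≪≫ R'.mapIso u ≪≫ e⟩⟩

end Local

/-- Bounded finite cohomology of the shriek of the ring along a Koszul regular surjection. -/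
theorem bounded_finite {P A : Type u} [CommRing P] [CommRing A] [IsNoetherianRing P] (φ : P →+* A)
    (hφ : Function.Surjective φ) (hI : LCI.IsKoszulRegularIdeal (RingHom.ker φ))
    {R : Dual.D P ⥤ Dual.D A} (a : DRing.restrictD φ ⊣ R) (k : ℤ) :
    (∃ x y : ℤ, ∀ i : ℤ, (i < x ∨ y < i) → Subsingleton (Dual.HD A ((R.obj (DTen.unit P))⟦k⟧) i)) ∧
      ∀ i : ℤ, Module.Finite A (Dual.HD A ((R.obj (DTen.unit P))⟦k⟧) i) := by
  haveI := hasLTen P
  haveI := hasRHom (A := P)
  letI := φ.toAlgebra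
  obtain ⟨eA⟩ := nonempty_resUnit_iso P A
  have hA : DRing.IsPerfect P (DerivedCategory.Q.obj (resUnitCx φ)) :=
    H9Misc.DRingPC.isPerfect_of_iso
      ((DerivedCategory.singleFunctor (ModuleCat.{u} P) 0).mapIso
        ((Ideal.quotientKerAlgEquivOfSurjective (f := Algebra.ofId P A) hφ).toLinearEquiv.toModuleIso) ≪≫ eA)
      (KRegLib.isPerfectModule_quotient (RingHom.ker φ) hI)
  obtain ⟨γ⟩ := nonempty_res_shriek_iso φ R a
  have hW : DRing.IsPerfect P ((DRing.restrictD φ).obj ((R.obj (DTen.unit P))⟦k⟧)) :=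
    H9Misc.DRingPC.isPerfect_of_iso ((((DRing.restrictD φ).commShiftIso k).app _).symm)
      (H9Misc.DRingPC.isPerfect_shift (H9Misc.DRingPC.isPerfect_of_iso (γ.app _).symm (isPerfect_dual hA)) _)
  obtain ⟨⟨x, y, hxy⟩, hfin⟩ := H9Misc.DRingRegular.finite_homology_of_isPerfect hW
  refine ⟨⟨x, y, fun i hi => ?_⟩, fun i => finite_hd_of_restrict (A := P) _ i (hfin i)⟩
  haveI := hxy i hi
  exact ((H9Misc.DRingRestrict.HDRestrictIso φ _ i).toLinearEquiv.symm).toEquiv.subsingleton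

/-- The relative dualizing complex of a local complete intersection is invertible. -/
theorem exists_away_shriekVia_unit {R A : Type u} [CommRing R] [CommRing A] [IsNoetherianRing R]
    [IsNoetherianRing A] [Algebra R A] (hl : LCI.IsLCI R A) (n : ℕ) (ψ : MvPolynomial (Fin n) R →+* A)
    (hψ : Function.Surjective ψ) (hR : ψ.comp MvPolynomial.C = algebraMap R A)
    {Rψ : Dual.D (MvPolynomial (Fin n) R) ⥤ Dual.D A} (a : DRing.restrictD ψ ⊣ Rψ)
    (q : Ideal A) [q.IsPrime] :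
    ∃ (f : A) (_ : f ∉ q) (m : ℤ), ∀ [DTen.HasLBase (algebraMap A (Localization.Away f))],
      Nonempty ((DTen.LBase (algebraMap A (Localization.Away f))).obj ((Rψ.obj (DTen.unit _))⟦(n : ℤ)⟧) ≅
        (DTen.unit _)⟦m⟧) := by
  obtain ⟨-, k, φ, hφ, hI⟩ := hl
  obtain ⟨R₂, ⟨a₂⟩⟩ := exists_shriek φ.toRingHom
  let ι₁ : R →+* MvPolynomial (Fin n) R := MvPolynomial.C
  let ι₂ : R →+* MvPolynomial (Fin k) R := MvPolynomial.C
  haveI := hasLBase ι₁
  haveI := hasLBase ι₂
  obtain ⟨i⟩ := nonempty_shriek_independent n k ψ hψ φ.toRingHom hφ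
    (hR.trans φ.comp_algebraMap.symm) ι₁ rfl ι₂ rfl a a₂
  obtain ⟨u₁⟩ := nonempty_LBase_unit ι₁
  obtain ⟨u₂⟩ := nonempty_LBase_unit ι₂
  let W₂ := (R₂.obj (DTen.unit (MvPolynomial (Fin k) R)))⟦(k : ℤ)⟧
  let eW : (Rψ.obj (DTen.unit _))⟦(n : ℤ)⟧ ≅ W₂ :=
    (shiftFunctor _ (n : ℤ)).mapIso (Rψ.mapIso u₁.symm) ≪≫ i.app (DTen.unit R) ≪≫
      (shiftFunctor _ (k : ℤ)).mapIso (R₂.mapIso u₂)
  let W := R₂.obj (DTen.unit (MvPolynomial (Fin k) R))
  haveI := hasLBase (algebraMap A (Localization.AtPrime q))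
  obtain ⟨m, ⟨e⟩⟩ := exists_atPrime_iso φ.toRingHom hφ hI a₂ q
  obtain ⟨s⟩ := nonempty_LBase_shift (algebraMap A (Localization.AtPrime q)) (k : ℤ)
  obtain ⟨⟨x, y, hxy⟩, hfin⟩ := bounded_finite φ.toRingHom hφ hI a₂ (k : ℤ)
  haveI : W₂.IsLE y := (DerivedCategory.isLE_iff _ _).2 fun j hj =>
    @ModuleCat.isZero_of_subsingleton _ _ _ (hxy j (Or.inr hj))
  haveI : W₂.IsGE x := (DerivedCategory.isGE_iff _ _).2 fun j hj =>
    @ModuleCat.isZero_of_subsingleton _ _ _ (hxy j (Or.inl hj))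
  obtain ⟨f, hf, hh⟩ := RankOne.exists_away W₂ x y hfin q (m := m + k)
    ⟨s.app W ≪≫ (shiftFunctor _ (k : ℤ)).mapIso e ≪≫ ((shiftFunctorAdd (Dual.D _) m (k : ℤ)).app _).symm⟩
  refine ⟨f, hf, m + k, fun {_} => ?_⟩
  obtain ⟨j⟩ := @hh _
  exact ⟨(DTen.LBase _).mapIso eW ≪≫ j⟩

end Groth.Agent.PerfGen7.RegShriek
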