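import Groth.Agent.Codepth5.Poly
import Groth.Agent.LC.Annihilator
import Groth.Agent.LC.ExtLoc
import Groth.Agent.LC.DepthLoc
import Groth.Agent.Alg6.LocLoc
import Groth.Agent.KFlatLib.Ring.FlatFibreDepth

/-!
# The depth of base changed modules over a polynomial ring along a subscheme of small fibre dimension
-/

set_option autoImplicit false
set_option linter.style.haveILetI false
set_option backward.isDefEq.respectTransparency false

universe u

open AlgebraicGeometry CategoryTheory IsLocalRing TensorProduct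

namespace Groth.Agent.PerfGen7.RelDepth

open FibDim (fib)

variable {R : Type u} [CommRing R] {n : ℕ}

/-- A generization of a point of fibre dimension at most `d` inside a closed subscheme has coheight at most `d`
in its fibre of affine space. -/
theorem coheight_le {A : Type u} [CommRing A] [Algebra R A] [IsNoetherianRing R]
    (ψ : MvPolynomial (Fin n) R →ₐ[R] A) (hψ : Function.Surjective ψ) (q : PrimeSpectrum A) (d : ℕ)
    (hd : FlatMor.fibreDimAt (Spec.map (CommRingCat.ofHom (algebraMap R A))) q ≤ (d : WithBot ℕ∞))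
    (Q : PrimeSpectrum (MvPolynomial (Fin n) R)) (hQ : Q ≤ PrimeSpectrum.comap ψ.toRingHom q)
    (hker : RingHom.ker ψ.toRingHom ≤ Q.asIdeal) :
    Order.coheight (⟨Q, rfl⟩ : ↥(fib (B := MvPolynomial (Fin n) R)
      (PrimeSpectrum.comap (algebraMap R (MvPolynomial (Fin n) R)) Q))) ≤ d := by
  haveI : Algebra.FiniteType R A :=
    Algebra.FiniteType.of_surjective ψ hψ
  obtain ⟨q', rfl⟩ : Q ∈ Set.range (PrimeSpectrum.comap ψ.toRingHom) := by
    rw [_root_.range_comap_of_surjective _ _ hψ]; exact hker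
  have hle : q' ≤ q := fun a ha => by
    obtain ⟨p, rfl⟩ := hψ a
    exact hQ ha
  let f := Spec.map (CommRingCat.ofHom (algebraMap R A))
  haveI : LocallyOfFiniteType f := HasRingHomProperty.Spec_iff.mpr (RingHom.finiteType_algebraMap.mpr inferInstance)
  have ho := FibDim.isOpen_fibreDimAt_le f d
  have hd' : FlatMor.fibreDimAt f q' ≤ (d : WithBot ℕ∞) :=
    ho.stableUnderGeneralization ((PrimeSpectrum.le_iff_specializes q' q).1 hle) hd
  have h := (Codepth5.fibreDimAt_le_iff_coheight (A := R) (B := A) q' d).1 hd' ⟨q', rfl⟩ le_rfl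
  refine le_trans ?_ h
  rw [← WithBot.coe_le_coe, Order.coheight_eq_krullDim_Ici, Order.coheight_eq_krullDim_Ici]
  let y := PrimeSpectrum.comap (algebraMap R (MvPolynomial (Fin n) R)) (PrimeSpectrum.comap ψ.toRingHom q')
  have hcomp : ψ.toRingHom.comp (algebraMap R (MvPolynomial (Fin n) R)) = algebraMap R A := ψ.comp_algebraMap
  have hy : y = PrimeSpectrum.comap (algebraMap R A) q' := by
    show PrimeSpectrum.comap _ (PrimeSpectrum.comap _ q') = _
    rw [← PrimeSpectrum.comap_comp_apply, hcomp]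
  have hlift : ∀ t : ↥(fib (B := MvPolynomial (Fin n) R) y),
      PrimeSpectrum.comap ψ.toRingHom q' ≤ t.1 →
      ∃ s : ↥(fib (B := A) (PrimeSpectrum.comap (algebraMap R A) q')),
        q' ≤ s.1 ∧ PrimeSpectrum.comap ψ.toRingHom s.1 = t.1 := fun t ht => by
    obtain ⟨s, hs⟩ : t.1 ∈ Set.range (PrimeSpectrum.comap ψ.toRingHom) := by
      rw [_root_.range_comap_of_surjective _ _ hψ]; exact hker.trans ht
    refine ⟨⟨s, ?_⟩, ?_, hs⟩
    · show PrimeSpectrum.comap (algebraMap R A) s = _
      have ht2 : PrimeSpectrum.comap (algebraMap R (MvPolynomial (Fin n) R)) t.1 = y := t.2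
      rw [← hy, ← ht2, ← hs, ← PrimeSpectrum.comap_comp_apply, hcomp]
    · intro a ha
      obtain ⟨p, rfl⟩ := hψ a
      have := ht ha
      rw [← hs] at this
      exact this
  choose g hg₁ hg₂ using hlift
  refine Order.krullDim_le_of_strictMono
    (fun t => ⟨g t.1 t.2, (hg₁ t.1 t.2 : q' ≤ (g t.1 t.2).1)⟩) fun a b hab => ?_
  have hm : StrictMono (PrimeSpectrum.comap ψ.toRingHom) := fun x y h =>
    lt_of_le_of_ne (Ideal.comap_mono (f := ψ.toRingHom) h.le) fun he =>
      h.ne (PrimeSpectrum.comap_injective_of_surjective ψ.toRingHom hψ he)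
  show (g a.1 a.2).1 < (g b.1 b.2).1
  have hab' : a.1.1 < b.1.1 := hab
  rw [← hg₂ a.1 a.2, ← hg₂ b.1 b.2] at hab'
  refine lt_of_le_of_ne (fun x hx => ?_) fun he => hab'.ne (by rw [he])
  obtain ⟨p, rfl⟩ := hψ x
  exact hab'.le hx

variable [IsNoetherianRing R]

/-- The fibre local rings of affine space have depth at least the codimension in the fibre. -/
theorem sub_le_fibDepth (Q : PrimeSpectrum (MvPolynomial (Fin n) R)) (d : ℕ)
    (hd : Order.coheight (⟨Q, rfl⟩ : ↥(fib (B := MvPolynomial (Fin n) R)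
      (PrimeSpectrum.comap (algebraMap R (MvPolynomial (Fin n) R)) Q))) ≤ d) :
    ((n - d : ℕ) : ℕ∞) ≤ FlatLoc6.fibDepth R Q.asIdeal (MvPolynomial (Fin n) R) := by
  haveI := FlatLoc6.isLocalRing_fibLocRing (A := R) Q.asIdeal
  haveI := Codepth5.isRegularLocalRing_fibLocRing (R := R) Q
  rw [FlatLoc6.fibDepth_self]
  haveI := LC.gorenstein_of_isRegularLocalRing (R := EGA4.FibLocRing R (MvPolynomial (Fin n) R) Q.asIdeal)
  obtain ⟨e, he, hδ, -⟩ := LC.gorenstein_basic (R := EGA4.FibLocRing R (MvPolynomial (Fin n) R) Q.asIdeal)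
  rw [hδ]
  obtain ⟨P', hP'⟩ := Codepth5.exists_toFib_eq Q ⟨Q, rfl⟩ le_rfl
  have hh : Order.height (Codepth5.toFib Q P') ≤ e := by
    rw [Codepth5.height_toFib]
    exact WithBot.coe_le_coe.1 ((Ideal.height_le_ringKrullDim_of_ne_top P'.isPrime.ne_top).trans he.le)
  rw [hP'] at hh
  have h2 := Codepth5.height_add_coheight_fib (R := R) (N := n) _ (⟨Q, rfl⟩ : ↥(fib (B := MvPolynomial (Fin n) R)
      (PrimeSpectrum.comap (algebraMap R (MvPolynomial (Fin n) R)) Q)))
  have h3 : (n : ℕ∞) ≤ ((e + d : ℕ) : ℕ∞) := by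
    rw [← h2, Nat.cast_add]; exact add_le_add hh hd
  exact Nat.cast_le.2 (by have := Nat.cast_le.1 h3; omega)

variable (M : Type u) [AddCommGroup M] [Module R M] [Module.Finite R M]

/-- Base changed modules have at least the depth of the fibre. -/
theorem sub_le_depth (Q : PrimeSpectrum (MvPolynomial (Fin n) R)) (d : ℕ)
    (hd : Order.coheight (⟨Q, rfl⟩ : ↥(fib (B := MvPolynomial (Fin n) R)
      (PrimeSpectrum.comap (algebraMap R (MvPolynomial (Fin n) R)) Q))) ≤ d) :
    ((n - d : ℕ) : ℕ∞) ≤ LocCoh.depth (Localization.AtPrime Q.asIdeal)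
      (LocalizedModule Q.asIdeal.primeCompl (MvPolynomial (Fin n) R ⊗[R] M)) := by
  let P := MvPolynomial (Fin n) R
  by_cases hE : (⟨Q.asIdeal.comap (algebraMap R P), inferInstance⟩ : PrimeSpectrum R) ∈ Module.support R M
  · have hf := (FlatLoc6.formulas_atPrime (A := R) P M (Q.asIdeal.comap (algebraMap R P)) Q.asIdeal rfl
      (Module.mem_support_iff'.2 ⟨1, fun r hr h0 => hr (by
        rw [smul_eq_mul, mul_one] at h0; rw [h0]; exact Q.asIdeal.zero_mem)⟩) hE).1
    rw [hf]
    exact (sub_le_fibDepth Q d hd).trans le_add_self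
  · haveI : Subsingleton (LocalizedModule Q.asIdeal.primeCompl (P ⊗[R] M)) := by
      rw [LocalizedModule.subsingleton_iff]
      intro z
      induction z using TensorProduct.induction_on with
      | zero => exact ⟨1, Q.asIdeal.primeCompl.one_mem, smul_zero _⟩
      | tmul p m =>
        obtain ⟨r, hr, hrm⟩ := Module.notMem_support_iff'.1 hE m
        refine ⟨algebraMap R P r, hr, ?_⟩
        rw [algebraMap_smul, ← TensorProduct.tmul_smul, hrm, TensorProduct.tmul_zero]
      | add x y hx hy =>
        obtain ⟨a, ha, hax⟩ := hx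
        obtain ⟨b, hb, hby⟩ := hy
        exact ⟨a * b, Q.asIdeal.primeCompl.mul_mem ha hb, by
          rw [smul_add, mul_comm, mul_smul, hax, smul_zero, zero_add, mul_comm, mul_smul, hby, smul_zero]⟩
    rw [LocCoh.depth, LocCoh.idealDepth, if_pos]
    · exact le_top
    · exact Submodule.eq_top_iff'.2 fun x => by
        exact (Subsingleton.elim (0 : LocalizedModule Q.asIdeal.primeCompl (P ⊗[R] M)) x) ▸ zero_mem _

/-- `Ext^j(A, P ⊗_R M)` vanishes near points of fibre dimension at most `d` for `j < n - d`. -/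
theorem subsingleton_localized_ext {A : Type u} [CommRing A] [Algebra R A]
    (ψ : MvPolynomial (Fin n) R →ₐ[R] A) (hψ : Function.Surjective ψ) (q : PrimeSpectrum A) (d : ℕ)
    (hd : FlatMor.fibreDimAt (Spec.map (CommRingCat.ofHom (algebraMap R A))) q ≤ (d : WithBot ℕ∞))
    (j : ℕ) (hj : j + d < n) :
    Subsingleton (LocalizedModule (q.asIdeal.comap ψ.toRingHom).primeCompl
      (Abelian.Ext (ModuleCat.of (MvPolynomial (Fin n) R) (MvPolynomial (Fin n) R ⧸ RingHom.ker ψ.toRingHom))
        (ModuleCat.of (MvPolynomial (Fin n) R) (MvPolynomial (Fin n) R ⊗[R] M)) j)) := by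
  let P := MvPolynomial (Fin n) R
  let I : Ideal P := RingHom.ker ψ.toRingHom
  let S := (q.asIdeal.comap ψ.toRingHom).primeCompl
  let N := P ⊗[R] M
  haveI : Module.Finite (Localization S) (LocalizedModule S N) :=
    Module.Finite.of_isLocalizedModule S (LocalizedModule.mkLinearMap S N)
  haveI : IsNoetherianRing (Localization S) := IsLocalization.isNoetherianRing S _ inferInstance
  obtain ⟨e⟩ := LC.exists_extLoc S N j (P ⧸ I)
  obtain ⟨l⟩ := LC.exists_locQuot S I
  have h : ((n - d : ℕ) : ℕ∞) ≤ LocCoh.idealDepth (I.map (algebraMap P (Localization S))) (LocalizedModule S N) := by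
    rw [LC.idealDepth_eq_iInf_depth]
    refine le_iInf₂ fun Q' hQ' => ?_
    rw [Alg6.depth_locLoc]
    refine sub_le_depth M (PrimeSpectrum.comap (algebraMap P (Localization S)) Q') d
      (coheight_le ψ hψ q d hd _ ?_ ?_)
    · intro x hx
      by_contra hx'
      exact Q'.isPrime.ne_top (Ideal.eq_top_of_isUnit_mem _ hx
        (IsLocalization.map_units (Localization S) (⟨x, hx'⟩ : S)))
    · exact Ideal.map_le_iff_le_comap.1 hQ'
  haveI := (LC.le_idealDepth_iff_ext _ _ (n - d)).1 h j (by omega)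
  let g : ModuleCat.of (Localization S) (LocalizedModule S (P ⧸ I)) ≅
      ModuleCat.of (Localization S) (Localization S ⧸ I.map (algebraMap P (Localization S))) := l.toModuleIso
  let c : Abelian.Ext (ModuleCat.of (Localization S) (LocalizedModule S (P ⧸ I)))
      (ModuleCat.of (Localization S) (LocalizedModule S N)) j ≃
      Abelian.Ext (ModuleCat.of (Localization S) (Localization S ⧸ I.map (algebraMap P (Localization S))))
        (ModuleCat.of (Localization S) (LocalizedModule S N)) j :=
    { toFun := fun x => (Abelian.Ext.mk₀ g.inv).comp x (zero_add j)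
      invFun := fun x => (Abelian.Ext.mk₀ g.hom).comp x (zero_add j)
      left_inv := fun x => by
        dsimp only
        rw [← Abelian.Ext.comp_assoc _ _ _ (zero_add 0) (zero_add j) (by omega), Abelian.Ext.mk₀_comp_mk₀,
          Iso.hom_inv_id, Abelian.Ext.mk₀_id_comp]
      right_inv := fun x => by
        dsimp only
        rw [← Abelian.Ext.comp_assoc _ _ _ (zero_add 0) (zero_add j) (by omega), Abelian.Ext.mk₀_comp_mk₀,
          Iso.inv_hom_id, Abelian.Ext.mk₀_id_comp] }
  exact (e.toEquiv.trans c).subsingleton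

end Groth.Agent.PerfGen7.RelDepth
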