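import Groth.Agent.PerfGen7.ShriekUnit
import Groth.Agent.KFlatLib.Ring.RelDualizing
import Groth.Agent.KFlatLib.Ring.ShriekVia
import Groth.Agent.H9Misc.DRingTorFaithful

/-!
# The shriek of the ring is a relative dualizing complex
-/

set_option linter.style.haveILetI false
set_option backward.isDefEq.respectTransparency false

universe u

open CategoryTheory CategoryTheory.Limits

open scoped TensorProduct

attribute [local instance] HasDerivedCategory.standard

namespace Groth.Agent.PerfGen7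

open Groth.Agent.KFlatLib

/-- The diagonal trivial duality of the relative dualizing complex is the ring. -/
theorem nonempty_diag_shriek_unit {R A : Type u} [CommRing R] [CommRing A] [Algebra R A] [IsNoetherianRing R]
    [Module.Flat R A] (n : ℕ) (ψ : MvPolynomial (Fin n) R →+* A) (hψ : Function.Surjective ψ)
    (hR : ψ.comp MvPolynomial.C = algebraMap R A) {Rψ : Dual.D (MvPolynomial (Fin n) R) ⥤ Dual.D A}
    (a : DRing.restrictD ψ ⊣ Rψ)
    [DTen.HasLBase (Algebra.TensorProduct.includeLeftRingHom : A →+* A ⊗[R] A)]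
    {Rμ : Dual.D (A ⊗[R] A) ⥤ Dual.D A}
    (aμ : DRing.restrictD (Algebra.TensorProduct.lmul' R (S := A)).toRingHom ⊣ Rμ) :
    Nonempty (Rμ.obj ((DTen.LBase (Algebra.TensorProduct.includeLeftRingHom : A →+* A ⊗[R] A)).obj
      ((Rψ.obj (DTen.unit _))⟦(n : ℤ)⟧)) ≅ Dual.inD A A) := by
  let P := MvPolynomial (Fin n) R
  let P' := MvPolynomial (Fin n) A
  let T := A ⊗[R] A
  let ι : R →+* P := algebraMap R P
  let ι' : A →+* P' := algebraMap A P'
  haveI := hasLBase ι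
  haveI := hasLBase ι'
  haveI := hasLBase (algebraMap R A)
  haveI := hasLBase (incRight R A A)
  let μ : T →+* A := (Algebra.TensorProduct.lmul' R (S := A)).toRingHom
  let σ : T ≃+* T := (Algebra.TensorProduct.comm R A A).toRingEquiv
  have hμσ : μ.comp σ.toRingHom = μ :=
    RingHom.ext fun z => by
      induction z using TensorProduct.induction_on with
      | zero => simp
      | tmul x y =>
        change Algebra.TensorProduct.lmul' R (y ⊗ₜ[R] x) = Algebra.TensorProduct.lmul' R (x ⊗ₜ[R] y)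
        rw [Algebra.TensorProduct.lmul'_apply_tmul, Algebra.TensorProduct.lmul'_apply_tmul, mul_comm]
      | add x y hx hy => rw [map_add, map_add, hx, hy]
  haveI := hasLBase σ.toRingHom
  obtain ⟨Rσ, ⟨aσ⟩⟩ := exists_shriek σ.toRingHom
  obtain ⟨eσ⟩ := nonempty_iso_of_inverse σ.toRingHom σ.symm.toRingHom (RingHom.ext σ.symm_apply_apply)
    (RingHom.ext σ.apply_symm_apply) aσ
  obtain ⟨cσ⟩ := nonempty_shriek_comp hμσ aσ aμ aμ
  obtain ⟨cL⟩ := nonempty_LBase_comp (incRight R A A) σ.toRingHom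
    (Algebra.TensorProduct.includeLeftRingHom : A →+* T) (RingHom.ext fun _ => rfl)
  let π := presBC A ψ
  obtain ⟨Rπ, ⟨aπ⟩⟩ := exists_shriek π
  obtain ⟨bc⟩ := nonempty_shriek_baseChange_of_flat_left ψ hψ hR ι rfl a π (surjective_presBC ψ hψ hR)
    (presBC_C ψ) ι' rfl aπ (DTen.unit R)
  obtain ⟨u₁⟩ := nonempty_LBase_unit ι
  obtain ⟨u₂⟩ := nonempty_LBase_unit (algebraMap R A)
  let W := (Rψ.obj (DTen.unit P))⟦(n : ℤ)⟧
  let eW : (DTen.LBase (incRight R A A)).obj W ≅ (Rπ.obj ((DTen.LBase ι').obj (DTen.unit A)))⟦(n : ℤ)⟧ :=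
    (DTen.LBase _).mapIso ((shiftFunctor _ (n : ℤ)).mapIso (Rψ.mapIso u₁.symm)) ≪≫ bc ≪≫
      (shiftFunctor _ (n : ℤ)).mapIso (Rπ.mapIso ((DTen.LBase ι').mapIso u₂))
  let θ : P' →+* A := μ.comp π
  have hθC : θ.comp MvPolynomial.C = algebraMap A A := by
    rw [RingHom.comp_assoc, presBC_C]
    exact RingHom.ext fun x => (Algebra.TensorProduct.lmul'_apply_tmul x 1).trans (mul_one x)
  have hθ : Function.Surjective θ := fun x => ⟨MvPolynomial.C x, RingHom.congr_fun hθC x⟩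
  obtain ⟨Rθ, ⟨aθ⟩⟩ := exists_shriek θ
  obtain ⟨cθ⟩ := nonempty_shriek_comp (φ := π) (ψ := μ) (χ := θ) rfl aπ aμ aθ
  obtain ⟨sμ⟩ := nonempty_shriek_shift aμ (n : ℤ)
  obtain ⟨fin⟩ := nonempty_shriek_finite n θ hθ ι' rfl hθC aθ
    (R' := 𝟭 (Dual.D A)) (Adjunction.id.ofNatIsoLeft (restrictDIdIso A).symm)
  exact ⟨Rμ.mapIso ((cL.app W).symm ≪≫ (eσ.app _).symm) ≪≫ cσ.app _ ≪≫ Rμ.mapIso eW ≪≫ sμ.app _ ≪≫
    (shiftFunctor _ (n : ℤ)).mapIso (cθ.app _) ≪≫ fin.app (DTen.unit A) ≪≫ (RankOne.unitIso A).symm⟩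

end Groth.Agent.PerfGen7
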