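import Groth.Agent.PerfGen7.ChartPC

/-!
# Relative pseudo-coherence is local
-/

set_option linter.style.haveILetI false
set_option backward.isDefEq.respectTransparency false
set_option backward.isDefEq.respectTransparency.types false

universe u

open CategoryTheory CategoryTheory.Limits AlgebraicGeometry CategoryTheory.Pretriangulated TopologicalSpace

attribute [local instance] HasDerivedCategory.standard

namespace Groth.Agent.PerfGen7

open Groth.Agent.KFlatLib MvPolynomial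

variable {X Y : Scheme.{u}} {f : X ⟶ Y} {m : ℤ} {K : DCoh.D X}

lemma chartPC_iff {U : X.Opens} {V : Y.Opens} (hU : IsAffineOpen U) {n : ℕ}
    (φ : MvPolynomial (Fin n) Γ(Y, V) →+* Γ(X, U)) (hφ : Function.Surjective φ) :
    DerSch.ChartPC m K U V φ ↔ ImmPC m K U φ := by
  haveI : IsClosedImmersion (imm U φ) := isClosedImmersion_imm hU φ hφ
  have e : ∀ G : CochainComplex X.Modules ℤ, Nonempty (DCoh.toD X G ≅ K) →
      Nonempty (DCoh.toD _ ((DerSch.pushCx (DerSch.chartImm U φ)).obj ((DCoh.restrictCx U).obj G)) ≅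
        (pushD (imm U φ)).obj ((rho U.ι).obj K)) := fun G ⟨e⟩ =>
    ⟨(pushDQ (imm U φ) _).symm ≪≫ (pushD (imm U φ)).mapIso
      (((rhoQ U.ι).app G).symm ≪≫ (rho U.ι).mapIso e)⟩
  constructor
  · intro h _
    obtain ⟨e'⟩ := e _ ⟨repIso K⟩
    exact ((isPseudoCoherentD_iff _ _).1 (h _ ⟨repIso K⟩)).of_iso e'
  · intro h G hG
    obtain ⟨e'⟩ := e G hG
    exact (isPseudoCoherentD_iff _ _).2 ((h _).of_iso e'.symm)

/-- A good chart near a point. -/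
def GoodPair (f : X ⟶ Y) (m : ℤ) (K : DCoh.D X) (U : X.Opens) (V : Y.Opens) : Prop :=
  IsAffineOpen U ∧ IsAffineOpen V ∧ ∃ (h : U ≤ f ⁻¹ᵁ V) (n : ℕ)
    (φ : MvPolynomial (Fin n) Γ(Y, V) →+* Γ(X, U)), DerSch.IsChart f U V h φ ∧ ImmPC m K U φ

lemma GoodPair.immPC {U : X.Opens} {V : Y.Opens} (hg : GoodPair f m K U V) (h : U ≤ f ⁻¹ᵁ V) {n : ℕ}
    (φ : MvPolynomial (Fin n) Γ(Y, V) →+* Γ(X, U)) (hφ : DerSch.IsChart f U V h φ) :
    ImmPC m K U φ := by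
  obtain ⟨hU, -, _, k, ψ, hψ, hψ'⟩ := hg
  exact (immPC_invariant hU φ hφ.1 ψ hψ.1 (hφ.2.trans hψ.2.symm)).2 hψ'

lemma GoodPair.basic {U : X.Opens} {V : Y.Opens} (hg : GoodPair f m K U V) (g : Γ(X, U)) :
    GoodPair f m K (X.basicOpen g) V := by
  obtain ⟨hU, hV, h, n, φ, hφ, hφ'⟩ := hg
  obtain ⟨G, rfl⟩ := hφ.1 g
  haveI := isClosedImmersion_imm hU φ hφ.1
  refine ⟨hU.basicOpen _, hV, (X.basicOpen_le _).trans h, n + 1, basicChart φ G,
    ⟨basicChart_surjective hU φ hφ.1 G, ?_⟩, (immPC_basicChart_iff hU φ hφ.1 G).2 ((hφ' _).restrict _)⟩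
  rw [basicChart_C, hφ.2, ← CommRingCat.hom_comp, Scheme.Hom.appLE_map]

/-- Charts over a basic open of the base. -/
lemma exists_chart_baseBasic {U : X.Opens} {V : Y.Opens} (hU : IsAffineOpen U) (hV : IsAffineOpen V)
    (t : Γ(Y, V)) (h : U ≤ f ⁻¹ᵁ Y.basicOpen t) {n : ℕ}
    (ψ : MvPolynomial (Fin n) Γ(Y, Y.basicOpen t) →+* Γ(X, U))
    (hψ : DerSch.IsChart f U (Y.basicOpen t) h ψ) :
    ∃ φ : MvPolynomial (Fin (1 + n)) Γ(Y, V) →+* Γ(X, U),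
      DerSch.IsChart f U V (h.trans (f.preimage_mono (Y.basicOpen_le t))) φ ∧
        (ImmPC m K U φ ↔ ImmPC m K U ψ) := by
  letI : Algebra Γ(Y, V) Γ(Y, Y.basicOpen t) :=
    (Y.presheaf.map (homOfLE (Y.basicOpen_le t)).op).hom.toAlgebra
  haveI : IsLocalization.Away t Γ(Y, Y.basicOpen t) := hV.isLocalization_basicOpen t
  obtain ⟨φ, hs, hC, hiff⟩ := immPC_baseAway (m := m) (K := K) hU t ψ hψ.1
  refine ⟨φ, ⟨hs, ?_⟩, hiff⟩
  rw [hC, hψ.2, RingHom.algebraMap_toAlgebra, ← CommRingCat.hom_comp, Scheme.Hom.map_appLE]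

lemma GoodPair.baseEnlarge {U : X.Opens} {V : Y.Opens} (hV : IsAffineOpen V) (t : Γ(Y, V))
    (hg : GoodPair f m K U (Y.basicOpen t)) : GoodPair f m K U V := by
  obtain ⟨hU, -, h, n, ψ, hψ, hψ'⟩ := hg
  obtain ⟨φ, hφ, hiff⟩ := exists_chart_baseBasic (m := m) (K := K) hU hV t h ψ hψ
  exact ⟨hU, hV, _, _, φ, hφ, hiff.2 hψ'⟩

lemma GoodPair.baseShrink {U : X.Opens} {V : Y.Opens} (hg : GoodPair f m K U V) (t : Γ(Y, V))
    (h : U ≤ f ⁻¹ᵁ Y.basicOpen t) : GoodPair f m K U (Y.basicOpen t) := by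
  obtain ⟨hU, hV, h₀, n, φ, hφ, hφ'⟩ := hg
  let ψ : MvPolynomial (Fin n) Γ(Y, Y.basicOpen t) →+* Γ(X, U) :=
    eval₂Hom (f.appLE (Y.basicOpen t) U h).hom fun i => φ (MvPolynomial.X i)
  have key : ψ.comp (MvPolynomial.map (Y.presheaf.map (homOfLE (Y.basicOpen_le t)).op).hom) = φ := by
    refine MvPolynomial.ringHom_ext (fun r => ?_) fun i => by simp [ψ]
    simp only [ψ, RingHom.comp_apply, MvPolynomial.map_C, eval₂Hom_C]
    rw [← RingHom.comp_apply, ← CommRingCat.hom_comp, Scheme.Hom.map_appLE, ← hφ.2]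
    rfl
  have hψ : DerSch.IsChart f U (Y.basicOpen t) h ψ :=
    ⟨fun a => by
      obtain ⟨b, rfl⟩ := hφ.1 a
      exact ⟨_, RingHom.congr_fun key b⟩, RingHom.ext fun r => by simp [ψ]⟩
  obtain ⟨φ₂, hφ₂, hiff⟩ := exists_chart_baseBasic (m := m) (K := K) hU hV t h ψ hψ
  exact ⟨hU, hV.basicOpen t, h, n, ψ, hψ, hiff.1
    (GoodPair.immPC ⟨hU, hV, h₀, n, φ, hφ, hφ'⟩ _ φ₂ hφ₂)⟩

/-- If good pairs exist around every point, every chart is good. -/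
theorem immPC_of_local {U : X.Opens} {V : Y.Opens} (hU : IsAffineOpen U) (hV : IsAffineOpen V)
    (h : U ≤ f ⁻¹ᵁ V) {n : ℕ} (φ : MvPolynomial (Fin n) Γ(Y, V) →+* Γ(X, U))
    (hφ : DerSch.IsChart f U V h φ)
    (hloc : ∀ x ∈ U, ∃ (U₀ : X.Opens) (V₀ : Y.Opens), x ∈ U₀ ∧ GoodPair f m K U₀ V₀) :
    ImmPC m K U φ := by
  intro _
  refine LocPC.of_local fun z => ?_
  by_cases hz : z ∈ Set.range (imm U φ).base
  · obtain ⟨⟨x, hxU⟩, rfl⟩ := hz
    obtain ⟨U₀, V₀, hx₀, hg⟩ := hloc x hxU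
    obtain ⟨hU₀, hV₀, h₀, -⟩ := id hg
    obtain ⟨t, t₀, e, hxt⟩ := exists_basicOpen_le_affine_inter hV hV₀ (f x) ⟨h hxU, h₀ hx₀⟩
    obtain ⟨g, hg₁, hxg⟩ := hU.exists_basicOpen_le (V := U₀ ⊓ f ⁻¹ᵁ Y.basicOpen t) ⟨x, hx₀, hxt⟩ hxU
    obtain ⟨a, a₀, ea, hxa⟩ :=
      exists_basicOpen_le_affine_inter (hU.basicOpen g) hU₀ x ⟨hxg, hx₀⟩
    obtain ⟨g', hg'⟩ := hU.basicOpen_basicOpen_is_basicOpen g a
    obtain ⟨G, rfl⟩ := hφ.1 g'
    have h1 : GoodPair f m K (X.basicOpen (φ G)) V₀ := by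
      rw [hg', ea]; exact hg.basic a₀
    have hle : X.basicOpen (φ G) ≤ f ⁻¹ᵁ Y.basicOpen t := by
      rw [hg']; exact (X.basicOpen_le a).trans (hg₁.trans inf_le_right)
    have h2 : GoodPair f m K (X.basicOpen (φ G)) V := by
      refine GoodPair.baseEnlarge hV t ?_
      rw [e]
      exact h1.baseShrink t₀ (e ▸ hle)
    have h3 : ImmPC m K (X.basicOpen (φ G)) (basicChart φ G) :=
      h2.immPC ((X.basicOpen_le _).trans h) _ ⟨basicChart_surjective hU φ hφ.1 G, by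
        rw [basicChart_C, hφ.2, ← CommRingCat.hom_comp, Scheme.Hom.appLE_map]⟩
    haveI : IsOpenImmersion (Spec.map (CommRingCat.ofHom
        (algebraMap (MvPolynomial (Fin n) Γ(Y, V)) (Localization.Away G)))) :=
      IsOpenImmersion.of_isLocalization G
    refine ⟨_, _, inferInstance, ?_, (immPC_basicChart_iff hU φ hφ.1 G).1 h3⟩
    rw [Scheme.Opens.range_ι, Scheme.Hom.coe_opensRange]
    refine (PrimeSpectrum.localization_away_comap_range (Localization.Away G) G).symm ▸ ?_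
    have hm : (⟨x, hxU⟩ : U) ∈ U.toSpecΓ ⁻¹ᵁ PrimeSpectrum.basicOpen (φ G) := by
      rw [Scheme.Opens.toSpecΓ_preimage_basicOpen, hg']
      exact hxa
    exact hm
  · let W : (Spec (CommRingCat.of (MvPolynomial (Fin n) Γ(Y, V)))).Opens :=
      ⟨(Set.range (imm U φ).base)ᶜ, (imm U φ).isClosedEmbedding.isClosed_range.isOpen_compl⟩
    refine ⟨_, W.ι, inferInstance, ⟨⟨z, hz⟩, rfl⟩, LocPC.of_iso (pushDRestrict _ W _).symm ?_⟩
    refine locPC_of_isZero _ _ fun i _ => ?_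
    refine IsZero.of_iso (Functor.map_isZero _ (isZero_of_stalk _ fun x => ?_)) (pushDHD _ _ i)
    exact absurd ⟨x.1, rfl⟩ x.2

/-- Charts exist on affine pairs. -/
lemma exists_chart_of_affine [LocallyOfFiniteType f] {U : X.Opens} {V : Y.Opens}
    (hU : IsAffineOpen U) (hV : IsAffineOpen V) (h : U ≤ f ⁻¹ᵁ V) :
    ∃ (n : ℕ) (q : MvPolynomial (Fin n) Γ(Y, V) →+* Γ(X, U)), DerSch.IsChart f U V h q := by
  letI : Algebra Γ(Y, V) Γ(X, U) := (f.appLE V U h).hom.toAlgebra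
  haveI : Algebra.FiniteType Γ(Y, V) Γ(X, U) := LocallyOfFiniteType.finiteType_appLE f hV hU h
  obtain ⟨n, q, hq⟩ :=
    (Algebra.FiniteType.iff_quotient_mvPolynomial'' (R := Γ(Y, V)) (S := Γ(X, U))).1 ‹_›
  exact ⟨n, q.toRingHom, hq, q.comp_algebraMap⟩

/-- Relative pseudo-coherence in terms of one good chart at each point. -/
theorem isPseudoCoherentRel_iff [LocallyOfFiniteType f] :
    DerSch.IsPseudoCoherentRel f m K ↔
      ∀ x : X, ∃ (U : X.Opens) (V : Y.Opens), x ∈ U ∧ GoodPair f m K U V := by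
  constructor
  · rintro ⟨-, 𝒱, h𝒱, h⟩ x
    have hx : f x ∈ (⨆ V ∈ 𝒱, (V : Y.Opens)) := h𝒱 ▸ Opens.mem_top _
    simp only [Opens.mem_iSup] at hx
    obtain ⟨V, hV, hxV⟩ := hx
    obtain ⟨𝒰, h𝒰, h'⟩ := h V hV
    have hx' : x ∈ (⨆ U ∈ 𝒰, (U : X.Opens)) := h𝒰 ▸ hxV
    simp only [Opens.mem_iSup] at hx'
    obtain ⟨U, hU, hxU⟩ := hx'
    have hle : (U : X.Opens) ≤ f ⁻¹ᵁ (V : Y.Opens) :=
      h𝒰 ▸ le_iSup₂ (f := fun (U : X.affineOpens) (_ : U ∈ 𝒰) => (U : X.Opens)) U hU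
    obtain ⟨n, φ, hc, hpc⟩ := h' U hU hle
    exact ⟨U, V, hxU, U.2, V.2, hle, n, φ, hc, (chartPC_iff U.2 φ hc.1).1 hpc⟩
  · intro hloc
    refine ⟨inferInstance, Set.univ, ?_, fun V _ => ⟨{U | (U : X.Opens) ≤ f ⁻¹ᵁ (V : Y.Opens)}, ?_, ?_⟩⟩
    · refine top_le_iff.1 fun y _ => ?_
      obtain ⟨_, ⟨W, hW, rfl⟩, hyW, -⟩ :=
        Y.isBasis_affineOpens.exists_subset_of_mem_open (Set.mem_univ y) isOpen_univ
      simp only [Opens.mem_iSup]
      exact ⟨⟨W, hW⟩, trivial, hyW⟩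
    · refine le_antisymm (iSup₂_le fun U hU => hU) fun x hx => ?_
      obtain ⟨_, ⟨W, hW, rfl⟩, hxW, hWV⟩ :=
        X.isBasis_affineOpens.exists_subset_of_mem_open hx (f ⁻¹ᵁ (V : Y.Opens)).isOpen
      simp only [Opens.mem_iSup]
      exact ⟨⟨W, hW⟩, hWV, hxW⟩
    · intro U _ h
      obtain ⟨n, q, hq⟩ := exists_chart_of_affine (f := f) U.2 V.2 h
      exact ⟨n, q, hq, (chartPC_iff U.2 q hq.1).2
        (immPC_of_local U.2 V.2 h q hq fun x _ => hloc x)⟩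

/-- Every chart of a relatively pseudo-coherent object is good. -/
theorem chartPC_of_rel (hK : DerSch.IsPseudoCoherentRel f m K) {U : X.Opens} {V : Y.Opens}
    (hU : IsAffineOpen U) (hV : IsAffineOpen V) (h : U ≤ f ⁻¹ᵁ V) {n : ℕ}
    (φ : MvPolynomial (Fin n) Γ(Y, V) →+* Γ(X, U)) (hφ : DerSch.IsChart f U V h φ) :
    DerSch.ChartPC m K U V φ := by
  haveI := hK.1
  exact (chartPC_iff hU φ hφ.1).2
    (immPC_of_local hU hV h φ hφ fun x _ => isPseudoCoherentRel_iff.1 hK x)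

end Groth.Agent.PerfGen7
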