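import Groth.Agent.PerfGen7.RelLpull
import Groth.Agent.H9Misc.DRingComplTensor
import Groth.Agent.H9Misc.DRingTorLocal

/-!
# Derived pullback along a pseudo-coherent morphism and relative pseudo-coherence
-/

set_option linter.style.haveILetI false
set_option backward.isDefEq.respectTransparency false
set_option backward.isDefEq.respectTransparency.types false

universe u

open CategoryTheory CategoryTheory.Limits CategoryTheory.Pretriangulated MonoidalCategory AlgebraicGeometry

attribute [local instance] HasDerivedCategory.standard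

namespace Groth.Agent.PerfGen7.LpullPC

open Groth.Agent.KFlatLib Groth.Agent.H9Misc Groth.Agent.H9Misc.DRingTor Groth.Agent.H9Misc.DRingLTensor

variable {P Q : Type u} [CommRing P] [CommRing Q]

/-- An upper bound read after restriction. -/
lemma exists_bound_of_restrict (φ : P →+* Q) {M : Dual.D Q} {m : ℤ}
    (h : DRing.IsPseudoCoherent P m ((DRing.restrictD φ).obj M)) :
    ∃ b : ℤ, ∀ i, b < i → Subsingleton (Dual.HD Q M i) := by
  obtain ⟨b, hb⟩ := DRingPC.exists_bound h
  refine ⟨b, fun i hi => ?_⟩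
  let F := ModuleCat.restrictScalars.{u} φ
  let K := DerivedCategory.Q.objPreimage M
  let e : DerivedCategory.Q.obj K ≅ M := DerivedCategory.Q.objObjPreimageIso M
  let t : (DerivedCategory.homologyFunctor (ModuleCat.{u} P) i).obj ((DRing.restrictD φ).obj M) ≅
      F.obj ((DerivedCategory.homologyFunctor (ModuleCat.{u} Q) i).obj M) :=
    (DerivedCategory.homologyFunctor (ModuleCat.{u} P) i).mapIso
        ((DRing.restrictD φ).mapIso e.symm ≪≫ F.mapDerivedCategoryFactors.app K) ≪≫
      (DerivedCategory.homologyFunctorFactors (ModuleCat.{u} P) i).app _ ≪≫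
      (K.sc i).mapHomologyIso F ≪≫
      F.mapIso (((DerivedCategory.homologyFunctorFactors (ModuleCat.{u} Q) i).app K).symm ≪≫
        (DerivedCategory.homologyFunctor (ModuleCat.{u} Q) i).mapIso e)
  haveI := ModuleCat.subsingleton_of_isZero ((hb i hi).of_iso t.symm)
  exact this

variable (σ : P →+* Q) (CC : DRing.Cx Q)

/-- The test object: `CC ⊗ N`, restricted. -/
noncomputable abbrev TT (N : ModuleCat.{u} Q) : Dual.D P :=
  DerivedCategory.Q.obj (((ModuleCat.restrictScalars.{u} σ).mapHomologicalComplex (ComplexShape.up ℤ)).obj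
    ((tensC N).obj CC))

/-- An isomorphism of modules acts on the test object. -/
noncomputable def ttIso {N N' : ModuleCat.{u} Q} (e : N ≅ N') : TT σ CC N ≅ TT σ CC N' :=
  DerivedCategory.Q.mapIso (((ModuleCat.restrictScalars.{u} σ).mapHomologicalComplex (ComplexShape.up ℤ)).mapIso
    ((NatIso.mapHomologicalComplex ((curriedTensor (ModuleCat.{u} Q)).flip.mapIso e)
      (ComplexShape.up ℤ)).app CC))

/-- Tensoring a short exact sequence with termwise flat complexes gives a triangle. -/
theorem exists_triangle (hf : DRing.TermwiseFlat CC) (S : ShortComplex (ModuleCat.{u} Q)) (hS : S.ShortExact) :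
    ∃ (f : TT σ CC S.X₁ ⟶ TT σ CC S.X₂) (g : TT σ CC S.X₂ ⟶ TT σ CC S.X₃) (h : _),
      Triangle.mk f g h ∈ distinguishedTriangles := by
  let c := ComplexShape.up ℤ
  let R := (ModuleCat.restrictScalars.{u} σ).mapHomologicalComplex c
  let α : ∀ {N N' : ModuleCat.{u} Q} (a : N ⟶ N'), (tensC N).obj CC ⟶ (tensC N').obj CC := fun a =>
    (NatTrans.mapHomologicalComplex ((curriedTensor (ModuleCat.{u} Q)).flip.map a) c).app CC
  have w : R.map (α S.f) ≫ R.map (α S.g) = 0 := by
    refine HomologicalComplex.Hom.ext (funext fun i => ?_)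
    change (ModuleCat.restrictScalars.{u} σ).map (CC.X i ◁ S.f) ≫
      (ModuleCat.restrictScalars.{u} σ).map (CC.X i ◁ S.g) = 0
    rw [← Functor.map_comp, ← MonoidalCategory.whiskerLeft_comp, S.zero, MonoidalPreadditive.whiskerLeft_zero,
      Functor.map_zero]
  let T := ShortComplex.mk _ _ w
  have hT : T.ShortExact := HomologicalComplex.shortExact_of_degreewise_shortExact _ fun i => by
    haveI : Module.Flat Q (CC.X i) := hf i
    let S' := S.map (tensorLeft (CC.X i))
    have hS' : S'.ShortExact :=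
      { exact := (ShortComplex.ShortExact.moduleCat_exact_iff_function_exact S').2
          (Module.Flat.lTensor_exact (CC.X i) ((ShortComplex.ShortExact.moduleCat_exact_iff_function_exact S).1 hS.exact))
        mono_f := (ModuleCat.mono_iff_injective _).2
          (Module.Flat.lTensor_preserves_injective_linearMap _ ((ModuleCat.mono_iff_injective _).1 hS.mono_f))
        epi_g := (ModuleCat.epi_iff_surjective _).2
          (LinearMap.lTensor_surjective _ ((ModuleCat.epi_iff_surjective _).1 hS.epi_g)) }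
    exact hS'.map_of_exact (ModuleCat.restrictScalars.{u} σ)
  exact ⟨_, _, _, DerivedCategory.triangleOfSES_distinguished hT⟩

/-- `N ⊗ Q^n` as iterated extensions. -/
theorem pc_tt_free (hf : DRing.TermwiseFlat CC)
    (h : ∀ m, DRing.IsPseudoCoherent P m
      (DerivedCategory.Q.obj (((ModuleCat.restrictScalars.{u} σ).mapHomologicalComplex (ComplexShape.up ℤ)).obj CC))) :
    ∀ (n : ℕ) (m : ℤ), DRing.IsPseudoCoherent P m (TT σ CC (ModuleCat.of Q (Fin n → Q))) := by
  intro n
  induction n with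
  | zero =>
    intro m
    refine DRingPC.of_vanish _ fun i _ => ?_
    refine (ShortComplex.isZero_homology_of_isZero_X₂ _ ?_).of_iso
      ((DerivedCategory.homologyFunctorFactors (ModuleCat.{u} P) i).app _)
    exact Functor.map_isZero (ModuleCat.restrictScalars.{u} σ) (Functor.map_isZero (tensorLeft (CC.X i)) (ModuleCat.isZero_of_subsingleton (ModuleCat.of Q (Fin 0 → Q))))
  | succ n ih =>
    intro m
    let i₀ : Q →ₗ[Q] (Fin (n + 1) → Q) := LinearMap.single Q (fun _ => Q) 0
    let p : (Fin (n + 1) → Q) →ₗ[Q] (Fin n → Q) := LinearMap.funLeft Q Q Fin.succ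
    let S : ShortComplex (ModuleCat.{u} Q) := ShortComplex.mk (ModuleCat.ofHom i₀) (ModuleCat.ofHom p) (by
      ext x
      simp [i₀, p, LinearMap.funLeft, Fin.succ_ne_zero]
      rfl)
    have hS : S.ShortExact :=
      { exact := (ShortComplex.moduleCat_exact_iff S).2 fun x hx => ⟨x 0, funext fun j => by
          refine Fin.cases ?_ (fun k => ?_) j
          · simp [S, i₀]
          · have h' : x k.succ = 0 := congrFun hx k
            simp [S, i₀, h', Fin.succ_ne_zero]⟩
        mono_f := (ModuleCat.mono_iff_injective _).2 fun a b hab => by simpa [S, i₀] using congrFun hab 0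
        epi_g := (ModuleCat.epi_iff_surjective _).2 fun y => ⟨Fin.cons 0 y, funext fun k => by
          simp [S, p, LinearMap.funLeft]⟩ }
    obtain ⟨f, g, c, hT⟩ := exists_triangle σ CC hf S hS
    refine (Groth.Agent.S2067.result _ hT m).2.1 (DRingPC.of_iso ?_ (h m)) (ih m)
    exact DerivedCategory.Q.mapIso (((ModuleCat.restrictScalars.{u} σ).mapHomologicalComplex (ComplexShape.up ℤ)).mapIso
      (HomologicalComplex.Hom.isoOfComponents (fun j => (ρ_ (CC.X j)).symm)
        (fun j k _ => (MonoidalCategory.rightUnitor_inv_naturality (CC.d j k)).symm)))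

/-- Tensoring a relatively pseudo-coherent complex with a pseudo-coherent module. -/
theorem pc_tt (hf : DRing.TermwiseFlat CC) {b : ℤ} (hb : DRing.VanishesAbove CC b)
    (h : ∀ m, DRing.IsPseudoCoherent P m
      (DerivedCategory.Q.obj (((ModuleCat.restrictScalars.{u} σ).mapHomologicalComplex (ComplexShape.up ℤ)).obj CC))) :
    ∀ (k : ℕ) (N : ModuleCat.{u} Q), DRing.IsPseudoCoherentModule' Q N →
      DRing.IsPseudoCoherent P (b + 1 - k) (TT σ CC N) := by
  intro k
  induction k with
  | zero =>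
    intro N _
    refine DRingPC.of_vanish _ fun i hi => ?_
    refine (ShortComplex.isZero_homology_of_isZero_X₂ _ ?_).of_iso
      ((DerivedCategory.homologyFunctorFactors (ModuleCat.{u} P) i).app _)
    exact Functor.map_isZero (ModuleCat.restrictScalars.{u} σ) (Functor.map_isZero (tensorRight N) (hb i (by omega)))
  | succ k ih =>
    intro N hN
    haveI : Module.Finite Q N := DRingPC.finite_of_pc ((DRingPC.pc'_iff _).1 hN 0)
    obtain ⟨n, π, hπ⟩ := Module.Finite.exists_fin' Q N
    let S : ShortComplex (ModuleCat.{u} Q) := ShortComplex.mk (ModuleCat.ofHom (LinearMap.ker π).subtype)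
      (ModuleCat.ofHom π) (by ext x; exact x.2)
    have hS : S.ShortExact :=
      { exact := (ShortComplex.moduleCat_exact_iff S).2 fun x hx => ⟨⟨x, hx⟩, rfl⟩
        mono_f := (ModuleCat.mono_iff_injective _).2 Subtype.val_injective
        epi_g := (ModuleCat.epi_iff_surjective _).2 hπ }
    have hK : DRing.IsPseudoCoherentModule' Q S.X₁ :=
      DRingPC.obj₁' hS.singleTriangle hS.singleTriangle_distinguished
        ((DRingPC.pc'_iff _).2 fun m => Triage.NoethPC.pc_of_free (A := Q) (Fin n → Q) m) hN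
    obtain ⟨f, g, c, hT⟩ := exists_triangle σ CC hf S hS
    refine (Groth.Agent.S2067.result _ hT (b + 1 - ↑(k + 1))).1 ?_ (pc_tt_free σ CC hf h n _)
    rw [show b + 1 - ↑(k + 1) + 1 = b + 1 - (k : ℤ) by push_cast; ring]
    exact ih _ hK

/-- The ring statement: derived base change along `ψ ∘ C` of an object pseudo-coherent over `P`. -/
theorem pc_restrict_lbase_pc {P B A : Type u} [CommRing P] [CommRing B] [CommRing A] (φ : P →+* B) {n : ℕ}
    (ψ : MvPolynomial (Fin n) B →+* A) (β : B →+* A) (hC : ψ.comp MvPolynomial.C = β)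
    [DRing.HasLBaseChange β] (M : Dual.D B)
    (hM : ∀ m, DRing.IsPseudoCoherent P m ((DRing.restrictD φ).obj M))
    (hA : DRing.IsPseudoCoherentModule' (MvPolynomial (Fin n) B)
      ((ModuleCat.restrictScalars ψ).obj (ModuleCat.of A A))) (m : ℤ) :
    DRing.IsPseudoCoherent (MvPolynomial (Fin n) P) m
      ((DRing.restrictD (ψ.comp (MvPolynomial.map φ))).obj ((DRing.LBaseChange β).obj M)) := by
  subst hC
  obtain ⟨b, hb⟩ := exists_bound_of_restrict φ (hM 0)
  obtain ⟨D, -, hzb, hproj, ⟨eD⟩⟩ := DRingComplTensor.exists_proj_res M b hb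
  have hKF : IsKF D := DRingComplTensor.isKF_of_projective hzb hproj
  let C' : B →+* MvPolynomial (Fin n) B := MvPolynomial.C
  let CC := (extC' C').obj D
  let σ := MvPolynomial.map (σ := Fin n) φ
  have hflat : DRing.TermwiseFlat CC := fun i => by
    haveI : Module.Projective B (D.X i) := hproj i
    exact DRingLBase.flat_extendScalars C' (D.X i)
  have hzC : DRing.VanishesAbove CC b := fun i hi => Functor.map_isZero (ModuleCat.extendScalars.{u, u, u} C') (hzb i hi)
  haveI := DRingLBase.hasLBaseChange C'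
  obtain ⟨eL⟩ := DRingLBase.nonempty_lbase_iso C' hKF
  have hpo : IsPushout (CommRingCat.ofHom (MvPolynomial.C : P →+* MvPolynomial (Fin n) P)) (CommRingCat.ofHom φ)
      (CommRingCat.ofHom σ) (CommRingCat.ofHom C') := by
    letI := φ.toAlgebra
    letI : Algebra (MvPolynomial (Fin n) P) (MvPolynomial (Fin n) B) := MvPolynomial.algebraMvPolynomial
    haveI : IsScalarTower P (MvPolynomial (Fin n) P) (MvPolynomial (Fin n) B) :=
      .of_algebraMap_eq fun a => (MvPolynomial.map_C _ a).symm
    exact CommRingCat.isPushout_iff_isPushout.2 (inferInstance :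
      Algebra.IsPushout P (MvPolynomial (Fin n) P) B (MvPolynomial (Fin n) B))
  have hCflat : (MvPolynomial.C : P →+* MvPolynomial (Fin n) P).Flat :=
    (RingHom.flat_algebraMap_iff (R := P) (S := MvPolynomial (Fin n) P)).2 inferInstance
  have hCC : ∀ k, DRing.IsPseudoCoherent (MvPolynomial (Fin n) P) k
      (DerivedCategory.Q.obj (((ModuleCat.restrictScalars.{u} σ).mapHomologicalComplex (ComplexShape.up ℤ)).obj CC)) :=
    fun k => DRingPC.of_iso ((DRing.restrictD σ).mapIso ((DRing.LBaseChange C').mapIso eD.symm ≪≫ eL) ≪≫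
      (ModuleCat.restrictScalars.{u} σ).mapDerivedCategoryFactors.app CC)
      ((pc_restrict_lbase hpo M k).1 hCflat (hM k))
  obtain ⟨eβ⟩ := DRingLBase.nonempty_lbase_iso (ψ.comp C') hKF
  let N : ModuleCat.{u} (MvPolynomial (Fin n) B) := (ModuleCat.restrictScalars ψ).obj (ModuleCat.of A A)
  let κ : ModuleCat.extendScalars C' ⋙ tensorRight N ⋙ ModuleCat.restrictScalars σ ≅
      ModuleCat.extendScalars (ψ.comp C') ⋙ ModuleCat.restrictScalars (ψ.comp σ) :=
    Functor.isoWhiskerLeft _ (Functor.isoWhiskerRight (DRingTorLocal.extResIso ψ) _) ≪≫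
      (Functor.isoWhiskerLeft _ (Functor.associator _ _ _)) ≪≫
      (Functor.associator _ _ _).symm ≪≫
      Functor.isoWhiskerRight (ModuleCat.extendScalarsComp C' ψ).symm _ ≪≫
      Functor.isoWhiskerLeft _ (ModuleCat.restrictScalarsComp σ ψ).symm
  let e : TT σ CC N ≅
      (DRing.restrictD (ψ.comp σ)).obj ((DRing.LBaseChange (ψ.comp C')).obj M) :=
    DerivedCategory.Q.mapIso ((NatIso.mapHomologicalComplex κ (ComplexShape.up ℤ)).app D) ≪≫
      ((DRing.restrictD (ψ.comp σ)).mapIso ((DRing.LBaseChange (ψ.comp C')).mapIso eD.symm ≪≫ eβ) ≪≫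
      (ModuleCat.restrictScalars.{u} (ψ.comp σ)).mapDerivedCategoryFactors.app _).symm
  refine DRingPC.of_iso e (DRingPC.mono (m := b + 1 - ((b + 1 - m).toNat : ℤ)) (by omega) ?_)
  exact pc_tt σ CC hflat hzC hCC _ N hA

variable {X Y Z : Scheme.{u}}

/-- `Lf^*` for `f` pseudo-coherent preserves pseudo-coherence relative to a base. -/
theorem rel_lpull_of_pc (f : X ⟶ Y) (g : Y ⟶ Z) [LocallyOfFiniteType f] [LocallyOfFiniteType g]
    [DCoh.HasLpull f] (hf : ∀ k, DerSch.IsNPseudoCoherent f k) {E : DCoh.D Y} (hq : DCoh.IsQCohD E)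
    (hE : DerSch.IsPseudoCoherentRelAll g E) :
    DerSch.IsPseudoCoherentRelAll (f ≫ g) ((DCoh.Lpull f).obj E) := by
  intro m
  refine isPseudoCoherentRel_iff.2 fun x => ?_
  obtain ⟨W, hW, hxW, -⟩ := exists_isAffineOpen_mem_and_subset (x := g (f x)) (U := (⊤ : Z.Opens)) trivial
  obtain ⟨V, hV, hxV, hVW⟩ := exists_isAffineOpen_mem_and_subset (x := f x) (U := g ⁻¹ᵁ W) hxW
  obtain ⟨U, hU, hxU, hUV⟩ := exists_isAffineOpen_mem_and_subset (x := x) (U := f ⁻¹ᵁ V) hxV
  obtain ⟨l, φ, hφ⟩ := exists_chart_of_affine (f := g) hV hW hVW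
  obtain ⟨n, ψ, hψ⟩ := exists_chart_of_affine (f := f) hU hV hUV
  haveI := isClosedImmersion_toSpecΓ hV
  haveI := isClosedImmersion_toSpecΓ hU
  haveI : IsIso V.toSpecΓ := by
    have h := hV.isoSpec.isIso_hom
    rwa [hV.isoSpec_hom] at h
  haveI : IsIso U.toSpecΓ := by
    have h := hU.isoSpec.isIso_hom
    rwa [hU.isoSpec_hom] at h
  let β := (f.appLE V U hUV).hom
  haveI := DRingLBase.hasLBaseChange β
  haveI := hasLpull (Spec.map (f.appLE V U hUV))
  haveI : DCoh.HasLpull (Spec.map (CommRingCat.ofHom β)) := hasLpull _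
  obtain ⟨M, ⟨eM⟩⟩ := exists_tilde_rep hV hq
  obtain ⟨eT⟩ := nonempty_tildeD_lpull_iso β
  obtain ⟨eS⟩ := nonempty_lpull_square f (Spec.map (f.appLE V U hUV)) hV.fromSpec hU.fromSpec
    (hV.SpecMap_appLE_fromSpec f hU hUV).symm E
  let e' : (DCoh.tildeD Γ(X, U)).obj ((DRing.LBaseChange β).obj M) ≅
      (pushD U.toSpecΓ).obj ((rho U.ι).obj ((DCoh.Lpull f).obj E)) :=
    eT.app M ≪≫ (DCoh.Lpull (Spec.map (f.appLE V U hUV))).mapIso (eM ≪≫ pushToSpecIso hV E) ≪≫
      eS.symm ≪≫ (pushToSpecIso hU _).symm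
  have hM : ∀ k, DRing.IsPseudoCoherent (MvPolynomial (Fin l) Γ(Z, W)) k ((DRing.restrictD φ).obj M) := fun k =>
    (immPC_tilde_iff hV φ hφ.1 M eM).1 ((chartPC_iff hV φ hφ.1).1 (chartPC_of_rel (hE k) hV hW hVW φ hφ))
  have hA : DRing.IsPseudoCoherentModule' (MvPolynomial (Fin n) Γ(Y, V))
      ((ModuleCat.restrictScalars ψ).obj (ModuleCat.of Γ(X, U) Γ(X, U))) := by
    rw [DRing.IsPseudoCoherentModule', DRingPC.pc'_iff]
    exact fun k => module_of_isNPseudoCoherent (hf k) hU hV hUV ψ hψ
  let e := PCMor.nestEquiv Γ(Z, W) n l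
  let σ := (MvPolynomial.map (σ := Fin n) φ).comp e.toRingEquiv.toRingHom
  have hσ : Function.Surjective σ := (MvPolynomial.map_surjective φ hφ.1).comp e.surjective
  have hθ : DerSch.IsChart (f ≫ g) U W (fun y hy => hVW (hUV hy)) (ψ.comp σ) := by
    refine ⟨hψ.1.comp hσ, ?_⟩
    ext r
    have : e.toRingEquiv.toRingHom (MvPolynomial.C r) = MvPolynomial.C (MvPolynomial.C r) := by
      simp [e, PCMor.nestEquiv]
    simp only [σ, RingHom.comp_apply]
    rw [this, MvPolynomial.map_C, ← RingHom.comp_apply ψ, hψ.2, ← RingHom.comp_apply φ, hφ.2,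
      ← RingHom.comp_apply, ← CommRingCat.hom_comp, Scheme.Hom.appLE_comp_appLE]
  refine ⟨U, W, hxU, hU, hW, fun y hy => hVW (hUV hy), n + l, ψ.comp σ, hθ,
    (immPC_tilde_iff hU (ψ.comp σ) hθ.1 _ e').2 ?_⟩
  have h := pc_restrict_lbase_pc φ ψ β hψ.2 M hM hA m
  exact (DRingRelPC.pc_iff_comp (DRingRelPC.PCHom.of_bijective e.bijective)
    (ψ.comp (MvPolynomial.map φ)) _ (RingHom.comp_assoc _ _ _) _ m).1 h

end Groth.Agent.PerfGen7.LpullPC
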