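import Groth.Agent.PerfGen7.RelUnit
import Groth.Agent.H9Misc.DRingPCModule

/-!
# `n`-pseudo-coherent morphisms through modules over polynomial rings
-/

set_option linter.style.haveILetI false
set_option backward.isDefEq.respectTransparency false
set_option backward.isDefEq.respectTransparency.types false

universe u

open CategoryTheory CategoryTheory.Limits AlgebraicGeometry MvPolynomial

attribute [local instance] HasDerivedCategory.standard

namespace Groth.Agent.PerfGen7

open Groth.Agent.H9Misc Groth.Agent.H9Misc.DRingTor Groth.Agent.H9Misc.DRingRestrict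

variable {X Y : Scheme.{u}} {f : X ⟶ Y} {m : ℤ}

/-- The test on one chart, as a module over the polynomial ring. -/
lemma chartPC_unit_iff {U : X.Opens} {V : Y.Opens} (hU : IsAffineOpen U) {n : ℕ}
    (φ : MvPolynomial (Fin n) Γ(Y, V) →+* Γ(X, U)) (hφ : Function.Surjective φ) :
    DerSch.ChartPC m (DCoh.toD X (DerSch.unitCx X)) U V φ ↔
      (letI := φ.toAlgebra; DRing.IsPseudoCoherentModule (MvPolynomial (Fin n) Γ(Y, V)) m Γ(X, U)) := by
  rw [chartPC_iff hU φ hφ, immPC_unit_iff hU φ hφ]
  letI := φ.toAlgebra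
  let e := (DerivedCategory.singleFunctor (ModuleCat.{u} (MvPolynomial (Fin n) Γ(Y, V))) 0).mapIso
    (DRingTorDescent.resBIso (A := MvPolynomial (Fin n) Γ(Y, V)) Γ(X, U))
  exact ⟨fun h => DRingPC.of_iso e h, fun h => DRingPC.of_iso e.symm h⟩

/-- The criterion on one chart around each point. -/
theorem isNPseudoCoherent_of_charts [LocallyOfFiniteType f]
    (h : ∀ x : X, ∃ (U : X.Opens) (V : Y.Opens) (_ : x ∈ U) (_ : IsAffineOpen U) (_ : IsAffineOpen V)
      (e : U ≤ f ⁻¹ᵁ V) (n : ℕ) (φ : MvPolynomial (Fin n) Γ(Y, V) →+* Γ(X, U)),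
      DerSch.IsChart f U V e φ ∧
        (letI := φ.toAlgebra; DRing.IsPseudoCoherentModule (MvPolynomial (Fin n) Γ(Y, V)) m Γ(X, U))) :
    DerSch.IsNPseudoCoherent f m := by
  refine isPseudoCoherentRel_iff.2 fun x => ?_
  obtain ⟨U, V, hx, hU, hV, e, n, φ, hφ, hm⟩ := h x
  exact ⟨U, V, hx, hU, hV, e, n, φ, hφ,
    (chartPC_iff hU φ hφ.1).1 ((chartPC_unit_iff hU φ hφ.1).2 hm)⟩

/-- Every chart of an `m`-pseudo-coherent morphism gives an `m`-pseudo-coherent module. -/
theorem module_of_isNPseudoCoherent (hf : DerSch.IsNPseudoCoherent f m) {U : X.Opens} {V : Y.Opens}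
    (hU : IsAffineOpen U) (hV : IsAffineOpen V) (e : U ≤ f ⁻¹ᵁ V) {n : ℕ}
    (φ : MvPolynomial (Fin n) Γ(Y, V) →+* Γ(X, U)) (hφ : DerSch.IsChart f U V e φ) :
    letI := φ.toAlgebra; DRing.IsPseudoCoherentModule (MvPolynomial (Fin n) Γ(Y, V)) m Γ(X, U) :=
  (chartPC_unit_iff hU φ hφ.1).1 (chartPC_of_rel hf hU hV e φ hφ)

/-- A presentation with a finitely presented kernel. -/
lemma finitePresentation_module_iff {R B : Type u} [CommRing R] [CommRing B] {n : ℕ}
    (φ : MvPolynomial (Fin n) R →+* B) (hφ : Function.Surjective φ) (g : R →+* B) (h : φ.comp C = g) :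
    (letI := φ.toAlgebra; DRing.IsPseudoCoherentModule (MvPolynomial (Fin n) R) (-1) B) ↔
      g.FinitePresentation := by
  letI := φ.toAlgebra
  letI := g.toAlgebra
  haveI : IsScalarTower R (MvPolynomial (Fin n) R) B :=
    IsScalarTower.of_algebraMap_eq fun r => (RingHom.congr_fun h r).symm
  let l : MvPolynomial (Fin n) R →ₗ[MvPolynomial (Fin n) R] B := Algebra.linearMap _ B
  constructor
  · intro hpc
    haveI := DRingPC.finitePresentation_of_pc hpc
    have hker : (RingHom.ker φ).FG := Module.FinitePresentation.fg_ker l hφ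
    exact Algebra.FinitePresentation.of_surjective (f := IsScalarTower.toAlgHom R (MvPolynomial (Fin n) R) B)
      hφ hker
  · intro hg
    haveI : Algebra.FinitePresentation R B := hg
    haveI := Algebra.FinitePresentation.of_restrict_scalars_finitePresentation R (MvPolynomial (Fin n) R) B
    have hker : (RingHom.ker φ).FG :=
      Algebra.FinitePresentation.ker_fG_of_surjective
        (IsScalarTower.toAlgHom R (MvPolynomial (Fin n) R) B) hφ
    haveI : Module.FinitePresentation (MvPolynomial (Fin n) R) B :=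
      Module.finitePresentation_of_surjective l hφ hker
    exact DRingPC.pc_neg_one_of_finitePresentation B

end Groth.Agent.PerfGen7
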