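import Groth.Agent.PerfGen7.RelTilde
import Groth.Agent.PerfGen7.RelNPC

/-!
# Relative pseudo-coherence of a module
-/

set_option linter.style.haveILetI false
set_option backward.isDefEq.respectTransparency false
set_option backward.isDefEq.respectTransparency.types false

universe u

open CategoryTheory CategoryTheory.Limits AlgebraicGeometry CategoryTheory.Pretriangulated

attribute [local instance] HasDerivedCategory.standard

namespace Groth.Agent.PerfGen7

open Groth.Agent.KFlatLib

variable {X Y T : Scheme.{u}} {U : X.Opens}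

/-- Direct image of a restricted module placed in degree zero. -/
noncomputable def pushInDIso (i : (U : Scheme.{u}) ⟶ T) [IsClosedImmersion i] (M : X.Modules) :
    (pushD i).obj ((rho U.ι).obj (DCoh.inD X M)) ≅
      DCoh.inD T ((Scheme.Modules.pushforward i).obj (M.restrict U.ι)) :=
  (pushD i).mapIso (((Scheme.Modules.restrictFunctor U.ι).mapDerivedCategorySingleFunctor 0).app M) ≪≫
    ((Scheme.Modules.pushforward i).mapDerivedCategorySingleFunctor 0).app _

/-- Finite sums of a `0`-pseudo-coherent direct image. -/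
lemma locPC_zero_push_freeMod {Z : Scheme.{u}} (s : Z ⟶ T) [IsClosedImmersion s]
    (h : LocPC 0 (DCoh.inD T ((Scheme.Modules.pushforward s).obj (Coh.structureModule Z)))) :
    ∀ n : ℕ, LocPC 0 (DCoh.inD T ((Scheme.Modules.pushforward s).obj (FlatMod.freeMod Z n))) := by
  intro n
  induction n with
  | zero =>
    refine locPC_of_isZero _ _ fun i _ => ?_
    exact Functor.map_isZero _ (Functor.map_isZero (DerivedCategory.singleFunctor T.Modules 0)
      (Functor.map_isZero _ isZero_freeMod_zero))
  | succ n ih =>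
    let P := Scheme.Modules.pushforward s
    let A := FlatMod.freeMod Z n
    let B := FlatMod.freeMod Z 1
    let S := ShortComplex.mk (biprod.inl : A ⟶ A ⊞ B) biprod.snd biprod.inl_snd
    let σ : S.Splitting := ShortComplex.Splitting.ofHasBinaryBiproduct _ _
    have hS : (S.map P).ShortExact := (σ.map P).shortExact
    have h1 : LocPC 0 (DCoh.inD T (P.obj B)) :=
      h.of_iso ((DerivedCategory.singleFunctor T.Modules 0).mapIso (P.mapIso
        (coproductUniqueIso (fun _ : Fin 1 => Coh.structureModule Z)).symm))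
    refine LocPC.of_iso ((DerivedCategory.singleFunctor T.Modules 0).mapIso
      (P.mapIso (biprodFreeIso n 1))) ?_
    exact (locPC_two_of_three 0 _ hS.singleTriangle_distinguished).2.1 ih h1

/-- Top cohomology of a module in degree zero. -/
lemma isFT_of_locPC_zero {Z : Scheme.{u}} {N : Z.Modules} (h : LocPC 0 (DCoh.inD Z N)) : CohB1.IsFT N :=
  isFT_iso (hdSingleIso N) (isFT_top h fun i hi => hd_single_isZero N i (by omega))

/-- The direct image of a quotient of a free module is `0`-pseudo-coherent. -/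
lemma locPC_zero_push_of_epi {Z : Scheme.{u}} (s : Z ⟶ T) [IsClosedImmersion s]
    (h : LocPC 0 (DCoh.inD T ((Scheme.Modules.pushforward s).obj (Coh.structureModule Z))))
    {N : Z.Modules} {n : ℕ} (p : FlatMod.freeMod Z n ⟶ N) [Epi p] :
    LocPC 0 (DCoh.inD T ((Scheme.Modules.pushforward s).obj N)) :=
  locPC_of_isFT _ (isFT_of_epi_free fun x => by
    obtain ⟨W, k, q, hx, hq⟩ := exists_epi_free_of_isFT
      (isFT_of_locPC_zero (locPC_zero_push_freeMod s h n)) x
    exact ⟨W, k, q ≫ (Scheme.Modules.restrictFunctor W.ι).map ((Scheme.Modules.pushforward s).map p), hx,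
      epi_comp' hq inferInstance⟩)

/-- A surjection makes the target a finite module. -/
lemma finite_restrictScalars_of_surjective {P B : Type u} [CommRing P] [CommRing B] (φ : P →+* B)
    (h : Function.Surjective φ) :
    Module.Finite P ((ModuleCat.restrictScalars φ).obj (ModuleCat.of B B)) :=
  RingHom.Finite.of_surjective φ h

variable (f : X ⟶ Y) [LocallyOfFiniteType f] (M : X.Modules)

/-- Every module is pseudo-coherent in positive degrees. -/
theorem rel_module_pos {m : ℤ} (hm : 0 < m) : DerSch.IsPseudoCoherentRel f m (DCoh.inD X M) := by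
  refine isPseudoCoherentRel_iff.2 fun x => ?_
  obtain ⟨V, hV, hxV, -⟩ := exists_isAffineOpen_mem_and_subset (x := f x) (U := (⊤ : Y.Opens)) trivial
  obtain ⟨U, hU, hxU, hUV⟩ := exists_isAffineOpen_mem_and_subset (x := x) (U := f ⁻¹ᵁ V) hxV
  obtain ⟨n, φ, hφ⟩ := exists_chart_of_affine (f := f) hU hV hUV
  refine ⟨U, V, hxU, hU, hV, hUV, n, φ, hφ, fun hi => ?_⟩
  haveI := hi
  exact LocPC.of_iso (pushInDIso _ M).symm (locPC_of_isZero _ _ fun i hi => hd_single_isZero _ i (by omega))

/-- `0`-pseudo-coherence of a module is finite type. -/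
theorem rel_module_zero_iff : DerSch.IsPseudoCoherentRel f 0 (DCoh.inD X M) ↔ CohB1.IsFT M := by
  constructor
  · intro h
    refine isFT_of_locPC_zero (LocPC.of_local fun x => ?_)
    obtain ⟨U, V, hxU, hU, hV, e, n, φ, hφ, hp⟩ := isPseudoCoherentRel_iff.1 h x
    haveI := isClosedImmersion_imm hU φ hφ.1
    refine ⟨_, U.ι, inferInstance, ⟨⟨x, hxU⟩, rfl⟩, LocPC.of_iso
      (((Scheme.Modules.restrictFunctor U.ι).mapDerivedCategorySingleFunctor 0).app M).symm ?_⟩
    exact locPC_of_isFT _ (isFT_of_isFT_push (imm U φ)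
      (isFT_of_locPC_zero ((hp inferInstance).of_iso (pushInDIso _ M))))
  · intro hFT
    refine isPseudoCoherentRel_iff.2 fun x => ?_
    obtain ⟨W, k, p, hxW, hp⟩ := exists_epi_free_of_isFT hFT x
    obtain ⟨V, hV, hxV, -⟩ := exists_isAffineOpen_mem_and_subset (x := f x) (U := (⊤ : Y.Opens)) trivial
    obtain ⟨U, hU, hxU, hle⟩ := exists_isAffineOpen_mem_and_subset (x := x) (U := W ⊓ f ⁻¹ᵁ V) ⟨hxW, hxV⟩
    have hUW : U ≤ W := fun y hy => (hle hy).1
    have hUV : U ≤ f ⁻¹ᵁ V := fun y hy => (hle hy).2
    obtain ⟨n, φ, hφ⟩ := exists_chart_of_affine (f := f) hU hV hUV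
    refine ⟨U, V, hxU, hU, hV, hUV, n, φ, hφ, fun hi => ?_⟩
    haveI := hi
    haveI : Module.Finite (MvPolynomial (Fin n) Γ(Y, V))
        ((ModuleCat.restrictScalars φ).obj (ModuleCat.of Γ(X, U) Γ(X, U))) :=
      finite_restrictScalars_of_surjective φ hφ.1
    have h0 := ((immPC_unit_iff hU φ hφ.1).2 (Groth.Agent.H9Misc.DRingPC.pc_zero_of_finite ((ModuleCat.restrictScalars φ).obj (ModuleCat.of Γ(X, U) Γ(X, U)))) hi).of_iso
      (pushUnitIso (imm U φ))
    let j := X.homOfLE hUW
    let p' : FlatMod.freeMod (U : Scheme.{u}) k ⟶ M.restrict U.ι :=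
      (pullFreeIso j k).inv ≫ ((Scheme.Modules.restrictFunctorIsoPullback j).app _).inv ≫
        (Scheme.Modules.restrictFunctor j).map p ≫ (restrict₂Iso j W.ι U.ι (X.homOfLE_ι hUW) M).hom
    haveI : Epi p' := epi_comp' inferInstance (epi_comp' inferInstance (epi_comp' inferInstance inferInstance))
    exact LocPC.of_iso (pushInDIso _ M).symm (locPC_zero_push_of_epi _ h0 p')

end Groth.Agent.PerfGen7
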