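import Groth.Agent.PerfGen7.RelLocal

/-!
# Relative pseudo-coherence and open immersions into the source
-/

set_option linter.style.haveILetI false
set_option backward.isDefEq.respectTransparency false
set_option backward.isDefEq.respectTransparency.types false

universe u

open CategoryTheory CategoryTheory.Limits AlgebraicGeometry TopologicalSpace

attribute [local instance] HasDerivedCategory.standard

namespace Groth.Agent.PerfGen7

open Groth.Agent.KFlatLib

variable {X X' Y : Scheme.{u}} {f : X ⟶ Y} {m : ℤ}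

lemma locPC_rho_id_iff {T : Scheme.{u}} (L : DCoh.D T) :
    LocPC m ((rho (𝟙 T : T ⟶ T).opensRange.ι).obj L) ↔ LocPC m L :=
  ⟨fun h => LocPC.of_local fun x => ⟨_, (𝟙 T : T ⟶ T).opensRange.ι, inferInstance, by simp, h⟩,
    fun h => h.restrict _⟩

/-- Presentations of an open and of its image. -/
theorem immPC_image_iff (j : X' ⟶ X) [IsOpenImmersion j] (K : DCoh.D X) {W : X'.Opens}
    (hW : IsAffineOpen W) {P : Type u} [CommRing P] (φ : P →+* Γ(X, j ''ᵁ W)) (hφ : Function.Surjective φ) :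
    ImmPC m ((rho j).obj K) W ((j.appIso W).hom.hom.comp φ) ↔ ImmPC m K (j ''ᵁ W) φ := by
  have hW' : IsAffineOpen (j ''ᵁ W) := hW.image_of_isOpenImmersion j
  let φ' : P →+* Γ(X', W) := (j.appIso W).hom.hom.comp φ
  have hφ' : Function.Surjective φ' :=
    (ConcreteCategory.bijective_of_isIso (j.appIso W).hom).2.comp hφ
  haveI := isClosedImmersion_imm hW' φ hφ
  haveI := isClosedImmersion_imm hW φ' hφ'
  let b := (j.isoImage W).hom
  have hb : b ≫ (j ''ᵁ W).ι = W.ι ≫ j := j.isoImage_hom_ι W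
  have hT : b ≫ (j ''ᵁ W).toSpecΓ = W.toSpecΓ ≫ Spec.map (j.appIso W).hom := by
    rw [← cancel_mono hW'.fromSpec, Category.assoc, Category.assoc, IsAffineOpen.toSpecΓ_fromSpec, hb,
      Scheme.Hom.appIso_hom', hW'.SpecMap_appLE_fromSpec j hW, IsAffineOpen.toSpecΓ_fromSpec_assoc]
  have key := locPC_square (m := m) (imm (j ''ᵁ W) φ) (j ''ᵁ W).ι (imm W φ') (W.ι ≫ j)
    (𝟙 _) b hb (by
      simp only [imm, φ', Category.comp_id, CommRingCat.ofHom_comp, Spec.map_comp,
        CommRingCat.ofHom_hom]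
      rw [← Category.assoc b, hT, Category.assoc]) (by
      ext z
      simpa using b.homeomorph.surjective z) K
  rw [locPC_rho_id_iff] at key
  have e := (pushD (imm W φ')).mapIso (rhoComp W.ι j (W.ι ≫ j) rfl K)
  exact ⟨fun h _ => key.2 ((h _).of_iso e), fun h _ => (key.1 (h _)).of_iso e.symm⟩

/-- Good pairs on an open and on its image. -/
theorem goodPair_image_iff (j : X' ⟶ X) [IsOpenImmersion j] (g : X' ⟶ Y) (hg : j ≫ f = g) (K : DCoh.D X)
    {W : X'.Opens} (hW : IsAffineOpen W) (V : Y.Opens) :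
    GoodPair g m ((rho j).obj K) W V ↔ GoodPair f m K (j ''ᵁ W) V := by
  subst hg
  have hW' : IsAffineOpen (j ''ᵁ W) := hW.image_of_isOpenImmersion j
  have hle : W ≤ (j ≫ f) ⁻¹ᵁ V ↔ j ''ᵁ W ≤ f ⁻¹ᵁ V := by
    rw [Scheme.Hom.comp_preimage]
    exact ⟨fun h => by rintro _ ⟨z, hz, rfl⟩; exact h hz, fun h z hz => h ⟨z, hz, rfl⟩⟩
  let e := j.appIso W
  have happ : ∀ (h : W ≤ (j ≫ f) ⁻¹ᵁ V),
      (j ≫ f).appLE V W h = f.appLE V (j ''ᵁ W) (hle.1 h) ≫ e.hom := fun h => by
    rw [Scheme.Hom.appIso_hom', Scheme.Hom.appLE_comp_appLE]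
  constructor
  · rintro ⟨-, hV, h, n, ψ, ⟨hs, hc⟩, hp⟩
    have hψ : e.hom.hom.comp (e.inv.hom.comp ψ) = ψ := by
      rw [← RingHom.comp_assoc, ← CommRingCat.hom_comp, Iso.inv_hom_id, CommRingCat.hom_id, RingHom.id_comp]
    have hs' : Function.Surjective (e.inv.hom.comp ψ) :=
      (ConcreteCategory.bijective_of_isIso e.inv).2.comp hs
    refine ⟨hW', hV, hle.1 h, n, e.inv.hom.comp ψ, ⟨hs', ?_⟩, (immPC_image_iff j K hW _ hs').1 ?_⟩
    · rw [RingHom.comp_assoc, hc, happ h, ← CommRingCat.hom_comp, Category.assoc, Iso.hom_inv_id,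
        Category.comp_id]
    · rw [hψ]; exact hp
  · rintro ⟨-, hV, h, n, φ, ⟨hs, hc⟩, hp⟩
    refine ⟨hW, hV, hle.2 h, n, e.hom.hom.comp φ,
      ⟨(ConcreteCategory.bijective_of_isIso e.hom).2.comp hs, ?_⟩, (immPC_image_iff j K hW φ hs).2 hp⟩
    rw [RingHom.comp_assoc, hc, happ, ← CommRingCat.hom_comp]

end Groth.Agent.PerfGen7
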