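import Groth.Agent.PerfGen7.UniformAmp
import Groth.Prelude.Def_DualSh

/-!
# Relative perfectness from bounded below fibres
-/

set_option linter.style.haveILetI false
set_option backward.isDefEq.respectTransparency false

universe u

open CategoryTheory CategoryTheory.Limits MonoidalCategory

attribute [local instance] HasDerivedCategory.standard

namespace Groth.Agent.PerfGen7.RelPerfectCriterion

open Groth.Agent.KFlatLib Groth.Agent.H9Misc Groth.Agent.H9Misc.DRingLTensor
  Groth.Agent.PerfGen7.RelTor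

lemma exactAt_of_subsingleton {S : Type u} [CommRing S] {G : DRing.Cx S} {K : Dual.D S}
    (e : DerivedCategory.Q.obj G ≅ K) (i : ℤ) (h : Subsingleton (Dual.HD S K i)) : G.ExactAt i := by
  obtain ⟨eH⟩ := DRingTor.hd_iso e i
  exact (HomologicalComplex.exactAt_iff_isZero_homology _ i).2 ((DRingCompl.isZ h).of_iso eH.symm)

lemma subsingleton_restrict_iff {S T : Type u} [CommRing S] [CommRing T] (φ : S →+* T) (K : Dual.D T) (i : ℤ) :
    Subsingleton (Dual.HD S ((DRing.restrictD φ).obj K) i) ↔ Subsingleton (Dual.HD T K i) := by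
  let H := (DerivedCategory.homologyFunctor (ModuleCat.{u} T) i).obj K
  let e := ((mapDCHomologyIso (ModuleCat.restrictScalars.{u} φ) i).app K).toLinearEquiv.toEquiv
  exact ⟨fun h => @Equiv.subsingleton _ _ e.symm h, fun h => @Equiv.subsingleton _ _ e h⟩

variable {R A : Type u} [CommRing R] [CommRing A] [Algebra R A]

/-- Relative perfectness is boundedness below of the object and of its fibres. -/
theorem isRelPerfect_iff_fibres [Module.Flat R A] [Algebra.FinitePresentation R A]
    [∀ p : PrimeSpectrum R, DRing.HasLTensor R (ModuleCat.of R p.asIdeal.ResidueField)]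
    (K : Dual.D A) (hK : DRing.IsPseudoCoherent' A K) :
    Dual2.IsRelPerfect R A K ↔
      (∃ a : ℤ, ∀ i : ℤ, i < a → Subsingleton (Dual.HD A K i)) ∧
        ∀ p : PrimeSpectrum R, ∃ a : ℤ, ∀ i : ℤ, i < a →
          Subsingleton (Dual.HD R ((DRing.LTensor R (ModuleCat.of R p.asIdeal.ResidueField)).obj
            ((DRing.restrictD (algebraMap R A)).obj K)) i) := by
  constructor
  · rintro ⟨-, a, b, hab⟩
    refine ⟨⟨a, fun i hi => (subsingleton_restrict_iff (algebraMap R A) K i).1
      (DRingPerfect.isZero_of_amp hab i (Or.inl hi))⟩, fun p => ⟨a, fun i hi => ?_⟩⟩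
    haveI : ∀ M : ModuleCat.{u} R, DRing.HasLTensor R M := DRingTor.hasLTensor
    exact (DRingTor.iff_ltensor _ a b).1 hab _ i (Or.inl hi)
  rintro ⟨⟨a₀, hH⟩, hfib⟩
  refine ⟨hK, ?_⟩
  obtain ⟨d, ψ, hψ⟩ := (Algebra.FiniteType.iff_quotient_mvPolynomial'' (R := R) (S := A)).1 inferInstance
  let ψr : MvPolynomial (Fin d) R →+* A := ψ.toRingHom
  let iR := algebraMap R (MvPolynomial (Fin d) R)
  have hKpc : DRing.IsPseudoCoherent' (MvPolynomial (Fin d) R) ((DRing.restrictD ψr).obj K) :=
    (DRingPC.pc'_iff _).2 fun m =>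
      (DRingRestrict.pc_restrict_iff ψr (LocalFibre.pcHom_of_surjective ψ hψ) m K).1 ((DRingPC.pc'_iff _).1 hK m)
  obtain ⟨F, bF, hFz, hFf, ⟨eF⟩⟩ := hK
  obtain ⟨E, b₀, hEz, hEf, ⟨eE⟩⟩ := hKpc
  let G : DRing.Cx (MvPolynomial (Fin d) R) := (resCx ψr).obj F
  let eG : DerivedCategory.Q.obj E ≅ DerivedCategory.Q.obj G :=
    eE ≪≫ ((DRing.restrictD ψr).mapIso eF).symm ≪≫
      (ModuleCat.restrictScalars ψr).mapDerivedCategoryFactors.app F
  have hψC : ψr.comp iR = algebraMap R A := ψ.comp_algebraMap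
  have hR : iR.Flat := RingHom.flat_algebraMap_iff.2 inferInstance
  let eR : DerivedCategory.Q.obj ((resCx iR).obj E) ≅ (DRing.restrictD (algebraMap R A)).obj K :=
    resQMapIso iR eG ≪≫ DerivedCategory.Q.mapIso (TorAmpBC.resCompIso hψC F).symm ≪≫
      ((ModuleCat.restrictScalars (algebraMap R A)).mapDerivedCategoryFactors.app F).symm ≪≫
        (DRing.restrictD (algebraMap R A)).mapIso eF
  have hEex : ∀ i, i < a₀ → E.ExactAt i := fun i hi =>
    exactAt_of_subsingleton eE i ((subsingleton_restrict_iff ψr K i).2 (hH i hi))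
  have hKF : IsKF ((resCx iR).obj E) := DRingTor.isKF_of_flat (FibreRegular.termwiseFlat_res hR hEf)
    (fun j hj => (ModuleCat.restrictScalars iR).map_isZero (hEz j hj))
  obtain ⟨N, hN⟩ := UniformAmp.exists_uniform hEf hEz a₀ hEex fun Q => by
    by_cases hker : RingHom.ker ψr ≤ Q.asIdeal
    · let p : PrimeSpectrum R := ⟨Q.asIdeal.comap iR, Ideal.comap_isPrime iR Q.asIdeal⟩
      obtain ⟨a, ha⟩ := hfib p
      exact ⟨_, _, UniformAmp.amp_poly_of_exact Q.asIdeal p.asIdeal rfl hEf hEz a fun i hi =>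
        LocalFibre.exactAt_extC_of_ltensor hKF eR i (ha i hi)⟩
    · obtain ⟨f, hf, hfQ⟩ := SetLike.not_le_iff_exists.1 hker
      let iP := algebraMap (MvPolynomial (Fin d) R) (Localization.AtPrime Q.asIdeal)
      let Φ := ModuleCat.extendScalars.{u, u, u} iP
      haveI := ModuleCat.preservesFiniteLimits_extendScalars_of_flat (f := iP)
        (RingHom.flat_algebraMap_iff.2 (IsLocalization.flat _ Q.asIdeal.primeCompl))
      haveI : PreservesFiniteColimits Φ := by
        haveI : Φ.IsLeftAdjoint := (ModuleCat.extendRestrictScalarsAdj iP).isLeftAdjoint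
        infer_instance
      let e : DerivedCategory.Q.obj ((extC' iP).obj E) ≅ DerivedCategory.Q.obj ((extC' iP).obj G) :=
        (Φ.mapDerivedCategoryFactors.app E).symm ≪≫ Φ.mapDerivedCategory.mapIso eG ≪≫
          Φ.mapDerivedCategoryFactors.app G
      have hz : ∀ j, IsZero (((extC' iP).obj G).X j) := fun j =>
        UniformAmp.isZero_extend_of_smul iP f (IsLocalization.map_units (M := Q.asIdeal.primeCompl) (Localization.AtPrime Q.asIdeal) ⟨f, hfQ⟩) (G.X j) fun x => by
          show ψr f • (show (F.X j : Type u) from x) = 0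
          rw [RingHom.mem_ker.1 hf, zero_smul]
      exact ⟨0, 0, DRingTor.of_isZero (IsZero.of_iso (Functor.map_isZero _
        ((IsZero.iff_id_eq_zero _).2 (HomologicalComplex.hom_ext _ _ fun j => (hz j).eq_of_src _ _))) e)⟩
  exact ⟨N, b₀, torAmp_of_iso eR (TorAmpBC.res_flat iR hR hN)⟩

end Groth.Agent.PerfGen7.RelPerfectCriterion
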