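import Groth.Agent.H9Misc.DRingPC
import Groth.Agent.H9Misc.DRingTorTriangle
import Groth.Agent.H9Misc.DRingTorLTensor
import Groth.Agent.H9Misc.DRingLTensorCx
import Groth.Agent.H9Misc.DRingTorDevissage
import Groth.Agent.H9Misc.DRingTorDim
import Groth.Prelude.Def_DualSh
import Groth.Prelude.Def_DTen2
import Groth.Prelude.Def_DTen
import Groth.Agent.KFlatLib.Ring.HasLBase

/-!
# Closure properties of relatively perfect complexes
-/

set_option linter.style.haveILetI false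
set_option backward.isDefEq.respectTransparency false

universe u

open CategoryTheory CategoryTheory.Limits MonoidalCategory CategoryTheory.Pretriangulated

attribute [local instance] HasDerivedCategory.standard

namespace Groth.Agent.PerfGen7.RelPerfectTri

open Groth.Agent.H9Misc

variable {R A : Type u} [CommRing R] [CommRing A] [Algebra R A]

/-- Finite tor dimension is stable under shifts. -/
lemma torFinite_shift {K : Dual.D R} (h : DRing.HasFiniteTorDimCx R K) (n : ℤ) :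
    DRing.HasFiniteTorDimCx R (K⟦n⟧) := by
  obtain ⟨a, b, E, hz, hf, ⟨e⟩⟩ := h
  refine ⟨a - n, b - n, E⟦n⟧, fun i hi => ?_, fun i => ?_,
    ⟨(DerivedCategory.Q.commShiftIso n).app E ≪≫ (shiftFunctor _ n).mapIso e⟩⟩
  · exact hz (i + n) (by omega)
  · exact hf (i + n)

lemma of_iso {K L : Dual.D A} (e : K ≅ L) (h : Dual2.IsRelPerfect R A K) : Dual2.IsRelPerfect R A L := by
  obtain ⟨hpc, a, b, E, h1, h2, ⟨j⟩⟩ := h
  exact ⟨DRingPC.of_iso' e hpc, a, b, E, h1, h2, ⟨j ≪≫ (DRing.restrictD (algebraMap R A)).mapIso e⟩⟩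

lemma shift {K : Dual.D A} (h : Dual2.IsRelPerfect R A K) (n : ℤ) : Dual2.IsRelPerfect R A (K⟦n⟧) := by
  refine ⟨DRingPC.shift' h.1 n, ?_⟩
  obtain ⟨a, b, E, h1, h2, ⟨j⟩⟩ := torFinite_shift h.2 n
  exact ⟨a, b, E, h1, h2, ⟨j ≪≫ (((DRing.restrictD (algebraMap R A)).commShiftIso n).app K).symm⟩⟩

lemma of_isZero {K : Dual.D A} (h : IsZero K) : Dual2.IsRelPerfect R A K :=
  ⟨((DRingPerfect.isPerfect_iff K).1 (DRingPC.isPerfect_of_isZero h)).1,
    0, 0, DRingTor.of_isZero ((DRing.restrictD (algebraMap R A)).map_isZero h)⟩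

lemma obj₂ (T : Triangle (Dual.D A)) (hT : T ∈ distTriang _) (h₁ : Dual2.IsRelPerfect R A T.obj₁)
    (h₃ : Dual2.IsRelPerfect R A T.obj₃) : Dual2.IsRelPerfect R A T.obj₂ := by
  refine ⟨DRingPC.obj₂' T hT h₁.1 h₃.1, ?_⟩
  obtain ⟨a, b, h1⟩ := h₁.2
  obtain ⟨a', b', h3⟩ := h₃.2
  exact ⟨min a a', max b b', DRingTor.obj₂_of _ ((DRing.restrictD (algebraMap R A)).map_distinguished T hT)
    (DRingTor.mono (min_le_left _ _) (le_max_left _ _) h1)
    (DRingTor.mono (min_le_right _ _) (le_max_right _ _) h3)⟩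

lemma summand {X Y : Dual.D A} (h : Dual2.IsRelPerfect R A (X ⊞ Y)) :
    Dual2.IsRelPerfect R A X ∧ Dual2.IsRelPerfect R A Y := by
  obtain ⟨hX, hY⟩ := DRingPC.summand' h.1
  obtain ⟨a, b, hab⟩ := h.2
  let F := DRing.restrictD (algebraMap R A)
  exact ⟨⟨hX, a, b, DRingTor.of_retract (F.map biprod.inl) (F.map biprod.fst)
      (by rw [← F.map_comp, biprod.inl_fst, F.map_id]) hab⟩,
    ⟨hY, a, b, DRingTor.of_retract (F.map biprod.inr) (F.map biprod.snd)
      (by rw [← F.map_comp, biprod.inr_snd, F.map_id]) hab⟩⟩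

theorem isTriangulated :
    ObjectProperty.IsTriangulated (C := Dual.D A) (fun K => Dual2.IsRelPerfect R A K) :=
  { exists_zero := ⟨_, isZero_zero (Dual.D A), of_isZero (isZero_zero (Dual.D A))⟩
    isStableUnderShiftBy := fun n => ⟨fun _ h => shift h n⟩
    ext₂' := fun T hT h₁ h₃ => ⟨T.obj₂, obj₂ T hT h₁ h₃, ⟨Iso.refl _⟩⟩ }

/-- The derived tensor product with a perfect object. -/
theorem ltensor (E : DRing.Cx A) (a b : ℤ) (hEb : DRing.VanishesOutside E a b)
    (hEp : DRing.TermwiseFiniteProjective E) [DRing.HasLTensorCx A E] (M : Dual.D A)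
    (hM : Dual2.IsRelPerfect R A M) : Dual2.IsRelPerfect R A ((DRing.LTensorCx A E).obj M) := by
  refine ⟨DRingLTensorCx.isPseudoCoherent M hM.1 E
    ((DRingPerfect.isPerfect_iff _).1 ⟨E, a, b, hEb, hEp, ⟨Iso.refl _⟩⟩).1, ?_⟩
  obtain ⟨P, hP, -, ⟨e⟩⟩ := DRingLTensor.exists_rep M
  obtain ⟨n⟩ := DRingLTensorCx.nonempty_iso E hP e
  obtain ⟨c, d, hcd⟩ := hM.2
  let φ := algebraMap R A
  let F := DRing.restrictD φ
  have h1 : DRing.HasTorAmplitudeIn R c d (DRing.toD ((DRing.restrictCx φ).obj P)) :=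
    DRingTor.of_iso (F.mapIso e.symm ≪≫ (DTen.resFactors φ).app P) hcd
  have h2 := DRingTorLTensor.hasTorAmplitudeIn_tensor φ E P hEb
    (fun i => have := (hEp i).2; inferInstance) h1
  exact ⟨a + c, b + d, DRingTor.of_iso (((DTen.resFactors φ).app (E ⊗ P)).symm ≪≫
    F.mapIso (DerivedCategory.Q.mapIso (DTen.braidCx E P) ≪≫ n.symm)) h2⟩

end Groth.Agent.PerfGen7.RelPerfectTri
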