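import Groth.Agent.PerfGen7.RelTensorScheme
import Groth.Agent.PerfGen7.RelPerfectFibres
import Groth.Agent.CAlgOdd.PCResolve
import Groth.Agent.PerfGen7.RelTorTensor
import Groth.Agent.H9Misc.DRingTorTriangle
import Groth.Agent.H9Misc.DRingLTensorCx
import Mathlib.Algebra.Homology.HomotopyCategory.DegreewiseSplit

/-!
# Degrees of pseudo-coherence of a relative tensor product
-/

set_option linter.style.haveILetI false
set_option backward.isDefEq.respectTransparency false
set_option backward.isDefEq.respectTransparency.types false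

universe u

open CategoryTheory CategoryTheory.Limits CategoryTheory.Pretriangulated MonoidalCategory AlgebraicGeometry

attribute [local instance] HasDerivedCategory.standard

namespace Groth.Agent.PerfGen7.LpullPC

open Groth.Agent.KFlatLib Groth.Agent.H9Misc Groth.Agent.H9Misc.DRingTor Groth.Agent.H9Misc.DRingLTensor

variable {P Q : Type u} [CommRing P] [CommRing Q] (σ : P →+* Q) (CC : DRing.Cx Q)

/-- `N ⊗ Q^n` as iterated extensions. -/
theorem pc_tt_free_deg (hf : DRing.TermwiseFlat CC)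
    {m : ℤ} (h : DRing.IsPseudoCoherent P m
      (DerivedCategory.Q.obj (((ModuleCat.restrictScalars.{u} σ).mapHomologicalComplex (ComplexShape.up ℤ)).obj CC))) :
    ∀ (n : ℕ), DRing.IsPseudoCoherent P m (TT σ CC (ModuleCat.of Q (Fin n → Q))) := by
  intro n
  induction n with
  | zero =>
    refine DRingPC.of_vanish _ fun i _ => ?_
    refine (ShortComplex.isZero_homology_of_isZero_X₂ _ ?_).of_iso
      ((DerivedCategory.homologyFunctorFactors (ModuleCat.{u} P) i).app _)
    exact Functor.map_isZero (ModuleCat.restrictScalars.{u} σ) (Functor.map_isZero (tensorLeft (CC.X i)) (ModuleCat.isZero_of_subsingleton (ModuleCat.of Q (Fin 0 → Q))))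
  | succ n ih =>
    let i₀ : Q →ₗ[Q] (Fin (n + 1) → Q) := LinearMap.single Q (fun _ => Q) 0
    let p : (Fin (n + 1) → Q) →ₗ[Q] (Fin n → Q) := LinearMap.funLeft Q Q Fin.succ
    let S : ShortComplex (ModuleCat.{u} Q) := ShortComplex.mk (ModuleCat.ofHom i₀) (ModuleCat.ofHom p) (by
      ext x
      simp [i₀, p, LinearMap.funLeft, Fin.succ_ne_zero]
      rfl)
    have hS : S.ShortExact :=
      { exact := (ShortComplex.moduleCat_exact_iff S).2 fun x hx => ⟨x 0, funext fun j => by
          refine Fin.cases ?_ (fun k => ?_) j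
          · simp [S, i₀]
          · have h' : x k.succ = 0 := congrFun hx k
            simp [S, i₀, h', Fin.succ_ne_zero]⟩
        mono_f := (ModuleCat.mono_iff_injective _).2 fun a b hab => by simpa [S, i₀] using congrFun hab 0
        epi_g := (ModuleCat.epi_iff_surjective _).2 fun y => ⟨Fin.cons 0 y, funext fun k => by
          simp [S, p, LinearMap.funLeft]⟩ }
    obtain ⟨f, g, c, hT⟩ := exists_triangle σ CC hf S hS
    refine (Groth.Agent.S2067.result _ hT m).2.1 (DRingPC.of_iso ?_ h) ih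
    exact DerivedCategory.Q.mapIso (((ModuleCat.restrictScalars.{u} σ).mapHomologicalComplex (ComplexShape.up ℤ)).mapIso
      (HomologicalComplex.Hom.isoOfComponents (fun j => (ρ_ (CC.X j)).symm)
        (fun j k _ => (MonoidalCategory.rightUnitor_inv_naturality (CC.d j k)).symm)))

variable {σ CC}

/-- Objects concentrated in low degrees. -/
theorem TPC.of_vanish {b c m : ℤ} (hb : DRing.VanishesAbove CC b) {K : Dual.D Q}
    (hK : ∀ k, c < k → IsZero ((DerivedCategory.homologyFunctor (ModuleCat.{u} Q) k).obj K)) (hm : c + b < m) :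
    TPC σ CC m K := by
  obtain ⟨D, -, hzD, hprojD, ⟨eD⟩⟩ := DRingComplTensor.exists_proj_res K c
    (fun k hk => ModuleCat.subsingleton_of_isZero (hK k hk))
  refine TPC.of_rep (DRingComplTensor.isKF_of_projective hzD hprojD) eD ?_
  refine DRingPC.of_vanish _ fun k hk => ?_
  refine (ShortComplex.isZero_homology_of_isZero_X₂ _ ?_).of_iso
    ((DerivedCategory.homologyFunctorFactors (ModuleCat.{u} P) k).app _)
  exact Functor.map_isZero (ModuleCat.restrictScalars.{u} σ)
    (DRingLTensorCx.vanishesAbove_tensor hzD hb k (by omega))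

/-- A finite free complex bounded above. -/
theorem TPC.of_free (hf : DRing.TermwiseFlat CC) {b : ℤ} (hb : DRing.VanishesAbove CC b) {m₁ : ℤ}
    (h : DRing.IsPseudoCoherent P m₁
      (DerivedCategory.Q.obj (((ModuleCat.restrictScalars.{u} σ).mapHomologicalComplex (ComplexShape.up ℤ)).obj CC)))
    (E : DRing.Cx Q) {bE : ℤ} (hzE : DRing.VanishesAbove E bE) (hfE : DRing.TermwiseFiniteFree E)
    {m : ℤ} (hm : m₁ + bE ≤ m) : TPC σ CC m (DRing.toD E) := by
  refine DRingDesc.of_terms (TPC σ CC m) (fun e h => h.of_iso e)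
    (fun T hT h₁ h₃ => TPC.ext₂ hf T hT h₁ h₃) (m - b) (bE + 1 - (m - b)).toNat bE (by omega) E hzE
    (fun i _ _ => ?_) fun E' hE' _ => TPC.of_vanish hb (c := m - b - 1) (fun k hk =>
      (ShortComplex.isZero_homology_of_isZero_X₂ _ (hE' k (by omega))).of_iso
        ((DerivedCategory.homologyFunctorFactors (ModuleCat.{u} Q) k).app E')) (by omega)
  let N := E.X i
  haveI := (hfE i).1
  haveI := (hfE i).2
  let S₀ := (HomologicalComplex.single (ModuleCat.{u} Q) (ComplexShape.up ℤ) i).obj N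
  have hS₀ : IsKF S₀ := DRingTor.isKF_of_flat
    (fun j => by
      rcases eq_or_ne j i with rfl | hj
      · haveI : Module.Flat Q N := inferInstance
        exact Module.Flat.of_linearEquiv
          (HomologicalComplex.singleObjXSelf (ComplexShape.up ℤ) j N).toLinearEquiv
      · haveI := ModuleCat.subsingleton_of_isZero
          (HomologicalComplex.isZero_single_obj_X (ComplexShape.up ℤ) i N j hj)
        infer_instance)
    (b := i) (fun j hj => HomologicalComplex.isZero_single_obj_X _ _ _ _ (by omega))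
  let S := (HomologicalComplex.single (ModuleCat.{u} Q) (ComplexShape.up ℤ) 0).obj N
  let F := (ModuleCat.restrictScalars.{u} σ).mapHomologicalComplex (ComplexShape.up ℤ)
  obtain ⟨k, ⟨bas⟩⟩ : ∃ k, Nonempty (Module.Basis (Fin k) Q N) :=
    ⟨_, ⟨(Module.Free.chooseBasis Q N).reindex (Fintype.equivFin _)⟩⟩
  have hT : DRing.IsPseudoCoherent P (m - i) (TT σ CC N) :=
    DRingPC.of_iso (ttIso σ CC bas.equivFun.toModuleIso.symm)
      (DRingPC.mono (by omega) (pc_tt_free_deg σ CC hf h k))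
  let es : S⟦-i⟧ ≅ S₀ :=
    ((CochainComplex.singleFunctors (ModuleCat.{u} Q)).shiftIso (-i) i 0 (by omega)).app N
  let eT : (tensC N).obj CC ≅ S ⊗ CC :=
    ((singleIso (curriedTensor (ModuleCat.{u} Q)) N).app CC).symm ≪≫ DTen.braidCx CC S
  let eTX : TX σ CC S₀ ≅ (TT σ CC N)⟦-i⟧ :=
    DerivedCategory.Q.mapIso (F.mapIso ((tensorRight CC).mapIso es.symm ≪≫
      CochainComplex.mapBifunctorShift₁Iso S CC (curriedTensor (ModuleCat.{u} Q)) (-i) ≪≫
      (CategoryTheory.shiftFunctor (DRing.Cx Q) (-i)).mapIso eT.symm) ≪≫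
      (F.commShiftIso (-i)).app _) ≪≫
      (DerivedCategory.Q.commShiftIso (-i)).app _
  refine TPC.of_rep hS₀ (((DerivedCategory.singleFunctorIsoCompQ (ModuleCat.{u} Q) i).app N).symm) ?_
  refine DRingPC.of_iso eTX.symm ?_
  have := DRingPC.shift hT (-i)
  rwa [show m - i - -i = m by ring] at this

/-- Tensoring with an object pseudo-coherent up to a degree. -/
theorem pc_tx_deg (hf : DRing.TermwiseFlat CC) {b : ℤ} (hb : DRing.VanishesAbove CC b) {m₁ : ℤ}
    (h : DRing.IsPseudoCoherent P m₁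
      (DerivedCategory.Q.obj (((ModuleCat.restrictScalars.{u} σ).mapHomologicalComplex (ComplexShape.up ℤ)).obj CC)))
    {K : Dual.D Q} {m₂ c : ℤ} (hK : DRing.IsPseudoCoherent Q m₂ K)
    (hc : ∀ k, c < k → IsZero ((DerivedCategory.homologyFunctor (ModuleCat.{u} Q) k).obj K))
    {m : ℤ} (h₁ : m₁ + c ≤ m) (h₂ : m₂ + b ≤ m) : TPC σ CC m K := by
  rcases lt_or_ge c m₂ with hlt | hle
  · exact TPC.of_vanish hb hc (by omega)
  obtain ⟨E, a, bE, α, hz, hfE, hi, he⟩ := hK
  let H := DerivedCategory.homologyFunctor (ModuleCat.{u} Q)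
  obtain ⟨E', α', hzE', hfE', hα'⟩ := CAlgOdd.PCResolve.exists_resolution (F := E) c
    (fun i hci => by
      rw [HomologicalComplex.exactAt_iff_isZero_homology]
      haveI := hi i (by omega)
      exact ((hc i hci).of_iso (asIso ((H i).map α))).of_iso
        ((DerivedCategory.homologyFunctorFactors _ i).app E).symm)
    ((DRingPC.pc'_iff _).1 ⟨E, bE, fun i h => hz i (Or.inr h), hfE, ⟨Iso.refl _⟩⟩)
  haveI : IsIso (DerivedCategory.Q.map α') := (DerivedCategory.isIso_Q_map_iff_quasiIso _ _).2 hα'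
  have hE : TPC σ CC m (DRing.toD E) :=
    (TPC.of_free hf hb h E' hzE' hfE' (by omega)).of_iso (asIso (DerivedCategory.Q.map α'))
  obtain ⟨C, g, d, hT⟩ := distinguished_cocone_triangle α
  refine TPC.ext₂ hf _ hT hE (TPC.of_vanish hb (c := m₂ - 1) (fun k hk => ?_) (by omega))
  haveI : Epi ((H k).map α) := by
    rcases eq_or_lt_of_le (show m₂ ≤ k by omega) with h' | h'
    · subst h'
      exact he
    · haveI := hi k h'
      infer_instance
  haveI : Mono ((H (k + 1)).map α) := by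
    haveI := hi (k + 1) (by omega)
    infer_instance
  exact (DerivedCategory.HomologySequence.exact₃ _ hT k (k + 1) rfl).isZero_X₂
    ((DerivedCategory.HomologySequence.epi_homologyMap_mor₁_iff _ hT k).1 (inferInstanceAs (Epi ((H k).map α))))
    ((DerivedCategory.HomologySequence.mono_homologyMap_mor₁_iff _ hT k (k + 1) rfl).1 (inferInstanceAs (Mono ((H (k + 1)).map α))))

/-- The ring statement for a tensor product. -/
theorem pc_restrict_tensor_deg {P B A : Type u} [CommRing P] [CommRing B] [CommRing A] (φ : P →+* B) {n : ℕ}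
    (ψ : MvPolynomial (Fin n) B →+* A) (M : Dual.D B)
    {m₁ m₂ b₁ b₂ : ℤ} (hM : DRing.IsPseudoCoherent P m₁ ((DRing.restrictD φ).obj M))
    (hb : ∀ i, b₁ < i → Subsingleton (Dual.HD B M i)) (CN : DRing.Cx A)
    (hN : DRing.IsPseudoCoherent (MvPolynomial (Fin n) B) m₂ ((DRing.restrictD ψ).obj (DRing.toD CN)))
    (hbN : ∀ i, b₂ < i → Subsingleton (Dual.HD A (DRing.toD CN) i)) :
    ∃ CM : DRing.Cx A, IsKF CM ∧
      (∀ [DRing.HasLBaseChange (ψ.comp MvPolynomial.C)],
        Nonempty ((DRing.LBaseChange (ψ.comp MvPolynomial.C)).obj M ≅ DRing.toD CM)) ∧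
      DRing.IsPseudoCoherent (MvPolynomial (Fin n) P) (max (m₁ + b₂) (m₂ + b₁))
        ((DRing.restrictD (ψ.comp (MvPolynomial.map φ))).obj (DRing.toD (CM ⊗ CN))) := by
  obtain ⟨D, -, hzb, hproj, ⟨eD⟩⟩ := DRingComplTensor.exists_proj_res M b₁ hb
  have hKF : IsKF D := DRingComplTensor.isKF_of_projective hzb hproj
  let C' : B →+* MvPolynomial (Fin n) B := MvPolynomial.C
  let CC := (extC' C').obj D
  let σ := MvPolynomial.map (σ := Fin n) φ
  have hflat : DRing.TermwiseFlat CC := fun i => by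
    haveI : Module.Projective B (D.X i) := hproj i
    exact DRingLBase.flat_extendScalars C' (D.X i)
  have hzC : DRing.VanishesAbove CC b₁ := fun i hi => Functor.map_isZero (ModuleCat.extendScalars.{u, u, u} C') (hzb i hi)
  have hKC : IsKF CC := DRingTor.isKF_of_flat hflat hzC
  haveI := DRingLBase.hasLBaseChange C'
  obtain ⟨eL⟩ := DRingLBase.nonempty_lbase_iso C' hKF
  have hpo : IsPushout (CommRingCat.ofHom (MvPolynomial.C : P →+* MvPolynomial (Fin n) P)) (CommRingCat.ofHom φ)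
      (CommRingCat.ofHom σ) (CommRingCat.ofHom C') := by
    letI := φ.toAlgebra
    letI : Algebra (MvPolynomial (Fin n) P) (MvPolynomial (Fin n) B) := MvPolynomial.algebraMvPolynomial
    haveI : IsScalarTower P (MvPolynomial (Fin n) P) (MvPolynomial (Fin n) B) :=
      .of_algebraMap_eq fun a => (MvPolynomial.map_C _ a).symm
    exact CommRingCat.isPushout_iff_isPushout.2 (inferInstance :
      Algebra.IsPushout P (MvPolynomial (Fin n) P) B (MvPolynomial (Fin n) B))
  have hCflat : (MvPolynomial.C : P →+* MvPolynomial (Fin n) P).Flat :=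
    (RingHom.flat_algebraMap_iff (R := P) (S := MvPolynomial (Fin n) P)).2 inferInstance
  have hCC : DRing.IsPseudoCoherent (MvPolynomial (Fin n) P) m₁
      (DerivedCategory.Q.obj (((ModuleCat.restrictScalars.{u} σ).mapHomologicalComplex (ComplexShape.up ℤ)).obj CC)) :=
    DRingPC.of_iso ((DRing.restrictD σ).mapIso ((DRing.LBaseChange C').mapIso eD.symm ≪≫ eL) ≪≫
      (ModuleCat.restrictScalars.{u} σ).mapDerivedCategoryFactors.app CC)
      ((pc_restrict_lbase hpo M m₁).1 hCflat hM)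
  let CM := (extC' ψ).obj CC
  have hCMf : DRing.TermwiseFlat CM := fun i => by
    haveI : Module.Flat _ (CC.X i) := hflat i
    exact DRingLBase.flat_extendScalars ψ (CC.X i)
  refine ⟨CM, DRingTor.isKF_of_flat hCMf (b := b₁)
    (fun i hi => Functor.map_isZero (ModuleCat.extendScalars.{u, u, u} ψ) (hzC i hi)), ?_, ?_⟩
  · intro _
    obtain ⟨eβ⟩ := DRingLBase.nonempty_lbase_iso (ψ.comp C') hKF
    exact ⟨(DRing.LBaseChange (ψ.comp C')).mapIso eD.symm ≪≫ eβ ≪≫
      DerivedCategory.Q.mapIso ((NatIso.mapHomologicalComplex (ModuleCat.extendScalarsComp C' ψ)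
        (ComplexShape.up ℤ)).app D)⟩
  let rψ := (ModuleCat.restrictScalars.{u} ψ).mapHomologicalComplex (ComplexShape.up ℤ)
  let rσ := (ModuleCat.restrictScalars.{u} σ).mapHomologicalComplex (ComplexShape.up ℤ)
  let L := rψ.obj CN
  let R := (ringCover (MvPolynomial (Fin n) B)).P.obj L
  let s : R ⟶ L := (ringCover (MvPolynomial (Fin n) B)).ψ.app L
  haveI hs : QuasiIso s := (ringCover (MvPolynomial (Fin n) B)).quasiIso_ψ L
  haveI : IsIso (DerivedCategory.Q.map s) := (DerivedCategory.isIso_Q_map_iff_quasiIso _ _).2 hs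
  let T := curriedTensor (ModuleCat.{u} (MvPolynomial (Fin n) B))
  haveI : QuasiIso ((T.map₂CochainComplex.flip.obj CC).map s) := hKC.quasiIso_map s
  haveI : QuasiIso (rσ.map ((T.map₂CochainComplex.flip.obj CC).map s)) := inferInstance
  haveI : IsIso (DerivedCategory.Q.map (rσ.map ((T.map₂CochainComplex.flip.obj CC).map s))) :=
    (DerivedCategory.isIso_Q_map_iff_quasiIso _ _).2 inferInstance
  have hbK : ∀ i, b₂ < i → IsZero ((DerivedCategory.homologyFunctor (ModuleCat.{u} (MvPolynomial (Fin n) B)) i).obj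
      ((DRing.restrictD ψ).obj (DRing.toD CN))) := fun i hi => by
    refine IsZero.of_iso ?_ ((DerivedCategory.homologyFunctor _ i).mapIso
      ((ModuleCat.restrictScalars.{u} ψ).mapDerivedCategoryFactors.app CN) ≪≫
      (DerivedCategory.homologyFunctorFactors _ i).app _ ≪≫ (CN.sc i).mapHomologyIso (ModuleCat.restrictScalars.{u} ψ))
    haveI := hbN i hi
    exact (ModuleCat.restrictScalars.{u} ψ).map_isZero ((ModuleCat.isZero_of_subsingleton
      ((DerivedCategory.homologyFunctor (ModuleCat.{u} A) i).obj (DRing.toD CN))).of_iso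
      ((DerivedCategory.homologyFunctorFactors (ModuleCat.{u} A) i).app CN).symm)
  have hK : TPC σ CC (max (m₁ + b₂) (m₂ + b₁)) ((DRing.restrictD ψ).obj (DRing.toD CN)) :=
    pc_tx_deg hflat hzC hCC hN hbK (le_max_left _ _) (le_max_right _ _)
  have h := hK R (kFlat_ringRes L) ⟨asIso (DerivedCategory.Q.map s) ≪≫
    ((ModuleCat.restrictScalars.{u} ψ).mapDerivedCategoryFactors.app CN).symm⟩
  refine DRingPC.of_iso ?_ h
  let e₂ : rσ.obj ((T.map₂CochainComplex.obj L).obj CC) ≅
      ((ModuleCat.restrictScalars.{u} (ψ.comp σ)).mapHomologicalComplex (ComplexShape.up ℤ)).obj (CM ⊗ CN) :=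
    rσ.mapIso ((cancelCxIso ψ CN CC).symm) ≪≫
      (NatIso.mapHomologicalComplex (ModuleCat.restrictScalarsComp σ ψ).symm (ComplexShape.up ℤ)).app _ ≪≫
      ((ModuleCat.restrictScalars.{u} (ψ.comp σ)).mapHomologicalComplex (ComplexShape.up ℤ)).mapIso
        (DTen.braidCx CN CM)
  exact asIso (DerivedCategory.Q.map (rσ.map ((T.map₂CochainComplex.flip.obj CC).map s))) ≪≫
    DerivedCategory.Q.mapIso e₂ ≪≫
    ((ModuleCat.restrictScalars.{u} (ψ.comp σ)).mapDerivedCategoryFactors.app _).symm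

variable {X Y Z : Scheme.{u}}

/-- An upper bound read on an affine open. -/
lemma subsingleton_hd_of_tilde {R : CommRingCat.{u}} (j : Spec R ⟶ X) [IsOpenImmersion j] (K : DCoh.D X)
    {M : Dual.D R} (e : (DCoh.tildeD R).obj M ≅ (rho j).obj K) (b : ℤ) [K.IsLE b] (i : ℤ) (hi : b < i) :
    Subsingleton (Dual.HD R M i) := by
  haveI : ∀ R : CommRingCat.{u}, PreservesFiniteLimits (tilde.functor R) := fun R => QCoh.tilde_preservesFiniteLimits
  refine (RelPerfectFibres.isZero_hd_tildeD_iff M i).1 (IsZero.of_iso ?_ ((DerivedCategory.homologyFunctor _ i).mapIso e))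
  exact ((Scheme.Modules.restrictFunctor j).map_isZero (DerivedCategory.isZero_of_isLE K b i hi)).of_iso
    (restrictHDIso j K i)

/-- `Lf^*F ⊗^L E` is pseudo-coherent relative to the composite. -/
theorem rel_ltensor_lpull_deg (f : X ⟶ Y) (g : Y ⟶ Z) [LocallyOfFiniteType f] [LocallyOfFiniteType g]
    [DCoh.HasLpull f] (E : CochainComplex X.Modules ℤ) [DCoh.HasLTensorCx E]
    {m₁ m₂ b₁ b₂ : ℤ} (hqE : DCoh.IsQCohD (DCoh.toD X E)) (hE : DerSch.IsPseudoCoherentRel f m₂ (DCoh.toD X E))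
    [(DCoh.toD X E).IsLE b₂] {F : DCoh.D Y} (hq : DCoh.IsQCohD F)
    (hF : DerSch.IsPseudoCoherentRel g m₁ F) [F.IsLE b₁] :
    DerSch.IsPseudoCoherentRel (f ≫ g) (max (m₁ + b₂) (m₂ + b₁))
      ((DCoh.LTensorCx E).obj ((DCoh.Lpull f).obj F)) := by
  refine isPseudoCoherentRel_iff.2 fun x => ?_
  obtain ⟨W, hW, hxW, -⟩ := exists_isAffineOpen_mem_and_subset (x := g (f x)) (U := (⊤ : Z.Opens)) trivial
  obtain ⟨V, hV, hxV, hVW⟩ := exists_isAffineOpen_mem_and_subset (x := f x) (U := g ⁻¹ᵁ W) hxW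
  obtain ⟨U, hU, hxU, hUV⟩ := exists_isAffineOpen_mem_and_subset (x := x) (U := f ⁻¹ᵁ V) hxV
  obtain ⟨l, φ, hφ⟩ := exists_chart_of_affine (f := g) hV hW hVW
  obtain ⟨n, ψ, hψ⟩ := exists_chart_of_affine (f := f) hU hV hUV
  haveI := isClosedImmersion_toSpecΓ hV
  haveI := isClosedImmersion_toSpecΓ hU
  haveI : IsIso V.toSpecΓ := by
    have h := hV.isoSpec.isIso_hom
    rwa [hV.isoSpec_hom] at h
  haveI : IsIso U.toSpecΓ := by
    have h := hU.isoSpec.isIso_hom
    rwa [hU.isoSpec_hom] at h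
  let β := (f.appLE V U hUV).hom
  haveI := DRingLBase.hasLBaseChange β
  haveI := hasLpull (Spec.map (f.appLE V U hUV))
  haveI : DCoh.HasLpull (Spec.map (CommRingCat.ofHom β)) := hasLpull _
  obtain ⟨M, ⟨eM⟩⟩ := exists_tilde_rep hV hq
  obtain ⟨eT⟩ := nonempty_tildeD_lpull_iso β
  obtain ⟨eS⟩ := nonempty_lpull_square f (Spec.map (f.appLE V U hUV)) hV.fromSpec hU.fromSpec
    (hV.SpecMap_appLE_fromSpec f hU hUV).symm F
  let eK : (DCoh.tildeD Γ(X, U)).obj ((DRing.LBaseChange β).obj M) ≅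
      (rho hU.fromSpec).obj ((DCoh.Lpull f).obj F) :=
    eT.app M ≪≫ (DCoh.Lpull (Spec.map (f.appLE V U hUV))).mapIso (eM ≪≫ pushToSpecIso hV F) ≪≫ eS.symm
  have hM : DRing.IsPseudoCoherent (MvPolynomial (Fin l) Γ(Z, W)) m₁ ((DRing.restrictD φ).obj M) :=
    (immPC_tilde_iff hV φ hφ.1 M eM).1 ((chartPC_iff hV φ hφ.1).1 (chartPC_of_rel hF hV hW hVW φ hφ))
  have hb : ∀ i, b₁ < i → Subsingleton (Dual.HD Γ(Y, V) M i) :=
    subsingleton_hd_of_tilde hV.fromSpec F (eM ≪≫ pushToSpecIso hV F) b₁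
  obtain ⟨N, ⟨eN⟩⟩ := exists_tilde_rep hU hqE
  let CN := DerivedCategory.Q.objPreimage N
  let eCN : DRing.toD CN ≅ N := DerivedCategory.Q.objObjPreimageIso N
  have hN : DRing.IsPseudoCoherent (MvPolynomial (Fin n) Γ(Y, V)) m₂ ((DRing.restrictD ψ).obj (DRing.toD CN)) :=
    DRingPC.of_iso ((DRing.restrictD ψ).mapIso eCN.symm)
      ((immPC_tilde_iff hU ψ hψ.1 N eN).1 ((chartPC_iff hU ψ hψ.1).1 (chartPC_of_rel hE hU hV hUV ψ hψ)))
  obtain ⟨CM, hCM, hiso, hpc⟩ := pc_restrict_tensor_deg φ ψ M hM hb CN hN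
    (subsingleton_hd_of_tilde hU.fromSpec (DCoh.toD X E)
      ((DCoh.tildeD _).mapIso eCN ≪≫ eN ≪≫ pushToSpecIso hU _) b₂)
  haveI : DRing.HasLBaseChange (ψ.comp MvPolynomial.C) := DRingLBase.hasLBaseChange _
  obtain ⟨eβ⟩ : Nonempty ((DRing.LBaseChange β).obj M ≅ DRing.toD CM) := by
    have h := @hiso inferInstance
    simp only [hψ.2] at h
    exact h
  obtain ⟨eTen⟩ := nonempty_tilde_tensor hU.fromSpec E ((DCoh.Lpull f).obj F) CM CN hCM
    ((DCoh.tildeD _).mapIso eβ.symm ≪≫ eK) ((DCoh.tildeD _).mapIso eCN ≪≫ eN ≪≫ pushToSpecIso hU _)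
  let e' := eTen ≪≫ (pushToSpecIso hU _).symm
  let e := PCMor.nestEquiv Γ(Z, W) n l
  let σ := (MvPolynomial.map (σ := Fin n) φ).comp e.toRingEquiv.toRingHom
  have hσ : Function.Surjective σ := (MvPolynomial.map_surjective φ hφ.1).comp e.surjective
  have hθ : DerSch.IsChart (f ≫ g) U W (fun y hy => hVW (hUV hy)) (ψ.comp σ) := by
    refine ⟨hψ.1.comp hσ, ?_⟩
    ext r
    have : e.toRingEquiv.toRingHom (MvPolynomial.C r) = MvPolynomial.C (MvPolynomial.C r) := by
      simp [e, PCMor.nestEquiv]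
    simp only [σ, RingHom.comp_apply]
    rw [this, MvPolynomial.map_C, ← RingHom.comp_apply ψ, hψ.2, ← RingHom.comp_apply φ, hφ.2,
      ← RingHom.comp_apply, ← CommRingCat.hom_comp, Scheme.Hom.appLE_comp_appLE]
  exact ⟨U, W, hxU, hU, hW, fun y hy => hVW (hUV hy), n + l, ψ.comp σ, hθ,
    (immPC_tilde_iff hU (ψ.comp σ) hθ.1 _ e').2
      ((DRingRelPC.pc_iff_comp (DRingRelPC.PCHom.of_bijective e.bijective)
        (ψ.comp (MvPolynomial.map φ)) _ (RingHom.comp_assoc _ _ _) _ _).1 hpc)⟩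

end Groth.Agent.PerfGen7.LpullPC
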