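import Groth.Agent.PerfGen7.RelLpullPC
import Groth.Agent.PerfGen7.RelTorTensor
import Groth.Agent.H9Misc.DRingTorTriangle
import Groth.Agent.H9Misc.DRingLTensorCx
import Mathlib.Algebra.Homology.HomotopyCategory.DegreewiseSplit

/-!
# Tensoring a relatively pseudo-coherent complex with a pseudo-coherent complex
-/

set_option linter.style.haveILetI false
set_option backward.isDefEq.respectTransparency false
set_option backward.isDefEq.respectTransparency.types false

universe u

open CategoryTheory CategoryTheory.Limits CategoryTheory.Pretriangulated MonoidalCategory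

attribute [local instance] HasDerivedCategory.standard

namespace Groth.Agent.PerfGen7.LpullPC

open Groth.Agent.KFlatLib Groth.Agent.H9Misc Groth.Agent.H9Misc.DRingTor Groth.Agent.H9Misc.DRingLTensor

variable {P Q : Type u} [CommRing P] [CommRing Q] (σ : P →+* Q) (CC : DRing.Cx Q)

/-- `R ⊗ CC`, restricted. -/
noncomputable abbrev TX (R : DRing.Cx Q) : Dual.D P :=
  DerivedCategory.Q.obj (((ModuleCat.restrictScalars.{u} σ).mapHomologicalComplex (ComplexShape.up ℤ)).obj (R ⊗ CC))

/-- Different K-flat models give the same object. -/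
theorem nonempty_tx_iso {R R' : DRing.Cx Q} (hR : IsKF R) (hR' : IsKF R') {K : Dual.D Q}
    (e : DerivedCategory.Q.obj R ≅ K) (e' : DerivedCategory.Q.obj R' ≅ K) :
    Nonempty (TX σ CC R ≅ TX σ CC R') := by
  haveI : DRing.HasLTensorCx Q CC := (DRingLTensorCx.resTensorCx CC).hasLeftDerivedFunctor DerivedCategory.Q
  obtain ⟨a⟩ := DRingLTensorCx.nonempty_iso CC hR e
  obtain ⟨b⟩ := DRingLTensorCx.nonempty_iso CC hR' e'
  let F := ModuleCat.restrictScalars.{u} σ
  exact ⟨(F.mapDerivedCategoryFactors.app _).symm ≪≫ (DRing.restrictD σ).mapIso (a.symm ≪≫ b) ≪≫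
    F.mapDerivedCategoryFactors.app _⟩

/-- `K ⊗ CC` is `m`-pseudo-coherent over `P`. -/
def TPC (m : ℤ) (K : Dual.D Q) : Prop :=
  ∀ R : DRing.Cx Q, IsKF R → Nonempty (DerivedCategory.Q.obj R ≅ K) → DRing.IsPseudoCoherent P m (TX σ CC R)

variable {σ CC}

theorem TPC.of_rep {m : ℤ} {K : Dual.D Q} {R : DRing.Cx Q} (hR : IsKF R) (e : DerivedCategory.Q.obj R ≅ K)
    (h : DRing.IsPseudoCoherent P m (TX σ CC R)) : TPC σ CC m K := fun R' hR' ⟨e'⟩ =>
  DRingPC.of_iso (nonempty_tx_iso σ CC hR hR' e e').some h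

theorem TPC.of_iso {m : ℤ} {K L : Dual.D Q} (e : K ≅ L) (h : TPC σ CC m K) : TPC σ CC m L :=
  fun R hR ⟨e'⟩ => h R hR ⟨e' ≪≫ e.symm⟩

theorem TPC.ext₂ (hf : DRing.TermwiseFlat CC) {m : ℤ} (T : Triangle (Dual.D Q))
    (hT : T ∈ distinguishedTriangles) (h₁ : TPC σ CC m T.obj₁) (h₃ : TPC σ CC m T.obj₃) :
    TPC σ CC m T.obj₂ := by
  obtain ⟨R₁, R₂, φ, hR₁, hR₂, hC, ⟨e⟩⟩ := exists_rep_triangle T.invRotate (inv_rot_of_distTriang _ hT)
  let S := CochainComplex.mappingCone.triangleRotateShortComplex φ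
  have hS : (S.map ((curriedTensor (ModuleCat.{u} Q)).map₂CochainComplex.flip.obj CC)).ShortExact :=
    shortExact₁_of_splitting (T := curriedTensor (ModuleCat.{u} Q)) CC S
      fun n => ⟨CochainComplex.mappingCone.triangleRotateShortComplexSplitting φ n⟩
  let F := (ModuleCat.restrictScalars.{u} σ).mapHomologicalComplex (ComplexShape.up ℤ)
  have hS' : ((S.map ((curriedTensor (ModuleCat.{u} Q)).map₂CochainComplex.flip.obj CC)).map F).ShortExact :=
    hS.map_of_exact F
  have hR₁' : IsKF (R₁⟦(1 : ℤ)⟧) := KFlat.shift hR₁ 1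
  have e₁ : DerivedCategory.Q.obj R₂ ≅ T.obj₁ := Triangle.π₂.mapIso e
  have e₂ : DerivedCategory.Q.obj (CochainComplex.mappingCone φ) ≅ T.obj₂ := Triangle.π₃.mapIso e
  have e₃ : DerivedCategory.Q.obj (R₁⟦(1 : ℤ)⟧) ≅ T.obj₃ :=
    (DerivedCategory.Q.commShiftIso (1 : ℤ)).app R₁ ≪≫
      (CategoryTheory.shiftFunctor (Dual.D Q) (1 : ℤ)).mapIso (Triangle.π₁.mapIso e) ≪≫
      (shiftFunctorCompIsoId (Dual.D Q) (-1 : ℤ) 1 (by omega)).app T.obj₃
  exact TPC.of_rep hC e₂ ((Groth.Agent.S2067.result _ (DerivedCategory.triangleOfSES_distinguished hS') m).2.1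
    (h₁ R₂ hR₂ ⟨e₁⟩) (h₃ (R₁⟦(1 : ℤ)⟧) hR₁' ⟨e₃⟩))

/-- Tensoring with a pseudo-coherent complex. -/
theorem pc_tx (hf : DRing.TermwiseFlat CC) {b : ℤ} (hb : DRing.VanishesAbove CC b)
    (h : ∀ m, DRing.IsPseudoCoherent P m
      (DerivedCategory.Q.obj (((ModuleCat.restrictScalars.{u} σ).mapHomologicalComplex (ComplexShape.up ℤ)).obj CC)))
    {K : Dual.D Q} (hK : DRing.IsPseudoCoherent' Q K) (m : ℤ) : TPC σ CC m K := by
  obtain ⟨E, bE, hzE, hfE, ⟨eE⟩⟩ := hK
  refine TPC.of_iso eE ?_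
  refine DRingDesc.of_terms (TPC σ CC m) (fun e h => h.of_iso e)
    (fun T hT h₁ h₃ => TPC.ext₂ hf T hT h₁ h₃) (m - b) (bE + 1 - (m - b)).toNat bE (by omega) E hzE
    (fun i _ _ => ?_) fun E' hE' _ => ?_
  · let N := E.X i
    haveI := (hfE i).1
    haveI := (hfE i).2
    have hN : DRing.IsPseudoCoherentModule' Q N :=
      (DRingPC.pc'_iff _).2 fun k => Triage.NoethPC.pc_of_free (A := Q) N k
    let S₀ := (HomologicalComplex.single (ModuleCat.{u} Q) (ComplexShape.up ℤ) i).obj N
    have hS₀ : IsKF S₀ := DRingTor.isKF_of_flat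
      (fun j => by
        rcases eq_or_ne j i with rfl | hj
        · haveI : Module.Flat Q N := inferInstance
          exact Module.Flat.of_linearEquiv
            (HomologicalComplex.singleObjXSelf (ComplexShape.up ℤ) j N).toLinearEquiv
        · haveI := ModuleCat.subsingleton_of_isZero
            (HomologicalComplex.isZero_single_obj_X (ComplexShape.up ℤ) i N j hj)
          infer_instance)
      (b := i) (fun j hj => HomologicalComplex.isZero_single_obj_X _ _ _ _ (by omega))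
    let S := (HomologicalComplex.single (ModuleCat.{u} Q) (ComplexShape.up ℤ) 0).obj N
    let F := (ModuleCat.restrictScalars.{u} σ).mapHomologicalComplex (ComplexShape.up ℤ)
    have hT : DRing.IsPseudoCoherent P (m - i) (TT σ CC N) :=
      DRingPC.mono (m := b + 1 - ((b + 1 - (m - i)).toNat : ℤ)) (by omega) (pc_tt σ CC hf hb h _ N hN)
    let es : S⟦-i⟧ ≅ S₀ :=
      ((CochainComplex.singleFunctors (ModuleCat.{u} Q)).shiftIso (-i) i 0 (by omega)).app N
    let eT : (tensC N).obj CC ≅ S ⊗ CC :=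
      ((singleIso (curriedTensor (ModuleCat.{u} Q)) N).app CC).symm ≪≫ DTen.braidCx CC S
    let eTX : TX σ CC S₀ ≅ (TT σ CC N)⟦-i⟧ :=
      DerivedCategory.Q.mapIso (F.mapIso ((tensorRight CC).mapIso es.symm ≪≫
        CochainComplex.mapBifunctorShift₁Iso S CC (curriedTensor (ModuleCat.{u} Q)) (-i) ≪≫
        (CategoryTheory.shiftFunctor (DRing.Cx Q) (-i)).mapIso eT.symm) ≪≫
        (F.commShiftIso (-i)).app _) ≪≫
        (DerivedCategory.Q.commShiftIso (-i)).app _
    refine TPC.of_rep hS₀ (((DerivedCategory.singleFunctorIsoCompQ (ModuleCat.{u} Q) i).app N).symm) ?_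
    refine DRingPC.of_iso eTX.symm ?_
    have := DRingPC.shift hT (-i)
    rwa [show m - i - -i = m by ring] at this
  · intro R hR ⟨e⟩
    obtain ⟨D, -, hzD, hprojD, ⟨eD⟩⟩ := DRingComplTensor.exists_proj_res (DRing.toD E') (m - b - 1)
      (fun k hk => ModuleCat.subsingleton_of_isZero
        ((ShortComplex.isZero_homology_of_isZero_X₂ _ (hE' k (by omega))).of_iso
          ((DerivedCategory.homologyFunctorFactors (ModuleCat.{u} Q) k).app E')))
    refine DRingPC.of_iso (nonempty_tx_iso σ CC (DRingComplTensor.isKF_of_projective hzD hprojD) hR eD e).some ?_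
    refine DRingPC.of_vanish _ fun k hk => ?_
    refine (ShortComplex.isZero_homology_of_isZero_X₂ _ ?_).of_iso
      ((DerivedCategory.homologyFunctorFactors (ModuleCat.{u} P) k).app _)
    exact Functor.map_isZero (ModuleCat.restrictScalars.{u} σ)
      (DRingLTensorCx.vanishesAbove_tensor hzD hb k (by omega))

end Groth.Agent.PerfGen7.LpullPC

namespace Groth.Agent.PerfGen7.LpullPC

open Groth.Agent.KFlatLib Groth.Agent.H9Misc Groth.Agent.H9Misc.DRingTor Groth.Agent.H9Misc.DRingLTensor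

/-- The ring statement for a tensor product. -/
theorem pc_restrict_tensor_pc {P B A : Type u} [CommRing P] [CommRing B] [CommRing A] (φ : P →+* B) {n : ℕ}
    (ψ : MvPolynomial (Fin n) B →+* A) (M : Dual.D B)
    (hM : ∀ m, DRing.IsPseudoCoherent P m ((DRing.restrictD φ).obj M)) (CN : DRing.Cx A)
    (hN : DRing.IsPseudoCoherent' (MvPolynomial (Fin n) B) ((DRing.restrictD ψ).obj (DRing.toD CN))) :
    ∃ CM : DRing.Cx A, IsKF CM ∧
      (∀ [DRing.HasLBaseChange (ψ.comp MvPolynomial.C)],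
        Nonempty ((DRing.LBaseChange (ψ.comp MvPolynomial.C)).obj M ≅ DRing.toD CM)) ∧
      ∀ m, DRing.IsPseudoCoherent (MvPolynomial (Fin n) P) m
        ((DRing.restrictD (ψ.comp (MvPolynomial.map φ))).obj (DRing.toD (CM ⊗ CN))) := by
  obtain ⟨b, hb⟩ := exists_bound_of_restrict φ (hM 0)
  obtain ⟨D, -, hzb, hproj, ⟨eD⟩⟩ := DRingComplTensor.exists_proj_res M b hb
  have hKF : IsKF D := DRingComplTensor.isKF_of_projective hzb hproj
  let C' : B →+* MvPolynomial (Fin n) B := MvPolynomial.C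
  let CC := (extC' C').obj D
  let σ := MvPolynomial.map (σ := Fin n) φ
  have hflat : DRing.TermwiseFlat CC := fun i => by
    haveI : Module.Projective B (D.X i) := hproj i
    exact DRingLBase.flat_extendScalars C' (D.X i)
  have hzC : DRing.VanishesAbove CC b := fun i hi => Functor.map_isZero (ModuleCat.extendScalars.{u, u, u} C') (hzb i hi)
  have hKC : IsKF CC := DRingTor.isKF_of_flat hflat hzC
  haveI := DRingLBase.hasLBaseChange C'
  obtain ⟨eL⟩ := DRingLBase.nonempty_lbase_iso C' hKF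
  have hpo : IsPushout (CommRingCat.ofHom (MvPolynomial.C : P →+* MvPolynomial (Fin n) P)) (CommRingCat.ofHom φ)
      (CommRingCat.ofHom σ) (CommRingCat.ofHom C') := by
    letI := φ.toAlgebra
    letI : Algebra (MvPolynomial (Fin n) P) (MvPolynomial (Fin n) B) := MvPolynomial.algebraMvPolynomial
    haveI : IsScalarTower P (MvPolynomial (Fin n) P) (MvPolynomial (Fin n) B) :=
      .of_algebraMap_eq fun a => (MvPolynomial.map_C _ a).symm
    exact CommRingCat.isPushout_iff_isPushout.2 (inferInstance :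
      Algebra.IsPushout P (MvPolynomial (Fin n) P) B (MvPolynomial (Fin n) B))
  have hCflat : (MvPolynomial.C : P →+* MvPolynomial (Fin n) P).Flat :=
    (RingHom.flat_algebraMap_iff (R := P) (S := MvPolynomial (Fin n) P)).2 inferInstance
  have hCC : ∀ k, DRing.IsPseudoCoherent (MvPolynomial (Fin n) P) k
      (DerivedCategory.Q.obj (((ModuleCat.restrictScalars.{u} σ).mapHomologicalComplex (ComplexShape.up ℤ)).obj CC)) :=
    fun k => DRingPC.of_iso ((DRing.restrictD σ).mapIso ((DRing.LBaseChange C').mapIso eD.symm ≪≫ eL) ≪≫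
      (ModuleCat.restrictScalars.{u} σ).mapDerivedCategoryFactors.app CC)
      ((pc_restrict_lbase hpo M k).1 hCflat (hM k))
  let CM := (extC' ψ).obj CC
  have hCMf : DRing.TermwiseFlat CM := fun i => by
    haveI : Module.Flat _ (CC.X i) := hflat i
    exact DRingLBase.flat_extendScalars ψ (CC.X i)
  refine ⟨CM, DRingTor.isKF_of_flat hCMf (b := b)
    (fun i hi => Functor.map_isZero (ModuleCat.extendScalars.{u, u, u} ψ) (hzC i hi)), ?_, fun m => ?_⟩
  · intro _
    obtain ⟨eβ⟩ := DRingLBase.nonempty_lbase_iso (ψ.comp C') hKF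
    exact ⟨(DRing.LBaseChange (ψ.comp C')).mapIso eD.symm ≪≫ eβ ≪≫
      DerivedCategory.Q.mapIso ((NatIso.mapHomologicalComplex (ModuleCat.extendScalarsComp C' ψ)
        (ComplexShape.up ℤ)).app D)⟩
  let rψ := (ModuleCat.restrictScalars.{u} ψ).mapHomologicalComplex (ComplexShape.up ℤ)
  let rσ := (ModuleCat.restrictScalars.{u} σ).mapHomologicalComplex (ComplexShape.up ℤ)
  let L := rψ.obj CN
  let R := (ringCover (MvPolynomial (Fin n) B)).P.obj L
  let s : R ⟶ L := (ringCover (MvPolynomial (Fin n) B)).ψ.app L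
  haveI hs : QuasiIso s := (ringCover (MvPolynomial (Fin n) B)).quasiIso_ψ L
  haveI : IsIso (DerivedCategory.Q.map s) := (DerivedCategory.isIso_Q_map_iff_quasiIso _ _).2 hs
  let T := curriedTensor (ModuleCat.{u} (MvPolynomial (Fin n) B))
  haveI : QuasiIso ((T.map₂CochainComplex.flip.obj CC).map s) := hKC.quasiIso_map s
  haveI : QuasiIso (rσ.map ((T.map₂CochainComplex.flip.obj CC).map s)) := inferInstance
  haveI : IsIso (DerivedCategory.Q.map (rσ.map ((T.map₂CochainComplex.flip.obj CC).map s))) :=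
    (DerivedCategory.isIso_Q_map_iff_quasiIso _ _).2 inferInstance
  have hK : TPC σ CC m ((DRing.restrictD ψ).obj (DRing.toD CN)) := pc_tx hflat hzC hCC hN m
  have h := hK R (kFlat_ringRes L) ⟨asIso (DerivedCategory.Q.map s) ≪≫
    ((ModuleCat.restrictScalars.{u} ψ).mapDerivedCategoryFactors.app CN).symm⟩
  refine DRingPC.of_iso ?_ h
  let e₂ : rσ.obj ((T.map₂CochainComplex.obj L).obj CC) ≅
      ((ModuleCat.restrictScalars.{u} (ψ.comp σ)).mapHomologicalComplex (ComplexShape.up ℤ)).obj (CM ⊗ CN) :=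
    rσ.mapIso ((cancelCxIso ψ CN CC).symm) ≪≫
      (NatIso.mapHomologicalComplex (ModuleCat.restrictScalarsComp σ ψ).symm (ComplexShape.up ℤ)).app _ ≪≫
      ((ModuleCat.restrictScalars.{u} (ψ.comp σ)).mapHomologicalComplex (ComplexShape.up ℤ)).mapIso
        (DTen.braidCx CN CM)
  exact asIso (DerivedCategory.Q.map (rσ.map ((T.map₂CochainComplex.flip.obj CC).map s))) ≪≫
    DerivedCategory.Q.mapIso e₂ ≪≫
    ((ModuleCat.restrictScalars.{u} (ψ.comp σ)).mapDerivedCategoryFactors.app _).symm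

end Groth.Agent.PerfGen7.LpullPC
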