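import Groth.Agent.KFlatLib.Scheme.Adjoint
import Groth.Prelude.Def_CxOX
import Groth.Prelude.Def_DCoh3
import Mathlib.CategoryTheory.Functor.Derived.PointwiseLeftDerived

/-!
# Restriction is left adjoint to the derived direct image of an open immersion
-/

set_option linter.style.haveILetI false

universe u

open CategoryTheory CategoryTheory.Limits AlgebraicGeometry

attribute [local instance] HasDerivedCategory.standard

namespace Groth.Agent.PerfGen7

open Groth.Agent.KFlatLib

/-- The identity functor induces the identity on homotopy categories. -/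
noncomputable def mapHomotopyCategoryIdIso' (V : Type*) [Category V] [Preadditive V] :
    (𝟭 V).mapHomotopyCategory (ComplexShape.up ℤ) ≅ 𝟭 (HomotopyCategory V (ComplexShape.up ℤ)) :=
  NatIso.ofComponents
    (fun K => (HomotopyCategory.quotient V _).mapIso
      ((Functor.mapHomologicalComplexIdIso V (ComplexShape.up ℤ)).app K.as))
    (fun {K L} a => by
      obtain ⟨a, rfl⟩ := (HomotopyCategory.quotient V _).map_surjective a
      change (HomotopyCategory.quotient V _).map _ ≫ (HomotopyCategory.quotient V _).map _ =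
        (HomotopyCategory.quotient V _).map _ ≫ (HomotopyCategory.quotient V _).map _
      rw [← Functor.map_comp, ← Functor.map_comp]
      exact congrArg _ ((Functor.mapHomologicalComplexIdIso V (ComplexShape.up ℤ)).hom.naturality a))

variable {U X : Scheme.{u}} (j : U ⟶ X) [IsOpenImmersion j]

/-- `j^* ⊣ Rj_*` on derived categories. -/
lemma nonempty_restrictD_rpush_adj [DCoh.HasRpush j] :
    Nonempty ((Scheme.Modules.restrictFunctor j).mapDerivedCategory ⊣ DCoh.Rpush j) := by
  let R := Scheme.Modules.restrictFunctor j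
  let WX := HomotopyCategory.quasiIso U.Modules (ComplexShape.up ℤ)
  let WY := HomotopyCategory.quasiIso X.Modules (ComplexShape.up ℤ)
  let LF := R.mapDerivedCategory
  let α : DerivedCategory.Qh ⋙ LF ⟶ R.mapHomotopyCategory (ComplexShape.up ℤ) ⋙ DerivedCategory.Qh :=
    R.mapDerivedCategoryFactorsh.hom
  let β := (DCoh.pushKh j).totalRightDerivedUnit DerivedCategory.Qh WX
  haveI : LF.IsLeftDerivedFunctor α WY :=
    Functor.isLeftDerivedFunctor_of_inverts WY LF R.mapDerivedCategoryFactorsh
  haveI := TriCat.qh_isLeftAdjoint_of_exists_resolution (A := U.Modules) exists_kInjective_res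
  let adjQ := Adjunction.ofIsLeftAdjoint (DerivedCategory.Qh (C := U.Modules))
  haveI : (DerivedCategory.Qh.rightAdjoint ⋙ DCoh.pushKh j).IsRightDerivedFunctor
      (Functor.whiskerRight adjQ.unit (DCoh.pushKh j)) WX :=
    TriCat.isRightDerivedFunctor_of_adjunction adjQ WX (DCoh.pushKh j)
  let e₀ : DerivedCategory.Qh.rightAdjoint ⋙ DCoh.pushKh j ≅ DCoh.Rpush j :=
    Functor.rightDerivedUnique _ _ (Functor.whiskerRight adjQ.unit (DCoh.pushKh j)) β WX
  haveI : (DCoh.Rpush j ⋙ LF).IsRightDerivedFunctor
      (Functor.whiskerRight β LF ≫ (Functor.associator _ _ _).hom) WX := by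
    haveI h := TriCat.isRightDerivedFunctor_of_adjunction adjQ WX (DCoh.pushKh j ⋙ LF)
    refine (Functor.isRightDerivedFunctor_iff_of_iso _ _ WX
      ((Functor.associator _ _ _).symm ≪≫ Functor.isoWhiskerRight e₀ LF) ?_).1 h
    ext K
    simp only [NatTrans.comp_app, Functor.whiskerLeft_app, Functor.whiskerRight_app, Iso.trans_hom,
      Iso.symm_hom, Functor.associator_inv_app, Functor.isoWhiskerRight_hom,
      Functor.associator_hom_app, Category.id_comp]
    erw [Category.comp_id]
    refine (LF.map_comp _ _).symm.trans ?_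
    congr 1
    exact (Functor.rightDerivedNatTrans_app (DerivedCategory.Qh.rightAdjoint ⋙ DCoh.pushKh j)
      (DCoh.Rpush j) (Functor.whiskerRight adjQ.unit (DCoh.pushKh j)) β WX (𝟙 _) K).trans
      (Category.id_comp _)
  haveI : (LF ⋙ DCoh.Rpush j).IsLeftDerivedFunctor
      ((Functor.associator _ _ _).inv ≫ Functor.whiskerRight α (DCoh.Rpush j)) WY :=
    Functor.isLeftDerivedFunctor_of_inverts WY (LF ⋙ DCoh.Rpush j)
      ((Functor.associator _ _ _).symm ≪≫
        Functor.isoWhiskerRight R.mapDerivedCategoryFactorsh (DCoh.Rpush j))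
  exact ⟨(adjHtpy (ComplexShape.up ℤ) (Scheme.Modules.restrictAdjunction j)).derived WY WX α β⟩

/-- `Rj_*` followed by restriction is the identity. -/
lemma nonempty_rpush_restrictD_self [DCoh.HasRpush j] :
    Nonempty (DCoh.Rpush j ⋙ (Scheme.Modules.restrictFunctor j).mapDerivedCategory ≅
      𝟭 (DCoh.D U)) := by
  let R := Scheme.Modules.restrictFunctor j
  let WX := HomotopyCategory.quasiIso U.Modules (ComplexShape.up ℤ)
  haveI := TriCat.qh_isLeftAdjoint_of_exists_resolution (A := U.Modules) exists_kInjective_res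
  let adjQ := Adjunction.ofIsLeftAdjoint (DerivedCategory.Qh (C := U.Modules))
  haveI : (DerivedCategory.Qh.rightAdjoint ⋙ DCoh.pushKh j).IsRightDerivedFunctor
      (Functor.whiskerRight adjQ.unit (DCoh.pushKh j)) WX :=
    TriCat.isRightDerivedFunctor_of_adjunction adjQ WX (DCoh.pushKh j)
  let e₀ : DerivedCategory.Qh.rightAdjoint ⋙ DCoh.pushKh j ≅ DCoh.Rpush j :=
    Functor.rightDerivedUnique _ _ (Functor.whiskerRight adjQ.unit (DCoh.pushKh j))
      ((DCoh.pushKh j).totalRightDerivedUnit DerivedCategory.Qh WX) WX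
  haveI : IsIso (Scheme.Modules.restrictAdjunction j).counit := inferInstance
  let c := ComplexShape.up ℤ
  let e₁ : DCoh.pushKh j ⋙ R.mapDerivedCategory ≅ DerivedCategory.Qh :=
    Functor.associator _ _ _ ≪≫ Functor.isoWhiskerLeft _ R.mapDerivedCategoryFactorsh ≪≫
      (Functor.associator _ _ _).symm ≪≫
      Functor.isoWhiskerRight (Functor.mapHomotopyCategoryCompIso
        (asIso (Scheme.Modules.restrictAdjunction j).counit) c ≪≫
          mapHomotopyCategoryIdIso' U.Modules) DerivedCategory.Qh ≪≫ Functor.leftUnitor _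
  haveI : ∀ E, IsIso (adjQ.counit.app E) := fun E => by
    obtain ⟨I, s, hI, hs⟩ := exists_kInjective_res (DerivedCategory.Q.objPreimage E)
    haveI := hs
    let qI := (HomotopyCategory.quotient U.Modules c).obj I
    let i : DerivedCategory.Qh.obj qI ≅ E :=
      (DerivedCategory.quotientCompQhIso U.Modules).app I ≪≫
        (asIso (DerivedCategory.Q.map s)).symm ≪≫ DerivedCategory.Q.objObjPreimageIso E
    haveI := TriCat.isIso_unit_of_isKInjective adjQ I
    haveI : IsIso (adjQ.counit.app (DerivedCategory.Qh.obj qI)) := by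
      have h := adjQ.left_triangle_components qI
      exact IsIso.of_isIso_fac_left h
    exact (NatTrans.isIso_app_iff_of_iso adjQ.counit i).1 (by assumption)
  haveI := NatIso.isIso_of_isIso_app adjQ.counit
  exact ⟨Functor.isoWhiskerRight e₀.symm _ ≪≫ Functor.associator _ _ _ ≪≫
    Functor.isoWhiskerLeft _ e₁ ≪≫ asIso adjQ.counit⟩

end Groth.Agent.PerfGen7
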