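import Groth.Agent.PerfGen7.LeftRes

/-!
# Dual of the relative resolution of bounded above complexes
-/

set_option linter.style.haveILetI false
set_option backward.isDefEq.respectTransparency false
set_option backward.defeqAttrib.useBackward true

universe v u

open CategoryTheory CategoryTheory.Limits Opposite HomologicalComplex ZeroObject

namespace Groth.Agent.PerfGen7.RightExt

variable {A : Type u} [Category.{v} A] [Abelian A]

/-- The complex in `A` attached to a complex in `Aᵒᵖ`. -/
noncomputable abbrev back (R : CochainComplex Aᵒᵖ ℤ) : CochainComplex A ℤ :=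
  (HomologicalComplex.unopFunctor A (ComplexShape.down ℤ)).obj
    (op (R.restriction ComplexShape.embeddingDownIntUpInt))

/-- The morphism in `A` attached to a morphism of complexes in `Aᵒᵖ`. -/
noncomputable abbrev backMap {R S : CochainComplex Aᵒᵖ ℤ} (φ : R ⟶ S) : back S ⟶ back R :=
  (HomologicalComplex.unopFunctor A (ComplexShape.down ℤ)).map
    (HomologicalComplex.restrictionMap φ ComplexShape.embeddingDownIntUpInt).op

lemma quasiIso_backMap {R S : CochainComplex Aᵒᵖ ℤ} (φ : R ⟶ S) [QuasiIso φ] :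
    QuasiIso (backMap φ) := by
  have : QuasiIso (HomologicalComplex.restrictionMap φ ComplexShape.embeddingDownIntUpInt) :=
    ⟨fun j => LeftRes.quasiIsoAt_restriction ComplexShape.embeddingDownIntUpInt φ (j + 1) j (j - 1)
      (by simp) (by simp) (by simp; omega) (by simp; omega) inferInstance⟩
  infer_instance

/-- The complex in `Aᵒᵖ` attached to a complex in `A`. -/
noncomputable abbrev fwd (K : CochainComplex A ℤ) : CochainComplex Aᵒᵖ ℤ :=
  (CochainComplex.opEquivalence A).functor.obj (op K)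

/-- Going forth and back. -/
noncomputable def backFwd (K : CochainComplex A ℤ) : back (fwd K) ≅ K :=
  HomologicalComplex.Hom.isoOfComponents (fun i => K.XIsoOfEq (neg_neg i)) (fun i j h => by
    simp [back, fwd, CochainComplex.opEquivalence, ChainComplex.cochainComplexEquivalence])

lemma backFwd_naturality {K L : CochainComplex A ℤ} (f : K ⟶ L) :
    backMap ((CochainComplex.opEquivalence A).functor.map f.op) ≫ (backFwd L).hom =
      (backFwd K).hom ≫ f := by
  ext i
  simp [backFwd, back, backMap, fwd, CochainComplex.opEquivalence,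
    ChainComplex.cochainComplexEquivalence]
  have : ∀ (j k : ℤ) (h : j = k), f.f j ≫ (L.XIsoOfEq h).hom = (K.XIsoOfEq h).hom ≫ f.f k := by
    rintro j _ rfl; simp
  exact this _ _ _

/-- Resolving a map to a complex with terms in `I`. -/
lemma exists_ext (I : ObjectProperty A) [I.IsClosedUnderIsomorphisms]
    (h0 : ∃ Z : A, IsZero Z ∧ I Z) (hprod : ∀ X Y : A, I X → I Y → I (X ⊞ Y))
    (hI : ∀ X : A, ∃ (Y : A) (ι : X ⟶ Y), I Y ∧ Mono ι)
    {L Q : CochainComplex A ℤ} (f : L ⟶ Q) (hQ : ∀ i, I (Q.X i)) (a : ℤ)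
    [Q.IsStrictlyGE a] [L.IsStrictlyGE a] :
    ∃ (R : CochainComplex A ℤ) (π : L ⟶ R) (p : R ⟶ Q),
      π ≫ p = f ∧ QuasiIso π ∧ (∀ i, Mono (π.f i)) ∧ R.IsStrictlyGE (a - 1) ∧ (∀ i, I (R.X i)) ∧
      ∀ i, (∃ s : Q.X i ⟶ R.X i, s ≫ p.f i = 𝟙 _) ∧ I (kernel (p.f i)) := by
  let P : ObjectProperty Aᵒᵖ := fun X => I X.unop
  have : P.IsClosedUnderIsomorphisms := ⟨fun e h => I.prop_of_iso e.unop.symm h⟩
  have hE : LeftRes.Enough P := by
    obtain ⟨Z, hZ, hIZ⟩ := h0
    refine ⟨⟨op Z, hZ.op, hIZ⟩, fun X Y hX hY => ?_, fun X => ?_⟩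
    · let S := (ShortComplex.Splitting.ofHasBinaryBiproduct X Y).unop
      exact I.prop_of_iso S.isoBinaryBiproduct.symm (hprod _ _ hY hX)
    · obtain ⟨Y, ι, hY, hι⟩ := hI X.unop
      exact ⟨op Y, ι.op, hY, inferInstance⟩
  have hfwd : ∀ (K : CochainComplex A ℤ), K.IsStrictlyGE a → (fwd K).IsStrictlyLE (-a) := by
    intro K _
    rw [CochainComplex.isStrictlyLE_iff]
    intro i hi
    exact (K.isZero_of_isStrictlyGE a (-i) (by omega)).op
  have := hfwd L inferInstance
  have := hfwd Q inferInstance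
  obtain ⟨R, ι, π, hι, hπ, hπe, hR, hRI, hι'⟩ := LeftRes.exists_ext P hE
    ((CochainComplex.opEquivalence A).functor.map f.op : fwd Q ⟶ fwd L) (fun i => hQ (-i)) (-a)
  refine ⟨back R, (backFwd L).inv ≫ backMap π, backMap ι ≫ (backFwd Q).hom, ?_, ?_, fun i => ?_,
    ?_, fun i => hRI (-i), fun i => ?_⟩
  · have hb : backMap π ≫ backMap ι = backMap ((CochainComplex.opEquivalence A).functor.map f.op) := by
      rw [← hι]
      ext i
      simp [backMap, back]
    rw [Category.assoc, reassoc_of% hb, backFwd_naturality, Iso.inv_hom_id_assoc]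
  · have := quasiIso_backMap π
    infer_instance
  · have := hπe (-i)
    have hm : Mono ((backMap π).f i) := inferInstanceAs (Mono (π.f (-i)).unop)
    rw [HomologicalComplex.comp_f]
    exact mono_comp' inferInstance hm
  · rw [CochainComplex.isStrictlyGE_iff]
    intro i hi
    exact (R.isZero_of_isStrictlyLE (-a + 1) (-i) (by omega)).unop
  · obtain ⟨⟨r, hr⟩, hI'⟩ := hι' (-i)
    have hr' : r.unop ≫ (ι.f (-i)).unop = 𝟙 _ := by rw [← unop_comp, hr]; rfl
    refine ⟨⟨(backFwd Q).inv.f i ≫ r.unop, ?_⟩, ?_⟩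
    · rw [HomologicalComplex.comp_f, Category.assoc]
      refine Eq.trans (congrArg _ ((Category.assoc _ _ _).symm.trans
        (congrArg (· ≫ (backFwd Q).hom.f i) hr'))) ?_
      exact (congrArg ((backFwd Q).inv.f i ≫ ·) (Category.id_comp ((backFwd Q).hom.f i))).trans
        (HomologicalComplex.congr_hom (backFwd Q).inv_hom_id i)
    · exact I.prop_of_iso
        ((kernelUnopUnop (ι.f (-i))).symm ≪≫
          (kernelCompMono (ι.f (-i)).unop ((backFwd Q).hom.f i)).symm) hI'

end Groth.Agent.PerfGen7.RightExt
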