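import Groth.Agent.PerfGen7.LBaseRHom
import Groth.Agent.KFlatLib.Ring.DualizingFibreRows
import Groth.Agent.S13888
import Groth.Prelude.Def_DualSh

/-!
# The shriek is dual to base change
-/

set_option linter.style.haveILetI false
set_option backward.isDefEq.respectTransparency false

universe u

open CategoryTheory CategoryTheory.Limits MonoidalCategory

attribute [local instance] HasDerivedCategory.standard

namespace Groth.Agent.PerfGen7

open Groth.Agent.KFlatLib

variable {A B : Type u} [CommRing A] [CommRing B]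

/-- Derived hom commutes with shifts of the target. -/
lemma nonempty_RHomR_shift [DTen.HasLTen A] [DTen.HasRHom A] (X Y : Dual.D A) (n : ℤ) :
    Nonempty ((DTen.RHomR A X).obj (Y⟦n⟧) ≅ ((DTen.RHomR A X).obj Y)⟦n⟧) := by
  haveI := hasLTen₃ A
  haveI := isSymMonoidal A
  let U := (DTen.unit A)⟦-n⟧
  obtain ⟨e⟩ := nonempty_RHomR_unit_iso (A := A) (-n)
  haveI := Groth.Agent.S13888.result A X U Y
  haveI := Groth.Agent.S13888.result A U X Y
  exact ⟨(DTen.RHomR A X).mapIso (eqToIso (by rw [neg_neg]) ≪≫ (e.app Y).symm) ≪≫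
    (asIso (DTen.curryHom X U Y)).symm ≪≫ ((DTen.RHom A).mapIso (DTen.braiding X U).op).app Y ≪≫
    asIso (DTen.curryHom U X Y) ≪≫ e.app _ ≪≫ eqToIso (by rw [neg_neg])⟩

/-- The polynomial ring keeps dualizing complexes. -/
lemma isDualizing_LBase_mvPolynomial {ω : Dual.D A} (hω : Dual.IsDualizing A ω) (n : ℕ)
    [DTen.HasLBase (algebraMap A (MvPolynomial (Fin n) A))] :
    Dual.IsDualizing (MvPolynomial (Fin n) A)
      ((DTen.LBase (algebraMap A (MvPolynomial (Fin n) A))).obj ω) := by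
  haveI := hω.isNoetherianRing
  refine isDualizing_LBase_of_gorenstein_fibres hω ?_ fun q => LC.fibLoc_of_fiber q.asIdeal fun p _ => ?_
  · exact ringKrullDim_lt_top_of_finiteType (ringKrullDim_lt_top_of_isDualizing hω)
  · haveI := LC.gorensteinRing_of_isRegularRing p.ResidueField
    haveI := LC.gorensteinRing_mvPolynomial_fin p.ResidueField n
    exact LC.gorensteinRing_of_ringEquiv
      (MvPolynomial.algebraTensorAlgEquiv (σ := Fin n) A p.ResidueField).toRingEquiv.symm inferInstance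

/-- `φ^!` is the dual of base change. -/
theorem nonempty_shriekVia_iso_dual [Algebra A B] [IsNoetherianRing A] (n : ℕ)
    (ψ : MvPolynomial (Fin n) A →ₐ[A] B) [DRing.HasLBaseChange (algebraMap A (MvPolynomial (Fin n) A))]
    (Rψ : Dual.D (MvPolynomial (Fin n) A) ⥤ Dual.D B) (adj : DRing.restrictD ψ.toRingHom ⊣ Rψ)
    [DTen.HasLTen A] [DTen.HasRHom A] [DTen.HasLTen B] [DTen.HasRHom B] [DTen.HasLBase (algebraMap A B)]
    {ω : Dual.D A} (hω : Dual.IsDualizing A ω) {K : Dual.D A}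
    (hK : ∀ i : ℤ, Module.Finite A (Dual.HD A K i)) :
    Nonempty (Dual2.shriekVia n Rψ K ≅
      (DTen.RHomR B ((DTen.LBase (algebraMap A B)).obj ((DTen.RHomR A K).obj ω))).obj
        (Dual2.shriekVia n Rψ ω)) := by
  let ι := algebraMap A (MvPolynomial (Fin n) A)
  haveI := hasLTen (MvPolynomial (Fin n) A)
  haveI := hasRHom (A := MvPolynomial (Fin n) A)
  haveI := hasLBase ι
  haveI := hasLBase ψ.toRingHom
  obtain ⟨a, b, hab⟩ := finiteInjDim_of_isDualizing hω
  obtain ⟨a', b', hab'⟩ := finiteInjDim_of_isDualizing (isDualizing_LBase_mvPolynomial hω n)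
  let D := (DTen.RHomR A K).obj ω
  have hD := finite_hd_RHom_of_finite_hd hK hω.finite_cohomology (finiteInjDim_of_isDualizing hω)
  obtain ⟨eK⟩ := nonempty_biduality hω hK
  obtain ⟨eL⟩ := nonempty_LBaseChange_iso ι
  obtain ⟨e₁⟩ := nonempty_LBase_RHom (B := MvPolynomial (Fin n) A) hD hab hab'
  obtain ⟨e₂⟩ := nonempty_shriek_RHom ψ.toRingHom adj ((DTen.LBase ι).obj D) ((DTen.LBase ι).obj ω)
  obtain ⟨e₃⟩ := nonempty_LBase_comp ι ψ.toRingHom (algebraMap A B) ψ.comp_algebraMap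
  obtain ⟨e₄⟩ := nonempty_RHomR_shift ((DTen.LBase (algebraMap A B)).obj D)
    (Rψ.obj ((DRing.LBaseChange ι).obj ω)) (n : ℤ)
  exact ⟨(shiftFunctor (Dual.D B) (n : ℤ)).mapIso
    (Rψ.mapIso (eL.app K ≪≫ (DTen.LBase ι).mapIso eK.symm ≪≫ e₁) ≪≫ e₂ ≪≫
      ((DTen.RHom B).mapIso (e₃.app D).symm.op).app _ ≪≫
      (DTen.RHomR B _).mapIso (Rψ.mapIso (eL.app ω).symm)) ≪≫ e₄.symm⟩

end Groth.Agent.PerfGen7
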