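import Groth.Agent.PerfGen7.RankOne
import Groth.Prelude.Def_DualSh

/-!
# The shriek of the ring
-/

set_option linter.style.haveILetI false

universe u

open CategoryTheory CategoryTheory.Limits

attribute [local instance] HasDerivedCategory.standard

namespace Groth.Agent.PerfGen7

open Groth.Agent.KFlatLib

/-- `φ^!(R)` as the shifted shriek of the ring. -/
lemma nonempty_shriekVia_unit {R A : Type u} [CommRing R] [CommRing A] (n : ℕ)
    [DRing.HasLBaseChange (algebraMap R (MvPolynomial (Fin n) R))]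
    (Rψ : Dual.D (MvPolynomial (Fin n) R) ⥤ Dual.D A) :
    Nonempty (Dual2.shriekVia n Rψ (Dual.inD R R) ≅ (Rψ.obj (DTen.unit _))⟦(n : ℤ)⟧) := by
  haveI := hasLBase (algebraMap R (MvPolynomial (Fin n) R))
  obtain ⟨e⟩ := nonempty_LBaseChange_iso (algebraMap R (MvPolynomial (Fin n) R))
  obtain ⟨u⟩ := nonempty_LBase_unit (algebraMap R (MvPolynomial (Fin n) R))
  exact ⟨(shiftFunctor _ (n : ℤ)).mapIso (Rψ.mapIso
    (e.app _ ≪≫ (DTen.LBase _).mapIso (RankOne.unitIso R) ≪≫ u))⟩

end Groth.Agent.PerfGen7
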