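import Groth.Agent.PerfGen7.ExtFibre
import Groth.Agent.PerfGen7.ShriekUnit
import Groth.Agent.PerfGen7.RelDepth

/-!
# The cohomology of `φ^!(R)` as `Ext` out of the algebra, and its lower range
-/

set_option autoImplicit false
set_option linter.style.haveILetI false
set_option backward.isDefEq.respectTransparency false

universe u

open CategoryTheory CategoryTheory.Limits AlgebraicGeometry

open scoped TensorProduct

attribute [local instance] HasDerivedCategory.standard

namespace Groth.Agent.PerfGen7.ShriekExt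

open Groth.Agent.KFlatLib

variable {P B : Type u} [CommRing P] [CommRing B] (φ : P →+* B)
  {Rψ : Dual.D P ⥤ Dual.D B}

/-- Degrees below zero of the shriek of the ring vanish. -/
lemma subsingleton_hd_neg (a : DRing.restrictD φ ⊣ Rψ) (i : ℤ) (hi : i < 0) :
    Subsingleton (Dual.HD B (Rψ.obj (DTen.unit P)) i) := by
  obtain ⟨e₁⟩ := exists_homRingLEquiv (Rψ.obj (DTen.unit P)) i
  obtain ⟨e₂, -, -⟩ := exists_shriekHomEquiv φ Rψ a (Dual.inD B B) (DTen.unit P) i
  let c := (H9Misc.DRingRestrict.restrictInDIso φ (ModuleCat.of B B))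
  let d := (shiftFunctor (Dual.D P) i).mapIso (RankOne.unitIso P).symm
  haveI : Subsingleton ((DRing.restrictD φ).obj (Dual.inD B B) ⟶ (DTen.unit P)⟦i⟧) := by
    refine (Linear.homCongr P c d).toEquiv.subsingleton_congr.2 ?_
    refine subsingleton_of_forall_eq 0 fun f => ?_
    haveI : ((Dual.inD P P)⟦i⟧).IsGE (-i) :=
      DerivedCategory.TStructure.t.isGE_shift _ 0 i (-i) (by omega)
    exact DerivedCategory.TStructure.t.zero f 0 (-i) (by omega)
  haveI := e₂.subsingleton
  exact e₁.symm.toEquiv.subsingleton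

/-- The cohomology of the shriek of the ring is `Ext` out of the algebra. -/
lemma exists_hd_ext (hφ : Function.Surjective φ) (a : DRing.restrictD φ ⊣ Rψ) (j : ℕ) :
    ∃ e : Dual.HD B (Rψ.obj (DTen.unit P)) j ≃+
        Abelian.Ext (ModuleCat.of P (P ⧸ RingHom.ker φ)) (ModuleCat.of P P) j,
      ∀ (p : P) x, e (φ p • x) = p • e x := by
  obtain ⟨e₁⟩ := exists_homRingLEquiv (Rψ.obj (DTen.unit P)) (j : ℤ)
  obtain ⟨e₂, hadd, hsmul⟩ := exists_shriekHomEquiv φ Rψ a (Dual.inD B B) (DTen.unit P) (j : ℤ)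
  let q := RingHom.quotientKerEquivOfSurjective hφ
  let eM : (ModuleCat.restrictScalars φ).obj (ModuleCat.of B B) ≅ ModuleCat.of P (P ⧸ RingHom.ker φ) :=
    (LinearEquiv.toModuleIso (m₂ := ((ModuleCat.restrictScalars φ).obj (ModuleCat.of B B)).isModule)
      { toFun := fun x => q x
        invFun := fun x => q.symm x
        left_inv := fun x => q.symm_apply_apply x
        right_inv := fun x => q.apply_symm_apply x
        map_add' := fun x y => map_add q x y
        map_smul' := fun p (x : P ⧸ RingHom.ker φ) => by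
          obtain ⟨x, rfl⟩ := Ideal.Quotient.mk_surjective x
          show q (Ideal.Quotient.mk _ (p * x)) = φ p * q (Ideal.Quotient.mk _ x)
          rw [RingHom.quotientKerEquivOfSurjective_apply_mk, RingHom.quotientKerEquivOfSurjective_apply_mk,
            map_mul] }).symm
  let c := Linear.homCongr P (H9Misc.DRingRestrict.restrictInDIso φ (ModuleCat.of B B) ≪≫
    (DerivedCategory.singleFunctor (ModuleCat.{u} P) 0).mapIso eM)
    ((shiftFunctor (Dual.D P) (j : ℤ)).mapIso (RankOne.unitIso P).symm)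
  let h : Abelian.Ext (ModuleCat.of P (P ⧸ RingHom.ker φ)) (ModuleCat.of P P) j ≃ₗ[P]
      (Dual.inD P (P ⧸ RingHom.ker φ) ⟶ (Dual.inD P P)⟦(j : ℤ)⟧) :=
    Abelian.Ext.homLinearEquiv
  refine ⟨{ toEquiv := e₁.symm.toEquiv.trans (e₂.trans (c.toEquiv.trans h.symm.toEquiv)),
            map_add' := fun x y => ?_ }, fun p x => ?_⟩
  · change h.symm (c (e₂ (e₁.symm (x + y)))) = _
    rw [map_add e₁.symm, hadd, map_add c, map_add h.symm]; rfl
  · change h.symm (c (e₂ (e₁.symm (φ p • x)))) = _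
    rw [map_smul e₁.symm, hsmul, map_smul c, map_smul h.symm]; rfl

end Groth.Agent.PerfGen7.ShriekExt

namespace Groth.Agent.PerfGen7.ShriekExt

open Groth.Agent.KFlatLib

variable {R A : Type u} [CommRing R] [CommRing A] [IsNoetherianRing R] [Algebra R A] {n : ℕ}
  (ψ : MvPolynomial (Fin n) R →ₐ[R] A) (hψ : Function.Surjective ψ)
  [DRing.HasLBaseChange (algebraMap R (MvPolynomial (Fin n) R))]
  {Rψ : Dual.D (MvPolynomial (Fin n) R) ⥤ Dual.D A} (adj : DRing.restrictD ψ.toRingHom ⊣ Rψ)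

include hψ adj in
/-- At a point of fibre dimension at most `d`, `φ^!(R)` has no cohomology below `-d`. -/
theorem subsingleton_localized_hd (q : PrimeSpectrum A) (d : ℕ)
    (hd : FlatMor.fibreDimAt (Spec.map (CommRingCat.ofHom (algebraMap R A))) q ≤ (d : WithBot ℕ∞))
    (i : ℤ) (hi : i < -(d : ℤ)) :
    Subsingleton (LocalizedModule q.asIdeal.primeCompl
      (Dual.HD A (Dual2.shriekVia n Rψ (Dual.inD R R)) i)) := by
  obtain ⟨e⟩ := nonempty_shriekVia_unit n Rψ
  obtain ⟨u⟩ := exists_hdShiftLEquiv (Rψ.obj (DTen.unit (MvPolynomial (Fin n) R))) (n : ℤ) i ((n : ℤ) + i) rfl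
  let v := (((DerivedCategory.homologyFunctor (ModuleCat.{u} A) i).mapIso e).toLinearEquiv).trans u
  rcases lt_or_ge ((n : ℤ) + i) 0 with hneg | hpos
  · haveI := subsingleton_hd_neg ψ.toRingHom adj _ hneg
    haveI : Subsingleton (Dual.HD A (Dual2.shriekVia n Rψ (Dual.inD R R)) i) := v.toEquiv.subsingleton
    exact LocalizedModule.subsingleton_iff.2 fun m => ⟨1, Submonoid.one_mem _, Subsingleton.elim _ _⟩
  obtain ⟨j, hj⟩ := Int.eq_ofNat_of_zero_le hpos
  obtain ⟨u'⟩ := exists_hdShiftLEquiv (Rψ.obj (DTen.unit (MvPolynomial (Fin n) R))) (n : ℤ) i (j : ℤ) hj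
  let w := (((DerivedCategory.homologyFunctor (ModuleCat.{u} A) i).mapIso e).toLinearEquiv).trans u'
  obtain ⟨f, hf⟩ := exists_hd_ext ψ.toRingHom hψ adj j
  let g : ModuleCat.of (MvPolynomial (Fin n) R) (MvPolynomial (Fin n) R) ≅
      ModuleCat.of (MvPolynomial (Fin n) R) (MvPolynomial (Fin n) R ⊗[R] R) :=
    (TensorProduct.AlgebraTensorModule.rid R (MvPolynomial (Fin n) R) (MvPolynomial (Fin n) R)).symm.toModuleIso
  haveI := RelDepth.subsingleton_localized_ext R ψ hψ q d hd j (by omega)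
  refine LocalizedModule.subsingleton_iff.2 fun m => ?_
  obtain ⟨s, hs, hsm⟩ := LocalizedModule.subsingleton_iff.1 this
    ((f (w m)).comp (Abelian.Ext.mk₀ g.hom) (add_zero j))
  refine ⟨ψ s, hs, w.injective ?_⟩
  rw [map_smul, map_zero]
  have h0 : s • f (w m) = 0 := by
    have h1 := congrArg (fun x => x.comp (Abelian.Ext.mk₀ g.inv) (add_zero j)) hsm
    simpa [Abelian.Ext.comp_assoc_of_second_deg_zero, Abelian.Ext.mk₀_comp_mk₀] using h1
  rw [← hf] at h0
  exact f.injective (h0.trans (map_zero f).symm)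

end Groth.Agent.PerfGen7.ShriekExt

namespace Groth.Agent.PerfGen7.ShriekExt

open Groth.Agent.KFlatLib

variable {R A : Type u} [CommRing R] [CommRing A] [Algebra R A] {n : ℕ}
  (ψ : MvPolynomial (Fin n) R →ₐ[R] A)
  [DRing.HasLBaseChange (algebraMap R (MvPolynomial (Fin n) R))]
  {Rψ : Dual.D (MvPolynomial (Fin n) R) ⥤ Dual.D A}

/-- The cohomology of `φ^!(R)` in degree `j - n` is `Ext^j` out of the algebra. -/
theorem exists_shriekVia_ext (hψ : Function.Surjective ψ) (adj : DRing.restrictD ψ.toRingHom ⊣ Rψ)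
    (i : ℤ) (j : ℕ) (hj : (n : ℤ) + i = (j : ℤ)) :
    ∃ e : Dual.HD A (Dual2.shriekVia n Rψ (Dual.inD R R)) i ≃+
        Abelian.Ext (ModuleCat.of (MvPolynomial (Fin n) R) (MvPolynomial (Fin n) R ⧸ RingHom.ker ψ.toRingHom))
          (ModuleCat.of (MvPolynomial (Fin n) R) (MvPolynomial (Fin n) R)) j,
      ∀ (c : MvPolynomial (Fin n) R) x, e (ψ.toRingHom c • x) = c • e x := by
  obtain ⟨t⟩ := nonempty_shriekVia_unit n Rψ
  obtain ⟨u⟩ := exists_hdShiftLEquiv (Rψ.obj (DTen.unit (MvPolynomial (Fin n) R))) (n : ℤ) i (j : ℤ) hj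
  let w := (((DerivedCategory.homologyFunctor (ModuleCat.{u} A) i).mapIso t).toLinearEquiv).trans u
  obtain ⟨f, hf⟩ := exists_hd_ext ψ.toRingHom hψ adj j
  refine ⟨w.toAddEquiv.trans f, fun c x => ?_⟩
  show f (w (ψ.toRingHom c • x)) = c • f (w x)
  rw [map_smul, hf]

/-- Below degree `-n` there is no cohomology. -/
theorem subsingleton_shriekVia_neg (adj : DRing.restrictD ψ.toRingHom ⊣ Rψ) (i : ℤ) (hi : (n : ℤ) + i < 0) :
    Subsingleton (Dual.HD A (Dual2.shriekVia n Rψ (Dual.inD R R)) i) := by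
  obtain ⟨t⟩ := nonempty_shriekVia_unit n Rψ
  obtain ⟨u⟩ := exists_hdShiftLEquiv (Rψ.obj (DTen.unit (MvPolynomial (Fin n) R))) (n : ℤ) i ((n : ℤ) + i) rfl
  haveI := subsingleton_hd_neg ψ.toRingHom adj _ hi
  exact ((((DerivedCategory.homologyFunctor (ModuleCat.{u} A) i).mapIso t).toLinearEquiv).trans u).toEquiv.subsingleton

end Groth.Agent.PerfGen7.ShriekExt
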