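import Groth.Agent.PerfGen7.DualFinLen
import Groth.Agent.PerfGen7.LocalizeDual
import Groth.Agent.PerfGen7.DualizingUnique
import Groth.Agent.KFlatLib.Ring.DualizingShriek
import Groth.Agent.KFlatLib.Ring.RelDualizing
import Groth.Agent.LC.ExtLoc
import Groth.Agent.S1784
import Groth.Agent.S1782
import Mathlib.RingTheory.Jacobson.Ring

/-!
# Localizing `φ^!` of a normalized dualizing complex at a closed point of the closed fibre
-/

set_option linter.style.haveILetI false
set_option backward.isDefEq.respectTransparency false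

universe u

open CategoryTheory CategoryTheory.Limits IsLocalRing

open scoped TensorProduct

attribute [local instance] HasDerivedCategory.standard

namespace Groth.Agent.PerfGen7

open Groth.Agent.KFlatLib

/-- A residue field which is finite over the base has finite length. -/
lemma isFiniteLength_of_residue (R κ : Type u) [CommRing R] [IsLocalRing R] [Field κ] [Algebra R κ]
    [Algebra.FiniteType R κ] (h : maximalIdeal R ≤ RingHom.ker (algebraMap R κ)) :
    IsFiniteLength R κ ∧ Module.Finite R κ := by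
  let k := R ⧸ maximalIdeal R
  letI : Field k := Ideal.Quotient.field _
  letI : Algebra k κ := (Ideal.Quotient.lift (maximalIdeal R) (algebraMap R κ) h).toAlgebra
  haveI : IsScalarTower R k κ := IsScalarTower.of_algebraMap_eq fun r => rfl
  haveI : Algebra.FiniteType k κ := Algebra.FiniteType.of_restrictScalars_finiteType R k κ
  haveI : Module.Finite k κ := finite_of_finite_type_of_isJacobsonRing k κ
  haveI : Module.Finite R k := Module.Finite.of_surjective (Algebra.linearMap R k) Ideal.Quotient.mk_surjective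
  haveI : IsSimpleModule R k :=
    isSimpleModule_iff_quot_maximal.2 ⟨maximalIdeal R, inferInstance, ⟨LinearEquiv.refl R k⟩⟩
  refine ⟨?_, Module.Finite.trans k κ⟩
  let b := (Module.finBasis k κ).equivFun.restrictScalars R
  exact b.symm.isFiniteLength (isFiniteLength_iff_isNoetherian_isArtinian.2 ⟨inferInstance, inferInstance⟩)

variable {R A : Type u} [CommRing R] [CommRing A] [IsNoetherianRing R] [IsNoetherianRing A] [Algebra R A]
  (n : ℕ) (ψ : MvPolynomial (Fin n) R →ₐ[R] A) (hψ : Function.Surjective ψ)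
  [DRing.HasLBaseChange (algebraMap R (MvPolynomial (Fin n) R))]
  {Rψ : Dual.D (MvPolynomial (Fin n) R) ⥤ Dual.D A} (adj : DRing.restrictD ψ.toRingHom ⊣ Rψ)
  [IsLocalRing R] (m : Ideal A) [m.IsMaximal]

include hψ adj in
/-- Only one degree of maps from the residue field. -/
lemma subsingleton_hom_residue (hm : m.comap (algebraMap R A) = maximalIdeal R) (ω : Dual.D R)
    (hn : Dual.IsNormalized R ω) (i : ℤ) (hi : i ≠ 0) :
    Subsingleton (Dual.inD A (A ⧸ m) ⟶ (Dual2.shriekVia n Rψ ω)⟦i⟧) := by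
  let P := MvPolynomial (Fin n) R
  let κ := A ⧸ m
  letI : Field κ := Ideal.Quotient.field m
  haveI : Algebra.FiniteType R A := Algebra.FiniteType.of_surjective ψ hψ
  haveI : Algebra.FiniteType R κ :=
    Algebra.FiniteType.of_surjective (Ideal.Quotient.mkₐ R m) Ideal.Quotient.mk_surjective
  have hker : maximalIdeal R ≤ RingHom.ker (algebraMap R κ) := fun r hr => by
    rw [RingHom.mem_ker, IsScalarTower.algebraMap_apply R A κ, Ideal.Quotient.algebraMap_eq,
      Ideal.Quotient.eq_zero_iff_mem]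
    exact hm.ge hr
  obtain ⟨hlen, hfin⟩ := isFiniteLength_of_residue R κ hker
  haveI := hfin
  let χ : P →ₐ[R] κ := (Ideal.Quotient.mkₐ R m).comp ψ
  have hχ : Function.Surjective χ := Ideal.Quotient.mk_surjective.comp hψ
  obtain ⟨Rχ, ⟨aχ⟩⟩ := exists_shriek χ.toRingHom
  obtain ⟨Rφ, ⟨aφ⟩⟩ := exists_shriek (algebraMap R κ)
  obtain ⟨t⟩ := Groth.Agent.S1784.result R κ n χ hχ Rχ aχ Rφ aφ ω
  let Y := (DRing.LBaseChange (algebraMap R P)).obj ω
  let eA : (ModuleCat.restrictScalars (algebraMap R κ)).obj (ModuleCat.of κ κ) ≅ ModuleCat.of R κ :=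
    LinearEquiv.toModuleIso (m₁ := ((ModuleCat.restrictScalars (algebraMap R κ)).obj (ModuleCat.of κ κ)).isModule)
      { toFun := fun x => x
        invFun := fun x => x
        left_inv := fun _ => rfl
        right_inv := fun _ => rfl
        map_add' := fun _ _ => rfl
        map_smul' := fun p (x : κ) => (Algebra.smul_def p x).symm }
  have h₁ : Subsingleton ((DRing.restrictD (algebraMap R κ)).obj (Dual.inD κ κ) ⟶ ω⟦i⟧) := by
    refine (Iso.homCongr (H9Misc.DRingRestrict.restrictInDIso (algebraMap R κ) (ModuleCat.of κ κ) ≪≫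
      (DerivedCategory.singleFunctor (ModuleCat.{u} R) 0).mapIso eA) (Iso.refl _)).subsingleton_congr.2 ?_
    exact DualFinLen.subsingleton_hom_finiteLength hn κ hlen i hi
  obtain ⟨e₁, -, -⟩ := exists_shriekHomEquiv (algebraMap R κ) Rφ aφ (Dual.inD κ κ) ω i
  have h₂ : Subsingleton (Dual.inD κ κ ⟶ ((Rχ.obj Y)⟦(n : ℤ)⟧)⟦i⟧) :=
    ((Iso.homCongr (Iso.refl _) ((shiftFunctor (Dual.D κ) i).mapIso t)).subsingleton_congr.2 e₁.subsingleton)
  have h₃ : Subsingleton ((DRing.restrictD χ.toRingHom).obj (Dual.inD κ κ) ⟶ Y⟦(n : ℤ) + i⟧) := by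
    obtain ⟨e₂, -, -⟩ := exists_shriekHomEquiv χ.toRingHom Rχ aχ (Dual.inD κ κ) Y ((n : ℤ) + i)
    exact e₂.subsingleton_congr.1
      ((Iso.homCongr (Iso.refl _) ((shiftFunctorAdd' (Dual.D κ) (n : ℤ) i _ rfl).app _)).subsingleton_congr.2 h₂)
  let eP : (ModuleCat.restrictScalars ψ.toRingHom).obj (ModuleCat.of A (A ⧸ m)) ≅
      (ModuleCat.restrictScalars χ.toRingHom).obj (ModuleCat.of κ κ) :=
    LinearEquiv.toModuleIso
      (m₁ := ((ModuleCat.restrictScalars ψ.toRingHom).obj (ModuleCat.of A (A ⧸ m))).isModule)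
      (m₂ := ((ModuleCat.restrictScalars χ.toRingHom).obj (ModuleCat.of κ κ)).isModule)
      { toFun := fun x => x
        invFun := fun x => x
        left_inv := fun _ => rfl
        right_inv := fun _ => rfl
        map_add' := fun _ _ => rfl
        map_smul' := fun p (x : κ) => Algebra.smul_def (R := A) (ψ p) x }
  let c := H9Misc.DRingRestrict.restrictInDIso ψ.toRingHom (ModuleCat.of A (A ⧸ m)) ≪≫
    (DerivedCategory.singleFunctor (ModuleCat.{u} P) 0).mapIso eP ≪≫
    (H9Misc.DRingRestrict.restrictInDIso χ.toRingHom (ModuleCat.of κ κ)).symm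
  obtain ⟨e₃, -, -⟩ := exists_shriekHomEquiv ψ.toRingHom Rψ adj (Dual.inD A (A ⧸ m)) Y ((n : ℤ) + i)
  have h₄ : Subsingleton ((DRing.restrictD ψ.toRingHom).obj (Dual.inD A (A ⧸ m)) ⟶ Y⟦(n : ℤ) + i⟧) :=
    (Iso.homCongr c (Iso.refl _)).subsingleton_congr.2 h₃
  exact (Iso.homCongr (Iso.refl _) ((shiftFunctorAdd' (Dual.D A) (n : ℤ) i _ rfl).app (Rψ.obj Y))).subsingleton_congr.1
    e₃.subsingleton

include hψ adj in
/-- The localization is a normalized dualizing complex. -/
theorem isNormalized_shriekVia_atPrime (hm : m.comap (algebraMap R A) = maximalIdeal R) (ω : Dual.D R)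
    (hω : Dual.IsDualizing R ω) (hn : Dual.IsNormalized R ω)
    [DRing.HasLBaseChange (algebraMap A (Localization.AtPrime m))] :
    Dual.IsDualizing (Localization.AtPrime m)
        ((DRing.LBaseChange (algebraMap A (Localization.AtPrime m))).obj (Dual2.shriekVia n Rψ ω)) ∧
      Dual.IsNormalized (Localization.AtPrime m)
        ((DRing.LBaseChange (algebraMap A (Localization.AtPrime m))).obj (Dual2.shriekVia n Rψ ω)) := by
  let B := Localization.AtPrime m
  let W := Dual2.shriekVia n Rψ ω
  have hW : Dual.IsDualizing A W := Groth.Agent.S1782.result R A n ψ hψ Rψ adj ω hω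
  haveI := hasLTen A
  haveI := hasRHom (A := A)
  haveI := hasLTen B
  haveI := hasRHom (A := B)
  haveI := hasLBase (algebraMap A B)
  haveI : Module.Flat A B := IsLocalization.flat B m.primeCompl
  haveI : IsNoetherianRing B := IsLocalization.isNoetherianRing m.primeCompl B inferInstance
  obtain ⟨eB⟩ := nonempty_LBaseChange_iso (algebraMap A B)
  refine ⟨isDualizing_of_iso (eB.app W).symm (isDualizing_LBase (B := B) hW fun q hq =>
    ⟨m, by rw [IsLocalRing.eq_maximalIdeal hq, Localization.AtPrime.map_eq_maximalIdeal]⟩), fun i hi => ?_⟩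
  obtain ⟨a, b, -, _, _⟩ := exists_bounds_of_isDualizing hW
  obtain ⟨e⟩ := exists_homBaseChangeLEquiv (B := B) (X := Dual.inD A (A ⧸ m)) (Y := W)
    ((Groth.Agent.S6942.result A 0 (Dual.inD A (A ⧸ m)) (A ⧸ m)).2.2 inferInstance) a i
  haveI := subsingleton_hom_residue n ψ hψ adj m hm ω hn i hi
  haveI : Subsingleton (B ⊗[A] (Dual.inD A (A ⧸ m) ⟶ W⟦i⟧)) := inferInstance
  have h := e.toEquiv.subsingleton
  obtain ⟨l⟩ := LocalizeDual.nonempty_LBase_inD m (A ⧸ m)
  obtain ⟨q⟩ := LC.exists_locQuot m.primeCompl m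
  let r := (q.trans (Submodule.quotEquivOfEq _ _ Localization.AtPrime.map_eq_maximalIdeal)).toModuleIso
  exact (Iso.homCongr (l ≪≫ (DerivedCategory.singleFunctor (ModuleCat.{u} B) 0).mapIso r)
    ((shiftFunctor (Dual.D B) i).mapIso (eB.app W).symm)).subsingleton_congr.1 h

end Groth.Agent.PerfGen7
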