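import Groth.Agent.PerfGen7.ShriekExt
import Groth.Agent.PerfGen7.ExtS2
import Groth.Agent.FibDim.Basic
import Groth.Agent.FibDim.Minimal
import Groth.Agent.CMClosed.Basic
import Groth.Prelude.Def_Dual3

/-!
# The relative dualizing complex over a Cohen–Macaulay point
-/

set_option autoImplicit false
set_option linter.style.haveILetI false
set_option backward.isDefEq.respectTransparency false

universe u

open CategoryTheory CategoryTheory.Limits AlgebraicGeometry IsLocalRing

open scoped TensorProduct

attribute [local instance] HasDerivedCategory.standard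

namespace Groth.Agent.PerfGen7.ShriekSerre

open FibDim (fib)

variable {R : Type u} [CommRing R] [IsNoetherianRing R] {n : ℕ}

/-- Localizations of a Cohen–Macaulay point, read on the ring. -/
lemma isCM_generization (p : Ideal R) [p.IsPrime] [LocCoh.IsCohenMacaulayLocalRing (Localization.AtPrime p)]
    (q : Ideal R) [q.IsPrime] (hqp : q ≤ p) :
    LocCoh.IsCohenMacaulayModule (Localization.AtPrime q) (LocalizedModule q.primeCompl R) := by
  let S := p.primeCompl
  let L := Localization.AtPrime p
  have hdis : Disjoint (S : Set R) (q : Set R) := Set.disjoint_left.2 fun a ha hb => ha (hqp hb)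
  haveI hQ : (q.map (algebraMap R L)).IsPrime := IsLocalization.isPrime_of_isPrime_disjoint S L q ‹_› hdis
  haveI : Module.Finite L (LocalizedModule S R) :=
    Module.Finite.of_isLocalizedModule S (LocalizedModule.mkLinearMap S R)
  have hM : LocCoh.IsCohenMacaulayModule L (LocalizedModule S R) := by
    have h : LocCoh.IsCohenMacaulayModule L L := LocCoh.IsCohenMacaulayLocalRing.supportDim_eq_depth
    show Module.supportDim L (LocalizedModule S R) = _
    rw [Module.supportDim_eq_of_equiv (LC.selfLoc S),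
      show LocCoh.depth L (LocalizedModule S R) = LocCoh.depth L L from
        LC.idealDepth_congr _ (LC.selfLoc S)]
    exact h
  have hsupp : (⟨q.map (algebraMap R L), hQ⟩ : PrimeSpectrum L) ∈ Module.support L (LocalizedModule S R) := by
    rw [(LC.selfLoc S).support_eq, Module.mem_support_iff']
    exact ⟨1, fun r hr h0 => hr (by rw [smul_eq_mul, mul_one] at h0; rw [h0]; exact zero_mem _)⟩
  have h := LC.isCM_localized _ hM hsupp
  unfold LocCoh.IsCohenMacaulayModule at h ⊢
  rw [Alg6.depth_locLoc, Alg6.supportDim_locLoc] at h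
  have key : ∀ (q' : Ideal R) [q'.IsPrime], q' = q →
      Module.supportDim (Localization.AtPrime q') (LocalizedModule q'.primeCompl R) =
        ((LocCoh.depth (Localization.AtPrime q') (LocalizedModule q'.primeCompl R) : ℕ∞) : WithBot ℕ∞) →
      Module.supportDim (Localization.AtPrime q) (LocalizedModule q.primeCompl R) =
        ((LocCoh.depth (Localization.AtPrime q) (LocalizedModule q.primeCompl R) : ℕ∞) : WithBot ℕ∞) := by
    intro q' _ e' h'; subst e'; exact h'
  exact key _ (IsLocalization.under_map_of_isPrime_disjoint S L ‹_› hdis) h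

/-- Affine space over a Cohen–Macaulay point is Cohen–Macaulay. -/
lemma isCM_poly (p : Ideal R) [p.IsPrime] [LocCoh.IsCohenMacaulayLocalRing (Localization.AtPrime p)]
    (Q : Ideal (MvPolynomial (Fin n) R)) [Q.IsPrime]
    (hQ : Q.comap (algebraMap R (MvPolynomial (Fin n) R)) ≤ p) :
    LocCoh.IsCohenMacaulayModule (Localization.AtPrime Q) (Localization.AtPrime Q) := by
  let P := MvPolynomial (Fin n) R
  let p' := Q.comap (algebraMap R P)
  have hf := FlatLoc6.formulas_atPrime (A := R) P R p' Q rfl
    (Module.mem_support_iff'.2 ⟨1, fun r hr h0 => hr (by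
      rw [smul_eq_mul, mul_one] at h0; rw [h0]; exact Q.zero_mem)⟩)
    (Module.mem_support_iff'.2 ⟨1, fun r hr h0 => hr (by
      rw [smul_eq_mul, mul_one] at h0; rw [h0]; exact p'.zero_mem)⟩)
  haveI := FlatLoc6.isLocalRing_fibLocRing (A := R) Q
  haveI := Codepth5.isRegularLocalRing_fibLocRing (R := R) (⟨Q, ‹_›⟩ : PrimeSpectrum P)
  haveI := LC.gorenstein_of_isRegularLocalRing (R := EGA4.FibLocRing R P Q)
  obtain ⟨e, he, hδ, -⟩ := LC.gorenstein_basic (R := EGA4.FibLocRing R P Q)
  rw [FlatLoc6.fibDepth_self, hδ, FlatLoc6.fibDim_self, he] at hf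
  let l : LocalizedModule Q.primeCompl (P ⊗[R] R) ≃ₗ[Localization.AtPrime Q] Localization.AtPrime Q :=
    (IsLocalizedModule.mapEquiv Q.primeCompl (LocalizedModule.mkLinearMap _ _)
      (LocalizedModule.mkLinearMap _ _) (Localization.AtPrime Q)
      (TensorProduct.AlgebraTensorModule.rid R P P)).trans (LC.selfLoc Q.primeCompl)
  obtain ⟨h1, h2⟩ := hf
  rw [FlatLoc6.depth_congr' l] at h1
  rw [Module.supportDim_eq_of_equiv l, isCM_generization p p' hQ] at h2
  show Module.supportDim _ _ = _
  rw [h2, h1]
  push_cast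
  rfl

/-- In affine space over a Cohen–Macaulay point the fibre codimension bounds the depth. -/
lemma sub_le_depth_poly (p : Ideal R) [p.IsPrime] [LocCoh.IsCohenMacaulayLocalRing (Localization.AtPrime p)]
    (Q : PrimeSpectrum (MvPolynomial (Fin n) R))
    (hQ : Q.asIdeal.comap (algebraMap R (MvPolynomial (Fin n) R)) ≤ p) (r : ℕ)
    (Q₀ : PrimeSpectrum (MvPolynomial (Fin n) R)) (h₀ : Q₀ ≤ Q)
    (hr : Order.coheight (⟨Q₀, rfl⟩ : ↥(fib (B := MvPolynomial (Fin n) R)
      (PrimeSpectrum.comap (algebraMap R (MvPolynomial (Fin n) R)) Q₀))) ≤ r) :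
    ((n - r : ℕ) : ℕ∞) ≤ LocCoh.depth (Localization.AtPrime Q.asIdeal)
      (LocalizedModule Q.asIdeal.primeCompl (MvPolynomial (Fin n) R)) := by
  let P := MvPolynomial (Fin n) R
  have hCM := isCM_poly p Q.asIdeal hQ
  rw [FlatLoc6.depth_congr' (LC.selfLoc Q.asIdeal.primeCompl)]
  have hdim : ((Q.asIdeal.height : ℕ∞) : WithBot ℕ∞) =
      ((LocCoh.depth (Localization.AtPrime Q.asIdeal) (Localization.AtPrime Q.asIdeal) : ℕ∞) : WithBot ℕ∞) := by
    rw [← IsLocalization.AtPrime.ringKrullDim_eq_height Q.asIdeal (Localization.AtPrime Q.asIdeal),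
      ← Module.supportDim_self_eq_ringKrullDim]
    exact hCM
  rw [← WithBot.coe_inj.1 hdim, PrimeSpectrum.height_eq_orderHeight]
  refine le_trans ?_ (Order.height_mono h₀)
  let t : ↥(fib (B := P) (PrimeSpectrum.comap (algebraMap R P) Q₀)) := ⟨Q₀, rfl⟩
  refine le_trans ?_ (Order.height_le_height_apply_of_strictMono Subtype.val (fun _ _ h => h) t)
  have h2 := Codepth5.height_add_coheight_fib (R := R) (N := n) _ t
  rcases eq_or_ne (Order.height t) ⊤ with h | h
  · rw [h]; exact le_top
  lift Order.height t to ℕ using h with e he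
  have h3 : (n : ℕ∞) ≤ ((e + r : ℕ) : ℕ∞) := by
    rw [← h2, Nat.cast_add]; exact add_le_add le_rfl hr
  exact Nat.cast_le.2 (by have := Nat.cast_le.1 h3; omega)

variable {A : Type u} [CommRing A] [Algebra R A] (ψ : MvPolynomial (Fin n) R →ₐ[R] A)
  (hψ : Function.Surjective ψ)

include hψ in
/-- The depth of the ideal of `A` near a point over a Cohen–Macaulay point. -/
lemma sub_le_idealDepth (p : Ideal R) [p.IsPrime] [LocCoh.IsCohenMacaulayLocalRing (Localization.AtPrime p)]
    (r : ℕ) (hr : ∀ q : PrimeSpectrum A, q.asIdeal ∈ minimalPrimes A →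
      Dual3.resTrdeg (Spec.map (CommRingCat.ofHom (algebraMap R A))) q ≤ (r : Cardinal.{u}))
    (q : PrimeSpectrum A) (hq : q.asIdeal.comap (algebraMap R A) ≤ p) :
    ((n - r : ℕ) : ℕ∞) ≤ LocCoh.idealDepth
      ((RingHom.ker ψ.toRingHom).map (algebraMap (MvPolynomial (Fin n) R)
        (Localization (q.asIdeal.comap ψ.toRingHom).primeCompl)))
      (LocalizedModule (q.asIdeal.comap ψ.toRingHom).primeCompl (MvPolynomial (Fin n) R)) := by
  let P := MvPolynomial (Fin n) R
  let S := (q.asIdeal.comap ψ.toRingHom).primeCompl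
  let f := Spec.map (CommRingCat.ofHom (algebraMap R A))
  haveI : Algebra.FiniteType R A := Algebra.FiniteType.of_surjective ψ hψ
  haveI : LocallyOfFiniteType f := HasRingHomProperty.Spec_iff.mpr (RingHom.finiteType_algebraMap.mpr inferInstance)
  haveI : Module.Finite (Localization S) (LocalizedModule S P) :=
    Module.Finite.of_isLocalizedModule S (LocalizedModule.mkLinearMap S P)
  haveI : IsNoetherianRing (Localization S) := IsLocalization.isNoetherianRing S _ inferInstance
  rw [LC.idealDepth_eq_iInf_depth]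
  refine le_iInf₂ fun Q' hQ' => ?_
  rw [Alg6.depth_locLoc]
  let Q : PrimeSpectrum P := PrimeSpectrum.comap (algebraMap P (Localization S)) Q'
  have hQI : RingHom.ker ψ.toRingHom ≤ Q.asIdeal := Ideal.map_le_iff_le_comap.1 hQ'
  have hQq : Q.asIdeal ≤ q.asIdeal.comap ψ.toRingHom := fun x hx => by
    by_contra hx'
    exact Q'.isPrime.ne_top (Ideal.eq_top_of_isUnit_mem _ hx
      (IsLocalization.map_units (Localization S) (⟨x, hx'⟩ : S)))
  obtain ⟨q₁, hq₁⟩ : Q ∈ Set.range (PrimeSpectrum.comap ψ.toRingHom) := by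
    rw [_root_.range_comap_of_surjective _ _ hψ]; exact hQI
  haveI := q₁.isPrime
  obtain ⟨m, hm, hm'⟩ := Ideal.exists_minimalPrimes_le (I := (⊥ : Ideal A)) (J := q₁.asIdeal) bot_le
  let q₀ : PrimeSpectrum A := ⟨m, hm.1.1⟩
  have hmax : FibDim.FibMax f q₀ := FibDim.fibMax_of_maximal f fun z hz => by
    refine PrimeSpectrum.ext (le_antisymm ((PrimeSpectrum.le_iff_specializes z q₀).2 hz) ?_)
    exact hm.2 ⟨z.isPrime, bot_le⟩ ((PrimeSpectrum.le_iff_specializes z q₀).2 hz)
  have hd : FlatMor.fibreDimAt f q₀ ≤ (r : WithBot ℕ∞) := by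
    rw [FibDim.fibreDimAt_eq_rd f hmax]
    have h := hr q₀ hm
    have h2 : ((FibDim.rd f q₀ : ℕ) : Cardinal.{u}) ≤ (r : Cardinal.{u}) := by
      rw [FibDim.rd_eq_rdeg f q₀]; exact h
    have h3 : FibDim.rd f q₀ ≤ r := by exact_mod_cast h2
    exact_mod_cast h3
  refine sub_le_depth_poly p Q (fun a ha => hq ?_) r (PrimeSpectrum.comap ψ.toRingHom q₀) ?_
    (RelDepth.coheight_le ψ hψ q₀ r hd _ le_rfl fun x hx => ?_)
  · have := hQq ha
    show algebraMap R A a ∈ q.asIdeal
    rwa [Ideal.mem_comap, AlgHom.toRingHom_eq_coe, RingHom.coe_coe, AlgHom.commutes] at this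
  · rw [← hq₁]; exact Ideal.comap_mono hm'
  · show ψ.toRingHom x ∈ m
    rw [RingHom.mem_ker.1 hx]; exact zero_mem _

/-- The localized quotient. -/
lemma exists_extLoc_ker (q : PrimeSpectrum A) (j : ℕ) :
    Nonempty (LocalizedModule (q.asIdeal.comap ψ.toRingHom).primeCompl
      (Abelian.Ext (ModuleCat.of (MvPolynomial (Fin n) R) (MvPolynomial (Fin n) R ⧸ RingHom.ker ψ.toRingHom))
        (ModuleCat.of (MvPolynomial (Fin n) R) (MvPolynomial (Fin n) R)) j) ≃ₗ[Localization
          (q.asIdeal.comap ψ.toRingHom).primeCompl]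
      Abelian.Ext
        (ModuleCat.of (Localization (q.asIdeal.comap ψ.toRingHom).primeCompl)
          (Localization (q.asIdeal.comap ψ.toRingHom).primeCompl ⧸ (RingHom.ker ψ.toRingHom).map
            (algebraMap (MvPolynomial (Fin n) R) (Localization (q.asIdeal.comap ψ.toRingHom).primeCompl))))
        (ModuleCat.of (Localization (q.asIdeal.comap ψ.toRingHom).primeCompl)
          (Localization (q.asIdeal.comap ψ.toRingHom).primeCompl)) j) := by
  obtain ⟨e⟩ := LC.exists_extLoc (q.asIdeal.comap ψ.toRingHom).primeCompl (MvPolynomial (Fin n) R) j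
    (MvPolynomial (Fin n) R ⧸ RingHom.ker ψ.toRingHom)
  obtain ⟨l⟩ := LC.exists_locQuot (q.asIdeal.comap ψ.toRingHom).primeCompl (RingHom.ker ψ.toRingHom)
  let a := l.toModuleIso
  let b := (LC.selfLoc (R := MvPolynomial (Fin n) R) (q.asIdeal.comap ψ.toRingHom).primeCompl).toModuleIso
  exact ⟨e.trans
    { toFun := fun x => ((Abelian.Ext.mk₀ a.inv).comp x (zero_add j)).comp (Abelian.Ext.mk₀ b.hom) (add_zero j)
      invFun := fun x => ((Abelian.Ext.mk₀ a.hom).comp x (zero_add j)).comp (Abelian.Ext.mk₀ b.inv) (add_zero j)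
      map_add' := fun x y => by simp
      map_smul' := fun c x => by simp [Abelian.Ext.comp_smul, Abelian.Ext.smul_comp]
      left_inv := fun x => by
        simp [Abelian.Ext.comp_assoc_of_second_deg_zero, Abelian.Ext.mk₀_comp_mk₀_assoc]
      right_inv := fun x => by
        simp [Abelian.Ext.comp_assoc_of_second_deg_zero, Abelian.Ext.mk₀_comp_mk₀_assoc] }⟩

include hψ in
/-- Comparing the localizations of semilinearly isomorphic modules. -/
lemma semilinear_loc (H N : Type u) [AddCommGroup H] [Module A H] [AddCommGroup N]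
    [Module (MvPolynomial (Fin n) R) N] (e : H ≃+ N) (he : ∀ c x, e (ψ.toRingHom c • x) = c • e x)
    (q : Ideal A) [q.IsPrime] :
    Module.supportDim (Localization.AtPrime q) (LocalizedModule q.primeCompl H) =
        Module.supportDim (Localization.AtPrime (q.comap ψ.toRingHom))
          (LocalizedModule (q.comap ψ.toRingHom).primeCompl N) ∧
      LocCoh.depth (Localization.AtPrime q) (LocalizedModule q.primeCompl H) =
        LocCoh.depth (Localization.AtPrime (q.comap ψ.toRingHom))
          (LocalizedModule (q.comap ψ.toRingHom).primeCompl N) := by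
  letI : Algebra (MvPolynomial (Fin n) R) A := ψ.toRingHom.toAlgebra
  letI : Module (MvPolynomial (Fin n) R) H := Module.compHom H ψ.toRingHom
  haveI : IsScalarTower (MvPolynomial (Fin n) R) A H :=
    IsScalarTower.of_algebraMap_smul fun _ _ => rfl
  let Q := q.comap (algebraMap (MvPolynomial (Fin n) R) A)
  have := LC.isLocalizedModule_comap (M := H) (S := MvPolynomial (Fin n) R) hψ q
  let f := (LocalizedModule.mkLinearMap q.primeCompl H).restrictScalars (MvPolynomial (Fin n) R)
  let i := IsLocalizedModule.iso Q.primeCompl f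
  let σ := Localization.localRingHom Q q (algebraMap (MvPolynomial (Fin n) R) A) rfl
  have hσ : Function.Surjective σ := RingHom.surjective_localRingHom_of_surjective _ hψ q
  have hi : ∀ z x, i (z • x) = σ z • i x := fun z x => by
    obtain ⟨⟨a, t⟩, hat⟩ := IsLocalization.surj Q.primeCompl z
    have hu : IsUnit (algebraMap A (Localization.AtPrime q) (algebraMap (MvPolynomial (Fin n) R) A t)) :=
      IsLocalization.map_units (Localization.AtPrime q) (⟨algebraMap (MvPolynomial (Fin n) R) A (t : MvPolynomial (Fin n) R), t.2⟩ : q.primeCompl)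
    refine hu.smul_left_cancel.1 ?_
    have h1 : algebraMap A (Localization.AtPrime q) (algebraMap (MvPolynomial (Fin n) R) A t) * σ z =
        algebraMap A (Localization.AtPrime q) (algebraMap (MvPolynomial (Fin n) R) A a) := by
      rw [← Localization.localRingHom_to_map Q q (algebraMap _ A) rfl a,
        ← Localization.localRingHom_to_map Q q (algebraMap _ A) rfl (t : MvPolynomial (Fin n) R),
        ← map_mul, mul_comm _ z, hat]
    have h2 : (t : MvPolynomial (Fin n) R) • z • x = a • x := by
      rw [← algebraMap_smul (Localization.AtPrime Q) (t : MvPolynomial (Fin n) R) (z • x), smul_smul, mul_comm]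
      exact (congrArg (fun c => c • x) hat).trans (algebraMap_smul _ a x)
    rw [smul_smul, h1, algebraMap_smul, algebraMap_smul, algebraMap_smul, algebraMap_smul]
    show (t : MvPolynomial (Fin n) R) • i (z • x) = a • i x
    rw [← map_smul, h2, map_smul]
  let g : H ≃ₗ[MvPolynomial (Fin n) R] N := { e with map_smul' := he }
  let g' : LocalizedModule Q.primeCompl H ≃ₗ[Localization.AtPrime Q] LocalizedModule Q.primeCompl N :=
    IsLocalizedModule.mapEquiv Q.primeCompl (LocalizedModule.mkLinearMap Q.primeCompl H)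
      (LocalizedModule.mkLinearMap Q.primeCompl N) (Localization.AtPrime Q) g
  exact ⟨((Module.supportDim_eq_of_equiv g').symm.trans
      (Alg6.supportDim_eq_of_semilinear σ hσ i.toAddEquiv hi)).symm,
    ((FlatLoc6.depth_congr' g').symm.trans (Alg6.depth_eq_of_semilinear σ hσ i.toAddEquiv hi)).symm⟩

end Groth.Agent.PerfGen7.ShriekSerre
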