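import Groth.Agent.PerfGen7.ShriekExt
import Groth.Agent.PerfGen7.TorAmpFibre
import Groth.Agent.FlatSyz5.Dim
import Groth.Agent.H9Misc.DRingTorFaithful
import Groth.Agent.KFlatLib.Ring.RelDualizing

/-!
# The range and tor amplitude of `φ^!(R)` for a flat algebra
-/

set_option autoImplicit false
set_option linter.style.haveILetI false
set_option backward.isDefEq.respectTransparency false

universe u

open CategoryTheory CategoryTheory.Limits MonoidalCategory AlgebraicGeometry

open scoped TensorProduct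

attribute [local instance] HasDerivedCategory.standard

namespace Groth.Agent.PerfGen7.ShriekTor

open Groth.Agent.KFlatLib

variable {R A : Type u} [CommRing R] [CommRing A] [IsNoetherianRing R] [Algebra R A] {n : ℕ}
  (ψ : MvPolynomial (Fin n) R →ₐ[R] A) (hψ : Function.Surjective ψ)

include hψ in
/-- A flat algebra has projective dimension at most `n` over the presenting polynomial ring. -/
lemma projDim_quotient [Module.Flat R A] :
    HasProjectiveDimensionLT
      (ModuleCat.of (MvPolynomial (Fin n) R) (MvPolynomial (Fin n) R ⧸ RingHom.ker ψ.toRingHom)) (n + 1) := by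
  let P := MvPolynomial (Fin n) R
  haveI : Module.Flat R (P ⧸ RingHom.ker ψ.toRingHom) :=
    Module.Flat.of_linearEquiv (Ideal.quotientKerAlgEquivOfSurjective (f := ψ) hψ).toLinearEquiv
  haveI : Module.FinitePresentation P (P ⧸ RingHom.ker ψ.toRingHom) := Module.finitePresentation_of_finite P _
  exact (FlatSyz5.torDimLE_iff_projDimLT (A := R) (B := P) n (P ⧸ RingHom.ker ψ.toRingHom)).1
    (torDimLE_of_flat_base n P AlgEquiv.refl (P ⧸ RingHom.ker ψ.toRingHom))

include hψ in
/-- `Ext^j(A, P ⊗_R M)` vanishes below the codimension of the fibres. -/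
lemma subsingleton_ext_low (d : ℕ)
    (hd : ∀ q : PrimeSpectrum A, FlatMor.fibreDimAt (Spec.map (CommRingCat.ofHom (algebraMap R A))) q ≤
      (d : WithBot ℕ∞))
    (M : Type u) [AddCommGroup M] [Module R M] [Module.Finite R M] (j : ℕ) (hj : j + d < n) :
    Subsingleton (Abelian.Ext
      (ModuleCat.of (MvPolynomial (Fin n) R) (MvPolynomial (Fin n) R ⧸ RingHom.ker ψ.toRingHom))
      (ModuleCat.of (MvPolynomial (Fin n) R) (MvPolynomial (Fin n) R ⊗[R] M)) j) := by
  let P := MvPolynomial (Fin n) R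
  let I := RingHom.ker ψ.toRingHom
  refine subsingleton_of_forall_eq 0 fun x => ?_
  let J : Ideal P := LinearMap.ker (LinearMap.toSpanSingleton P _ x)
  by_contra hx
  have hJ : J ≠ ⊤ := fun h => hx (by
    have h1 : (1 : P) ∈ J := h ▸ Submodule.mem_top
    simpa [J] using h1)
  obtain ⟨Q, hQ, hJQ⟩ := Ideal.exists_le_maximal J hJ
  have hkill : ∀ r ∈ I, r • x = 0 := fun r hr => by
    have h0 : r • 𝟙 (ModuleCat.of P (P ⧸ I)) = 0 := by
      refine ModuleCat.hom_ext (LinearMap.ext fun q => ?_)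
      obtain ⟨q, rfl⟩ := Ideal.Quotient.mk_surjective q
      show r • Ideal.Quotient.mk I q = 0
      rw [Algebra.smul_def, Ideal.Quotient.algebraMap_eq, ← map_mul,
        Ideal.Quotient.eq_zero_iff_mem.2 (Ideal.mul_mem_right _ _ hr)]
    rw [show r • x = (Abelian.Ext.mk₀ (r • 𝟙 (ModuleCat.of P (P ⧸ I)))).comp x (zero_add j) by
        rw [Abelian.Ext.mk₀_smul, Abelian.Ext.smul_comp, Abelian.Ext.mk₀_id_comp],
      h0, Abelian.Ext.mk₀_zero, Abelian.Ext.zero_comp]
  have hIQ : I ≤ Q := fun r hr => hJQ (by simpa [J] using hkill r hr)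
  obtain ⟨q, hq⟩ : (⟨Q, hQ.isPrime⟩ : PrimeSpectrum P) ∈ Set.range (PrimeSpectrum.comap ψ.toRingHom) := by
    rw [_root_.range_comap_of_surjective _ _ hψ]; exact hIQ
  haveI := RelDepth.subsingleton_localized_ext M ψ hψ q d (hd q) j hj
  obtain ⟨s, hs, hsx⟩ := LocalizedModule.subsingleton_iff.1 this x
  exact hs ((congrArg PrimeSpectrum.asIdeal hq).ge (hJQ (by simpa [J] using hsx)))

omit [IsNoetherianRing R] in
include hψ in
/-- Maps out of the algebra into a module in degree `m` are `Ext` out of the quotient. -/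
lemma subsingleton_hom (N : ModuleCat.{u} (MvPolynomial (Fin n) R)) (m : ℤ)
    (h : ∀ j : ℕ, m = (j : ℤ) → Subsingleton (Abelian.Ext
      (ModuleCat.of (MvPolynomial (Fin n) R) (MvPolynomial (Fin n) R ⧸ RingHom.ker ψ.toRingHom)) N j)) :
    Subsingleton ((DRing.restrictD ψ.toRingHom).obj (DTen.unit A) ⟶
      ((DerivedCategory.singleFunctor (ModuleCat.{u} (MvPolynomial (Fin n) R)) 0).obj N)⟦m⟧) := by
  let P := MvPolynomial (Fin n) R
  let φ : P →+* A := ψ.toRingHom
  let q := RingHom.quotientKerEquivOfSurjective (f := φ) hψ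
  let eM : (ModuleCat.restrictScalars φ).obj (ModuleCat.of A A) ≅ ModuleCat.of P (P ⧸ RingHom.ker φ) :=
    (LinearEquiv.toModuleIso (m₂ := ((ModuleCat.restrictScalars φ).obj (ModuleCat.of A A)).isModule)
      { toFun := fun x => q x
        invFun := fun x => q.symm x
        left_inv := fun x => q.symm_apply_apply x
        right_inv := fun x => q.apply_symm_apply x
        map_add' := fun x y => map_add q x y
        map_smul' := fun p (x : P ⧸ RingHom.ker φ) => by
          obtain ⟨x, rfl⟩ := Ideal.Quotient.mk_surjective x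
          show q (Ideal.Quotient.mk _ (p * x)) = φ p * q (Ideal.Quotient.mk _ x)
          rw [RingHom.quotientKerEquivOfSurjective_apply_mk, RingHom.quotientKerEquivOfSurjective_apply_mk,
            map_mul] }).symm
  let c := (DRing.restrictD φ).mapIso (RankOne.unitIso A).symm ≪≫
    H9Misc.DRingRestrict.restrictInDIso φ (ModuleCat.of A A) ≪≫
    (DerivedCategory.singleFunctor (ModuleCat.{u} P) 0).mapIso eM
  refine (Linear.homCongr P c (Iso.refl _)).toEquiv.subsingleton_congr.2 ?_
  rcases lt_or_ge m 0 with hm | hm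
  · refine subsingleton_of_forall_eq 0 fun f => ?_
    haveI : (((DerivedCategory.singleFunctor (ModuleCat.{u} P) 0).obj N)⟦m⟧).IsGE (-m) :=
      DerivedCategory.TStructure.t.isGE_shift _ 0 m (-m) (by omega)
    exact DerivedCategory.TStructure.t.zero f 0 (-m) (by omega)
  · obtain ⟨j, rfl⟩ := Int.eq_ofNat_of_zero_le hm
    haveI := h j rfl
    let l : Abelian.Ext (ModuleCat.of P (P ⧸ RingHom.ker φ)) N j ≃ₗ[P]
      ((DerivedCategory.singleFunctor (ModuleCat.{u} P) 0).obj (ModuleCat.of P (P ⧸ RingHom.ker φ)) ⟶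
        ((DerivedCategory.singleFunctor (ModuleCat.{u} P) 0).obj N)⟦(j : ℤ)⟧) :=
      Abelian.Ext.homLinearEquiv
    exact l.symm.toEquiv.subsingleton

variable [DRing.HasLBaseChange (algebraMap R (MvPolynomial (Fin n) R))]
  {Rψ : Dual.D (MvPolynomial (Fin n) R) ⥤ Dual.D A} (adj : DRing.restrictD ψ.toRingHom ⊣ Rψ)

include hψ adj in
omit [DRing.HasLBaseChange (algebraMap R (MvPolynomial (Fin n) R))] in
/-- Derived tensor products of `φ^!(R)` with modules are maps out of the algebra. -/
lemma subsingleton_hd_ten [Module.Flat R A] [DTen.HasLTen (MvPolynomial (Fin n) R)]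
    (N : ModuleCat.{u} (MvPolynomial (Fin n) R)) (i : ℤ)
    (h : Subsingleton ((DRing.restrictD ψ.toRingHom).obj (DTen.unit A) ⟶
      ((DerivedCategory.singleFunctor (ModuleCat.{u} (MvPolynomial (Fin n) R)) 0).obj N)⟦(n : ℤ) + i⟧)) :
    Subsingleton (Dual.HD (MvPolynomial (Fin n) R) ((DTen.LTen₂ (MvPolynomial (Fin n) R)).obj
      ((DRing.restrictD ψ.toRingHom).obj ((Rψ.obj (DTen.unit _))⟦(n : ℤ)⟧), Dual.inD _ N)) i) := by
  let P := MvPolynomial (Fin n) R
  haveI := hasRHom (A := P)
  haveI := hasLTen₃ P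
  haveI := isSymMonoidal P
  haveI : IsIso (DTen.unitR P) := DTen.IsSymMonoidal.isIso_unitR
  let E := (DRing.restrictD ψ.toRingHom).obj (DTen.unit A)
  have hR : ψ.toRingHom.comp MvPolynomial.C = algebraMap R A := ψ.comp_algebraMap
  have hE : DRing.IsPerfect P E := isPerfect_res_presentation n ψ.toRingHom hψ hR
  obtain ⟨r⟩ := nonempty_res_shriek_unit ψ.toRingHom adj
  let X := (DTen.RHomR P E).obj (DTen.unit P)
  let Y := Dual.inD P N
  let a₁ : (DTen.LTen₂ P).obj ((DRing.restrictD ψ.toRingHom).obj ((Rψ.obj (DTen.unit _))⟦(n : ℤ)⟧), Y) ≅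
      (DTen.LTen₂ P).obj (X⟦(n : ℤ)⟧, Y) :=
    (DTen.LTen₂ P).mapIso (Iso.prod (((DRing.restrictD ψ.toRingHom).commShiftIso (n : ℤ)).app _ ≪≫
      (shiftFunctor _ (n : ℤ)).mapIso r) (Iso.refl Y))
  obtain ⟨a₂⟩ := nonempty_ten_shift Y X (n : ℤ)
  haveI := isIso_evalTen_of_isPerfect_source Y (DTen.unit P) E hE
  let a₃ : (DTen.LTen₂ P).obj (Y, X) ≅ (DTen.RHomR P E).obj Y :=
    asIso (DTen.evalTen Y (DTen.unit P) E) ≪≫ (DTen.RHomR P E).mapIso ((asIso (DTen.unitR P)).app Y)
  let a : (DTen.LTen₂ P).obj ((DRing.restrictD ψ.toRingHom).obj ((Rψ.obj (DTen.unit _))⟦(n : ℤ)⟧), Y) ≅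
      ((DTen.RHomR P E).obj Y)⟦(n : ℤ)⟧ :=
    a₁ ≪≫ (asIso ((DTen.symm P).app (X⟦(n : ℤ)⟧, Y))).symm.symm.symm ≪≫ a₂.symm ≪≫
      (shiftFunctor _ (n : ℤ)).mapIso a₃
  obtain ⟨u⟩ := exists_hdShiftLEquiv ((DTen.RHomR P E).obj Y) (n : ℤ) i ((n : ℤ) + i) rfl
  obtain ⟨v⟩ := exists_hdRHomShiftLEquiv E Y ((n : ℤ) + i)
  exact ((((DerivedCategory.homologyFunctor (ModuleCat.{u} P) i).mapIso a).toLinearEquiv.trans u).trans v).toEquiv.subsingleton

omit [IsNoetherianRing R] [DRing.HasLBaseChange (algebraMap R (MvPolynomial (Fin n) R))] in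
/-- Exactness after tensoring with all finite modules gives it for all modules. -/
lemma exactAt_of_finite {E : DRing.Cx (MvPolynomial (Fin n) R)} (i : ℤ)
    (hflat : Module.Flat (MvPolynomial (Fin n) R) (E.X (i + 1)))
    (h : ∀ (M₀ : Type u) [AddCommGroup M₀] [Module R M₀] [Module.Finite R M₀],
      ((H9Misc.DRingLTensor.tensC (ModuleCat.of _ (MvPolynomial (Fin n) R ⊗[R] M₀))).obj E).ExactAt i)
    (M : ModuleCat.{u} R) :
    ((H9Misc.DRingLTensor.tensC (ModuleCat.of _ (MvPolynomial (Fin n) R ⊗[R] M))).obj E).ExactAt i := by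
  let P := MvPolynomial (Fin n) R
  rw [HomologicalComplex.exactAt_iff' _ (i - 1) i (i + 1) (by simp) (by simp),
    ShortComplex.moduleCat_exact_iff]
  intro (x : E.X i ⊗[P] (P ⊗[R] M)) (hx : (E.d i (i + 1)).hom.rTensor (P ⊗[R] M) x = 0)
  obtain ⟨M₀, hM₀, x', hx'⟩ : ∃ M₀ : Submodule R M, M₀.FG ∧ ∃ x' : E.X i ⊗[P] (P ⊗[R] M₀),
      (M₀.subtype.baseChange P).lTensor (E.X i) x' = x := by
    clear hx
    induction x using TensorProduct.induction_on with
    | zero => exact ⟨⊥, Submodule.fg_bot, 0, map_zero _⟩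
    | tmul e z =>
      induction z using TensorProduct.induction_on with
      | zero => exact ⟨⊥, Submodule.fg_bot, 0, by rw [map_zero, TensorProduct.tmul_zero]⟩
      | tmul p m => exact ⟨Submodule.span R {m}, Submodule.fg_span_singleton m,
          e ⊗ₜ (p ⊗ₜ ⟨m, Submodule.mem_span_singleton_self m⟩), rfl⟩
      | add z z' hz hz' =>
        obtain ⟨N, hN, y, hy⟩ := hz
        obtain ⟨N', hN', y', hy'⟩ := hz'
        refine ⟨N ⊔ N', hN.sup hN', (((Submodule.inclusion le_sup_left).baseChange P).lTensor (E.X i) y) +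
          (((Submodule.inclusion le_sup_right).baseChange P).lTensor (E.X i) y'), ?_⟩
        rw [map_add, TensorProduct.tmul_add, ← LinearMap.comp_apply, ← LinearMap.lTensor_comp,
          ← LinearMap.comp_apply, ← LinearMap.lTensor_comp, ← LinearMap.baseChange_comp,
          ← LinearMap.baseChange_comp, Submodule.subtype_comp_inclusion, Submodule.subtype_comp_inclusion, hy, hy']
    | add z z' hz hz' =>
      obtain ⟨N, hN, y, hy⟩ := hz
      obtain ⟨N', hN', y', hy'⟩ := hz'
      refine ⟨N ⊔ N', hN.sup hN', (((Submodule.inclusion le_sup_left).baseChange P).lTensor (E.X i) y) +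
        (((Submodule.inclusion le_sup_right).baseChange P).lTensor (E.X i) y'), ?_⟩
      rw [map_add, ← LinearMap.comp_apply, ← LinearMap.lTensor_comp, ← LinearMap.comp_apply,
        ← LinearMap.lTensor_comp, ← LinearMap.baseChange_comp, ← LinearMap.baseChange_comp,
        Submodule.subtype_comp_inclusion, Submodule.subtype_comp_inclusion, hy, hy']
  let g : P ⊗[R] M₀ →ₗ[P] P ⊗[R] M := M₀.subtype.baseChange P
  have hginj : Function.Injective g := by
    haveI : Module.Flat R P := inferInstance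
    exact Module.Flat.lTensor_preserves_injective_linearMap M₀.subtype M₀.subtype_injective
  have hx0 : (E.d i (i + 1)).hom.rTensor (P ⊗[R] M₀) x' = 0 := by
    refine (injective_iff_map_eq_zero _).1
      (Module.Flat.lTensor_preserves_injective_linearMap (M := E.X (i + 1)) g hginj) _ ?_
    rw [← LinearMap.comp_apply, LinearMap.lTensor_comp_rTensor, ← LinearMap.rTensor_comp_lTensor,
      LinearMap.comp_apply, hx', hx]
  haveI : Module.Finite R M₀ := Module.Finite.iff_fg.2 hM₀
  have h1 := h M₀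
  rw [HomologicalComplex.exactAt_iff' _ (i - 1) i (i + 1) (by simp) (by simp),
    ShortComplex.moduleCat_exact_iff] at h1
  obtain ⟨y, hy⟩ := h1 x' hx0
  refine ⟨g.lTensor (E.X (i - 1)) y, ?_⟩
  show (E.d (i - 1) i).hom.rTensor (P ⊗[R] M) (g.lTensor (E.X (i - 1)) y) = x
  rw [← LinearMap.comp_apply, LinearMap.rTensor_comp_lTensor, ← LinearMap.lTensor_comp_rTensor,
    LinearMap.comp_apply, ← hx']
  exact congrArg _ hy

omit [IsNoetherianRing R] [DRing.HasLBaseChange (algebraMap R (MvPolynomial (Fin n) R))] in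
/-- Restricting a complex of modules over the polynomial ring to the base before tensoring. -/
lemma exactAt_restrict {E : DRing.Cx (MvPolynomial (Fin n) R)} (i : ℤ) (M : ModuleCat.{u} R)
    (h : ((H9Misc.DRingLTensor.tensC (ModuleCat.of _ (MvPolynomial (Fin n) R ⊗[R] M))).obj E).ExactAt i) :
    ((H9Misc.DRingLTensor.tensC M).obj ((DTen.resCx (algebraMap R (MvPolynomial (Fin n) R))).obj E)).ExactAt i := by
  let P := MvPolynomial (Fin n) R
  letI : ∀ j, Module R (E.X j) := fun j => Module.compHom _ (algebraMap R P)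
  haveI : ∀ j, IsScalarTower R P (E.X j) := fun j => IsScalarTower.of_algebraMap_smul fun _ _ => rfl
  rw [HomologicalComplex.exactAt_iff' _ (i - 1) i (i + 1) (by simp) (by simp),
    ShortComplex.moduleCat_exact_iff] at h ⊢
  intro (x : E.X i ⊗[R] M) (hx : ((E.d i (i + 1)).hom.restrictScalars R).rTensor M x = 0)
  let c := fun j => (TensorProduct.AlgebraTensorModule.cancelBaseChange R P P (E.X j) M)
  have hnat : ∀ a b (z : E.X a ⊗[P] (P ⊗[R] M)),
      c b ((E.d a b).hom.rTensor (P ⊗[R] M) z) = ((E.d a b).hom.restrictScalars R).rTensor M (c a z) := by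
    intro a b z
    induction z using TensorProduct.induction_on with
    | zero => simp
    | tmul e w =>
      induction w using TensorProduct.induction_on with
      | zero => simp
      | tmul p m =>
        show (p • (E.d a b).hom e) ⊗ₜ[R] m = ((E.d a b).hom (p • e)) ⊗ₜ[R] m
        rw [map_smul]
      | add w w' hw hw' => simp only [TensorProduct.tmul_add, map_add, hw, hw']
    | add w w' hw hw' => simp only [map_add, hw, hw']
  obtain ⟨y, hy⟩ := h ((c i).symm x) ((c (i + 1)).injective (by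
    rw [map_zero]
    exact (hnat _ _ _).trans (by rw [LinearEquiv.apply_symm_apply]; exact hx)))
  refine ⟨c (i - 1) y, ?_⟩
  exact (hnat _ _ y).symm.trans ((congrArg (c i) hy).trans ((c i).apply_symm_apply x))

include hψ adj in
/-- The tor amplitude over the base. -/
theorem hasTorAmplitudeIn_shriekVia [Module.Flat R A] (d : ℕ)
    (hd : ∀ q : PrimeSpectrum A, FlatMor.fibreDimAt (Spec.map (CommRingCat.ofHom (algebraMap R A))) q ≤
      (d : WithBot ℕ∞)) :
    DRing.HasTorAmplitudeIn R (-(d : ℤ)) 0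
      ((DRing.restrictD (algebraMap R A)).obj (Dual2.shriekVia n Rψ (Dual.inD R R))) := by
  let P := MvPolynomial (Fin n) R
  haveI := hasLTen P
  have hR : ψ.toRingHom.comp MvPolynomial.C = algebraMap R A := ψ.comp_algebraMap
  obtain ⟨t⟩ := nonempty_shriekVia_unit n Rψ
  obtain ⟨E, p, q, hz, hE, ⟨e⟩⟩ := isPerfect_res_shriek_unit ψ.toRingHom hψ hR adj
  let ι : R →+* P := algebraMap R P
  have hflatP : DRing.TermwiseFlat E := fun i => by haveI := (hE i).2; infer_instance
  have hflat : DRing.TermwiseFlat ((DTen.resCx ι).obj E) := fun i => by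
    haveI := (hE i).2
    letI : Module R (E.X i) := Module.compHom _ ι
    haveI : IsScalarTower R P (E.X i) := IsScalarTower.of_algebraMap_smul fun _ _ => rfl
    exact Module.Flat.trans R P (E.X i)
  have hKF : H9Misc.DRingLTensor.IsKF E := H9Misc.DRingTor.isKF_of_flat hflatP fun i hi => hz i (Or.inr hi)
  have hKF' : H9Misc.DRingLTensor.IsKF ((DTen.resCx ι).obj E) :=
    H9Misc.DRingTor.isKF_of_flat hflat fun i hi => (ModuleCat.restrictScalars ι).map_isZero (hz i (Or.inr hi))
  refine H9Misc.DRingTor.hasTorAmplitudeIn_of_van hKF' (fun M i hi => ?_)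
    (((DTen.resFactors ι).app E).symm ≪≫ (DRing.restrictD ι).mapIso e ≪≫
      ((H9Misc.DRingRelPC.restrictDCompIso ι ψ.toRingHom).app _).symm ≪≫
      eqToIso (by rw [show ψ.toRingHom.comp ι = algebraMap R A from hR]) ≪≫
      (DRing.restrictD (algebraMap R A)).mapIso t.symm)
  refine exactAt_restrict i M (exactAt_of_finite i (hflatP _) (fun M₀ _ _ _ => ?_) M)
  let N := ModuleCat.of P (P ⊗[R] M₀)
  haveI := H9Misc.DRingTor.hasLTensor N
  refine (H9Misc.DRingTor.exactAt_tensC_iff N hKF e i).1 ?_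
  obtain ⟨l⟩ := nonempty_LTen_inD N ((DRing.restrictD ψ.toRingHom).obj ((Rψ.obj (DTen.unit _))⟦(n : ℤ)⟧))
  haveI := subsingleton_hd_ten ψ hψ adj N i (subsingleton_hom ψ hψ N _ fun j hj => by
    rcases hi with hi | hi
    · exact subsingleton_ext_low ψ hψ d hd M₀ j (by omega)
    · haveI := projDim_quotient ψ hψ
      exact HasProjectiveDimensionLT.subsingleton _ (n + 1) j (by omega) _)
  exact ((DerivedCategory.homologyFunctor (ModuleCat.{u} P) i).mapIso l).toLinearEquiv.toEquiv.subsingleton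

include hψ adj in
/-- No cohomology above degree zero. -/
theorem subsingleton_hd_pos [Module.Flat R A] (i : ℤ) (hi : 0 < i) :
    Subsingleton (Dual.HD A (Dual2.shriekVia n Rψ (Dual.inD R R)) i) := by
  obtain ⟨e⟩ := nonempty_shriekVia_unit n Rψ
  obtain ⟨j, hj⟩ := Int.eq_ofNat_of_zero_le (show (0 : ℤ) ≤ (n : ℤ) + i by omega)
  obtain ⟨u⟩ := exists_hdShiftLEquiv (Rψ.obj (DTen.unit (MvPolynomial (Fin n) R))) (n : ℤ) i (j : ℤ) hj
  obtain ⟨f, -⟩ := ShriekExt.exists_hd_ext ψ.toRingHom hψ adj j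
  haveI := projDim_quotient ψ hψ
  haveI := HasProjectiveDimensionLT.subsingleton
    (ModuleCat.of (MvPolynomial (Fin n) R) (MvPolynomial (Fin n) R ⧸ RingHom.ker ψ.toRingHom)) (n + 1) j
    (by omega) (ModuleCat.of (MvPolynomial (Fin n) R) (MvPolynomial (Fin n) R))
  haveI := f.toEquiv.subsingleton
  exact ((((DerivedCategory.homologyFunctor (ModuleCat.{u} A) i).mapIso e).toLinearEquiv).trans u).toEquiv.subsingleton

end Groth.Agent.PerfGen7.ShriekTor
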