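import Groth.Agent.PerfGen7.TorIndepRing
import Groth.Agent.KFlatLib.Ring.BaseChangeTriv
import Groth.Agent.PerfGen7.RelLpullPoly
import Groth.Agent.PerfGen7.TorAmpBC
import Groth.Agent.H9Misc.DRingComplTensor
import Groth.Agent.H9Misc.DRingLTensorCx
import Groth.Agent.S2137
import Groth.Agent.PerfGen7.RelLpullPC

/-!
# Derived base change and restriction, for tor independent algebras
-/

set_option linter.style.haveILetI false
set_option backward.isDefEq.respectTransparency false
set_option backward.isDefEq.respectTransparency.types false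

universe u

open CategoryTheory CategoryTheory.Limits MonoidalCategory CategoryTheory.Pretriangulated

attribute [local instance] HasDerivedCategory.standard

namespace Groth.Agent.PerfGen7.TorIndep

open Groth.Agent.KFlatLib Groth.Agent.H9Misc Groth.Agent.H9Misc.DRingTor Groth.Agent.H9Misc.DRingLTensor
  Groth.Agent.PerfGen7.TorAmpBC Groth.Agent.PerfGen7.RelTor

variable {R R' P P' A A' : Type u} [CommRing R] [CommRing R'] [CommRing P] [CommRing P'] [CommRing A] [CommRing A']

/-- Extension of scalars keeps a quasi-isomorphism where both ends are computed termwise. -/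
lemma quasiIso_extC'_of_cmp (ι : R →+* R') [DTen.HasLBase ι] {K L : DRing.Cx R} (s : K ⟶ L) [QuasiIso s]
    [IsIso ((DTen.baseCmp ι).app K)] [IsIso ((DTen.baseCmp ι).app L)] : QuasiIso ((extC' ι).map s) := by
  refine (DerivedCategory.isIso_Q_map_iff_quasiIso _ _).1 ?_
  have hn := (DTen.baseCmp ι).naturality s
  simp only [Functor.comp_map] at hn
  haveI : IsIso (DerivedCategory.Q.map s) := (DerivedCategory.isIso_Q_map_iff_quasiIso _ _).2 inferInstance
  haveI : IsIso ((DTen.baseCmp ι).app K ≫ DerivedCategory.Q.map ((DTen.extCx ι).map s)) := by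
    erw [← hn]
    infer_instance
  exact IsIso.of_isIso_comp_left ((DTen.baseCmp ι).app K) (DerivedCategory.Q.map ((DTen.extCx ι).map s))

/-- Derived base change commutes with restriction given termwise base change. -/
theorem nonempty_restrict_lbase_of_cmp {ι : R →+* R'} {χ : R →+* P} {χ' : R' →+* P'} {π : P →+* P'}
    {φ : P →+* A} {φ' : P' →+* A'} {β : A →+* A'}
    (hP : IsPushout (CommRingCat.ofHom ι) (CommRingCat.ofHom χ) (CommRingCat.ofHom χ') (CommRingCat.ofHom π))
    (h : IsPushout (CommRingCat.ofHom π) (CommRingCat.ofHom φ) (CommRingCat.ofHom φ') (CommRingCat.ofHom β))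
    (hχ : χ.Flat) [DRing.HasLBaseChange β] [DRing.HasLBaseChange π] [DTen.HasLBase ι]
    (hC : ∀ C : DRing.Cx A, IsKF C → IsIso ((DTen.baseCmp ι).app ((DTen.resCx χ).obj ((DTen.resCx φ).obj C))))
    (M : Dual.D A) (b : ℤ) (hM : ∀ i, b < i → Subsingleton (Dual.HD A M i)) :
    Nonempty ((DRing.restrictD φ').obj ((DRing.LBaseChange β).obj M) ≅
      (DRing.LBaseChange π).obj ((DRing.restrictD φ).obj M)) := by
  obtain ⟨C, -, hzC, hpC, ⟨eC⟩⟩ := DRingComplTensor.exists_proj_res M b hM
  let rC := (resCx φ).obj C
  let eR : (DRing.restrictD φ).obj M ≅ DerivedCategory.Q.obj rC :=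
    (DRing.restrictD φ).mapIso eC.symm ≪≫ (ModuleCat.restrictScalars.{u} φ).mapDerivedCategoryFactors.app C
  obtain ⟨G, hGK, hzG, hpG, ⟨eG⟩⟩ := DRingComplTensor.exists_proj_res (DerivedCategory.Q.obj rC) b
    (fun i hi => ModuleCat.subsingleton_of_isZero ((ShortComplex.isZero_homology_of_isZero_X₂ _
      ((ModuleCat.restrictScalars φ).map_isZero (hzC i hi))).of_iso
        ((DerivedCategory.homologyFunctorFactors (ModuleCat.{u} P) i).app rC)))
  haveI := hGK
  obtain ⟨s, hs⟩ := DRingLTensorCx.exists_quasiIso_of_iso eG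
  haveI := hs
  let E := CochainComplex.mappingCone s
  have h1 : IsKF ((resCx χ).obj G) := DRingTor.isKF_of_flat (b := b)
    (fun i => by
      haveI : Module.Projective P (G.X i) := hpG i
      exact flat_res χ hχ (G.X i))
    fun i hi => (ModuleCat.restrictScalars χ).map_isZero (hzG i hi)
  haveI := hC C (DRingComplTensor.isKF_of_projective hzC hpC)
  haveI := isIso_baseCmp ι h1
  haveI : QuasiIso ((resCx χ).map s) := inferInstance
  haveI : QuasiIso ((extC' ι).map ((resCx χ).map s)) := quasiIso_extC'_of_cmp ι _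
  let ec : (resCx χ).obj E ≅ CochainComplex.mappingCone ((resCx χ).map s) :=
    CochainComplex.mappingCone.mapHomologicalComplexIso s (ModuleCat.restrictScalars χ)
  have ha : ((resCx χ').obj ((extC' π).obj E)).Acyclic := by
    obtain ⟨e⟩ := nonempty_restrict_extend hP E
    exact fun i => ((KFlatLib.acyclic_cone_of_quasiIso ((extC' ι).map ((resCx χ).map s)) i).of_iso
      (CochainComplex.mappingCone.mapHomologicalComplexIso ((resCx χ).map s) (ModuleCat.extendScalars ι)).symm).of_iso
      (((extC' ι).mapIso ec.symm) ≪≫ e)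
  have haX : ((extC' π).obj E).Acyclic := fun i =>
    (ShortComplex.exact_map_iff_of_faithful _ (ModuleCat.restrictScalars χ')).1 (ha i)
  have ha' : (CochainComplex.mappingCone ((extC' π).map s)).Acyclic := fun i =>
    HomologicalComplex.ExactAt.of_iso (haX i)
      (CochainComplex.mappingCone.mapHomologicalComplexIso s (ModuleCat.extendScalars π))
  haveI : QuasiIso ((extC' π).map s) := KFlatLib.quasiIso_of_acyclic_cone _ ha'
  haveI : IsIso (DerivedCategory.Q.map ((extC' π).map s)) :=
    (DerivedCategory.isIso_Q_map_iff_quasiIso _ _).2 inferInstance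
  obtain ⟨eβ⟩ := DRingLBase.nonempty_lbase_iso β (DRingComplTensor.isKF_of_projective hzC hpC)
  obtain ⟨eπ⟩ := DRingLBase.nonempty_lbase_iso π (DRingComplTensor.isKF_of_projective hzG hpG)
  obtain ⟨eX⟩ := nonempty_restrict_extend h C
  exact ⟨(DRing.restrictD φ').mapIso ((DRing.LBaseChange β).mapIso eC.symm ≪≫ eβ) ≪≫
    (ModuleCat.restrictScalars.{u} φ').mapDerivedCategoryFactors.app _ ≪≫ DerivedCategory.Q.mapIso eX.symm ≪≫
    (asIso (DerivedCategory.Q.map ((extC' π).map s))).symm ≪≫ eπ.symm ≪≫
    (DRing.LBaseChange π).mapIso (eG ≪≫ eR.symm)⟩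

section Tor

omit [CommRing P'] [CommRing A']

variable [Algebra R A] [Algebra R R']

/-- Tor independence: base change of a restricted K-flat complex is computed termwise. -/
theorem isIso_baseCmp_res_of_tor [DTen.HasLBase (algebraMap R R')]
    (htor : ∀ p : ℕ, 1 ≤ p → Subsingleton (DRing.Tor R p A R'))
    {C : DRing.Cx A} (hC : IsKF C) :
    IsIso ((DTen.baseCmp (algebraMap R R')).app ((DTen.resCx (algebraMap R A)).obj C)) := by
  letI : Algebra A (TensorProduct R R' A) := Algebra.TensorProduct.rightAlgebra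
  let h : (algebraMap A (TensorProduct R R' A)).comp (algebraMap R A) =
      (algebraMap R' (TensorProduct R R' A)).comp (algebraMap R R') :=
    RingHom.ext fun r => (IsScalarTower.algebraMap_apply R A (TensorProduct R R' A) r).symm.trans
      (IsScalarTower.algebraMap_apply R R' (TensorProduct R R' A) r)
  haveI : DTen.HasLBase (algebraMap A (TensorProduct R R' A)) := KFlatLib.hasLBase _
  haveI := isIso_cmpBC_of_tor R A R' (TensorProduct R R' A) h htor (DerivedCategory.Q.obj C)
  haveI := KFlatLib.isIso_baseCmp (algebraMap A (TensorProduct R R' A)) hC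
  haveI : ∀ i, IsIso ((sqCx h C).f i) := fun i => isIso_sqMod h rfl rfl rfl rfl (C.X i)
  haveI := HomologicalComplex.Hom.isIso_of_components (sqCx h C)
  haveI : IsIso ((DTen.LBase (algebraMap R R')).map ((DTen.resFactors (algebraMap R A)).hom.app C) ≫
      (DTen.baseCmp (algebraMap R R')).app ((DTen.resCx (algebraMap R A)).obj C) ≫
        DerivedCategory.Q.map (sqCx h C)) := by
    rw [← cmpBC_Q h C]
    infer_instance
  haveI := IsIso.of_isIso_comp_left ((DTen.LBase (algebraMap R R')).map
      ((DTen.resFactors (algebraMap R A)).hom.app C))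
    ((DTen.baseCmp (algebraMap R R')).app ((DTen.resCx (algebraMap R A)).obj C) ≫
        DerivedCategory.Q.map (sqCx h C))
  exact IsIso.of_isIso_comp_right _ (DerivedCategory.Q.map (sqCx h C))

/-- Relative pseudo-coherence along a presentation, under tor independent base change. -/
theorem isRelPseudoCoherent_lbase {A' : Type u} [CommRing A'] [Algebra R' A'] {β : A →+* A'}
    (hp : IsPushout (CommRingCat.ofHom (algebraMap R R')) (CommRingCat.ofHom (algebraMap R A))
      (CommRingCat.ofHom (algebraMap R' A')) (CommRingCat.ofHom β))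
    (htor : ∀ p : ℕ, 1 ≤ p → Subsingleton (DRing.Tor R p A R'))
    [DRing.HasLBaseChange β] {K : Dual.D A} {m : ℤ} (hK : DerCA.IsRelPseudoCoherent R A m K) :
    DerCA.IsRelPseudoCoherent R' A' m ((DRing.LBaseChange β).obj K) := by
  obtain ⟨n, α, hα, hpc⟩ := hK
  let χ : R →+* MvPolynomial (Fin n) R := MvPolynomial.C
  have hC : (α : MvPolynomial (Fin n) R →+* A).comp χ = algebraMap R A := RingHom.ext fun r => α.commutes r
  obtain ⟨ψ', hs, hC', hq⟩ := exists_presentation_isPushout hp (α : MvPolynomial (Fin n) R →+* A) hα hC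
  obtain ⟨b, hb⟩ := LpullPC.exists_bound_of_restrict _ hpc
  haveI := DRingLBase.hasLBaseChange (MvPolynomial.map (σ := Fin n) (algebraMap R R'))
  haveI : DTen.HasLBase (algebraMap R R') := KFlatLib.hasLBase _
  have hP : IsPushout (CommRingCat.ofHom (algebraMap R R')) (CommRingCat.ofHom χ)
      (CommRingCat.ofHom (MvPolynomial.C (σ := Fin n)))
      (CommRingCat.ofHom (MvPolynomial.map (σ := Fin n) (algebraMap R R'))) := by
    letI : Algebra (MvPolynomial (Fin n) R) (MvPolynomial (Fin n) R') := MvPolynomial.algebraMvPolynomial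
    haveI : IsScalarTower R (MvPolynomial (Fin n) R) (MvPolynomial (Fin n) R') :=
      .of_algebraMap_eq fun a => (MvPolynomial.map_C _ a).symm
    exact CommRingCat.isPushout_iff_isPushout.2 (Algebra.IsPushout.symm (inferInstance :
      Algebra.IsPushout R (MvPolynomial (Fin n) R) R' (MvPolynomial (Fin n) R')))
  obtain ⟨e⟩ := nonempty_restrict_lbase_of_cmp hP hq
    ((RingHom.flat_algebraMap_iff (R := R) (S := MvPolynomial (Fin n) R)).2 inferInstance)
    (fun C hCKF => by
      haveI := isIso_baseCmp_res_of_tor (R' := R') htor hCKF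
      let e : (DTen.resCx χ).obj ((DTen.resCx (α : MvPolynomial (Fin n) R →+* A)).obj C) ≅
          (DTen.resCx (algebraMap R A)).obj C :=
        HomologicalComplex.Hom.isoOfComponents
          (fun i => (ModuleCat.restrictScalarsComp'App χ (α : MvPolynomial (Fin n) R →+* A) _ hC.symm (C.X i)).symm)
          fun i j _ => rfl
      exact (NatTrans.isIso_app_iff_of_iso (DTen.baseCmp (algebraMap R R')) e).2 inferInstance) K b hb
  refine ⟨n, ⟨ψ', fun r => RingHom.congr_fun hC' r⟩, hs, ?_⟩
  exact DRingPC.of_iso e.symm (Groth.Agent.S2137.result _ _ m hpc)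

end Tor

end Groth.Agent.PerfGen7.TorIndep
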