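import Groth.Agent.PerfGen7.TorIndepRing
import Groth.Agent.PerfGen7.RelLpullPC
import Groth.Agent.S2137

/-!
# Relative pseudo-coherence under base change of the ground scheme, for flat ambient schemes
-/

set_option linter.style.haveILetI false
set_option backward.isDefEq.respectTransparency false
set_option backward.isDefEq.respectTransparency.types false

universe u

open CategoryTheory CategoryTheory.Limits AlgebraicGeometry MvPolynomial

attribute [local instance] HasDerivedCategory.standard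

namespace Groth.Agent.PerfGen7.TorIndep

open Groth.Agent.KFlatLib Groth.Agent.H9Misc

/-- The polynomial square over a ring map. -/
lemma isPushout_poly {A A' : Type u} [CommRing A] [CommRing A'] (α : A →+* A') (n : ℕ) :
    IsPushout (CommRingCat.ofHom α) (CommRingCat.ofHom (MvPolynomial.C (σ := Fin n)))
      (CommRingCat.ofHom (MvPolynomial.C (σ := Fin n))) (CommRingCat.ofHom (MvPolynomial.map (σ := Fin n) α)) := by
  letI := α.toAlgebra
  letI : Algebra (MvPolynomial (Fin n) A) (MvPolynomial (Fin n) A') := MvPolynomial.algebraMvPolynomial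
  haveI : IsScalarTower A (MvPolynomial (Fin n) A) (MvPolynomial (Fin n) A') :=
    .of_algebraMap_eq fun a => (MvPolynomial.map_C _ a).symm
  exact CommRingCat.isPushout_iff_isPushout.2
    (Algebra.IsPushout.symm (inferInstance :
      Algebra.IsPushout A (MvPolynomial (Fin n) A) A' (MvPolynomial (Fin n) A')))

variable {X Y X' Y' S Z : Scheme.{u}} {f : X ⟶ Y} {f' : X' ⟶ Y'} {g' : X' ⟶ X} {g : Y' ⟶ Y}
  {q : Y ⟶ S} {q' : Y' ⟶ Z} {h : Z ⟶ S} {m : ℤ}

/-- Base change of relative pseudo-coherence when source and target are flat over the ground scheme. -/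
theorem rel_lpull_of_flat [LocallyOfFiniteType f] [DCoh.HasLpull g'] (hc : IsPullback g' f' f g)
    (hq : IsPullback g q' q h) [Flat q] [Flat (f ≫ q)] {E : DCoh.D X} (hE : DCoh.IsQCohD E)
    (hm : DerSch.IsPseudoCoherentRel f m E) :
    DerSch.IsPseudoCoherentRel f' m ((DCoh.Lpull g').obj E) := by
  haveI : LocallyOfFiniteType f' := MorphismProperty.of_isPullback hc ‹_›
  refine isPseudoCoherentRel_iff.2 fun x => ?_
  obtain ⟨S₀, hS, hxS, -⟩ := exists_isAffineOpen_mem_and_subset (x := h (q' (f' x))) (U := (⊤ : S.Opens)) trivial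
  obtain ⟨Z₀, hZ, hxZ, hZS⟩ := exists_isAffineOpen_mem_and_subset (x := q' (f' x)) (U := h ⁻¹ᵁ S₀) hxS
  have hfy : g (f' x) ∈ q ⁻¹ᵁ S₀ := by
    show q (g (f' x)) ∈ S₀
    rw [← Scheme.Hom.comp_apply, hq.w, Scheme.Hom.comp_apply]
    exact hxS
  obtain ⟨V, hV, hxV, hVS⟩ := exists_isAffineOpen_mem_and_subset (x := g (f' x)) (U := q ⁻¹ᵁ S₀) hfy
  obtain ⟨hV', hpoS⟩ := exists_affine_square hq hV hS hZ hVS hZS
  let V' : Y'.Opens := g ⁻¹ᵁ V ⊓ q' ⁻¹ᵁ Z₀
  have hxV' : f' x ∈ V' := ⟨hxV, hxZ⟩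
  have hV'V : V' ≤ g ⁻¹ᵁ V := inf_le_left
  have hfx : g' x ∈ f ⁻¹ᵁ V := by
    show f (g' x) ∈ V
    rw [← Scheme.Hom.comp_apply, hc.w, Scheme.Hom.comp_apply]
    exact hxV
  obtain ⟨U, hU, hxU, hUV⟩ := exists_isAffineOpen_mem_and_subset (x := g' x) (U := f ⁻¹ᵁ V) hfx
  obtain ⟨n, φ, hφ⟩ := exists_chart_of_affine (f := f) hU hV hUV
  obtain ⟨hU', hpo⟩ := exists_affine_square hc hU hV hV' hUV hV'V
  let U' := g' ⁻¹ᵁ U ⊓ f' ⁻¹ᵁ V'
  let α := (g.appLE V V' hV'V).hom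
  let β := (g'.appLE U U' inf_le_left).hom
  obtain ⟨φ', h1, h2, hp⟩ := exists_presentation_isPushout (α := α) (g := (f.appLE V U hUV).hom)
    (g' := (f'.appLE V' U' inf_le_right).hom) (β := β) hpo φ hφ.1 hφ.2
  haveI := isClosedImmersion_toSpecΓ hU
  haveI := isClosedImmersion_toSpecΓ hU'
  haveI : IsIso U.toSpecΓ := by
    have h := hU.isoSpec.isIso_hom
    rwa [hU.isoSpec_hom] at h
  haveI : IsIso U'.toSpecΓ := by
    have h := hU'.isoSpec.isIso_hom
    rwa [hU'.isoSpec_hom] at h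
  haveI := DRingLBase.hasLBaseChange β
  haveI := DRingLBase.hasLBaseChange (MvPolynomial.map (σ := Fin n) α)
  haveI := hasLpull (Spec.map (g'.appLE U U' inf_le_left))
  haveI : DCoh.HasLpull (Spec.map (CommRingCat.ofHom β)) := hasLpull _
  obtain ⟨M, ⟨e⟩⟩ := exists_tilde_rep hU hE
  obtain ⟨eT⟩ := nonempty_tildeD_lpull_iso β
  obtain ⟨eS⟩ := nonempty_lpull_square g' (Spec.map (g'.appLE U U' inf_le_left)) hU.fromSpec hU'.fromSpec
    (hU.SpecMap_appLE_fromSpec g' hU' inf_le_left).symm E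
  let e' : (DCoh.tildeD Γ(X', U')).obj ((DRing.LBaseChange β).obj M) ≅
      (pushD U'.toSpecΓ).obj ((rho U'.ι).obj ((DCoh.Lpull g').obj E)) :=
    eT.app M ≪≫ (DCoh.Lpull (Spec.map (g'.appLE U U' inf_le_left))).mapIso (e ≪≫ pushToSpecIso hU E) ≪≫
      eS.symm ≪≫ (pushToSpecIso hU' _).symm
  have hM := (immPC_tilde_iff hU φ hφ.1 M e).1 ((chartPC_iff hU φ hφ.1).1 (chartPC_of_rel hm hU hV hUV φ hφ))
  obtain ⟨b, hb⟩ := LpullPC.exists_bound_of_restrict φ hM
  let χ : Γ(S, S₀) →+* MvPolynomial (Fin n) Γ(Y, V) := MvPolynomial.C.comp (q.appLE S₀ V hVS).hom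
  let χ' : Γ(Z, Z₀) →+* MvPolynomial (Fin n) Γ(Y', V') := MvPolynomial.C.comp (q'.appLE Z₀ V' inf_le_right).hom
  have hP : IsPushout (CommRingCat.ofHom (h.appLE S₀ Z₀ hZS).hom) (CommRingCat.ofHom χ)
      (CommRingCat.ofHom χ') (CommRingCat.ofHom (MvPolynomial.map (σ := Fin n) α)) :=
    hpoS.paste_vert (isPushout_poly α n)
  have hχ : χ.Flat := RingHom.Flat.comp (Flat.flat_appLE q hS hV hVS)
    ((RingHom.flat_algebraMap_iff (R := Γ(Y, V)) (S := MvPolynomial (Fin n) Γ(Y, V))).2 inferInstance)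
  have hφχ : (φ.comp χ).Flat := by
    have hfl := Flat.flat_appLE (f ≫ q) hS hU (show U ≤ (f ≫ q) ⁻¹ᵁ S₀ from fun y hy => hVS (hUV hy))
    rw [← Scheme.Hom.appLE_comp_appLE f q S₀ V U hVS hUV, CommRingCat.hom_comp, ← hφ.2,
      RingHom.comp_assoc] at hfl
    exact hfl
  obtain ⟨eR⟩ := nonempty_restrict_lbase_flat hP hp hχ hφχ M b hb
  refine ⟨U', V', ⟨hxU, hxV'⟩, hU', hV', inf_le_right, n, φ', ⟨h1, h2⟩, (immPC_tilde_iff hU' φ' h1 _ e').2
    (DRingPC.of_iso eR.symm (Groth.Agent.S2137.result _ _ m hM))⟩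

end Groth.Agent.PerfGen7.TorIndep
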