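import Groth.Agent.PerfGen7.RelLpullRing
import Groth.Agent.PerfGen7.TorAmpBC
import Groth.Agent.H9Misc.DRingComplTensor
import Groth.Agent.H9Misc.DRingLTensorCx

/-!
# Derived base change and restriction, for algebras flat over the ground ring
-/

set_option linter.style.haveILetI false
set_option backward.isDefEq.respectTransparency false
set_option backward.isDefEq.respectTransparency.types false

universe u

open CategoryTheory CategoryTheory.Limits MonoidalCategory CategoryTheory.Pretriangulated

attribute [local instance] HasDerivedCategory.standard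

namespace Groth.Agent.PerfGen7.TorIndep

open Groth.Agent.KFlatLib Groth.Agent.H9Misc Groth.Agent.H9Misc.DRingTor Groth.Agent.H9Misc.DRingLTensor
  Groth.Agent.PerfGen7.TorAmpBC Groth.Agent.PerfGen7.RelTor

variable {R R' P P' A A' : Type u} [CommRing R] [CommRing R'] [CommRing P] [CommRing P'] [CommRing A] [CommRing A']

/-- Restriction of a flat module along a flat map. -/
lemma flat_res (χ : R →+* P) (hχ : χ.Flat) (M : ModuleCat.{u} P) [Module.Flat P M] :
    Module.Flat R ((ModuleCat.restrictScalars χ).obj M) := by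
  letI := χ.toAlgebra
  letI : Module R (M : Type u) := Module.compHom _ χ
  haveI : IsScalarTower R P (M : Type u) := IsScalarTower.of_algebraMap_smul fun _ _ => rfl
  haveI : Module.Flat R P := hχ
  exact Module.Flat.trans R P (M : Type u)

/-- An acyclic K-flat complex stays acyclic after extension of scalars. -/
lemma acyclic_extC' (ι : R →+* R') {X : DRing.Cx R} (hX : IsKF X) (ha : X.Acyclic) :
    ((extC' ι).obj X).Acyclic := by
  have h : (((ModuleCat.extendScalars ι ⋙ ModuleCat.restrictScalars ι).mapHomologicalComplex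
      (ComplexShape.up ℤ)).obj X).Acyclic :=
    acyclic_of_iso_map ((curriedTensorFlipIso.app ((ModuleCat.restrictScalars ι).obj (ModuleCat.of R' R'))) ≪≫
      (extendRestrictIso ι).symm) X (acyclic_tensC_of_acyclic _ hX ha)
  intro i
  exact (ShortComplex.exact_map_iff_of_faithful _ (ModuleCat.restrictScalars ι)).1 (h i)

/-- Derived base change commutes with restriction for algebras flat over the ground ring. -/
theorem nonempty_restrict_lbase_flat {ι : R →+* R'} {χ : R →+* P} {χ' : R' →+* P'} {π : P →+* P'}
    {φ : P →+* A} {φ' : P' →+* A'} {β : A →+* A'}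
    (hP : IsPushout (CommRingCat.ofHom ι) (CommRingCat.ofHom χ) (CommRingCat.ofHom χ') (CommRingCat.ofHom π))
    (h : IsPushout (CommRingCat.ofHom π) (CommRingCat.ofHom φ) (CommRingCat.ofHom φ') (CommRingCat.ofHom β))
    (hχ : χ.Flat) (hφχ : (φ.comp χ).Flat) [DRing.HasLBaseChange β] [DRing.HasLBaseChange π]
    (M : Dual.D A) (b : ℤ) (hM : ∀ i, b < i → Subsingleton (Dual.HD A M i)) :
    Nonempty ((DRing.restrictD φ').obj ((DRing.LBaseChange β).obj M) ≅
      (DRing.LBaseChange π).obj ((DRing.restrictD φ).obj M)) := by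
  obtain ⟨C, -, hzC, hpC, ⟨eC⟩⟩ := DRingComplTensor.exists_proj_res M b hM
  let rC := (resCx φ).obj C
  let eR : (DRing.restrictD φ).obj M ≅ DerivedCategory.Q.obj rC :=
    (DRing.restrictD φ).mapIso eC.symm ≪≫ (ModuleCat.restrictScalars.{u} φ).mapDerivedCategoryFactors.app C
  obtain ⟨G, hGK, hzG, hpG, ⟨eG⟩⟩ := DRingComplTensor.exists_proj_res (DerivedCategory.Q.obj rC) b
    (fun i hi => ModuleCat.subsingleton_of_isZero ((ShortComplex.isZero_homology_of_isZero_X₂ _
      ((ModuleCat.restrictScalars φ).map_isZero (hzC i hi))).of_iso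
        ((DerivedCategory.homologyFunctorFactors (ModuleCat.{u} P) i).app rC)))
  haveI := hGK
  obtain ⟨s, hs⟩ := DRingLTensorCx.exists_quasiIso_of_iso eG
  haveI := hs
  let E := CochainComplex.mappingCone s
  have h1 : IsKF ((resCx χ).obj G) := DRingTor.isKF_of_flat (b := b)
    (fun i => by
      haveI : Module.Projective P (G.X i) := hpG i
      exact flat_res χ hχ (G.X i))
    fun i hi => (ModuleCat.restrictScalars χ).map_isZero (hzG i hi)
  have h2 : IsKF ((resCx χ).obj rC) := DRingTor.isKF_of_flat (b := b)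
    (fun i => by
      haveI : Module.Projective A (C.X i) := hpC i
      exact flat_res (φ.comp χ) hφχ (C.X i))
    fun i hi => (ModuleCat.restrictScalars χ).map_isZero ((ModuleCat.restrictScalars φ).map_isZero (hzC i hi))
  let ec : (resCx χ).obj E ≅ CochainComplex.mappingCone ((resCx χ).map s) :=
    CochainComplex.mappingCone.mapHomologicalComplexIso s (ModuleCat.restrictScalars χ)
  have hKE : IsKF ((resCx χ).obj E) := KFlat.of_iso ec.symm (kFlat_cone _ h1 h2)
  have haE : ((resCx χ).obj E).Acyclic := fun i =>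
    (ShortComplex.exact_map_iff_of_faithful _ (ModuleCat.restrictScalars χ)).2
      (KFlatLib.acyclic_cone_of_quasiIso s i)
  have ha : ((resCx χ').obj ((extC' π).obj E)).Acyclic := by
    obtain ⟨e⟩ := nonempty_restrict_extend hP E
    exact fun i => (acyclic_extC' ι hKE haE i).of_iso e
  have haX : ((extC' π).obj E).Acyclic := fun i =>
    (ShortComplex.exact_map_iff_of_faithful _ (ModuleCat.restrictScalars χ')).1 (ha i)
  have ha' : (CochainComplex.mappingCone ((extC' π).map s)).Acyclic := fun i =>
    HomologicalComplex.ExactAt.of_iso (haX i)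
      (CochainComplex.mappingCone.mapHomologicalComplexIso s (ModuleCat.extendScalars π))
  haveI : QuasiIso ((extC' π).map s) := KFlatLib.quasiIso_of_acyclic_cone _ ha'
  haveI : IsIso (DerivedCategory.Q.map ((extC' π).map s)) :=
    (DerivedCategory.isIso_Q_map_iff_quasiIso _ _).2 inferInstance
  obtain ⟨eβ⟩ := DRingLBase.nonempty_lbase_iso β (DRingComplTensor.isKF_of_projective hzC hpC)
  obtain ⟨eπ⟩ := DRingLBase.nonempty_lbase_iso π (DRingComplTensor.isKF_of_projective hzG hpG)
  obtain ⟨eX⟩ := nonempty_restrict_extend h C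
  exact ⟨(DRing.restrictD φ').mapIso ((DRing.LBaseChange β).mapIso eC.symm ≪≫ eβ) ≪≫
    (ModuleCat.restrictScalars.{u} φ').mapDerivedCategoryFactors.app _ ≪≫ DerivedCategory.Q.mapIso eX.symm ≪≫
    (asIso (DerivedCategory.Q.map ((extC' π).map s))).symm ≪≫ eπ.symm ≪≫
    (DRing.LBaseChange π).mapIso (eG ≪≫ eR.symm)⟩

end Groth.Agent.PerfGen7.TorIndep
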