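import Groth.Agent.PerfGen7.LocalFibre
import Groth.Agent.H9Misc.DRingTorBelow
import Groth.Agent.H9Misc.DRingPerfect
import Mathlib.RingTheory.Spectrum.Prime.FreeLocus

/-!
# A uniform tor amplitude from the primes
-/

set_option linter.style.haveILetI false
set_option backward.isDefEq.respectTransparency false

universe u

open CategoryTheory CategoryTheory.Limits MonoidalCategory TensorProduct

attribute [local instance] HasDerivedCategory.standard

namespace Groth.Agent.PerfGen7.UniformAmp

open Groth.Agent.KFlatLib Groth.Agent.H9Misc Groth.Agent.H9Misc.DRingLTensor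
  Groth.Agent.PerfGen7.RelTor Groth.Agent.H9Misc.DRingTorDescent

variable {P : Type u} [CommRing P]

/-- The cokernel of the differential into degree `n`. -/
abbrev coker (E : DRing.Cx P) (n : ℤ) : Type u := (E.X n) ⧸ LinearMap.range (E.d (n - 1) n).hom

theorem finitePresentation_coker {E : DRing.Cx P} (hE : DRing.TermwiseFiniteFree E) (n : ℤ) :
    Module.FinitePresentation P (coker E n) := by
  haveI := (hE n).1
  haveI := (hE n).2
  haveI := (hE (n - 1)).1
  haveI : Module.FinitePresentation P (E.X n) := Module.finitePresentation_of_projective P _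
  exact Module.finitePresentation_of_surjective (Submodule.mkQ _) (Submodule.mkQ_surjective _) (by
    rw [Submodule.ker_mkQ, LinearMap.range_eq_map]
    exact Submodule.FG.map _ Module.Finite.fg_top)

/-- Tor amplitude of the extension to a flat algebra makes the extended cokernel flat over the base. -/
theorem flat_tensor_coker {Q : Type u} [CommRing Q] [Algebra P Q] [Module.Flat P Q] {E : DRing.Cx P}
    (hE : DRing.TermwiseFiniteFree E) {b₀ : ℤ} (hz : DRing.VanishesAbove E b₀) {m b : ℤ}
    (h : DRing.HasTorAmplitudeIn Q m b (DerivedCategory.Q.obj ((extC' (algebraMap P Q)).obj E)))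
    (n : ℤ) (hn : n ≤ m) : Module.Flat P (coker E n ⊗[P] Q) := by
  let T : ModuleCat.{u} P := ModuleCat.of P Q
  let G : DRing.Cx P := (tensC T).obj E
  let eM : (tensC (resB (algebraMap P Q))).obj E ≅ G :=
    HomologicalComplex.Hom.isoOfComponents (fun j => whiskerLeftIso (E.X j) (resBIso Q))
      (fun p q _ => whisker_exchange (E.d p q) (resBIso Q).hom)
  let eX : (tensC (resB (algebraMap P Q))).obj E ≅
      (resCx (algebraMap P Q)).obj ((extC' (algebraMap P Q)).obj E) :=
    HomologicalComplex.Hom.isoOfComponents (fun j => (DRingTorLocal.extResIso (algebraMap P Q)).app (E.X j))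
      (fun p q _ => ((DRingTorLocal.extResIso (algebraMap P Q)).hom.naturality (E.d p q)).symm)
  have hG := torAmp_of_iso (DerivedCategory.Q.mapIso (eX.symm ≪≫ eM))
    (TorAmpBC.res_flat (algebraMap P Q) (RingHom.flat_algebraMap_iff.2 ‹_›) h)
  have hGf : ∀ j, Module.Flat P (G.X j) := fun j => by
    haveI := (hE j).2
    exact inferInstanceAs (Module.Flat P ((E.X j : Type u) ⊗[P] Q))
  have hGz : DRing.VanishesAbove G b₀ := fun j hj => (tensorRight T).map_isZero (hz j hj)
  have hV := (DRingTor.iff_van (DRingTor.isKF_of_flat hGf hGz) (Iso.refl _)).1 hG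
  haveI : Module.Flat P (((E.X n : Type u) ⊗[P] Q) ⧸ LinearMap.range ((E.d (n - 1) n).hom.rTensor Q)) :=
    DRingTor.flat_range_quotient hGf (n - 1 - 1) (n - 1) n (by omega) (by omega)
      fun M => hV M (n - 1) (Or.inl (by omega))
  exact Module.Flat.of_linearEquiv (rTensor.equiv Q (LinearMap.exact_map_mkQ_range (E.d (n - 1) n).hom)
    (Submodule.mkQ_surjective _)).symm

/-- Flatness of the extended cokernel propagates downwards through exact degrees. -/
theorem flat_tensor_coker_succ {Q : Type u} [CommRing Q] [Algebra P Q] [Module.Flat P Q] {E : DRing.Cx P}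
    (hE : DRing.TermwiseFiniteFree E) (k n : ℤ) (hkn : k + 1 = n) (hex : E.ExactAt k)
    [Module.Flat P (coker E n ⊗[P] Q)] : Module.Flat P (coker E k ⊗[P] Q) := by
  obtain rfl : k = n - 1 := by omega
  rw [HomologicalComplex.exactAt_iff' _ (n - 1 - 1) (n - 1) n (by simp) (by simp),
    ShortComplex.ShortExact.moduleCat_exact_iff_function_exact] at hex
  let f : coker E (n - 1) →ₗ[P] E.X n :=
    (LinearMap.range (E.d (n - 1 - 1) (n - 1)).hom).liftQ (E.d (n - 1) n).hom
      (le_of_eq (LinearMap.exact_iff.1 hex).symm)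
  have hf : Function.Injective f := by
    rw [← LinearMap.ker_eq_bot]
    exact Submodule.ker_liftQ_eq_bot _ _ _ (le_of_eq (LinearMap.exact_iff.1 hex))
  have hex' : Function.Exact f (Submodule.mkQ (LinearMap.range (E.d (n - 1) n).hom)) := by
    rw [LinearMap.exact_iff, Submodule.ker_mkQ, Submodule.range_liftQ]
  let S : ShortComplex (ModuleCat.{u} P) := ShortComplex.mk
    (ModuleCat.ofHom (f.rTensor Q)) (ModuleCat.ofHom ((Submodule.mkQ (LinearMap.range (E.d (n - 1) n).hom)).rTensor Q)) (by
      rw [← ModuleCat.ofHom_comp, ← LinearMap.rTensor_comp, hex'.linearMap_comp_eq_zero,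
        LinearMap.rTensor_zero]
      rfl)
  have hS : S.ShortExact :=
    { exact := (ShortComplex.ShortExact.moduleCat_exact_iff_function_exact _).2
        (rTensor_exact Q hex' (Submodule.mkQ_surjective _))
      mono_f := (ModuleCat.mono_iff_injective _).2
        (Module.Flat.rTensor_preserves_injective_linearMap (M := Q) f hf)
      epi_g := (ModuleCat.epi_iff_surjective _).2
        (LinearMap.rTensor_surjective Q (Submodule.mkQ_surjective _)) }
  haveI : Module.Flat P S.X₂ := by
    haveI := (hE n).2
    exact inferInstanceAs (Module.Flat P ((E.X n : Type u) ⊗[P] Q))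
  haveI : Module.Flat P S.X₃ := ‹_›
  exact DRingTorBelow.flat_X₁ hS

/-- Tor amplitude at every prime of bounded below complexes is uniform. -/
theorem exists_uniform {E : DRing.Cx P} (hE : DRing.TermwiseFiniteFree E) {b₀ : ℤ}
    (hz : DRing.VanishesAbove E b₀) (a₀ : ℤ) (hH : ∀ i, i < a₀ → E.ExactAt i)
    (hQ : ∀ p : PrimeSpectrum P, ∃ m b : ℤ, DRing.HasTorAmplitudeIn (Localization.AtPrime p.asIdeal) m b
      (DerivedCategory.Q.obj ((extC' (algebraMap P (Localization.AtPrime p.asIdeal))).obj E))) :
    ∃ N : ℤ, DRing.HasTorAmplitudeIn P N b₀ (DerivedCategory.Q.obj E) := by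
  haveI := fun n => finitePresentation_coker hE n
  haveI : ∀ p : PrimeSpectrum P, Module.Flat P (Localization.AtPrime p.asIdeal) := fun p =>
    IsLocalization.flat _ p.asIdeal.primeCompl
  have hfree : ∀ n (p : PrimeSpectrum P), p ∈ Module.freeLocus P (coker E n) ↔
      Module.Flat P (coker E n ⊗[P] Localization.AtPrime p.asIdeal) := fun n p => by
    rw [Module.mem_freeLocus_iff_tensor p (Localization.AtPrime p.asIdeal)]
    constructor
    · intro h
      haveI := h
      haveI : Module.Flat P (Localization.AtPrime p.asIdeal ⊗[P] coker E n) :=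
        Module.Flat.trans P (Localization.AtPrime p.asIdeal) _
      exact Module.Flat.of_linearEquiv (TensorProduct.comm P _ _)
    · intro h
      haveI : Module.Flat P (Localization.AtPrime p.asIdeal ⊗[P] coker E n) :=
        Module.Flat.of_linearEquiv (TensorProduct.comm P _ _)
      haveI : Module.Flat (Localization.AtPrime p.asIdeal) (Localization.AtPrime p.asIdeal ⊗[P] coker E n) :=
        (Module.flat_iff_of_isLocalization (Localization.AtPrime p.asIdeal) p.asIdeal.primeCompl _).2 inferInstance
      exact Module.free_of_flat_of_isLocalRing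
  let m₀ := min (min a₀ b₀) b₀
  have hcov : (Set.univ : Set (PrimeSpectrum P)) ⊆
      ⋃ k : ℕ, Module.freeLocus P (coker E (m₀ - k)) := fun p _ => by
    obtain ⟨m, b, h⟩ := hQ p
    refine Set.mem_iUnion.2 ⟨(m₀ - m).toNat, (hfree _ p).2 (flat_tensor_coker hE hz h _ (by omega))⟩
  obtain ⟨t, ht⟩ := isCompact_univ.elim_finite_subcover _ (fun k => Module.isOpen_freeLocus) hcov
  let K := t.sup id
  let N := m₀ - K
  have hmono : ∀ (p : PrimeSpectrum P) (k : ℕ), p ∈ Module.freeLocus P (coker E (m₀ - k)) →
      ∀ l : ℕ, k ≤ l → p ∈ Module.freeLocus P (coker E (m₀ - l)) := fun p k hk l hl => by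
    induction l, hl using Nat.le_induction with
    | base => exact hk
    | succ l _ ih =>
      haveI := (hfree _ p).1 ih
      exact (hfree _ p).2 (flat_tensor_coker_succ hE (m₀ - (l + 1 : ℕ)) (m₀ - l) (by omega)
        (hH _ (by omega)))
  have huniv : Module.freeLocus P (coker E N) = Set.univ := Set.eq_univ_iff_forall.2 fun p => by
    obtain ⟨k, hk, hp⟩ := Set.mem_iUnion₂.1 (ht (Set.mem_univ p))
    exact hmono p k hp K (Finset.le_sup (f := id) hk)
  haveI := (Module.freeLocus_eq_univ_iff (R := P)).1 huniv
  haveI : Module.Flat P (E.opcycles N) :=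
    Module.Flat.of_linearEquiv (((cokernelIsCokernel (E.d (N - 1) N)).coconePointUniqueUpToIso
      (E.opcyclesIsCokernel (N - 1) N (by simp))).symm ≪≫
        ModuleCat.cokernelIsoRangeQuotient (E.d (N - 1) N)).toLinearEquiv
  haveI : E.IsGE N := (CochainComplex.isGE_iff E N).2 fun i hi => hH i (by omega)
  refine ⟨N, E.truncGE N, fun i hi => ?_, fun i => ?_,
    ⟨(asIso (DerivedCategory.Q.map (E.πTruncGE N))).symm⟩⟩
  · rcases hi with hi | hi
    · exact CochainComplex.isZero_of_isStrictlyGE _ N i hi
    · exact (hz i hi).of_iso (E.truncGEXIso N i (by omega))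
  · rcases lt_trichotomy i N with hi | rfl | hi
    · haveI := ModuleCat.subsingleton_of_isZero (CochainComplex.isZero_of_isStrictlyGE (E.truncGE N) N i hi)
      infer_instance
    · exact (Module.Flat.equiv_iff (E.truncGEXIsoOpcycles _).toLinearEquiv).2 ‹_›
    · haveI := (hE i).2
      exact (Module.Flat.equiv_iff (E.truncGEXIso N i hi).toLinearEquiv).2 inferInstance

/-- A module killed by an element outside the prime vanishes there. -/
theorem isZero_extend_of_smul {Q : Type u} [CommRing Q] (φ : P →+* Q) (f : P) (hu : IsUnit (φ f))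
    (M : ModuleCat.{u} P) (h : ∀ x : M, f • x = 0) :
    IsZero ((ModuleCat.extendScalars.{u, u, u} φ).obj M) := by
  rw [IsZero.iff_id_eq_zero]
  refine ((ModuleCat.extendRestrictScalarsAdj φ).homEquiv _ _).injective ?_
  have key : ∀ g : M ⟶ (ModuleCat.restrictScalars φ).obj ((ModuleCat.extendScalars.{u, u, u} φ).obj M),
      g = 0 := fun g => by
    ext x
    have hx : φ f • (show ((ModuleCat.extendScalars.{u, u, u} φ).obj M : Type u) from g.hom x) = 0 :=
      (g.hom.map_smul f x).symm.trans (by rw [h x, map_zero])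
    exact hu.smul_eq_zero.1 hx
  exact (key _).trans (key _).symm

open MvPolynomial in
/-- Tor amplitude at a prime of the polynomial ring from the fibre over the base. -/
theorem amp_poly_of_exact {R : Type u} [CommRing R] {d : ℕ} (Q : Ideal (MvPolynomial (Fin d) R)) [Q.IsPrime]
    (p : Ideal R) [p.IsPrime] (hp : p = Q.comap (algebraMap R (MvPolynomial (Fin d) R)))
    {E : DRing.Cx (MvPolynomial (Fin d) R)} (hE : DRing.TermwiseFiniteFree E) {b₀ : ℤ}
    (hz : DRing.VanishesAbove E b₀) (a : ℤ)
    (h : ∀ i : ℤ, i < a → ((extC' (algebraMap R p.ResidueField)).obj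
      ((resCx (algebraMap R (MvPolynomial (Fin d) R))).obj E)).ExactAt i) :
    DRing.HasTorAmplitudeIn (Localization.AtPrime Q) (a - d) b₀
      (DerivedCategory.Q.obj ((extC' (algebraMap (MvPolynomial (Fin d) R) (Localization.AtPrime Q))).obj E)) := by
  let iP := algebraMap (MvPolynomial (Fin d) R) (Localization.AtPrime Q)
  let ρ := Localization.localRingHom p Q (algebraMap R (MvPolynomial (Fin d) R)) hp
  haveI : IsLocalHom ρ := Localization.isLocalHom_localRingHom _ _ _ _
  obtain ⟨C, _, η, β, φC, -, hφC, hgl, ι, hι, hιβ⟩ := LocalFibre.exists_fibre_ring R d Q p ρ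
    (RingHom.ext fun x => (Localization.localRingHom_to_map p Q _ hp x).trans
      (IsScalarTower.algebraMap_apply R (MvPolynomial (Fin d) R) (Localization.AtPrime Q) x).symm)
  have hE' : DRing.TermwiseFiniteFree ((extC' iP).obj E) := fun j =>
    DRingRestrict.finFree_extendScalars iP _ (hE j).1 (hE j).2
  have hz' : DRing.VanishesAbove ((extC' iP).obj E) b₀ := fun j hj =>
    (ModuleCat.extendScalars.{u, u, u} iP).map_isZero (hz j hj)
  refine FibreRegular.amp_of_fibre β φC hφC hE' hz' d hgl fun i hi => ?_
  rcases hi with hi | hi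
  · letI : Algebra (MvPolynomial (Fin d) R) (MvPolynomial (Fin d) p.ResidueField) :=
      (MvPolynomial.map (algebraMap R p.ResidueField)).toAlgebra
    haveI : IsScalarTower R (MvPolynomial (Fin d) R) (MvPolynomial (Fin d) p.ResidueField) :=
      IsScalarTower.of_algebraMap_eq fun r => (MvPolynomial.map_C _ r).symm
    have h1 := CommRingCat.isPushout_of_isPushout R p.ResidueField (MvPolynomial (Fin d) R)
      (MvPolynomial (Fin d) p.ResidueField)
    have hD := (FibreRegular.exactAt_fibre_iff h1 E i).1 (h i hi)
    rw [DRingFibre.exactAt_extC_comp iP β (β.comp iP) rfl i, ← hιβ,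
      ← DRingFibre.exactAt_extC_comp _ ι _ rfl i]
    haveI := ModuleCat.preservesFiniteLimits_extendScalars_of_flat hι
    haveI : PreservesFiniteColimits (ModuleCat.extendScalars.{u, u, u} ι) := by
      haveI : (ModuleCat.extendScalars.{u, u, u} ι).IsLeftAdjoint :=
        (ModuleCat.extendRestrictScalarsAdj ι).isLeftAdjoint
      infer_instance
    exact hD.map (ModuleCat.extendScalars.{u, u, u} ι)
  · exact (HomologicalComplex.exactAt_iff_isZero_homology _ i).2
      (ShortComplex.isZero_homology_of_isZero_X₂ _
        ((ModuleCat.extendScalars.{u, u, u} β).map_isZero (hz' i hi)))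

end Groth.Agent.PerfGen7.UniformAmp
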